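import Cfsg.Agent.GH.L2QTwo.MInFExist

/-!
# GH-L2, `|Q| = 2`, configuration (M-in-f): the switch from `⟨z, v⟩` to `⟨z, d⟩`, `d = r ^ (j + 2 ^ (d - 3)) c`
-/

set_option autoImplicit false

open Subgroup

namespace Cfsg.Agent.GH.L2QTwo.MInFExist

variable {G : Type*} [Group G] {A : Type*} [Group A] {x : G} {K T D : Subgroup G} {d : ℕ} {r c : G}
  {o1 : G → ℤˣ} {o2 : G → A} {F : Frame x K T D d r c o1 o2} {f : G}

/-- rotating `ρ` -/
theorem rot_rho (hf : F.Fld f) {j : ℤ} {ρ : G} (rx : ρ * x * ρ⁻¹ = x) (rf : ρ * f * ρ⁻¹ = f)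
    (rz : ρ * r ^ 2 ^ (d - 2) * ρ⁻¹ = r ^ j * c)
    (rv : ρ * (r ^ j * c) * ρ⁻¹ = r ^ 2 ^ (d - 2) * (r ^ j * c)) (a : ℤ) :
    (r ^ a * ρ * (r ^ a)⁻¹) * x * (r ^ a * ρ * (r ^ a)⁻¹)⁻¹ = x ∧
      (r ^ a * ρ * (r ^ a)⁻¹) * f * (r ^ a * ρ * (r ^ a)⁻¹)⁻¹ = f ∧
      (r ^ a * ρ * (r ^ a)⁻¹) * r ^ 2 ^ (d - 2) * (r ^ a * ρ * (r ^ a)⁻¹)⁻¹ = r ^ (j + 2 * a) * c ∧
      (r ^ a * ρ * (r ^ a)⁻¹) * (r ^ (j + 2 * a) * c) * (r ^ a * ρ * (r ^ a)⁻¹)⁻¹ =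
        r ^ 2 ^ (d - 2) * (r ^ (j + 2 * a) * c) := by
  have key : ∀ y, (r ^ a * ρ * (r ^ a)⁻¹) * (r ^ a * y * (r ^ a)⁻¹) * (r ^ a * ρ * (r ^ a)⁻¹)⁻¹ =
      r ^ a * (ρ * y * ρ⁻¹) * (r ^ a)⁻¹ := fun y => by group
  have hx : r ^ a * x * (r ^ a)⁻¹ = x := conj_eq_of_comm (F.x_comm_D (F.r_rk a)).symm
  have hff : r ^ a * f * (r ^ a)⁻¹ = f := conj_eq_of_comm (hf.cent _ (F.r_rk a)).symm
  have hz : r ^ a * r ^ 2 ^ (d - 2) * (r ^ a)⁻¹ = r ^ 2 ^ (d - 2) :=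
    conj_eq_of_comm (F.z_comm (F.r_rk a)).symm
  have hv : r ^ a * (r ^ j * c) * (r ^ a)⁻¹ = r ^ (j + 2 * a) * c := Frame.MF.rot_conj F a j
  refine ⟨?_, ?_, ?_, ?_⟩
  · have := key x
    rwa [hx, rx, hx] at this
  · have := key f
    rwa [hff, rf, hff] at this
  · have := key (r ^ 2 ^ (d - 2))
    rwa [hz, rz, hv] at this
  · have := key (r ^ j * c)
    rwa [hv, rv, conj_mul3 (r ^ a) (r ^ 2 ^ (d - 2)), hz, hv] at this

/-- the field involution and `ρ` for the reflection `r ^ (j + 2 ^ (d - 3)) c` -/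
theorem exists_switch [Finite G] (hd : 3 ≤ d) {h g w ρ : G} {j : ℤ} (H : Trans F f j ρ h g w) :
    ∃ f' ρ' h' : G, F.Fld f' ∧ ρ' * x * ρ'⁻¹ = x ∧ ρ' * f' * ρ'⁻¹ = f' ∧
      ρ' * r ^ 2 ^ (d - 2) * ρ'⁻¹ = r ^ (j + 2 ^ (d - 3)) * c ∧
      ρ' * (r ^ (j + 2 ^ (d - 3)) * c) * ρ'⁻¹ = r ^ 2 ^ (d - 2) * (r ^ (j + 2 ^ (d - 3)) * c) ∧
      (h' = f' ∨ h' = x * f') ∧ ∃ m : ℤ, h' = h * (r ^ 2 ^ (d - 2)) ^ m := by
  by_cases hd4 : 4 ≤ d
  · -- same class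
    obtain ⟨e1, e2, e3, e4⟩ := rot_rho H.fld H.rx H.rf H.rz H.rv (2 ^ (d - 4))
    have e : j + 2 * 2 ^ (d - 4) = j + 2 ^ (d - 3) := by
      have : d - 3 = (d - 4) + 1 := by omega
      rw [this, pow_succ]; ring
    rw [e] at e3 e4
    exact ⟨f, _, h, H.fld, e1, e2, e3, e4, H.hh, 0, by rw [zpow_zero, mul_one]⟩
  · -- `d = 3`: the other class
    have hd3 : d = 3 := by omega
    have hf' := H.fld.mul_z hd
    obtain ⟨j2, ρ2, rx2, rf2, rz2, rv2⟩ := Frame.MF.exists_field_rho hf'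
    obtain ⟨b, hb⟩ := odd_of H.fld hd H.rx H.rf H.rz H.rv rx2 rf2 rz2 rv2
    obtain ⟨e1, e2, e3, e4⟩ := rot_rho hf' rx2 rf2 rz2 rv2 (-b)
    have e : j2 + 2 * -b = j + 2 ^ (d - 3) := by
      have : d - 3 = 0 := by omega
      rw [this, pow_zero]; linarith
    rw [e] at e3 e4
    refine ⟨f * r ^ 2 ^ (d - 2), _, h * r ^ 2 ^ (d - 2), hf', e1, e2, e3, e4, ?_, 1, by rw [zpow_one]⟩
    rcases H.hh with a | a
    · left; rw [a]
    · right; rw [a, mul_assoc]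

/-- `v q v⁻¹ = q z` -/
theorem v_conj_q (F : Frame x K T D d r c o1 o2) (hd : 3 ≤ d) (j : ℤ) :
    r ^ j * c * (r ^ (j + 2 ^ (d - 3)) * c) * (r ^ j * c)⁻¹ =
      r ^ (j + 2 ^ (d - 3)) * c * r ^ 2 ^ (d - 2) := by
  have h1 := Frame.MF.d_conj F hd j
  set z := r ^ 2 ^ (d - 2) with hz
  set q := r ^ (j + 2 ^ (d - 3)) * c with hqdef
  set v := r ^ j * c with hv
  have zz : z * z = 1 := F.z_sq
  have zv : z * v = v * z := F.z_comm (F.refl_mem j)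
  have zq : z * q = q * z := F.z_comm (F.refl_mem _)
  have h2 : q * v = z * v * q := by rw [← h1]; group
  have h3 : v * q = q * z * v := by
    calc v * q = z * z * (v * q) := by rw [zz, one_mul]
      _ = z * (z * v * q) := by group
      _ = z * (q * v) := by rw [← h2]
      _ = q * z * v := by rw [← mul_assoc, zq]
  rw [h3]; group

/-- **the switch** -/
theorem switch [Finite G] (hd : 3 ≤ d) {h g0 w ρ : G} {j : ℤ} (H : Trans F f j ρ h g0 w) {g : G}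
    {n : ℤ} (gx : g * x * g⁻¹ = x * r ^ 2 ^ (d - 2)) (gh : g * h * g⁻¹ = h)
    (gz : g * r ^ 2 ^ (d - 2) * g⁻¹ = r ^ 2 ^ (d - 2))
    (hq : g * (r ^ (j + 2 ^ (d - 3)) * c) * g⁻¹ =
      r ^ (j + 2 ^ (d - 3)) * c * (h * (r ^ 2 ^ (d - 2)) ^ n)) :
    ∃ (f' : G) (j' : ℤ) (ρ' h' g' : G), Trans F f' j' ρ' h' g' h' := by
  obtain ⟨f', ρ', h', hf', e1, e2, e3, e4, hh', m, hm⟩ := exists_switch hd H
  have hvq := v_conj_q F hd j
  have E := four4 H.fld H.hh j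
  have Q := four4 H.fld H.hh (j + 2 ^ (d - 3))
  set z := r ^ 2 ^ (d - 2) with hz
  set q := r ^ (j + 2 ^ (d - 3)) * c with hqdef
  set v := r ^ j * c with hv
  have zz : z * z = 1 := F.z_sq
  have hzh : Commute h z := E.zf.symm
  have hqz : Commute q z := Q.vz
  have hqh : Commute q h := Q.vf
  have hvx : v * x * v⁻¹ = x := conj_eq_of_comm E.vx
  have hvh : v * h * v⁻¹ = h := conj_eq_of_comm E.vf
  have hvz : v * z * v⁻¹ = z := conj_eq_of_comm E.vz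
  -- `g' = v^i g`
  have key : ∃ g', g' * x * g'⁻¹ = x * z ∧ g' * h * g'⁻¹ = h ∧ g' * z * g'⁻¹ = z ∧
      g' * q * g'⁻¹ = q * (h * z ^ m) := by
    have hex : ∀ y, v * g * y * (v * g)⁻¹ = v * (g * y * g⁻¹) * v⁻¹ := fun y => by group
    have zpar : ∀ a : ℤ, z ^ (a + a) = 1 := fun a => by
      rw [zpow_add, ← (Commute.refl z).mul_zpow, zz, one_zpow]
    have hvzn : v * z ^ n * v⁻¹ = z ^ n := by rw [← conj_zpow, hvz]
    rcases Int.even_or_odd (n - m) with ⟨a, ha⟩ | ⟨a, ha⟩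
    · refine ⟨g, gx, gh, gz, ?_⟩
      have : n = m + (a + a) := by linarith
      rw [hq, this, zpow_add, zpar, mul_one]
    · refine ⟨v * g, ?_, ?_, ?_, ?_⟩
      · rw [hex, gx, conj_mul3, hvx, hvz]
      · rw [hex, gh, hvh]
      · rw [hex, gz, hvz]
      · have e : z ^ (n + 1) = z ^ m := by
          have : n + 1 = m + ((a + 1) + (a + 1)) := by linarith
          rw [this, zpow_add, zpar, mul_one]
        rw [hex, hq, conj_mul3, conj_mul3 v h, hvq, hvh, hvzn, ← e, zpow_add, zpow_one]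
        calc q * z * (h * z ^ n) = q * (z * h) * z ^ n := by group
          _ = q * (h * z) * z ^ n := by rw [hzh.eq]
          _ = q * (h * (z ^ n * z)) := by group
  obtain ⟨g', gx', gh', gz', gq'⟩ := key
  have ghh' : g' * h' * g'⁻¹ = h' := by
    rw [hm, conj_mul3, gh', ← conj_zpow, gz']
  refine ⟨f', j + 2 ^ (d - 3), ρ', h', g', ?_⟩
  exact
    { fld := hf'
      rx := e1
      rf := e2
      rz := e3
      rv := e4
      hh := hh'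
      hw := Or.inr rfl
      gx := gx'
      gh := ghh'
      gz := gz'
      gv := by
        change g' * q * g'⁻¹ = h' * q
        rw [gq', ← hm]
        rw [hm]
        exact ((hqh.mul_right (hqz.zpow_right m))).eq }

end Cfsg.Agent.GH.L2QTwo.MInFExist
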