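import Cfsg.Agent.GH.L2QTwo.MInFStep
import Cfsg.Agent.GH.L2QTwo.MInFSwitch

/-!
# GH-L2, `|Q| = 2`, configuration (M-in-f): the contradiction

A field involution in `T` centralising `D`, `x ~ xz`, `r(G) ≤ 4`: impossible.
-/

set_option autoImplicit false

open Subgroup Cfsg.Agent.GH.C2Five

namespace Cfsg.Agent.GH.L2QTwo.MInF

open MInFExist

variable {G A : Type*} [Group G] [Group A] {x : G} {K T D : Subgroup G} {d : ℕ} {r c : G}
  {o1 : G → ℤˣ} {o2 : G → A} {f : G}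

/-- **(M-in-f) is impossible.** -/
theorem false_of_conj [Finite G] (F : Frame x K T D d r c o1 o2) (hd : 3 ≤ d) (hf : F.Fld f)
    (hc : IsConj x (x * r ^ 2 ^ (d - 2))) (hr : R4 G)
    (hA : ∀ a ∈ T, ∀ b ∈ T, o2 a * o2 b = o2 b * o2 a) : False := by
  obtain ⟨j, ρ, h, g, w, Tr⟩ := exists_trans F hd hf hc
  obtain ⟨-, g', n, g1, g2, g3, g4⟩ := step hr hd hA Tr
  obtain ⟨f', j', ρ', h', g'', Tr'⟩ := switch hd Tr g1 g2 g3 g4
  obtain ⟨h1, -⟩ := step hr hd hA Tr'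
  -- `h' ≠ 1`
  have hf' := Tr'.fld
  rcases Tr'.hh with h2 | h2
  · apply hf'.ne
    rw [← h2, h1, F.o2_one]
  · apply hf'.ne
    have h3 : o2 (x * f') = o2 f' := by rw [F.o2_mul' F.x_mem hf'.mem, F.o2_x, one_mul]
    rw [← h3, ← h2, h1, F.o2_one]

end Cfsg.Agent.GH.L2QTwo.MInF
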