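import Cfsg.Agent.GH.L2QTwo.MFEnd

/-!
# GH-L2, `|Q| = 2`, `T < S`, a field involution in `T`: reduction to `x ~ xz`

`exists_fld`, `exists_out`, and `false_of_fld`: if `T` contains a field involution, `T < S`, then `x ~ xz`.
-/

set_option autoImplicit false
set_option linter.unusedVariables false
set_option linter.unusedSimpArgs false

open Subgroup
open Cfsg.Agent.TwoFusion.SectionalRank

namespace Cfsg.Agent.GH.L2QTwo

variable {G A : Type*} [Group G] [Group A]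

namespace Frame

variable {x : G} {K T D : Subgroup G} {d : ℕ} {r c : G} {o1 : G → ℤˣ} {o2 : G → A} {f s : G}

/-- a field involution in `T` gives one centralising `D` -/
theorem exists_fld [Finite G] (F : Frame x K T D d r c o1 o2) {y₀ : G} (hT : y₀ ∈ T)
    (hyy : y₀ * y₀ = 1) (hne : o2 y₀ ≠ 1) : ∃ f, F.Fld f := by
  obtain ⟨k, hk, hkD⟩ := F.field_cent _ hT hyy hne
  have hyx := F.T_comm _ hT
  set y := k * y₀ * k⁻¹ with hy
  have hkx := F.K_comm k hk
  have hyx' : x * y = y * x :=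
    F.comm_mul (F.comm_mul hkx hyx) (F.comm_inv hkx)
  have hyy' : y * y = 1 := by rw [hy, conj_mul_conj, hyy]; group
  have hne' : o2 y ≠ 1 := fun h1 => hne ((F.o2_conj_ne hkx hyx).1 h1)
  have hyN : zpowers y ≤ normalizer (D : Set G) := by
    rw [zpowers_le]
    exact mem_norm_of fun m hm => by rw [conj_eq_of_comm (hkD m hm)]; exact hm
  have hP2 : IsPGroup 2 ↥(zpowers y ⊔ D) := by
    refine IsPGroup.to_sup_of_normal_right' ?_ (F.T_two.to_le F.D_le) hyN
    rintro ⟨a, ha⟩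
    obtain ⟨j, rfl⟩ := mem_zpowers_iff.1 ha
    refine ⟨1, Subtype.ext ?_⟩
    change (y ^ j) ^ 2 ^ 1 = 1
    rw [pow_one, ← zpow_natCast, ← zpow_mul, mul_comm, zpow_mul, zpow_natCast, pow_two, hyy',
      one_zpow]
  have hPx : ∀ p ∈ zpowers y ⊔ D, x * p = p * x := by
    have h1 : zpowers y ⊔ D ≤ centralizer ({x} : Set G) := by
      rw [sup_le_iff]
      refine ⟨by rw [zpowers_le]; exact mem_centralizer_singleton_iff.2 hyx'.symm, fun e he => ?_⟩
      exact mem_centralizer_singleton_iff.2 (F.x_comm_D he).symm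
    intro p hp
    exact (mem_centralizer_singleton_iff.1 (h1 hp)).symm
  obtain ⟨l, hl, hlP⟩ := F.T_syl _ hP2 hPx
  have hlD : ∀ e ∈ D, l * e * l⁻¹ ∈ D := fun e he =>
    (F.mem_D _).2 ⟨hlP e (mem_sup_right he), F.K_norm l hl e (F.D_le_K he)⟩
  have hfT : l * y * l⁻¹ ∈ T := hlP y (mem_sup_left (mem_zpowers y))
  exact ⟨l * y * l⁻¹,
    { mem := hfT
      sq := by rw [conj_mul_conj, hyy']; group
      ne := fun h1 => hne' ((F.o2_conj_ne hl hyx').1 h1)
      cent := by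
        intro e he
        obtain ⟨e', he', h1⟩ := conj_surj hlD e he
        rw [← h1, conj_mul_conj, conj_mul_conj, hkD e' he'] }⟩

/-- `T < S`: an element `s ∈ N_S(T) - T` with `s² ∈ T` -/
theorem exists_out [Finite G] (F : Frame x K T D d r c o1 o2) (S : Sylow 2 G) (hTS : T ≤ S)
    (hne : T ≠ S) : ∃ s ∈ S, F.Out s := by
  have : Group.IsNilpotent ↥(S : Subgroup G) := S.isPGroup'.isNilpotent
  have hnc : NormalizerCondition ↥(S : Subgroup G) := Group.normalizerCondition_of_isNilpotent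
  have hlt : T.subgroupOf (S : Subgroup G) < ⊤ := by
    rw [lt_top_iff_ne_top]
    intro h
    rw [subgroupOf_eq_top] at h
    exact hne (le_antisymm hTS h)
  obtain ⟨s, hs, hs2⟩ := SetLike.exists_of_lt (hnc _ hlt)
  obtain ⟨k, hk⟩ := S.2 s
  have hex : ∃ i, s ^ 2 ^ i ∈ T.subgroupOf (S : Subgroup G) := ⟨k, by rw [hk]; exact one_mem _⟩
  classical
  have h1 := Nat.find_spec hex
  have h0 : Nat.find hex ≠ 0 := by
    intro h0
    rw [h0, pow_zero, pow_one] at h1
    exact hs2 h1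
  have h2 := Nat.find_min hex (m := Nat.find hex - 1) (by omega)
  have h3 : s ^ 2 ^ (Nat.find hex - 1) ∈ normalizer (T.subgroupOf (S : Subgroup G) : Set _) :=
    Subgroup.pow_mem _ hs _
  refine ⟨((s ^ 2 ^ (Nat.find hex - 1) : S) : G), (s ^ 2 ^ (Nat.find hex - 1)).2,
    fun h5 => h2 (mem_subgroupOf.2 h5), fun t ht => ?_, ?_⟩
  · have h4 : (⟨t, hTS ht⟩ : S) ∈ T.subgroupOf (S : Subgroup G) := ht
    exact (mem_normalizer_iff.1 h3 _).1 h4
  · have e : s ^ 2 ^ (Nat.find hex - 1) * s ^ 2 ^ (Nat.find hex - 1) = s ^ 2 ^ Nat.find hex := by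
      rw [← pow_add]
      congr 1
      have : Nat.find hex = (Nat.find hex - 1) + 1 := by omega
      conv_rhs => rw [this]
      rw [pow_succ]; ring
    have h4 : s ^ 2 ^ (Nat.find hex - 1) * s ^ 2 ^ (Nat.find hex - 1) ∈ T.subgroupOf (S : Subgroup G) := by
      rw [e]; exact h1
    exact h4

theorem Fld.mul_x {F : Frame x K T D d r c o1 o2} (h : F.Fld f) : F.Fld (x * f) where
  mem := T.mul_mem F.x_mem h.mem
  sq := by
    calc x * f * (x * f) = x * (f * x) * f := by group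
      _ = (x * x) * (f * f) := by rw [h.fx]; group
      _ = 1 := by rw [F.xx, h.sq, one_mul]
  ne := by
    rw [F.o2_mul' F.x_mem h.mem, F.o2_x, one_mul]
    exact h.ne
  cent := by
    intro e he
    rw [mul_assoc, h.cent e he, ← mul_assoc, F.x_comm_D he, mul_assoc]

/-- `x^s` is `xz` or a field involution centralising `D` -/
theorem Fld.out_cases [Finite G] {F : Frame x K T D d r c o1 o2} (h : F.Fld f) (hd : 3 ≤ d)
    (hs : F.Out s) : s * x * s⁻¹ = x * r ^ 2 ^ (d - 2) ∨ F.Fld (s * x * s⁻¹) := by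
  have hn : s ∈ normalizer (F.M0 : Set G) :=
    mem_norm_of (h.norm_of (F.good_of_ge hd) fun m hm => hs.norm m hm.1)
  have hz := h.norm_z hd hn
  obtain ⟨ζ, hζ, h1 | h1⟩ := h.norm_cen hd hn (ζ := x) (Or.inr (Or.inl rfl))
  · rcases hζ with h2 | h2 | h2 | h2
    · exact absurd (h1.trans h2) (conj_ne_one F.x_ne)
    · exfalso
      exact hs.not_conj (fun t ht => (F.T_comm t ht).symm) (comm_of_conj_eq (h1.trans h2))
        (IsConj.refl x)
    · right; rw [h1, h2]; exact h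
    · right; rw [h1, h2]; exact h.mul_x
  · rcases hζ with h2 | h2 | h2 | h2
    · exfalso
      rw [h2, one_mul] at h1
      have h3 : s * x * s⁻¹ = s * r ^ 2 ^ (d - 2) * s⁻¹ := h1.trans hz.symm
      have h4 := mul_left_cancel (mul_right_cancel h3)
      apply F.x_not
      rw [h4]; exact F.z_mem
    · left; rw [h1, h2]
    · right; rw [h1, h2]; exact h.mul_z hd
    · right; rw [h1, h2]; exact h.mul_x.mul_z hd

/-- (M-f): a field involution in `T`, `T < S`, `x` not conjugate to `xz`: impossible -/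
theorem Fld.conj_xz [Finite G] {F : Frame x K T D d r c o1 o2} (h : F.Fld f) (hd : 3 ≤ d)
    (hs : F.Out s) (hA : ∀ a ∈ T, ∀ b ∈ T, o2 a * o2 b = o2 b * o2 a)
    (hr : ∀ A B : Subgroup G, ElemSection 2 A B → Nat.card A ≤ 2 ^ 4 * Nat.card B)
    (hG : ∀ φ : G →* ℤˣ, φ x = 1) : IsConj x (x * r ^ 2 ^ (d - 2)) := by
  by_contra hn
  rcases h.out_cases hd hs with h1 | h1
  · exact hn (isConj_iff.2 ⟨s, h1⟩)
  · exact MF.false (F := F) (f := s * x * s⁻¹) (s := s) ⟨hd, h1, hs, rfl, hn⟩ hA hr hG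

/-- `T < S`, a field involution in `T`: `x ~ xz` -/
theorem conj_xz_of_field [Finite G] (F : Frame x K T D d r c o1 o2) (hd : 3 ≤ d) (S : Sylow 2 G)
    (hTS : T ≤ S) (hne : T ≠ S) (hf : ∃ y ∈ T, y * y = 1 ∧ o2 y ≠ 1)
    (hA : ∀ a ∈ T, ∀ b ∈ T, o2 a * o2 b = o2 b * o2 a)
    (hr : ∀ A B : Subgroup G, ElemSection 2 A B → Nat.card A ≤ 2 ^ 4 * Nat.card B)
    (hG : ∀ φ : G →* ℤˣ, φ x = 1) :
    ∃ f s, F.Fld f ∧ s ∈ S ∧ F.Out s ∧ IsConj x (x * r ^ 2 ^ (d - 2)) := by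
  obtain ⟨y, hy, hyy, hy2⟩ := hf
  obtain ⟨f, h⟩ := F.exists_fld hy hyy hy2
  obtain ⟨s, hsS, hs⟩ := F.exists_out S hTS hne
  exact ⟨f, s, h, hsS, hs, h.conj_xz hd hs hA hr hG⟩

end Frame

end Cfsg.Agent.GH.L2QTwo
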