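import Cfsg.Agent.GH.L2QTwo.Main
import Cfsg.Agent.GH.QAZStar

/-!
# GH-L2, `|Q| = 2`: consequences of simplicity

* `exists_conj` : another conjugate of `x` in `T` (Glauberman's `Z*`-theorem)
* `no_index_two` : no subgroup of index two
-/

set_option autoImplicit false

open Subgroup

namespace Cfsg.Agent.GH.L2QTwo.Simple

variable {G A : Type*} [Group G] [Group A]
variable {x : G} {K T D : Subgroup G} {d : ℕ} {r c : G} {o1 : G → ℤˣ} {o2 : G → A}

theorem exists_conj [Finite G] (hs : IsSimpleGroup G) (hnc : ¬ IsMulCommutative G)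
    (F : Frame x K T D d r c o1 o2) : ∃ g, g * x * g⁻¹ ∈ T ∧ g * x * g⁻¹ ≠ x := by
  obtain ⟨g, hg, hgx⟩ := QA.not_isolated hs hnc F.xx F.x_ne
  have hyy : g * x * g⁻¹ * (g * x * g⁻¹) = 1 := by
    calc g * x * g⁻¹ * (g * x * g⁻¹) = g * (x * x) * g⁻¹ := by group
      _ = 1 := by rw [F.xx]; group
  have hpg : IsPGroup 2 (zpowers (g * x * g⁻¹)) := by
    rintro ⟨y, hy⟩
    obtain ⟨k, rfl⟩ := mem_zpowers_iff.1 hy
    refine ⟨1, Subtype.ext ?_⟩
    change ((g * x * g⁻¹) ^ k) ^ 2 ^ 1 = 1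
    rw [pow_one, ← zpow_natCast, ← zpow_mul, mul_comm, zpow_mul, zpow_natCast, pow_two, hyy,
      one_zpow]
  obtain ⟨h, hh, hT⟩ := F.T_syl (zpowers (g * x * g⁻¹)) hpg (by
    intro p hp
    obtain ⟨k, rfl⟩ := mem_zpowers_iff.1 hp
    have h1 : Commute x (g * x * g⁻¹) := hg
    exact (h1.zpow_right k).eq)
  refine ⟨h * g, ?_, ?_⟩
  · have h1 := hT _ (mem_zpowers _)
    have e1 : h * g * x * (h * g)⁻¹ = h * (g * x * g⁻¹) * h⁻¹ := by group
    rw [e1]
    exact h1
  · intro h1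
    apply hgx
    have e1 : h * g * x * (h * g)⁻¹ = h * (g * x * g⁻¹) * h⁻¹ := by group
    have e2 : x = h * x * h⁻¹ := by rw [← hh, mul_inv_cancel_right]
    rw [e1] at h1
    have h2 : h * (g * x * g⁻¹) * h⁻¹ = h * x * h⁻¹ := h1.trans e2
    exact mul_left_cancel (mul_right_cancel h2)

theorem no_index_two {G : Type*} [Group G] [Finite G] (hs : IsSimpleGroup G)
    (hnc : ¬ IsMulCommutative G) (H : Subgroup G) : H.index ≠ 2 := by
  intro h
  have hn : H.Normal := normal_of_index_eq_two h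
  rcases hn.eq_bot_or_eq_top with rfl | rfl
  · rw [index_bot] at h
    have hp : Fact (Nat.Prime 2) := ⟨Nat.prime_two⟩
    apply hnc
    have h1 : IsCyclic G := isCyclic_of_prime_card h
    exact ⟨⟨fun a b => (IsCyclic.commGroup (α := G)).mul_comm a b⟩⟩
  · rw [index_top] at h
    omega

/-- **Theorem A** for simple groups. -/
theorem main [Finite G] (hs : IsSimpleGroup G) (hnc : ¬ IsMulCommutative G)
    (F : Frame x K T D d r c o1 o2) (S : Sylow 2 G) (hS : (S : Subgroup G) = T) :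
    d = 2 ∧ ∀ t ∈ T, ∃ e ∈ D, t = e ∨ t = x * e :=
  F.main S hS (exists_conj hs hnc F) (no_index_two hs hnc)

end Cfsg.Agent.GH.L2QTwo.Simple
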