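import Cfsg.Agent.GH.L2QTwo.FieldMain

/-!
# GH-L2, `|Q| = 2`, `T < S`, a field involution in `T`: the configuration (M-f)

`s ∈ N(T) - T`, `s² ∈ T`, `x^s = f` a field involution centralising `D`, `xz` is not conjugate to `x`.
-/

set_option autoImplicit false
set_option linter.unusedVariables false
set_option linter.unusedSimpArgs false

open Subgroup

namespace Cfsg.Agent.GH.L2QTwo

variable {G A : Type*} [Group G] [Group A]

namespace Frame

variable {x : G} {K T D : Subgroup G} {d : ℕ} {r c : G} {o1 : G → ℤˣ} {o2 : G → A} {f s : G}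

/-- `|C(y)|₂ ≤ |T|` for the conjugates `y` of `x` -/
theorem card_le [Finite G] (F : Frame x K T D d r c o1 o2) {y : G} (hy : IsConj x y) {P : Subgroup G}
    (hP : IsPGroup 2 P) (hPy : ∀ p ∈ P, p * y = y * p) : Nat.card P ≤ Nat.card T := by
  obtain ⟨g, hg⟩ := isConj_iff.1 hy
  have hP' : IsPGroup 2 (P.map (MulAut.conj g⁻¹).toMonoidHom) := hP.map _
  have hPx : ∀ p ∈ P.map (MulAut.conj g⁻¹).toMonoidHom, x * p = p * x := by
    rintro _ ⟨a, ha, rfl⟩
    change x * (g⁻¹ * a * g⁻¹⁻¹) = g⁻¹ * a * g⁻¹⁻¹ * x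
    have h1 := hPy a ha
    rw [← hg] at h1
    calc x * (g⁻¹ * a * g⁻¹⁻¹) = g⁻¹ * (g * x * g⁻¹ * a) * g := by group
      _ = g⁻¹ * (a * (g * x * g⁻¹)) * g := by rw [h1]
      _ = g⁻¹ * a * g⁻¹⁻¹ * x := by group
  obtain ⟨k, -, hk⟩ := F.T_syl _ hP' hPx
  have h2 : (P.map (MulAut.conj g⁻¹).toMonoidHom).map (MulAut.conj k).toMonoidHom ≤ T := by
    rintro _ ⟨a, ha, rfl⟩
    exact hk a ha
  have h3 : Nat.card P = Nat.card (P.map (MulAut.conj g⁻¹).toMonoidHom) :=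
    Nat.card_congr (P.equivMapOfInjective _ (MulAut.conj g⁻¹).injective).toEquiv
  have h4 : Nat.card (P.map (MulAut.conj g⁻¹).toMonoidHom) =
      Nat.card ((P.map (MulAut.conj g⁻¹).toMonoidHom).map (MulAut.conj k).toMonoidHom) :=
    Nat.card_congr (Subgroup.equivMapOfInjective _ _ (MulAut.conj k).injective).toEquiv
  rw [h3, h4]
  exact Nat.card_le_card_of_injective _ (inclusion_injective h2)

/-- `s ∈ N(T) - T`, `s² ∈ T` -/
structure Out (F : Frame x K T D d r c o1 o2) (s : G) : Prop where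
  not_mem : s ∉ T
  norm : ∀ t ∈ T, s * t * s⁻¹ ∈ T
  sq : s * s ∈ T

theorem Out.mem_norm [Finite G] {F : Frame x K T D d r c o1 o2} (h : F.Out s) :
    s ∈ normalizer (T : Set G) := mem_norm_of h.norm

theorem Out.two [Finite G] {F : Frame x K T D d r c o1 o2} (h : F.Out s) :
    IsPGroup 2 ↥(T ⊔ zpowers s) := by
  rw [sup_comm]
  refine IsPGroup.to_sup_of_normal_right' ?_ F.T_two (by rw [zpowers_le]; exact h.mem_norm)
  rintro ⟨a, ha⟩
  obtain ⟨j, rfl⟩ := mem_zpowers_iff.1 ha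
  obtain ⟨k, hk⟩ := F.T_two ⟨s * s, h.sq⟩
  have hk' : (s * s) ^ 2 ^ k = 1 := congrArg Subtype.val hk
  refine ⟨k + 1, Subtype.ext ?_⟩
  change (s ^ j) ^ 2 ^ (k + 1) = 1
  rw [← zpow_natCast, ← zpow_mul, mul_comm, zpow_mul, zpow_natCast, pow_succ, mul_comm, pow_mul, pow_two,
    hk', one_zpow]

/-- an involution centralised by `T⟨s⟩` is not conjugate to `x` -/
theorem Out.not_conj [Finite G] {F : Frame x K T D d r c o1 o2} (h : F.Out s) {y : G}
    (hT : ∀ t ∈ T, t * y = y * t) (hs : s * y = y * s) : ¬ IsConj x y := by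
  intro hy
  have h1 : T ⊔ zpowers s ≤ centralizer ({y} : Set G) := by
    rw [sup_le_iff, zpowers_le]
    exact ⟨fun t ht => mem_centralizer_singleton_iff.2 (hT t ht), mem_centralizer_singleton_iff.2 hs⟩
  have h2 := F.card_le hy h.two fun p hp => mem_centralizer_singleton_iff.1 (h1 hp)
  have h3 : 2 * Nat.card T ≤ Nat.card ↥(T ⊔ zpowers s) :=
    two_mul_card_le le_sup_left (mem_sup_right (mem_zpowers s)) h.not_mem
  have h4 : 0 < Nat.card T := Nat.card_pos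
  omega

theorem z_comm_T (F : Frame x K T D d r c o1 o2) (hd : 3 ≤ d) {t : G} (ht : t ∈ T) :
    t * r ^ 2 ^ (d - 2) = r ^ 2 ^ (d - 2) * t := by
  apply comm_of_conj_eq
  obtain ⟨l, hl, hl'⟩ := F.conj_r hd ht
  have h1 : t * r ^ 2 ^ (d - 2) * t⁻¹ = r ^ (l * 2 ^ (d - 2)) := by
    rw [F.zz, F.conj_rk hl']
  rw [h1, F.zz, F.rk_eq]
  obtain ⟨m, hm⟩ := hl
  refine ⟨m, ?_⟩
  have : d - 1 = (d - 2) + 1 := by omega
  rw [hm, this, pow_succ]
  ring

/-- configuration (M-f) -/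
structure MF (F : Frame x K T D d r c o1 o2) (f s : G) : Prop where
  hd : 3 ≤ d
  fld : F.Fld f
  out : F.Out s
  sx : s * x * s⁻¹ = f
  nxz : ¬ IsConj x (x * r ^ 2 ^ (d - 2))

namespace MF

variable {F : Frame x K T D d r c o1 o2}

theorem good (h : F.MF f s) : Good T d r c o1 := F.good_of_ge h.hd

theorem s_M0 [Finite G] (h : F.MF f s) : s ∈ normalizer (F.M0 : Set G) :=
  mem_norm_of (h.fld.norm_of h.good fun m hm => h.out.norm m hm.1)

theorem sz [Finite G] (h : F.MF f s) : s * r ^ 2 ^ (d - 2) * s⁻¹ = r ^ 2 ^ (d - 2) :=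
  h.fld.norm_z h.hd h.s_M0

theorem sf (h : F.MF f s) : s * f * s⁻¹ = x := by
  have h1 := F.T_comm _ h.out.sq
  calc s * f * s⁻¹ = s * (s * x * s⁻¹) * s⁻¹ := by rw [h.sx]
    _ = s * s * x * (s * s)⁻¹ := by group
    _ = x * (s * s) * (s * s)⁻¹ := by rw [h1]
    _ = x := by group

theorem sx' (h : F.MF f s) : s⁻¹ * x * s = f := by
  rw [← h.sf]; group

theorem sf' (h : F.MF f s) : s⁻¹ * f * s = x := by
  rw [← h.sx]; group

/-- `f ∈ Z(T)` -/
theorem f_T [Finite G] (h : F.MF f s) {t : G} (ht : t ∈ T) : t * f = f * t := by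
  obtain ⟨t', ht', rfl⟩ := conj_surj h.out.norm t ht
  rw [← h.sx, conj_mul_conj, conj_mul_conj, F.T_comm t' ht']

/-- `P y`: `y` is conjugate to `x` -/
theorem conj_iff {y g : G} : IsConj x (g * y * g⁻¹) ↔ IsConj x y := by
  constructor
  · intro h1
    exact h1.trans (isConj_iff.2 ⟨g⁻¹, by group⟩)
  · intro h1
    exact h1.trans (isConj_iff.2 ⟨g, rfl⟩)

theorem pf (h : F.MF f s) : IsConj x f := isConj_iff.2 ⟨s, h.sx⟩

theorem nz [Finite G] (h : F.MF f s) : ¬ IsConj x (r ^ 2 ^ (d - 2)) :=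
  h.out.not_conj (fun t ht => F.z_comm_T h.hd ht) (comm_of_conj_eq h.sz)

theorem nxf [Finite G] (h : F.MF f s) : ¬ IsConj x (x * f) := by
  refine h.out.not_conj (fun t ht => ?_) (comm_of_conj_eq ?_)
  · rw [← mul_assoc, ← F.T_comm t ht, mul_assoc, h.f_T ht, mul_assoc]
  · rw [conj_mul3, h.sx, h.sf, h.fld.fx]

theorem nxfz [Finite G] (h : F.MF f s) : ¬ IsConj x (x * (f * r ^ 2 ^ (d - 2))) := by
  refine h.out.not_conj (fun t ht => ?_) (comm_of_conj_eq ?_)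
  · calc t * (x * (f * r ^ 2 ^ (d - 2))) = (t * x) * (f * r ^ 2 ^ (d - 2)) := by group
      _ = x * (t * f) * r ^ 2 ^ (d - 2) := by rw [← F.T_comm t ht]; group
      _ = x * f * (t * r ^ 2 ^ (d - 2)) := by rw [h.f_T ht]; group
      _ = x * (f * r ^ 2 ^ (d - 2)) * t := by rw [F.z_comm_T h.hd ht]; group
  · rw [conj_mul3, conj_mul3, h.sx, h.sf, h.sz, ← mul_assoc, h.fld.fx, mul_assoc]

theorem nfz [Finite G] (h : F.MF f s) : ¬ IsConj x (f * r ^ 2 ^ (d - 2)) := by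
  intro h1
  apply h.nxz
  rw [← conj_iff (g := s), conj_mul3, h.sx, h.sz]
  exact h1

end MF

end Frame

end Cfsg.Agent.GH.L2QTwo
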