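import Cfsg.Agent.GH.L2QTwo.TwistD

/-!
# GH-L2, `|Q| = 2`, `T < S`: an element `s ∈ N(T)` with `x ^ s = x z` and `c ^ s` inner normalises `D`
-/

set_option autoImplicit false

open Subgroup

namespace Cfsg.Agent.GH.L2QTwo.TwistInv

variable {G A : Type*} [Group G] [Group A]
variable {x : G} {K T D : Subgroup G} {d : ℕ} {r c : G} {o1 : G → ℤˣ} {o2 : G → A}

/-- all `s`-images of reflections are inner if one is -/
theorem o1_refl (F : Frame x K T D d r c o1 o2) (hd : 3 ≤ d) {s : G}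
    (sT : ∀ u ∈ T, s * u * s⁻¹ ∈ T) (h1 : o1 (s * c * s⁻¹) = 1) (k : ℤ) :
    o1 (s * (r ^ k * c) * s⁻¹) = 1 := by
  have conj : ∀ u ∈ T, ∀ e ∈ T, o1 (s * e * s⁻¹) = 1 → o1 (s * (u * e * u⁻¹) * s⁻¹) = 1 := by
    intro u hu e he h
    have e1 : s * (u * e * u⁻¹) * s⁻¹ = (s * u * s⁻¹) * (s * e * s⁻¹) * (s * u * s⁻¹)⁻¹ := by group
    rw [e1, F.o1_conj (F.T_comm _ (sT u hu)) (F.T_comm _ (sT e he)), h]
  have even : ∀ l : ℤ, ∀ m : ℤ, o1 (s * (r ^ m * c) * s⁻¹) = 1 →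
      o1 (s * (r ^ (2 * l + m) * c) * s⁻¹) = 1 := by
    intro l m h
    have := conj (r ^ l) (T.zpow_mem F.r_T _) (r ^ m * c) (T.mul_mem (T.zpow_mem F.r_T _) F.c_T) h
    have e1 : r ^ l * (r ^ m * c) * (r ^ l)⁻¹ = r ^ (2 * l + m) * c := by
      rw [← zpow_neg, ← mul_assoc, mul_assoc _ c, F.c_rk, neg_neg, ← mul_assoc, ← zpow_add,
        ← zpow_add]
      congr 2
      ring
    rwa [e1] at this
  by_cases hall : ∀ u ∈ T, o1 u = 1
  · exact hall _ (sT _ (T.mul_mem (T.zpow_mem F.r_T _) F.c_T))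
  · push Not at hall
    obtain ⟨u, hu, hu1⟩ := hall
    obtain ⟨m, hm⟩ := F.conj_c hd hu
    have hmo : Odd m := by
      rw [← Int.not_even_iff_odd]
      intro he
      exact hu1 ((F.swap hd u hu m hm).2 he)
    have hm1 : o1 (s * (r ^ m * c) * s⁻¹) = 1 := by
      have := conj u hu c F.c_T h1
      rwa [hm] at this
    rcases Int.even_or_odd k with ⟨l, hl⟩ | hk
    · have := even l 0 (by rw [zpow_zero, one_mul]; exact h1)
      rw [hl, ← two_mul]
      rwa [add_zero] at this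
    · obtain ⟨l, hl⟩ := hk
      obtain ⟨j, hj⟩ := hmo
      have := even (l - j) m hm1
      have e : 2 * (l - j) + m = k := by rw [hl, hj]; ring
      rwa [e] at this

/-- `D` is `s`-invariant -/
theorem D_inv (F : Frame x K T D d r c o1 o2) (hd : 3 ≤ d)
    (nofield : ∀ y ∈ T, y * y = 1 → o2 y = 1)
    (zX : ∀ g : G, g * x * g⁻¹ ≠ r ^ 2 ^ (d - 2)) {s : G}
    (sT : ∀ u ∈ T, s * u * s⁻¹ ∈ T) (sx : s * x * s⁻¹ = x * r ^ 2 ^ (d - 2))
    (h1 : o1 (s * c * s⁻¹) = 1) : ∀ e ∈ D, s * e * s⁻¹ ∈ D := by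
  have hrefl : ∀ k : ℤ, s * (r ^ k * c) * s⁻¹ ∈ D := by
    intro k
    set e := r ^ k * c with he
    have heD : e ∈ D := F.refl_mem k
    have hee : e * e = 1 := F.refl_sq k
    have hee' : s * e * s⁻¹ * (s * e * s⁻¹) = 1 := by
      calc s * e * s⁻¹ * (s * e * s⁻¹) = s * (e * e) * s⁻¹ := by group
        _ = 1 := by rw [hee, mul_one, mul_inv_cancel]
    have hT : s * e * s⁻¹ ∈ T := sT e (F.D_le heD)
    obtain ⟨e', he', h⟩ := F.ker _ hT (o1_refl F hd sT h1 k) (nofield _ hT hee')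
    rcases h with h | h
    · rw [h]; exact he'
    · exfalso
      -- `z` is conjugate to `e`
      obtain ⟨k1, hk1, hk1'⟩ := F.inv_conj e heD (r ^ 2 ^ (d - 2)) F.z_mem hee
        (F.refl_ne_one k) F.z_sq F.z_ne
      have hx' : x * e' = e' * x := F.x_comm_D he'
      have hsq : e' * e' = 1 := by
        rw [h] at hee'
        calc e' * e' = x * x * (e' * e') := by rw [F.xx, one_mul]
          _ = x * (x * e') * e' := by group
          _ = x * (e' * x) * e' := by rw [hx']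
          _ = x * e' * (x * e') := by group
          _ = 1 := hee'
      by_cases he1 : e' = 1
      · rw [he1, mul_one] at h
        apply zX (k1 * s⁻¹)
        rw [← hk1', ← h]
        group
      · -- `x e' ~ x z ~ x`
        obtain ⟨k2, hk2, hk2'⟩ := F.inv_conj (r ^ 2 ^ (d - 2)) F.z_mem e' he' F.z_sq F.z_ne hsq he1
        have h3 : k2 * s * x * (k2 * s)⁻¹ = x * e' := by
          calc k2 * s * x * (k2 * s)⁻¹ = k2 * (s * x * s⁻¹) * k2⁻¹ := by group
            _ = k2 * x * k2⁻¹ * (k2 * r ^ 2 ^ (d - 2) * k2⁻¹) := by rw [sx]; group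
            _ = x * e' := by
                rw [← F.K_comm k2 hk2, mul_inv_cancel_right, hk2']
        apply zX (k1 * s⁻¹ * (k2 * s))
        calc k1 * s⁻¹ * (k2 * s) * x * (k1 * s⁻¹ * (k2 * s))⁻¹
            = k1 * (s⁻¹ * (k2 * s * x * (k2 * s)⁻¹) * s) * k1⁻¹ := by group
          _ = k1 * e * k1⁻¹ := by rw [h3, ← h]; group
          _ = _ := hk1'
  intro e he
  obtain ⟨k, hk | hk⟩ := F.D_form e he
  · have h0 := hrefl 0
    rw [zpow_zero, one_mul] at h0
    have e1 : s * e * s⁻¹ = (s * (r ^ k * c) * s⁻¹) * (s * c * s⁻¹) := by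
      calc s * e * s⁻¹ = s * (r ^ k * (c * c)) * s⁻¹ := by rw [hk, F.cc, mul_one]
        _ = _ := by group
    rw [e1]
    exact D.mul_mem (hrefl k) h0
  · rw [hk]; exact hrefl k

end Cfsg.Agent.GH.L2QTwo.TwistInv
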