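import Cfsg.Agent.GH.L2QTwo.Zero

/-!
# GH-L2, `|Q| = 2`, `T = S`: no field type conjugates of `x` (step (1))
-/

set_option autoImplicit false
set_option linter.unusedVariables false
set_option linter.unusedSimpArgs false

open Subgroup

namespace Cfsg.Agent.GH.L2QTwo

variable {G A : Type*} [Group G] [Group A]

section abstr

/-- commuting involutions: normal form rules -/
structure Four4 (x f z v : G) : Prop where
  xx : x * x = 1
  ff : f * f = 1
  zz : z * z = 1
  vv : v * v = 1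
  fx : f * x = x * f
  zx : z * x = x * z
  zf : z * f = f * z
  vx : v * x = x * v
  vf : v * f = f * v
  vz : v * z = z * v

theorem conj_mul3 (u a b : G) : u * (a * b) * u⁻¹ = (u * a * u⁻¹) * (u * b * u⁻¹) := by group

/-- the final contradiction, `f' = x f` -/
theorem final_one {x f z v ζ u ρ : G} (E : Four4 x f z v) (P : G → Prop)
    (hP : ∀ g a, P a → P (g * a * g⁻¹)) (hPf : P f) (hPxf : P (x * f))
    (h1 : ¬ P (z * v)) (h2 : ¬ P (x * (z * v)))
    (ux : u * x * u⁻¹ = f) (uf : u * f * u⁻¹ = x * f) (uz : u * z * u⁻¹ = z)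
    (uv : u * v * u⁻¹ = ζ * v) (hζ : ζ = 1 ∨ ζ = x ∨ ζ = f ∨ ζ = x * f)
    (rx : ρ * x * ρ⁻¹ = x) (rf : ρ * f * ρ⁻¹ = f * (z * v)) : False := by
  have xx' : ∀ y, x * (x * y) = y := fun y => by rw [← mul_assoc, E.xx, one_mul]
  have ff' : ∀ y, f * (f * y) = y := fun y => by rw [← mul_assoc, E.ff, one_mul]
  have zz' : ∀ y, z * (z * y) = y := fun y => by rw [← mul_assoc, E.zz, one_mul]
  have fx' : ∀ y, f * (x * y) = x * (f * y) := fun y => by rw [← mul_assoc, E.fx, mul_assoc]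
  have zx' : ∀ y, z * (x * y) = x * (z * y) := fun y => by rw [← mul_assoc, E.zx, mul_assoc]
  have zf' : ∀ y, z * (f * y) = f * (z * y) := fun y => by rw [← mul_assoc, E.zf, mul_assoc]
  have a1 := hP u _ (hP ρ _ hPf)
  rw [rf, conj_mul3, conj_mul3, uf, uz, uv] at a1
  have a2 := hP u _ (hP ρ _ hPxf)
  rw [conj_mul3 ρ, rx, rf, conj_mul3, conj_mul3, conj_mul3, ux, uf, uz, uv] at a2
  rcases hζ with h | h | h | h
  · rw [h] at a2
    simp only [one_mul, mul_assoc, xx', ff', zz', fx', zx', zf'] at a2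
    exact h2 a2
  · rw [h] at a2
    simp only [one_mul, mul_assoc, xx', ff', zz', fx', zx', zf'] at a2
    exact h1 a2
  · rw [h] at a1
    simp only [one_mul, mul_assoc, xx', ff', zz', fx', zx', zf'] at a1
    exact h2 a1
  · rw [h] at a1
    simp only [one_mul, mul_assoc, xx', ff', zz', fx', zx', zf'] at a1
    exact h1 a1

/-- the final contradiction, `f' = x f z` -/
theorem final_two {x f z v ζ u ρ : G} (E : Four4 x f z v) (P : G → Prop)
    (hP : ∀ g a, P a → P (g * a * g⁻¹)) (hPf : P f)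
    (h2 : ¬ P (x * (z * v)))
    (hK : ∀ h, x * h = h * x → h * z * h⁻¹ = ζ * v → ζ = 1)
    (ux : u * x * u⁻¹ = f) (uf : u * f * u⁻¹ = x * (f * z)) (uz : u * z * u⁻¹ = z)
    (uv : u * v * u⁻¹ = ζ * v)
    (rx : ρ * x * ρ⁻¹ = x) (rz : ρ * z * ρ⁻¹ = v) (rf : ρ * f * ρ⁻¹ = f * (z * v)) : False := by
  have xx' : ∀ y, x * (x * y) = y := fun y => by rw [← mul_assoc, E.xx, one_mul]
  have ff' : ∀ y, f * (f * y) = y := fun y => by rw [← mul_assoc, E.ff, one_mul]
  have zz' : ∀ y, z * (z * y) = y := fun y => by rw [← mul_assoc, E.zz, one_mul]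
  have fx' : ∀ y, f * (x * y) = x * (f * y) := fun y => by rw [← mul_assoc, E.fx, mul_assoc]
  have zx' : ∀ y, z * (x * y) = x * (z * y) := fun y => by rw [← mul_assoc, E.zx, mul_assoc]
  have zf' : ∀ y, z * (f * y) = f * (z * y) := fun y => by rw [← mul_assoc, E.zf, mul_assoc]
  have vz' : ∀ y, v * (z * y) = z * (v * y) := fun y => by rw [← mul_assoc, E.vz, mul_assoc]
  -- `h = u ρ u²` fixes `x`
  have e1 : u * (ρ * (u * (u * x * u⁻¹) * u⁻¹) * ρ⁻¹) * u⁻¹ = x := by
    rw [ux, uf, conj_mul3 ρ, conj_mul3 ρ, rx, rf, rz, conj_mul3 u, conj_mul3 u, conj_mul3 u,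
      conj_mul3 u, ux, uf, uz, uv]
    have e2 : ζ * v * (ζ * v) = 1 := by
      rw [← uv, ← conj_mul3, E.vv]; group
    simp only [one_mul, mul_assoc, xx', ff', zz', fx', zx', zf', E.zz, mul_one]
    simp only [mul_assoc] at e2
    rw [e2, mul_one]
  have e3 : u * (ρ * (u * (u * z * u⁻¹) * u⁻¹) * ρ⁻¹) * u⁻¹ = ζ * v := by
    rw [uz, uz, rz, uv]
  have hζ : ζ = 1 := by
    apply hK (u * ρ * u * u)
    · have e4 : u * ρ * u * u * x * (u * ρ * u * u)⁻¹ = x := by
        calc u * ρ * u * u * x * (u * ρ * u * u)⁻¹ =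
            u * (ρ * (u * (u * x * u⁻¹) * u⁻¹) * ρ⁻¹) * u⁻¹ := by group
          _ = x := e1
      calc x * (u * ρ * u * u) = (u * ρ * u * u * x * (u * ρ * u * u)⁻¹) * (u * ρ * u * u) := by
            rw [e4]
        _ = u * ρ * u * u * x := by group
    · rw [← e3]; group
  subst hζ
  have a0 := hP u _ (hP ρ _ hPf)
  rw [rf, conj_mul3 u f, conj_mul3 u z, uf, uz, uv, one_mul] at a0
  simp only [one_mul, mul_assoc, xx', ff', zz', fx', zx', zf'] at a0
  have a1 := hP u _ a0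
  rw [conj_mul3 u x, conj_mul3 u f, uv, one_mul, ux, uf] at a1
  simp only [one_mul, mul_assoc, xx', ff', zz', fx', zx', zf'] at a1
  exact h2 a1

end abstr

namespace Frame

variable {x : G} {K T D : Subgroup G} {d : ℕ} {r c : G} {o1 : G → ℤˣ} {o2 : G → A}

/-- `M₀ = ⟨x, f⟩ × D`: the elements of `T` with `o1 = 1`, `o2² = 1` -/
def M0 (F : Frame x K T D d r c o1 o2) : Subgroup G where
  carrier := {t | t ∈ T ∧ o1 t = 1 ∧ o2 t * o2 t = 1}
  one_mem' := ⟨T.one_mem, F.o1_one, by rw [F.o2_one, one_mul]⟩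
  mul_mem' := by
    rintro a b ⟨ha, ha1, ha2⟩ ⟨hb, hb1, hb2⟩
    refine ⟨T.mul_mem ha hb, by rw [F.o1_mul' ha hb, ha1, hb1, one_mul], ?_⟩
    rw [F.o2_mul' ha hb]
    by_cases h1 : o2 a = 1
    · rw [h1, one_mul, hb2]
    by_cases h2 : o2 b = 1
    · rw [h2, mul_one, ha2]
    rw [F.A_inv _ _ ha2 h1 hb2 h2, hb2, one_mul]
  inv_mem' := by
    rintro a ⟨ha, ha1, ha2⟩
    refine ⟨T.inv_mem ha, by rw [F.o1_inv ha, ha1, inv_one], ?_⟩
    rw [F.o2_inv ha, ← mul_inv_rev, ha2, inv_one]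

theorem mem_M0 (F : Frame x K T D d r c o1 o2) {t : G} :
    t ∈ F.M0 ↔ t ∈ T ∧ o1 t = 1 ∧ o2 t * o2 t = 1 := Iff.rfl

theorem D_le_M0 (F : Frame x K T D d r c o1 o2) : D ≤ F.M0 := fun e he =>
  ⟨F.D_le he, F.o1_D he, by rw [F.o2_D he, one_mul]⟩

theorem x_mem_M0 (F : Frame x K T D d r c o1 o2) : x ∈ F.M0 :=
  ⟨F.x_mem, F.o1_x, by rw [F.o2_x, one_mul]⟩

/-- a field involution centralising `D` -/
structure Fld (F : Frame x K T D d r c o1 o2) (f : G) : Prop where
  mem : f ∈ T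
  sq : f * f = 1
  ne : o2 f ≠ 1
  cent : ∀ e ∈ D, f * e = e * f

variable {f : G}

theorem Fld.o1f {F : Frame x K T D d r c o1 o2} (h : F.Fld f) : o1 f = 1 :=
  (F.no_mixed f h.mem h.sq).resolve_right h.ne

theorem Fld.fx {F : Frame x K T D d r c o1 o2} (h : F.Fld f) : f * x = x * f :=
  (F.T_comm f h.mem).symm

theorem Fld.mem_M0 {F : Frame x K T D d r c o1 o2} (h : F.Fld f) : f ∈ F.M0 :=
  ⟨h.mem, h.o1f, F.o2_invol h.mem h.sq⟩

theorem Fld.inv {F : Frame x K T D d r c o1 o2} (h : F.Fld f) : f⁻¹ = f :=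
  inv_eq_of_mul_eq_one_right h.sq

/-- the elements of `M₀` -/
theorem Fld.form {F : Frame x K T D d r c o1 o2} (h : F.Fld f) {m : G} (hm : m ∈ F.M0) :
    ∃ e ∈ D, ∃ ζ, (ζ = 1 ∨ ζ = x ∨ ζ = f ∨ ζ = x * f) ∧ m = ζ * e := by
  obtain ⟨hmT, hm1, hm2⟩ := hm
  by_cases h2 : o2 m = 1
  · obtain ⟨e, he, h3 | h3⟩ := F.ker m hmT hm1 h2
    · exact ⟨e, he, 1, Or.inl rfl, by rw [h3, one_mul]⟩
    · exact ⟨e, he, x, Or.inr (Or.inl rfl), h3⟩
  · have h4 : o2 m = o2 f := F.A_inv _ _ hm2 h2 (F.o2_invol h.mem h.sq) h.ne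
    have h5 : o2 (f * m) = 1 := by rw [F.o2_mul' h.mem hmT, h4, F.o2_invol h.mem h.sq]
    have h6 : o1 (f * m) = 1 := by rw [F.o1_mul' h.mem hmT, h.o1f, hm1, one_mul]
    obtain ⟨e, he, h3 | h3⟩ := F.ker _ (T.mul_mem h.mem hmT) h6 h5
    · refine ⟨e, he, f, Or.inr (Or.inr (Or.inl rfl)), ?_⟩
      rw [← h3, ← mul_assoc, h.sq, one_mul]
    · refine ⟨e, he, x * f, Or.inr (Or.inr (Or.inr rfl)), ?_⟩
      rw [← h.fx, mul_assoc, ← h3, ← mul_assoc, h.sq, one_mul]

/-- `ζ ∈ ⟨x, f⟩` commutes with `D`, `x`, `f`, and has square one -/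
theorem Fld.zeta {F : Frame x K T D d r c o1 o2} (h : F.Fld f) {ζ : G}
    (hζ : ζ = 1 ∨ ζ = x ∨ ζ = f ∨ ζ = x * f) :
    ζ ∈ F.M0 ∧ (∀ e ∈ D, ζ * e = e * ζ) ∧ ζ * x = x * ζ ∧ ζ * f = f * ζ ∧ ζ * ζ = 1 := by
  rcases hζ with h1 | h1 | h1 | h1
  · subst h1
    exact ⟨F.M0.one_mem, fun e _ => by rw [one_mul, mul_one], by rw [one_mul, mul_one],
      by rw [one_mul, mul_one], one_mul 1⟩
  · subst h1
    exact ⟨F.x_mem_M0, fun e he => F.x_comm_D he, rfl, h.fx.symm, F.xx⟩
  · subst h1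
    exact ⟨h.mem_M0, h.cent, h.fx, rfl, h.sq⟩
  · subst h1
    refine ⟨F.M0.mul_mem F.x_mem_M0 h.mem_M0, fun e he => ?_, ?_, ?_, ?_⟩
    · rw [mul_assoc, h.cent e he, ← mul_assoc, F.x_comm_D he, mul_assoc]
    · rw [mul_assoc, h.fx]
    · rw [mul_assoc, h.sq, ← mul_assoc, h.fx, mul_assoc, h.sq]
    · calc x * f * (x * f) = x * (f * x) * f := by group
        _ = x * (x * f) * f := by rw [h.fx]
        _ = (x * x) * (f * f) := by group
        _ = 1 := by rw [F.xx, h.sq, one_mul]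

/-- two elements of `T` in a common elementary abelian subgroup with a reflection: `o1 = 1` -/
theorem o1_of_comm_refl (F : Frame x K T D d r c o1 o2) (hg : Good T d r c o1) {y : G} (hy : y ∈ T)
    {j : ℤ} (h : y * (r ^ j * c) = r ^ j * c * y) : o1 y = 1 := by
  obtain ⟨k, hk, hk'⟩ := hg.sw y hy
  obtain ⟨l, hl, hl'⟩ := hg.ro y hy
  rw [hk']
  have h1 : y * (r ^ j * c) * y⁻¹ = r ^ (l * j) * (r ^ k * c) := by
    rw [conj_mul3, F.conj_rk hl', hk]
  rw [conj_eq_of_comm h, ← mul_assoc, ← zpow_add] at h1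
  have h2 : r ^ j = r ^ (l * j + k) := mul_right_cancel h1
  rw [F.rk_eq] at h2
  have h3 : (2 : ℤ) ∣ j - (l * j + k) :=
    dvd_trans (dvd_pow_self 2 (by have := F.d_ge; omega)) h2
  obtain ⟨m, hm⟩ := hl
  obtain ⟨n, hn⟩ := h3
  refine ⟨-(m * j) - n, ?_⟩
  rw [hm] at hn
  linarith

/-- **an elementary abelian subgroup of order 16 of `T` is contained in `M₀`** -/
theorem le_M0' [Finite G] (F : Frame x K T D d r c o1 o2) (hg : Good T d r c o1) {E : Subgroup G}
    (hE : E ≤ T) (h2 : ∀ y ∈ E, y * y = 1) (hc : 8 < Nat.card E) : E ≤ F.M0 := by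
  have hcomm : ∀ a ∈ E, ∀ b ∈ E, a * b = b * a := by
    intro a ha b hb
    have h3 : a⁻¹ = a := inv_eq_of_mul_eq_one_right (h2 a ha)
    have h4 : b⁻¹ = b := inv_eq_of_mul_eq_one_right (h2 b hb)
    have h5 : (a * b)⁻¹ = a * b := inv_eq_of_mul_eq_one_right (h2 _ (E.mul_mem ha hb))
    calc a * b = (a * b)⁻¹ := h5.symm
      _ = b⁻¹ * a⁻¹ := mul_inv_rev a b
      _ = b * a := by rw [h3, h4]
  -- it is enough to find `x^a · reflection`
  suffices hex : ∃ j : ℤ, (r ^ j * c) ∈ E ∨ x * (r ^ j * c) ∈ E by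
    obtain ⟨j, hj⟩ := hex
    intro y hy
    refine ⟨hE hy, ?_, F.o2_invol (hE hy) (h2 y hy)⟩
    apply F.o1_of_comm_refl hg (hE hy) (j := j)
    rcases hj with hj | hj
    · exact hcomm y hy _ hj
    · have h3 := hcomm y hy _ hj
      have h4 := F.T_comm y (hE hy)
      have h5 : x * (y * (r ^ j * c)) = x * (r ^ j * c * y) := by
        calc x * (y * (r ^ j * c)) = (x * y) * (r ^ j * c) := by group
          _ = y * (x * (r ^ j * c)) := by rw [h4]; group
          _ = x * (r ^ j * c * y) := by rw [h3]; group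
      exact mul_left_cancel h5
  by_contra hcon
  push Not at hcon
  -- `E ∩ T₀` has at most 4 elements, and index at most 2 in `E`
  let E0 : Subgroup E := 
    { carrier := {y | o1 (y : G) = 1 ∧ o2 (y : G) = 1}
      one_mem' := ⟨F.o1_one, F.o2_one⟩
      mul_mem' := by
        rintro a b ⟨ha1, ha2⟩ ⟨hb1, hb2⟩
        refine ⟨?_, ?_⟩
        · change o1 ((a : G) * b) = 1
          rw [F.o1_mul' (hE a.2) (hE b.2), ha1, hb1, one_mul]
        · change o2 ((a : G) * b) = 1
          rw [F.o2_mul' (hE a.2) (hE b.2), ha2, hb2, one_mul]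
      inv_mem' := by
        rintro a ⟨ha1, ha2⟩
        refine ⟨?_, ?_⟩
        · change o1 ((a : G)⁻¹) = 1
          rw [F.o1_inv (hE a.2), ha1, inv_one]
        · change o2 ((a : G)⁻¹) = 1
          rw [F.o2_inv (hE a.2), ha2, inv_one] }
  have hE0 : ∀ y : E, y ∈ E0 ↔ o1 (y : G) = 1 ∧ o2 (y : G) = 1 := fun y => Iff.rfl
  have hcard : Nat.card E0 ≤ 4 := by
    have hform : ∀ y : E0, ((y : E) : G) = 1 ∨ ((y : E) : G) = r ^ 2 ^ (d - 2) ∨
        ((y : E) : G) = x ∨ ((y : E) : G) = x * r ^ 2 ^ (d - 2) := by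
      rintro ⟨⟨y, hy⟩, hy1, hy2⟩
      change y = 1 ∨ y = _ ∨ y = x ∨ y = _
      have hy1 : o1 y = 1 := hy1
      have hy2 : o2 y = 1 := hy2
      obtain ⟨e, he, h3 | h3⟩ := F.ker y (hE hy) hy1 hy2
      · have h4 := h2 y hy
        rw [h3] at h4
        rcases F.inv_form he h4 with h5 | h5 | ⟨j, h5⟩
        · left; rw [h3, h5]
        · right; left; rw [h3, h5]
        · exact absurd (by rw [← h5, ← h3]; exact hy) (hcon j).1
      · have h4 : e * e = 1 := by
          have h5 := h2 y hy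
          rw [h3] at h5
          calc e * e = (x * x) * e * e := by rw [F.xx, one_mul]
            _ = x * (x * e) * e := by group
            _ = x * (e * x) * e := by rw [F.x_comm_D he]
            _ = x * e * (x * e) := by group
            _ = 1 := h5
        rcases F.inv_form he h4 with h5 | h5 | ⟨j, h5⟩
        · right; right; left; rw [h3, h5, mul_one]
        · right; right; right; rw [h3, h5]
        · exact absurd (by rw [← h5, ← h3]; exact hy) (hcon j).2
    classical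
    let Lst : Finset G := {1, r ^ 2 ^ (d - 2), x, x * r ^ 2 ^ (d - 2)}
    have hinj : Function.Injective (fun y : E0 => (⟨((y : E) : G), by
        rcases hform y with h | h | h | h <;> simp [Lst, h]⟩ : Lst)) := by
      intro a b hab
      have := congrArg Subtype.val hab
      exact Subtype.ext (Subtype.ext this)
    have h6 := Nat.card_le_card_of_injective _ hinj
    have h7 : Nat.card Lst ≤ 4 := by
      rw [Nat.card_eq_fintype_card, Fintype.card_coe]
      exact Finset.card_le_four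
    omega
  have hindex : E0.index ≤ 2 := by
    by_cases hall : ∀ y : E, y ∈ E0
    · have : E0 = ⊤ := eq_top_iff.2 fun y _ => hall y
      rw [this, index_top]; norm_num
    · push Not at hall
      obtain ⟨a, ha⟩ := hall
      have h3 : E0.index = 2 := by
        rw [Subgroup.index_eq_two_iff]
        refine ⟨a, fun b => ?_⟩
        have hA : o2 ((a : G)) * o2 (a : G) = 1 := F.o2_invol (hE a.2) (h2 a a.2)
        have hB : o2 ((b : G)) * o2 (b : G) = 1 := F.o2_invol (hE b.2) (h2 b b.2)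
        have hAB : o1 ((b : G) * a) = 1 ∨ o2 ((b : G) * a) = 1 :=
          F.no_mixed _ (T.mul_mem (hE b.2) (hE a.2)) (h2 _ (E.mul_mem b.2 a.2))
        have m1 : o1 ((b : G) * a) = o1 b * o1 a := F.o1_mul' (hE b.2) (hE a.2)
        have m2 : o2 ((b : G) * a) = o2 b * o2 a := F.o2_mul' (hE b.2) (hE a.2)
        have hma : b * a ∈ E0 ↔ o1 ((b : G) * a) = 1 ∧ o2 ((b : G) * a) = 1 := Iff.rfl
        have na : ¬ (o1 (a : G) = 1 ∧ o2 (a : G) = 1) := ha
        have ma := F.no_mixed a (hE a.2) (h2 a a.2)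
        have mb := F.no_mixed b (hE b.2) (h2 b b.2)
        by_cases hb : b ∈ E0
        · right
          refine ⟨hb, fun hba => ha ?_⟩
          have : a = b⁻¹ * (b * a) := by group
          rw [this]
          exact E0.mul_mem (E0.inv_mem hb) hba
        · left
          refine ⟨?_, hb⟩
          have nb : ¬ (o1 (b : G) = 1 ∧ o2 (b : G) = 1) := hb
          rw [hma, m1, m2]
          rw [m1, m2] at hAB
          by_cases a1 : o1 (a : G) = 1
          · have a2 : o2 (a : G) ≠ 1 := fun h => na ⟨a1, h⟩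
            by_cases b1 : o1 (b : G) = 1
            · have b2 : o2 (b : G) ≠ 1 := fun h => nb ⟨b1, h⟩
              refine ⟨by rw [a1, b1, one_mul], ?_⟩
              rw [F.A_inv _ _ hB b2 hA a2, hA]
            · exfalso
              have b2 : o2 (b : G) = 1 := mb.resolve_left b1
              rw [a1, mul_one, b2, one_mul] at hAB
              rcases hAB with h | h
              · exact b1 h
              · exact a2 h
          · have a2 : o2 (a : G) = 1 := ma.resolve_left a1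
            by_cases b1 : o1 (b : G) = 1
            · exfalso
              have b2 : o2 (b : G) ≠ 1 := fun h => nb ⟨b1, h⟩
              rw [b1, one_mul, a2, mul_one] at hAB
              rcases hAB with h | h
              · exact a1 h
              · exact b2 h
            · have b2 : o2 (b : G) = 1 := mb.resolve_left b1
              refine ⟨?_, by rw [a2, b2, one_mul]⟩
              rcases Int.units_eq_one_or (o1 (a : G)) with h | h
              · exact absurd h a1
              · rcases Int.units_eq_one_or (o1 (b : G)) with h' | h'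
                · exact absurd h' b1
                · rw [h, h']; rfl
      rw [h3]
  have h8 := E0.card_mul_index
  have h9 : Nat.card E0 * E0.index ≤ 4 * 2 := Nat.mul_le_mul hcard hindex
  omega

end Frame

end Cfsg.Agent.GH.L2QTwo
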