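import Cfsg.Agent.GH.L2QTwo.Field

/-!
# GH-L2, `|Q| = 2`, `T = S`: no field type conjugates of `x` (step (1)), end
-/

set_option autoImplicit false
set_option linter.unusedVariables false
set_option linter.unusedSimpArgs false

open Subgroup

namespace Cfsg.Agent.GH.L2QTwo

variable {G A : Type*} [Group G] [Group A]

theorem two_mul_card_le [Finite G] {H L : Subgroup G} (h : H ≤ L) {a : G} (ha : a ∈ L)
    (ha' : a ∉ H) : 2 * Nat.card H ≤ Nat.card L := by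
  have h1 : Nat.card H ∣ Nat.card L := card_dvd_of_le h
  obtain ⟨m, hm⟩ := h1
  have h2 : m ≠ 0 := by
    rintro rfl
    rw [mul_zero] at hm
    exact Nat.card_pos.ne' hm
  have h3 : m ≠ 1 := by
    rintro rfl
    rw [mul_one] at hm
    apply ha'
    have h4 := Subgroup.eq_of_le_of_card_ge h (by rw [hm])
    rw [h4]
    exact ha
  have h4 : 2 ≤ m := by omega
  rw [hm, mul_comm]
  exact Nat.mul_le_mul_left _ h4

theorem inv_conj_of {n a b : G} (h : n * a * n⁻¹ = b) : n⁻¹ * b * n⁻¹⁻¹ = a := by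
  rw [← h]; group

theorem conj_surj [Finite G] {M : Subgroup G} {g : G} (h : ∀ m ∈ M, g * m * g⁻¹ ∈ M) :
    ∀ m ∈ M, ∃ m' ∈ M, g * m' * g⁻¹ = m := by
  have h1 : M.map (MulAut.conj g).toMonoidHom ≤ M := by
    rintro _ ⟨m, hm, rfl⟩
    exact h m hm
  have h2 : M.map (MulAut.conj g).toMonoidHom = M := by
    apply Subgroup.eq_of_le_of_card_ge h1
    exact (Nat.card_congr (M.equivMapOfInjective _ (MulAut.conj g).injective).toEquiv).le
  intro m hm
  rw [← h2] at hm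
  obtain ⟨m', hm', h3⟩ := hm
  exact ⟨m', hm', h3⟩

theorem mem_norm_of [Finite G] {M : Subgroup G} {g : G} (h : ∀ m ∈ M, g * m * g⁻¹ ∈ M) :
    g ∈ normalizer (M : Set G) := by
  rw [mem_normalizer_iff]
  intro m
  constructor
  · exact h m
  · intro h1
    obtain ⟨m', hm', h2⟩ := conj_surj h _ h1
    have : m' = m := mul_left_cancel (mul_right_cancel h2)
    rwa [← this]

namespace Frame

variable {x : G} {K T D : Subgroup G} {d : ℕ} {r c : G} {o1 : G → ℤˣ} {o2 : G → A} {f : G}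

/-- `T₀` as a subgroup -/
def T0 (F : Frame x K T D d r c o1 o2) : Subgroup G where
  carrier := {t | t ∈ T ∧ o1 t = 1 ∧ o2 t = 1}
  one_mem' := ⟨T.one_mem, F.o1_one, F.o2_one⟩
  mul_mem' := by
    rintro a b ⟨ha, ha1, ha2⟩ ⟨hb, hb1, hb2⟩
    exact ⟨T.mul_mem ha hb, by rw [F.o1_mul' ha hb, ha1, hb1, one_mul], by
      rw [F.o2_mul' ha hb, ha2, hb2, one_mul]⟩
  inv_mem' := by
    rintro a ⟨ha, ha1, ha2⟩
    exact ⟨T.inv_mem ha, by rw [F.o1_inv ha, ha1, inv_one], by rw [F.o2_inv ha, ha2, inv_one]⟩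

/-- `⟨x, f⟩` -/
def Zf {F : Frame x K T D d r c o1 o2} (h : F.Fld f) : Subgroup G where
  carrier := {ζ | ζ = 1 ∨ ζ = x ∨ ζ = f ∨ ζ = x * f}
  one_mem' := Or.inl rfl
  mul_mem' := by
    have e1 : x * (x * f) = f := by rw [← mul_assoc, F.xx, one_mul]
    have e2 : f * (x * f) = x := by rw [← mul_assoc, h.fx, mul_assoc, h.sq, mul_one]
    have e3 : x * f * x = f := by rw [mul_assoc, h.fx, e1]
    have e4 : x * f * f = x := by rw [mul_assoc, h.sq, mul_one]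
    have e5 : x * f * (x * f) = 1 := by rw [mul_assoc, e2, F.xx]
    rintro a b (ha | ha | ha | ha) (hb | hb | hb | hb) <;> subst ha <;> subst hb <;>
      simp [F.xx, h.sq, h.fx, e1, e2, e3, e4, e5]
  inv_mem' := by
    rintro a (ha | ha | ha | ha) <;> subst ha
    · simp
    · right; left; exact F.x_inv
    · right; right; left; exact h.inv
    · right; right; right
      rw [mul_inv_rev, F.x_inv, h.inv, h.fx]

theorem mem_Zf {F : Frame x K T D d r c o1 o2} (h : F.Fld f) {ζ : G} :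
    ζ ∈ Zf h ↔ ζ = 1 ∨ ζ = x ∨ ζ = f ∨ ζ = x * f := Iff.rfl

/-- central elements of `D` -/
theorem cen_form (F : Frame x K T D d r c o1 o2) (hd : 3 ≤ d) {e : G} (he : e ∈ D)
    (h1 : e * r = r * e) (h2 : e * c = c * e) : e = 1 ∨ e = r ^ 2 ^ (d - 2) := by
  obtain ⟨k, hk | hk⟩ := F.D_form e he
  · rw [hk] at h2 ⊢
    apply F.rot_sq
    have h3 : r ^ k = r ^ (-k) := by
      rw [← F.crk k, ← h2, mul_inv_cancel_right]
    nth_rewrite 2 [h3]
    rw [← zpow_add, add_neg_cancel, zpow_zero]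
  · exfalso
    rw [hk] at h1
    apply F.rc_ne hd
    have h3 : r ^ k * (r * c) = r ^ k * (c * r) := by
      calc r ^ k * (r * c) = r * (r ^ k * c) := by group
        _ = r ^ k * c * r := h1.symm
        _ = r ^ k * (c * r) := by group
    exact mul_left_cancel h3

theorem Fld.norm_of [Finite G] {F : Frame x K T D d r c o1 o2} (h : F.Fld f)
    (hg : Good T d r c o1) {g : G} (hT : ∀ m ∈ F.M0, g * m * g⁻¹ ∈ T) :
    ∀ m ∈ F.M0, g * m * g⁻¹ ∈ F.M0 := by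
  -- the subgroups `C_{M₀}(r^j c)`
  have key : ∀ j : ℤ, ∀ m ∈ F.M0, m * (r ^ j * c) = r ^ j * c * m → g * m * g⁻¹ ∈ F.M0 := by
    intro j
    let E : Subgroup G := F.M0 ⊓ centralizer ({r ^ j * c} : Set G)
    have hE : ∀ m, m ∈ E ↔ m ∈ F.M0 ∧ m * (r ^ j * c) = r ^ j * c * m := by
      intro m
      rw [mem_inf, mem_centralizer_singleton_iff]
    have hsq : ∀ m ∈ E, m * m = 1 := by
      intro m hm
      obtain ⟨h1, h2⟩ := (hE m).1 hm
      obtain ⟨e, he, ζ, hζ, rfl⟩ := h.form h1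
      obtain ⟨-, z1, -, -, z2⟩ := h.zeta hζ
      have h3 : e * (r ^ j * c) = r ^ j * c * e := by
        have : ζ * (e * (r ^ j * c)) = ζ * (r ^ j * c * e) := by
          calc ζ * (e * (r ^ j * c)) = ζ * e * (r ^ j * c) := by group
            _ = r ^ j * c * (ζ * e) := h2
            _ = (ζ * (r ^ j * c)) * e := by rw [z1 _ (F.refl_mem j)]; group
            _ = ζ * (r ^ j * c * e) := by group
        exact mul_left_cancel this
      have h4 : e * e = 1 := by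
        obtain ⟨k, hk | hk⟩ := F.D_form e he
        · rw [hk] at h3 ⊢
          have h5 : r ^ k * (r ^ j * c) = r ^ j * (r ^ (-k) * c) := by
            rw [h3, mul_assoc, F.c_rk]
          rw [← mul_assoc, ← mul_assoc, ← zpow_add, ← zpow_add] at h5
          have h6 := mul_right_cancel h5
          rw [← zpow_add, F.rk_one]
          rw [F.rk_eq] at h6
          have : k + k = k + j - (j + -k) := by ring
          rw [this]; exact h6
        · rw [hk]; exact F.refl_sq k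
      calc ζ * e * (ζ * e) = ζ * (e * ζ) * e := by group
        _ = ζ * (ζ * e) * e := by rw [z1 e he]
        _ = (ζ * ζ) * (e * e) := by group
        _ = 1 := by rw [z2, h4, one_mul]
    -- the order is at least 16
    have hcard : 16 ≤ Nat.card E := by
      have e1 : f ∈ E := (hE f).2 ⟨h.mem_M0, h.cent _ (F.refl_mem j)⟩
      have e2 : x ∈ E := (hE x).2 ⟨F.x_mem_M0, F.x_comm_D (F.refl_mem j)⟩
      have e3 : r ^ j * c ∈ E := (hE _).2 ⟨F.D_le_M0 (F.refl_mem j), rfl⟩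
      have e4 : r ^ 2 ^ (d - 2) ∈ E := (hE _).2 ⟨F.D_le_M0 F.z_mem, F.z_comm (F.refl_mem j)⟩
      have c1 : 2 * Nat.card ↥(E ⊓ F.T0) ≤ Nat.card E :=
        two_mul_card_le inf_le_left e1 (fun h1 => h.ne h1.2.2.2)
      have c2 : 2 * Nat.card ↥(E ⊓ D) ≤ Nat.card ↥(E ⊓ F.T0) := by
        refine two_mul_card_le ?_ (a := x) ⟨e2, F.x_mem, F.o1_x, F.o2_x⟩ (fun h1 => F.x_not h1.2)
        rintro a ⟨h1, h2⟩
        exact ⟨h1, F.D_le h2, F.o1_D h2, F.o2_D h2⟩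
      have c3 : 2 * Nat.card ↥(E ⊓ zpowers r) ≤ Nat.card ↥(E ⊓ D) := by
        refine two_mul_card_le ?_ (a := r ^ j * c) ⟨e3, F.refl_mem j⟩ ?_
        · rintro a ⟨h1, h2⟩
          exact ⟨h1, (zpowers_le.2 F.r_mem) h2⟩
        · rintro ⟨-, h2⟩
          obtain ⟨l, hl⟩ := mem_zpowers_iff.1 h2
          exact F.refl_ne j l hl.symm
      have c4 : 2 * Nat.card ↥(⊥ : Subgroup G) ≤ Nat.card ↥(E ⊓ zpowers r) := by
        refine two_mul_card_le bot_le (a := r ^ 2 ^ (d - 2)) ⟨e4, ?_⟩ ?_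
        · exact pow_mem (mem_zpowers r) _
        · intro h1
          exact F.z_ne (mem_bot.1 h1)
      rw [card_bot] at c4
      omega
    -- conjugate
    intro m hm hmj
    let E' : Subgroup G := E.map (MulAut.conj g).toMonoidHom
    have hE'T : E' ≤ T := by
      rintro _ ⟨a, ha, rfl⟩
      exact hT a ((hE a).1 ha).1
    have hE'sq : ∀ y ∈ E', y * y = 1 := by
      rintro _ ⟨a, ha, rfl⟩
      change g * a * g⁻¹ * (g * a * g⁻¹) = 1
      rw [conj_mul_conj, hsq a ha]; group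
    have hE'c : Nat.card E' = Nat.card E :=
      (Nat.card_congr (E.equivMapOfInjective _ (MulAut.conj g).injective).toEquiv).symm
    exact F.le_M0' hg hE'T hE'sq (by rw [hE'c]; omega) ⟨m, (hE m).2 ⟨hm, hmj⟩, rfl⟩
  -- generation
  intro m hm
  obtain ⟨e, he, ζ, hζ, rfl⟩ := h.form hm
  obtain ⟨z0, z1, -, -, -⟩ := h.zeta hζ
  rw [conj_mul3]
  have k1 : g * ζ * g⁻¹ ∈ F.M0 := key 0 ζ z0 (z1 _ (F.refl_mem 0))
  have k2 : ∀ k : ℤ, g * (r ^ k * c) * g⁻¹ ∈ F.M0 := fun k =>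
    key k _ (F.D_le_M0 (F.refl_mem k)) rfl
  refine F.M0.mul_mem k1 ?_
  obtain ⟨k, hk | hk⟩ := F.D_form e he
  · have e1 : e = (r ^ k * c) * (r ^ (0 : ℤ) * c) := by
      rw [hk, zpow_zero, one_mul, mul_assoc, F.cc, mul_one]
    rw [e1, conj_mul3]
    exact F.M0.mul_mem (k2 k) (k2 0)
  · rw [hk]; exact k2 k

/-- `f ~ x` is realised in `N(M₀)` -/
theorem Fld.fuse [Finite G] {F : Frame x K T D d r c o1 o2} (h : F.Fld f)
    (hg : Good T d r c o1) {g : G} (hgf : g * x * g⁻¹ = f) :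
    ∃ n ∈ normalizer (F.M0 : Set G), n * x * n⁻¹ = f := by
  let P : Subgroup G := (T ⊓ centralizer ({f} : Set G)).map (MulAut.conj g⁻¹).toMonoidHom
  have hP : IsPGroup 2 P := (F.T_two.to_le inf_le_left).map _
  have hPx : ∀ p ∈ P, x * p = p * x := by
    rintro _ ⟨a, ⟨-, ha⟩, rfl⟩
    change x * (g⁻¹ * a * g⁻¹⁻¹) = g⁻¹ * a * g⁻¹⁻¹ * x
    have h1 : a * f = f * a := mem_centralizer_singleton_iff.1 ha
    rw [← hgf] at h1
    calc x * (g⁻¹ * a * g⁻¹⁻¹) = g⁻¹ * (g * x * g⁻¹ * a) * g := by group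
      _ = g⁻¹ * (a * (g * x * g⁻¹)) * g := by rw [h1]
      _ = g⁻¹ * a * g⁻¹⁻¹ * x := by group
  obtain ⟨k, hk, hkP⟩ := F.T_syl P hP hPx
  have hT : ∀ m ∈ F.M0, k * g⁻¹ * m * (k * g⁻¹)⁻¹ ∈ T := by
    intro m hm
    have hmf : m * f = f * m := by
      obtain ⟨e, he, ζ, hζ, rfl⟩ := h.form hm
      obtain ⟨-, -, -, z3, -⟩ := h.zeta hζ
      rw [mul_assoc, ← h.cent e he, ← mul_assoc, z3, mul_assoc]
    have h1 := hkP (g⁻¹ * m * g⁻¹⁻¹) ⟨m, ⟨hm.1, mem_centralizer_singleton_iff.2 hmf⟩, rfl⟩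
    have e1 : k * (g⁻¹ * m * g⁻¹⁻¹) * k⁻¹ = k * g⁻¹ * m * (k * g⁻¹)⁻¹ := by group
    rwa [e1] at h1
  have hN := mem_norm_of (h.norm_of hg hT)
  refine ⟨(k * g⁻¹)⁻¹, inv_mem hN, ?_⟩
  rw [← hgf]
  have : x = k⁻¹ * x * k := by
    calc x = k⁻¹ * (k * x) := by group
      _ = k⁻¹ * x * k := by rw [← hk]; group
  calc (k * g⁻¹)⁻¹ * x * (k * g⁻¹)⁻¹⁻¹ = g * (k⁻¹ * x * k) * g⁻¹ := by group
    _ = g * x * g⁻¹ := by rw [← this]

theorem Fld.norm_T {F : Frame x K T D d r c o1 o2} [Finite G] (h : F.Fld f)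
    (hg : Good T d r c o1) {t : G} (ht : t ∈ T) : t ∈ normalizer (F.M0 : Set G) :=
  mem_norm_of (h.norm_of hg fun m hm => T.mul_mem (T.mul_mem ht hm.1) (T.inv_mem ht))

theorem z_eq_sq (F : Frame x K T D d r c o1 o2) (hd : 3 ≤ d) :
    (r ^ 2 ^ (d - 3) : G) * r ^ 2 ^ (d - 3) = r ^ 2 ^ (d - 2) := by
  rw [← pow_add]
  congr 1
  have : d - 2 = (d - 3) + 1 := by omega
  rw [this, pow_succ, mul_two]

/-- `N(M₀)` centralises `z` -/
theorem Fld.norm_z {F : Frame x K T D d r c o1 o2} (h : F.Fld f) (hd : 3 ≤ d) {n : G}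
    (hn : n ∈ normalizer (F.M0 : Set G)) :
    n * r ^ 2 ^ (d - 2) * n⁻¹ = r ^ 2 ^ (d - 2) := by
  have h1 : n * r ^ 2 ^ (d - 3) * n⁻¹ ∈ F.M0 :=
    (mem_normalizer_iff.1 hn _).1 (F.D_le_M0 (D.pow_mem F.r_mem _))
  obtain ⟨e, he, ζ, hζ, h2⟩ := h.form h1
  obtain ⟨-, z1, -, -, z2⟩ := h.zeta hζ
  have h3 : n * r ^ 2 ^ (d - 2) * n⁻¹ = e * e := by
    rw [← F.z_eq_sq hd, ← conj_mul_conj, h2]
    calc ζ * e * (ζ * e) = ζ * (e * ζ) * e := by group
      _ = ζ * (ζ * e) * e := by rw [z1 e he]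
      _ = (ζ * ζ) * (e * e) := by group
      _ = e * e := by rw [z2, one_mul]
  have h4 : n * r ^ 2 ^ (d - 2) * n⁻¹ ≠ 1 := conj_ne_one F.z_ne
  have h5 : n * r ^ 2 ^ (d - 2) * n⁻¹ * (n * r ^ 2 ^ (d - 2) * n⁻¹) = 1 := by
    rw [conj_mul_conj, F.z_sq]; group
  obtain ⟨k, hk | hk⟩ := F.D_form e he
  · rw [hk, ← zpow_add] at h3
    rw [h3] at h4 h5 ⊢
    rcases F.rot_sq h5 with h6 | h6
    · exact absurd h6 h4
    · exact h6
  · rw [hk, F.refl_sq] at h3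
    exact absurd h3 h4

/-- the image of a central element of `M₀` -/
theorem Fld.norm_cen {F : Frame x K T D d r c o1 o2} (h : F.Fld f) (hd : 3 ≤ d) {n : G}
    (hn : n ∈ normalizer (F.M0 : Set G)) {ζ : G} (hζ : ζ ∈ Zf h) :
    ∃ ζ' ∈ Zf h, n * ζ * n⁻¹ = ζ' ∨ n * ζ * n⁻¹ = ζ' * r ^ 2 ^ (d - 2) := by
  obtain ⟨z0, z1, zx, zf, z2⟩ := h.zeta hζ
  have hcen : ∀ m ∈ F.M0, ζ * m = m * ζ := by
    intro m hm
    obtain ⟨e, he, ζ', hζ', rfl⟩ := h.form hm
    have h1 : ζ * ζ' = ζ' * ζ := by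
      rcases hζ' with h1 | h1 | h1 | h1
      · rw [h1, mul_one, one_mul]
      · rw [h1, zx]
      · rw [h1, zf]
      · rw [h1, ← mul_assoc, zx, mul_assoc, zf, mul_assoc]
    rw [← mul_assoc, h1, mul_assoc, z1 e he, mul_assoc]
  have hcen' : ∀ m ∈ F.M0, n * ζ * n⁻¹ * m = m * (n * ζ * n⁻¹) := by
    intro m hm
    have h1 : n⁻¹ * m * n ∈ F.M0 := by
      have := (mem_normalizer_iff.1 (inv_mem hn) m).1 hm
      simpa using this
    have h2 := hcen _ h1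
    calc n * ζ * n⁻¹ * m = n * (ζ * (n⁻¹ * m * n)) * n⁻¹ := by group
      _ = n * (n⁻¹ * m * n * ζ) * n⁻¹ := by rw [h2]
      _ = m * (n * ζ * n⁻¹) := by group
  obtain ⟨e, he, ζ', hζ', h3⟩ := h.form ((mem_normalizer_iff.1 hn ζ).1 z0)
  obtain ⟨-, z1', -, -, z2'⟩ := h.zeta hζ'
  have h4 : ∀ m ∈ D, e * m = m * e := by
    intro m hm
    have h5 := hcen' m (F.D_le_M0 hm)
    rw [h3] at h5
    have : ζ' * (e * m) = ζ' * (m * e) := by
      calc ζ' * (e * m) = ζ' * e * m := by group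
        _ = m * (ζ' * e) := h5
        _ = (ζ' * m) * e := by rw [z1' m hm]; group
        _ = ζ' * (m * e) := by group
    exact mul_left_cancel this
  refine ⟨ζ', hζ', ?_⟩
  rcases F.cen_form hd he (h4 r F.r_mem) (h4 c F.c_mem) with h5 | h5
  · left; rw [h3, h5, mul_one]
  · right; rw [h3, h5]

/-- the action of `N(M₀)` on the two classes of reflections -/
theorem Fld.norm_refl {F : Frame x K T D d r c o1 o2} (h : F.Fld f) (hd : 3 ≤ d) {n : G}
    (hn : n ∈ normalizer (F.M0 : Set G)) :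
    ∃ s : ℤ, ∀ j : ℤ, ∃ ζ ∈ Zf h, ∃ i : ℤ, n * (r ^ j * c) * n⁻¹ = ζ * (r ^ i * c) ∧
      Even (i - j - s) := by
  obtain ⟨e1, he1, ζ1, hζ1, h1⟩ := h.form ((mem_normalizer_iff.1 hn r).1 (F.D_le_M0 F.r_mem))
  obtain ⟨e2, he2, ζ2, hζ2, h2⟩ := h.form ((mem_normalizer_iff.1 hn c).1 (F.D_le_M0 F.c_mem))
  obtain ⟨-, z1, -, -, z11⟩ := h.zeta hζ1
  obtain ⟨-, z2, -, -, z22⟩ := h.zeta hζ2
  -- `e1` is a rotation
  obtain ⟨l, hl⟩ : ∃ l : ℤ, e1 = r ^ l := by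
    obtain ⟨k, hk | hk⟩ := F.D_form e1 he1
    · exact ⟨k, hk⟩
    · exfalso
      have h3 : n * r * n⁻¹ * (n * r * n⁻¹) = 1 := by
        rw [h1]
        calc ζ1 * e1 * (ζ1 * e1) = ζ1 * (e1 * ζ1) * e1 := by group
          _ = ζ1 * (ζ1 * e1) * e1 := by rw [z1 e1 he1]
          _ = (ζ1 * ζ1) * (e1 * e1) := by group
          _ = 1 := by rw [z11, hk, F.refl_sq, one_mul]
      rw [conj_mul_conj] at h3
      have h4 : r ^ (2 : ℤ) = 1 := by
        have : r ^ (2 : ℤ) = n⁻¹ * (n * (r * r) * n⁻¹) * n := by rw [zpow_two]; group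
        rw [this, h3]; group
      rw [F.rk_one] at h4
      have h5 : (2 : ℤ) ^ 2 ∣ 2 ^ (d - 1) := pow_dvd_pow 2 (by omega)
      have h6 := h5.trans h4
      norm_num at h6
  -- `e2` is a reflection
  obtain ⟨i0, hi0⟩ : ∃ i : ℤ, e2 = r ^ i * c := by
    obtain ⟨k, hk | hk⟩ := F.D_form e2 he2
    · exfalso
      apply F.rc_ne hd
      have h3 : n * r * n⁻¹ * (n * c * n⁻¹) = n * c * n⁻¹ * (n * r * n⁻¹) := by
        have z12 : ζ1 * ζ2 = ζ2 * ζ1 := by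
          obtain ⟨-, -, a1, a2, -⟩ := h.zeta hζ1
          rcases hζ2 with h1 | h1 | h1 | h1
          · rw [h1, mul_one, one_mul]
          · rw [h1, a1]
          · rw [h1, a2]
          · rw [h1, ← mul_assoc, a1, mul_assoc, a2, mul_assoc]
        rw [h1, h2, hl, hk]
        calc ζ1 * r ^ l * (ζ2 * r ^ k) = ζ1 * (r ^ l * ζ2) * r ^ k := by group
          _ = ζ1 * (ζ2 * r ^ l) * r ^ k := by rw [z2 _ (F.r_rk l)]
          _ = (ζ1 * ζ2) * r ^ (l + k) := by rw [zpow_add]; group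
          _ = (ζ2 * ζ1) * r ^ (k + l) := by rw [z12, add_comm]
          _ = ζ2 * (ζ1 * r ^ k) * r ^ l := by rw [zpow_add]; group
          _ = ζ2 * (r ^ k * ζ1) * r ^ l := by rw [z1 _ (F.r_rk k)]
          _ = ζ2 * r ^ k * (ζ1 * r ^ l) := by group
      rw [conj_mul_conj, conj_mul_conj] at h3
      exact mul_left_cancel (mul_right_cancel h3)
    · exact ⟨k, hk⟩
  have hcz : Commute ζ1 (r ^ l) := z1 _ (F.r_rk l)
  -- `l` is odd
  have hlodd : Odd l := by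
    by_contra hev
    rw [Int.not_odd_iff_even] at hev
    obtain ⟨m, hm⟩ := hev
    have h3 := h.norm_z hd hn
    have h4 : n * r ^ 2 ^ (d - 2) * n⁻¹ = (ζ1 * r ^ l) ^ 2 ^ (d - 2) := by
      rw [← conj_pow, h1, hl]
    rw [h3, hcz.mul_pow] at h4
    have h5 : ζ1 ^ 2 ^ (d - 2) = 1 := by
      have : (2 : ℕ) ∣ 2 ^ (d - 2) := dvd_pow_self 2 (by omega)
      obtain ⟨q, hq⟩ := this
      rw [hq, pow_mul, pow_two, z11, one_pow]
    have h6 : (r ^ l) ^ 2 ^ (d - 2) = 1 := by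
      rw [← zpow_natCast, ← zpow_mul, F.rk_one, hm]
      have : d - 1 = (d - 2) + 1 := by omega
      rw [this, pow_succ]
      push_cast
      exact ⟨m, by ring⟩
    rw [h5, h6, one_mul] at h4
    exact F.z_ne h4
  refine ⟨i0, fun j => ⟨ζ1 ^ j * ζ2, ?_, l * j + i0, ?_, ?_⟩⟩
  · exact (Zf h).mul_mem ((Zf h).zpow_mem hζ1 j) hζ2
  · rw [conj_mul3, ← conj_zpow, h1, h2, hl, hi0, hcz.mul_zpow, ← zpow_mul]
    calc ζ1 ^ j * r ^ (l * j) * (ζ2 * (r ^ i0 * c)) = ζ1 ^ j * (r ^ (l * j) * ζ2) * (r ^ i0 * c) := by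
          group
      _ = ζ1 ^ j * (ζ2 * r ^ (l * j)) * (r ^ i0 * c) := by rw [z2 _ (F.r_rk (l * j))]
      _ = ζ1 ^ j * ζ2 * (r ^ (l * j) * r ^ i0 * c) := by group
      _ = ζ1 ^ j * ζ2 * (r ^ (l * j + i0) * c) := by rw [← zpow_add]
  · obtain ⟨m, hm⟩ := hlodd
    exact ⟨m * j, by rw [hm]; ring⟩

/-- the square of an element of `N(M₀)` fixes the two classes of reflections -/
theorem Fld.norm_sq_refl {F : Frame x K T D d r c o1 o2} (h : F.Fld f) (hd : 3 ≤ d) {n : G}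
    (hn : n ∈ normalizer (F.M0 : Set G)) (j : ℤ) :
    ∃ ζ ∈ Zf h, ∃ i : ℤ, n * n * (r ^ j * c) * (n * n)⁻¹ = ζ * (r ^ i * c) ∧ Even (i - j) := by
  obtain ⟨s, hs⟩ := h.norm_refl hd hn
  obtain ⟨ζ, hζ, i, h1, a, ha⟩ := hs j
  obtain ⟨ζ', hζ', i', h2, b, hb⟩ := hs i
  obtain ⟨ζ'', hζ'', h3⟩ := h.norm_cen hd hn hζ
  have e1 : n * n * (r ^ j * c) * (n * n)⁻¹ = (n * ζ * n⁻¹) * (ζ' * (r ^ i' * c)) := by
    calc n * n * (r ^ j * c) * (n * n)⁻¹ = n * (n * (r ^ j * c) * n⁻¹) * n⁻¹ := by group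
      _ = _ := by rw [h1, conj_mul3, h2]
  rcases h3 with h3 | h3
  · refine ⟨ζ'' * ζ', (Zf h).mul_mem hζ'' hζ', i', ?_, ?_⟩
    · rw [e1, h3, mul_assoc]
    · exact ⟨a + b + s, by linarith⟩
  · refine ⟨ζ'' * ζ', (Zf h).mul_mem hζ'' hζ', 2 ^ (d - 2) + i', ?_, ?_⟩
    · obtain ⟨-, z1, -, -, -⟩ := h.zeta hζ'
      rw [e1, h3, F.zz]
      calc ζ'' * r ^ ((2 : ℤ) ^ (d - 2)) * (ζ' * (r ^ i' * c)) =
          ζ'' * (r ^ ((2 : ℤ) ^ (d - 2)) * ζ') * (r ^ i' * c) := by group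
        _ = ζ'' * (ζ' * r ^ ((2 : ℤ) ^ (d - 2))) * (r ^ i' * c) := by rw [z1 _ (F.r_rk _)]
        _ = ζ'' * ζ' * (r ^ ((2 : ℤ) ^ (d - 2)) * r ^ i' * c) := by group
        _ = _ := by rw [← zpow_add]
    · refine ⟨a + b + s + 2 ^ (d - 3), ?_⟩
      have : d - 2 = (d - 3) + 1 := by omega
      rw [this, pow_succ]
      linarith

/-- the images of `x` under `N(M₀)` -/
theorem Fld.norm_x [Finite G] {F : Frame x K T D d r c o1 o2} (h : F.Fld f) (hd : 3 ≤ d)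
    (hg : Good T d r c o1) (S : Sylow 2 G) (hS : (S : Subgroup G) = T) {n : G}
    (hn : n ∈ normalizer (F.M0 : Set G)) :
    n * x * n⁻¹ = x ∨ n * x * n⁻¹ = f ∨ n * x * n⁻¹ = f * r ^ 2 ^ (d - 2) ∨
      n * x * n⁻¹ = x * f ∨ n * x * n⁻¹ = x * (f * r ^ 2 ^ (d - 2)) := by
  obtain ⟨ζ, hζ, h1 | h1⟩ := h.norm_cen hd hn (ζ := x) (Or.inr (Or.inl rfl))
  · rcases hζ with h2 | h2 | h2 | h2
    · exact absurd (h1.trans h2) (conj_ne_one F.x_ne)
    · left; rw [h1, h2]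
    · right; left; rw [h1, h2]
    · right; right; right; left; rw [h1, h2]
  · rcases hζ with h2 | h2 | h2 | h2
    · exfalso
      exact F.not_inner hg S hS F.z_mem (Or.inl (by rw [h1, h2, one_mul]))
    · exfalso
      exact F.not_inner hg S hS F.z_mem (Or.inr ⟨by rw [h1, h2], F.z_ne⟩)
    · right; right; left; rw [h1, h2]
    · right; right; right; right; rw [h1, h2, mul_assoc]

/-- the images of `x` under `N(M₀)` are different modulo `z` -/
theorem Fld.norm_ne [Finite G] {F : Frame x K T D d r c o1 o2} (h : F.Fld f) (hd : 3 ≤ d)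
    (hg : Good T d r c o1) (S : Sylow 2 G) (hS : (S : Subgroup G) = T) {n m : G}
    (hn : n ∈ normalizer (F.M0 : Set G)) (hm : m ∈ normalizer (F.M0 : Set G)) :
    n * x * n⁻¹ ≠ m * x * m⁻¹ * r ^ 2 ^ (d - 2) := by
  intro h1
  refine F.not_inner hg S hS (g := m⁻¹ * n) F.z_mem (Or.inr ⟨?_, F.z_ne⟩)
  have h2 := h.norm_z hd (inv_mem hm)
  calc m⁻¹ * n * x * (m⁻¹ * n)⁻¹ = m⁻¹ * (n * x * n⁻¹) * m := by group
    _ = m⁻¹ * (m * x * m⁻¹ * r ^ 2 ^ (d - 2)) * m := by rw [h1]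
    _ = x * (m⁻¹ * r ^ 2 ^ (d - 2) * m⁻¹⁻¹) := by group
    _ = x * r ^ 2 ^ (d - 2) := by rw [h2]

/-- the orbit of `x` under `N(M₀)` is `{x, f, f'}` -/
theorem Fld.exists_third [Finite G] {F : Frame x K T D d r c o1 o2} (h : F.Fld f) (hd : 3 ≤ d)
    (hg : Good T d r c o1) (S : Sylow 2 G) (hS : (S : Subgroup G) = T) {g : G}
    (hgf : g * x * g⁻¹ = f) :
    ∃ f', (f' = x * f ∨ f' = x * (f * r ^ 2 ^ (d - 2))) ∧
      (∃ n ∈ normalizer (F.M0 : Set G), n * x * n⁻¹ = f') ∧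
      ∀ n ∈ normalizer (F.M0 : Set G), n * x * n⁻¹ = x ∨ n * x * n⁻¹ = f ∨ n * x * n⁻¹ = f' := by
  obtain ⟨n0, hn0, hn0f⟩ := h.fuse hg hgf
  have hfz : ∀ n ∈ normalizer (F.M0 : Set G), n * x * n⁻¹ ≠ f * r ^ 2 ^ (d - 2) := by
    intro n hn h1
    exact h.norm_ne hd hg S hS hn hn0 (by rw [hn0f, h1])
  by_cases h1 : ∃ n ∈ normalizer (F.M0 : Set G), n * x * n⁻¹ = x * f
  · obtain ⟨m, hm, hmx⟩ := h1
    refine ⟨x * f, Or.inl rfl, ⟨m, hm, hmx⟩, fun n hn => ?_⟩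
    rcases h.norm_x hd hg S hS hn with h2 | h2 | h2 | h2 | h2
    · exact Or.inl h2
    · exact Or.inr (Or.inl h2)
    · exact absurd h2 (hfz n hn)
    · exact Or.inr (Or.inr h2)
    · exfalso
      exact h.norm_ne hd hg S hS hn hm (by rw [hmx, h2, mul_assoc])
  by_cases h2 : ∃ n ∈ normalizer (F.M0 : Set G), n * x * n⁻¹ = x * (f * r ^ 2 ^ (d - 2))
  · refine ⟨_, Or.inr rfl, h2, fun n hn => ?_⟩
    rcases h.norm_x hd hg S hS hn with h3 | h3 | h3 | h3 | h3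
    · exact Or.inl h3
    · exact Or.inr (Or.inl h3)
    · exact absurd h3 (hfz n hn)
    · exact absurd ⟨n, hn, h3⟩ h1
    · exact Or.inr (Or.inr h3)
  -- otherwise the orbit has length two
  exfalso
  push Not at h1 h2
  have horb : ∀ n ∈ normalizer (F.M0 : Set G), n * x * n⁻¹ = x ∨ n * x * n⁻¹ = f := by
    intro n hn
    rcases h.norm_x hd hg S hS hn with h3 | h3 | h3 | h3 | h3
    · exact Or.inl h3
    · exact Or.inr h3
    · exact absurd h3 (hfz n hn)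
    · exact absurd h3 (h1 n hn)
    · exact absurd h3 (h2 n hn)
  let N : Subgroup G := normalizer (F.M0 : Set G)
  let C : Subgroup G := N ⊓ centralizer ({x} : Set G)
  have hCN : C ≤ N := inf_le_left
  have hC : ∀ b : N, b ∈ C.subgroupOf N ↔ (b : G) * x * (b : G)⁻¹ = x := by
    intro b
    rw [mem_subgroupOf, mem_inf, mem_centralizer_singleton_iff]
    constructor
    · rintro ⟨-, h3⟩
      exact conj_eq_of_comm h3
    · intro h3
      exact ⟨b.2, comm_of_conj_eq h3⟩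
  have hfx : f ≠ x := by
    intro h3
    apply h.ne
    rw [h3, F.o2_x]
  have hidx : (C.subgroupOf N).index = 2 := by
    rw [Subgroup.index_eq_two_iff]
    refine ⟨⟨n0, hn0⟩, fun b => ?_⟩
    have e1 : ((b * ⟨n0, hn0⟩ : N) : G) * x * ((b * ⟨n0, hn0⟩ : N) : G)⁻¹ =
        (b : G) * f * (b : G)⁻¹ := by
      rw [← hn0f]
      change (b : G) * n0 * x * ((b : G) * n0)⁻¹ = _
      group
    rw [hC, hC, e1]
    have hbn : (b : G) * n0 ∈ N := N.mul_mem b.2 hn0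
    have h3 := horb _ hbn
    have e2 : (b : G) * n0 * x * ((b : G) * n0)⁻¹ = (b : G) * f * (b : G)⁻¹ := by
      rw [← hn0f]; group
    rw [e2] at h3
    have hinj : (b : G) * f * (b : G)⁻¹ ≠ (b : G) * x * (b : G)⁻¹ := by
      intro h4
      exact hfx (mul_left_cancel (mul_right_cancel h4))
    rcases horb b b.2 with h4 | h4
    · right
      refine ⟨h4, ?_⟩
      rw [h4] at hinj
      exact hinj
    · left
      rw [h4] at hinj ⊢
      exact ⟨h3.resolve_right hinj, hfx⟩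
  have hTC : (S : Subgroup G) ≤ C := by
    intro t ht
    rw [hS] at ht
    exact ⟨h.norm_T hg ht, mem_centralizer_singleton_iff.2 (F.T_comm t ht).symm⟩
  have hp : Fact (Nat.Prime 2) := ⟨Nat.prime_two⟩
  have h5 : 2 ∣ (S : Subgroup G).index := by
    rw [← relIndex_mul_index hTC, ← relIndex_mul_index hCN]
    have h6 : C.relIndex N = 2 := hidx
    rw [h6]
    exact Dvd.dvd.mul_left (Dvd.intro _ rfl) _
  exact S.not_dvd_index h5

/-- an element of `N(M₀)` inducing the 3-cycle -/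
theorem Fld.exists_cycle [Finite G] {F : Frame x K T D d r c o1 o2} (h : F.Fld f)
    {f' : G} {N : Subgroup G} {n0 n1 : G} (hn0 : n0 ∈ N) (h0 : n0 * x * n0⁻¹ = f) (hn1 : n1 ∈ N)
    (h1 : n1 * x * n1⁻¹ = f') (hfx : f ≠ x) (hf'x : f' ≠ x) (hff' : f ≠ f')
    (horb : ∀ n ∈ N, n * x * n⁻¹ = x ∨ n * x * n⁻¹ = f ∨ n * x * n⁻¹ = f') :
    ∃ w ∈ N, w * x * w⁻¹ = f ∧ w * f * w⁻¹ = f' ∧ w * f' * w⁻¹ = x := by
  have ho : ∀ n ∈ N, n * f * n⁻¹ = x ∨ n * f * n⁻¹ = f ∨ n * f * n⁻¹ = f' := by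
    intro n hn
    have := horb (n * n0) (N.mul_mem hn hn0)
    have e : n * n0 * x * (n * n0)⁻¹ = n * f * n⁻¹ := by rw [← h0]; group
    rwa [e] at this
  have ho' : ∀ n ∈ N, n * f' * n⁻¹ = x ∨ n * f' * n⁻¹ = f ∨ n * f' * n⁻¹ = f' := by
    intro n hn
    have := horb (n * n1) (N.mul_mem hn hn1)
    have e : n * n1 * x * (n * n1)⁻¹ = n * f' * n⁻¹ := by rw [← h1]; group
    rwa [e] at this
  have inj : ∀ n a b : G, a ≠ b → n * a * n⁻¹ ≠ n * b * n⁻¹ := fun n a b hab h2 =>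
    hab (mul_left_cancel (mul_right_cancel h2))
  rcases ho n0 hn0 with a1 | a1 | a1
  · -- `n0 : x ↔ f`
    have a2 : n0 * f' * n0⁻¹ = f' := by
      rcases ho' n0 hn0 with h2 | h2 | h2
      · exact absurd (a1.trans h2.symm) (inj n0 f f' hff')
      · exact absurd (h0.trans h2.symm) (inj n0 x f' hf'x.symm)
      · exact h2
    rcases ho n1 hn1 with b1 | b1 | b1
    · have b2 : n1 * f' * n1⁻¹ = f := by
        rcases ho' n1 hn1 with h2 | h2 | h2
        · exact absurd (b1.trans h2.symm) (inj n1 f f' hff')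
        · exact h2
        · exact absurd (h1.trans h2.symm) (inj n1 x f' hf'x.symm)
      exact ⟨n1⁻¹, N.inv_mem hn1, inv_conj_of b1, inv_conj_of b2, inv_conj_of h1⟩
    · have b2 : n1 * f' * n1⁻¹ = x := by
        rcases ho' n1 hn1 with h2 | h2 | h2
        · exact h2
        · exact absurd (b1.trans h2.symm) (inj n1 f f' hff')
        · exact absurd (h1.trans h2.symm) (inj n1 x f' hf'x.symm)
      refine ⟨n1 * n0, N.mul_mem hn1 hn0, ?_, ?_, ?_⟩
      · calc n1 * n0 * x * (n1 * n0)⁻¹ = n1 * (n0 * x * n0⁻¹) * n1⁻¹ := by group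
          _ = f := by rw [h0, b1]
      · calc n1 * n0 * f * (n1 * n0)⁻¹ = n1 * (n0 * f * n0⁻¹) * n1⁻¹ := by group
          _ = f' := by rw [a1, h1]
      · calc n1 * n0 * f' * (n1 * n0)⁻¹ = n1 * (n0 * f' * n0⁻¹) * n1⁻¹ := by group
          _ = x := by rw [a2, b2]
    · exact absurd (h1.trans b1.symm) (inj n1 x f hfx.symm)
  · exact absurd (h0.trans a1.symm) (inj n0 x f hfx.symm)
  · refine ⟨n0, hn0, h0, a1, ?_⟩
    rcases ho' n0 hn0 with h2 | h2 | h2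
    · exact h2
    · exact absurd (h0.trans h2.symm) (inj n0 x f' hf'x.symm)
    · exact absurd (a1.trans h2.symm) (inj n0 f f' hff')

theorem Fld.mul_z {F : Frame x K T D d r c o1 o2} (h : F.Fld f) (hd : 3 ≤ d) :
    F.Fld (f * r ^ 2 ^ (d - 2)) where
  mem := T.mul_mem h.mem (F.D_le F.z_mem)
  sq := by
    calc f * r ^ 2 ^ (d - 2) * (f * r ^ 2 ^ (d - 2)) = f * (r ^ 2 ^ (d - 2) * f) * r ^ 2 ^ (d - 2) := by
          group
      _ = f * (f * r ^ 2 ^ (d - 2)) * r ^ 2 ^ (d - 2) := by rw [h.cent _ F.z_mem]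
      _ = (f * f) * (r ^ 2 ^ (d - 2) * r ^ 2 ^ (d - 2)) := by group
      _ = 1 := by rw [h.sq, F.z_sq, one_mul]
  ne := by
    rw [F.o2_mul' h.mem (F.D_le F.z_mem), F.o2_D F.z_mem, mul_one]
    exact h.ne
  cent := by
    intro e he
    rw [mul_assoc, F.z_comm he, ← mul_assoc, h.cent e he, mul_assoc]

/-- **no field involution centralising `D` is conjugate to `x`** -/
theorem Fld.false [Finite G] {F : Frame x K T D d r c o1 o2} (h : F.Fld f) (hd : 3 ≤ d)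
    (hg : Good T d r c o1) (S : Sylow 2 G) (hS : (S : Subgroup G) = T) {g : G}
    (hgf : g * x * g⁻¹ = f) : False := by
  obtain ⟨n0, hn0, h0⟩ := h.fuse hg hgf
  obtain ⟨f', hf', ⟨n1, hn1, h1⟩, horb⟩ := h.exists_third hd hg S hS hgf
  have zx : r ^ 2 ^ (d - 2) * x = x * r ^ 2 ^ (d - 2) := (F.x_comm_D F.z_mem).symm
  have zf : r ^ 2 ^ (d - 2) * f = f * r ^ 2 ^ (d - 2) := (h.cent _ F.z_mem).symm
  have hfx : f ≠ x := by
    intro h3
    apply h.ne
    rw [h3, F.o2_x]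
  have hf'x : f' ≠ x := by
    rcases hf' with h3 | h3
    · rw [h3]
      intro h4
      apply h.ne
      have : f = 1 := mul_left_cancel (a := x) (by rw [h4, mul_one])
      rw [this, F.o2_one]
    · rw [h3]
      intro h4
      have : f * r ^ 2 ^ (d - 2) = 1 := mul_left_cancel (a := x) (by rw [h4, mul_one])
      apply (h.mul_z hd).ne
      rw [this, F.o2_one]
  have hff' : f ≠ f' := by
    rcases hf' with h3 | h3
    · rw [h3]
      intro h4
      exact F.x_ne (mul_right_cancel (b := f) (by rw [← h4, one_mul]))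
    · rw [h3]
      intro h4
      have h5 : x * r ^ 2 ^ (d - 2) = 1 := by
        have h6 : f * (x * r ^ 2 ^ (d - 2)) = f * 1 := by
          calc f * (x * r ^ 2 ^ (d - 2)) = (f * x) * r ^ 2 ^ (d - 2) := by group
            _ = x * (f * r ^ 2 ^ (d - 2)) := by rw [h.fx]; group
            _ = f * 1 := by rw [← h4, mul_one]
        exact mul_left_cancel h6
      exact F.xD_ne F.z_mem D.one_mem h5
  obtain ⟨w, hw, w1, w2, w3⟩ := h.exists_cycle hn0 h0 hn1 h1 hfx hf'x hff' horb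
  -- the four-group
  obtain ⟨v, hv, hvv, hv1, hvz, ρ, hρx, hρf, hρz, hρv⟩ := F.field_rho _ (h.mul_z hd).mem
    (h.mul_z hd).sq (h.mul_z hd).ne (h.mul_z hd).cent
  obtain ⟨j, hj⟩ : ∃ j : ℤ, v = r ^ j * c := by
    rcases F.inv_form hv hvv with h2 | h2 | h2
    · exact absurd h2 hv1
    · exact absurd h2 hvz
    · exact h2
  -- `w⁴`
  obtain ⟨ζ, hζ, i, hi, s, hs⟩ := h.norm_sq_refl hd (Subgroup.mul_mem _ hw hw) j
  let w4 : G := w * w * (w * w)
  have w4x : w4 * x * w4⁻¹ = f := by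
    calc w4 * x * w4⁻¹ = w * (w * (w * (w * x * w⁻¹) * w⁻¹) * w⁻¹) * w⁻¹ := by
          simp only [w4]; group
      _ = f := by rw [w1, w2, w3, w1]
  have w4f : w4 * f * w4⁻¹ = f' := by
    calc w4 * f * w4⁻¹ = w * (w * (w * (w * f * w⁻¹) * w⁻¹) * w⁻¹) * w⁻¹ := by
          simp only [w4]; group
      _ = f' := by rw [w2, w3, w1, w2]
  have w4z : w4 * r ^ 2 ^ (d - 2) * w4⁻¹ = r ^ 2 ^ (d - 2) :=
    h.norm_z hd (Subgroup.mul_mem _ (Subgroup.mul_mem _ hw hw) (Subgroup.mul_mem _ hw hw))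
  have w4v : w4 * v * w4⁻¹ = ζ * (r ^ i * c) := by rw [hj]; exact hi
  -- correction by a rotation
  let u : G := r ^ (-s) * w4
  have crs : ∀ y : G, r ^ (-s) * y = y * r ^ (-s) → r ^ (-s) * y * (r ^ (-s))⁻¹ = y := fun y hy =>
    conj_eq_of_comm hy
  have rx : r ^ (-s) * x * (r ^ (-s))⁻¹ = x := crs x (F.x_comm_D (F.r_rk _)).symm
  have rf : r ^ (-s) * f * (r ^ (-s))⁻¹ = f := crs f (h.cent _ (F.r_rk _)).symm
  have rz : r ^ (-s) * r ^ 2 ^ (d - 2) * (r ^ (-s))⁻¹ = r ^ 2 ^ (d - 2) :=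
    crs _ (F.z_comm (F.r_rk _)).symm
  have rζ : r ^ (-s) * ζ * (r ^ (-s))⁻¹ = ζ := crs ζ ((h.zeta hζ).2.1 _ (F.r_rk _)).symm
  have rf' : r ^ (-s) * f' * (r ^ (-s))⁻¹ = f' := by
    rcases hf' with h3 | h3
    · rw [h3, conj_mul3, rx, rf]
    · rw [h3, conj_mul3, conj_mul3, rx, rf, rz]
  have hu : ∀ y, u * y * u⁻¹ = r ^ (-s) * (w4 * y * w4⁻¹) * (r ^ (-s))⁻¹ := by
    intro y; simp only [u]; group
  have ux : u * x * u⁻¹ = f := by rw [hu, w4x, rf]
  have uf : u * f * u⁻¹ = f' := by rw [hu, w4f, rf']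
  have uz : u * r ^ 2 ^ (d - 2) * u⁻¹ = r ^ 2 ^ (d - 2) := by rw [hu, w4z, rz]
  have uv : u * v * u⁻¹ = ζ * v := by
    rw [hu, w4v, conj_mul3, rζ]
    congr 1
    calc r ^ (-s) * (r ^ i * c) * (r ^ (-s))⁻¹ = r ^ (-s) * r ^ i * (c * r ^ s) := by
          rw [zpow_neg, inv_inv]; group
      _ = r ^ (-s) * r ^ i * (r ^ (-s) * c) := by rw [F.c_rk]
      _ = (r ^ (-s) * r ^ i * r ^ (-s)) * c := by group
      _ = v := by
        rw [hj, ← zpow_add, ← zpow_add]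
        congr 2
        linarith
  have E : Four4 x f (r ^ 2 ^ (d - 2)) v :=
    { xx := F.xx
      ff := h.sq
      zz := F.z_sq
      vv := hvv
      fx := h.fx
      zx := zx
      zf := zf
      vx := (F.x_comm_D hv).symm
      vf := (h.cent v hv).symm
      vz := (F.z_comm hv).symm }
  have ρx : ρ * x * ρ⁻¹ = x := conj_eq_of_comm hρx.symm
  have ρf : ρ * f * ρ⁻¹ = f * (r ^ 2 ^ (d - 2) * v) := by
    have e1 : f = f * r ^ 2 ^ (d - 2) * r ^ 2 ^ (d - 2) := by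
      rw [mul_assoc, F.z_sq, mul_one]
    have e2 : ρ * (f * r ^ 2 ^ (d - 2)) * ρ⁻¹ = f * r ^ 2 ^ (d - 2) := conj_eq_of_comm hρf.symm
    calc ρ * f * ρ⁻¹ = ρ * (f * r ^ 2 ^ (d - 2) * r ^ 2 ^ (d - 2)) * ρ⁻¹ := by rw [← e1]
      _ = f * r ^ 2 ^ (d - 2) * v := by rw [conj_mul3, e2, hρz]
      _ = _ := by group
  have hzv : r ^ 2 ^ (d - 2) * v ≠ 1 := by
    intro h3
    apply hvz
    have : v = (r ^ 2 ^ (d - 2))⁻¹ := (inv_eq_of_mul_eq_one_right h3).symm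
    rw [this]
    exact inv_eq_of_mul_eq_one_right F.z_sq
  let P : G → Prop := fun a => ∃ k, k * x * k⁻¹ = a
  have hP : ∀ k a, P a → P (k * a * k⁻¹) := by
    rintro k a ⟨l, hl⟩
    exact ⟨k * l, by rw [← hl]; group⟩
  have hPf : P f := ⟨g, hgf⟩
  have n1' : ¬ P (r ^ 2 ^ (d - 2) * v) := by
    rintro ⟨k, hk⟩
    exact F.not_inner hg S hS (D.mul_mem F.z_mem hv) (Or.inl hk)
  have n2' : ¬ P (x * (r ^ 2 ^ (d - 2) * v)) := by
    rintro ⟨k, hk⟩
    exact F.not_inner hg S hS (D.mul_mem F.z_mem hv) (Or.inr ⟨hk, hzv⟩)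
  rcases hf' with h3 | h3
  · rw [h3] at uf h1
    exact final_one E P hP hPf ⟨n1, h1⟩ n1' n2' ux uf uz uv hζ ρx ρf
  · rw [h3] at uf
    refine final_two E P hP hPf n2' ?_ ux uf uz uv ρx hρz ρf
    intro k hk hkz
    have hK1 : ζ * v ∈ K := by
      rw [← hkz]
      exact F.K_norm k hk _ (F.D_le_K F.z_mem)
    have hK2 : ζ ∈ K := by
      have : ζ = ζ * v * v⁻¹ := by group
      rw [this]
      exact K.mul_mem hK1 (K.inv_mem (F.D_le_K hv))
    have h4 := F.o2_K ζ hK2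
    rcases hζ with h5 | h5 | h5 | h5
    · exact h5
    · exfalso
      apply F.x_not
      rw [F.mem_D]
      exact ⟨F.x_mem, h5 ▸ hK2⟩
    · rw [h5] at h4
      exact absurd h4 h.ne
    · rw [h5, F.o2_mul' F.x_mem h.mem, F.o2_x, one_mul] at h4
      exact absurd h4 h.ne

/-- **Step (1): no conjugate of `x` in `T` is of field type.** -/
theorem not_field [Finite G] (F : Frame x K T D d r c o1 o2) (hg : Good T d r c o1)
    (S : Sylow 2 G) (hS : (S : Subgroup G) = T) {g : G} (hT : g * x * g⁻¹ ∈ T) :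
    o2 (g * x * g⁻¹) = 1 := by
  by_contra hne
  have hd : 3 ≤ d := by
    have := F.d_ge
    by_contra hd
    exact hne (F.small (by omega) _ hT).1
  have hyy : g * x * g⁻¹ * (g * x * g⁻¹) = 1 := by rw [conj_mul_conj, F.xx]; group
  obtain ⟨k, hk, hkD⟩ := F.field_cent _ hT hyy hne
  have hyx := F.T_comm _ hT
  set y := k * (g * x * g⁻¹) * k⁻¹ with hy
  have hkx := F.K_comm k hk
  have hyx' : x * y = y * x :=
    F.comm_mul (F.comm_mul hkx hyx) (F.comm_inv hkx)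
  have hyy' : y * y = 1 := by rw [hy, conj_mul_conj, hyy]; group
  have hne' : o2 y ≠ 1 := fun h1 => hne ((F.o2_conj_ne hkx hyx).1 h1)
  have hyN : zpowers y ≤ normalizer (D : Set G) := by
    rw [zpowers_le]
    exact mem_norm_of fun m hm => by rw [conj_eq_of_comm (hkD m hm)]; exact hm
  have hP2 : IsPGroup 2 ↥(zpowers y ⊔ D) := by
    refine IsPGroup.to_sup_of_normal_right' ?_ (F.T_two.to_le F.D_le) hyN
    rintro ⟨a, ha⟩
    obtain ⟨j, rfl⟩ := mem_zpowers_iff.1 ha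
    refine ⟨1, Subtype.ext ?_⟩
    change (y ^ j) ^ 2 ^ 1 = 1
    rw [pow_one, ← zpow_natCast, ← zpow_mul, mul_comm, zpow_mul, zpow_natCast, pow_two, hyy',
      one_zpow]
  have hPx : ∀ p ∈ zpowers y ⊔ D, x * p = p * x := by
    have h1 : zpowers y ⊔ D ≤ centralizer ({x} : Set G) := by
      rw [sup_le_iff]
      refine ⟨by rw [zpowers_le]; exact mem_centralizer_singleton_iff.2 hyx'.symm, fun e he => ?_⟩
      exact mem_centralizer_singleton_iff.2 (F.x_comm_D he).symm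
    intro p hp
    exact (mem_centralizer_singleton_iff.1 (h1 hp)).symm
  obtain ⟨l, hl, hlP⟩ := F.T_syl _ hP2 hPx
  have hlD : ∀ e ∈ D, l * e * l⁻¹ ∈ D := fun e he =>
    (F.mem_D _).2 ⟨hlP e (mem_sup_right he), F.K_norm l hl e (F.D_le_K he)⟩
  have hfT : l * y * l⁻¹ ∈ T := hlP y (mem_sup_left (mem_zpowers y))
  have hFld : F.Fld (l * y * l⁻¹) :=
    { mem := hfT
      sq := by rw [conj_mul_conj, hyy']; group
      ne := fun h1 => hne' ((F.o2_conj_ne hl hyx').1 h1)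
      cent := by
        intro e he
        obtain ⟨e', he', h1⟩ := conj_surj hlD e he
        rw [← h1, conj_mul_conj, conj_mul_conj, hkD e' he'] }
  refine hFld.false hd hg S hS (g := l * k * g) ?_
  rw [hy]; group

/-- **Steps (0) and (1)**: the conjugates of `x` in `T` other than `x` are of `PGL`-type. -/
theorem eq_of_conj [Finite G] (F : Frame x K T D d r c o1 o2) (hg : Good T d r c o1)
    (S : Sylow 2 G) (hS : (S : Subgroup G) = T) : ∀ y ∈ T, IsConj x y → o1 y = 1 → y = x := by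
  intro y hy hxy h1
  obtain ⟨g, rfl⟩ := isConj_iff.1 hxy
  have h2 := F.not_field hg S hS hy
  obtain ⟨e, he, h3 | h3⟩ := F.ker _ hy h1 h2
  · exact (F.not_inner hg S hS he (Or.inl h3)).elim
  · by_cases he1 : e = 1
    · rw [h3, he1, mul_one]
    · exact (F.not_inner hg S hS he (Or.inr ⟨h3, he1⟩)).elim

end Frame

end Cfsg.Agent.GH.L2QTwo
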