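import Mathlib

/-!
# GH-L2, `|Q| = 2`: the frame

`Frame x K T D d r c o1 o2`: `x` an involution, `K` a normal subgroup of `C(x)` with `K/O(K) = L₂(q)`
(`q` odd, `q ≥ 5`) or `A₇`, `T` a Sylow 2-subgroup of `C(x)`, `D = T ∩ K = ⟨r, c⟩` dihedral of order `2^d`
(a four-group if `d = 2`), `C_T(K/O(K)) = ⟨x⟩`, `o1`, `o2` the `PGL`- and the field part of the outer
automorphism of `K/O(K)` induced by an element of `C(x)` (`A₇`: `o1 = 1`, `o2` = sign).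

Same conventions as `Cfsg.Agent.GH.L2One.Frame` (there `|Q| ≥ 4`).
-/

set_option autoImplicit false

open Subgroup

namespace Cfsg.Agent.GH.L2QTwo

variable {G A : Type*} [Group G] [Group A]

/-- The frame. -/
structure Frame (x : G) (K T D : Subgroup G) (d : ℕ) (r c : G) (o1 : G → ℤˣ) (o2 : G → A) :
    Prop where
  xx : x * x = 1
  x_ne : x ≠ 1
  K_comm : ∀ k ∈ K, x * k = k * x
  K_norm : ∀ g, x * g = g * x → ∀ k ∈ K, g * k * g⁻¹ ∈ K
  T_comm : ∀ t ∈ T, x * t = t * x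
  T_two : IsPGroup 2 T
  /-- `T` is a Sylow 2-subgroup of `C(x)` -/
  T_syl : ∀ P : Subgroup G, IsPGroup 2 P → (∀ p ∈ P, x * p = p * x) →
    ∃ g, x * g = g * x ∧ ∀ p ∈ P, g * p * g⁻¹ ∈ T
  x_mem : x ∈ T
  mem_D : ∀ g, g ∈ D ↔ g ∈ T ∧ g ∈ K
  x_not : x ∉ D
  d_ge : 2 ≤ d
  r_mem : r ∈ D
  c_mem : c ∈ D
  cc : c * c = 1
  crc : c * r * c⁻¹ = r⁻¹
  or_eq : orderOf r = 2 ^ (d - 1)
  c_not : ∀ k : ℤ, c ≠ r ^ k
  D_form : ∀ g ∈ D, ∃ k : ℤ, g = r ^ k ∨ g = r ^ k * c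
  /-- all involutions of `D` are `K`-conjugate -/
  inv_conj : ∀ a ∈ D, ∀ b ∈ D, a * a = 1 → a ≠ 1 → b * b = 1 → b ≠ 1 → ∃ k ∈ K, k * a * k⁻¹ = b
  o1_mul : ∀ g h, x * g = g * x → x * h = h * x → o1 (g * h) = o1 g * o1 h
  o2_mul : ∀ g h, x * g = g * x → x * h = h * x → o2 (g * h) = o2 g * o2 h
  /-- at most one involution in the image of `o2` -/
  A_inv : ∀ a b : A, a * a = 1 → a ≠ 1 → b * b = 1 → b ≠ 1 → a = b
  o1_x : o1 x = 1
  o2_x : o2 x = 1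
  o1_K : ∀ k ∈ K, o1 k = 1
  o2_K : ∀ k ∈ K, o2 k = 1
  /-- inner automorphisms: `⟨x⟩ × D` -/
  ker : ∀ t ∈ T, o1 t = 1 → o2 t = 1 → ∃ e ∈ D, t = e ∨ t = x * e
  /-- `o1 t ≠ 1` iff `t` swaps the two classes of reflections of `D` -/
  swap : 3 ≤ d → ∀ t ∈ T, ∀ k : ℤ, t * c * t⁻¹ = r ^ k * c → (o1 t = 1 ↔ Even k)
  small : d = 2 → ∀ t ∈ T, o2 t = 1 ∧ (o1 t = 1 ↔ ∀ e ∈ D, t * e = e * t)
  /-- no field automorphism of order 4 centralises `D` -/
  sq_mem : ∀ g ∈ T, (∀ e ∈ D, g * e = e * g) → g * g = 1 ∨ g * g = x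
  no_mixed : ∀ y ∈ T, y * y = 1 → o1 y = 1 ∨ o2 y = 1
  /-- a field involution centralises a Sylow 2-subgroup of `K` -/
  field_cent : ∀ y ∈ T, y * y = 1 → o2 y ≠ 1 → ∃ k ∈ K, ∀ e ∈ D, k * y * k⁻¹ * e = e * (k * y * k⁻¹)
  /-- if the field involution `y` centralises `D`, then some four-group `⟨z, v⟩` of `D`, `z` the central involution
  of `D`, lies in a subgroup `A₄` of `C(⟨x, y⟩)` [`C_{K'}(y) = PGL₂(q₀)`; `A₇`: `S₅` and `S₄`] -/
  field_rho : ∀ y ∈ T, y * y = 1 → o2 y ≠ 1 → (∀ e ∈ D, y * e = e * y) →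
    ∃ v ∈ D, v * v = 1 ∧ v ≠ 1 ∧ v ≠ r ^ 2 ^ (d - 2) ∧ ∃ ρ, x * ρ = ρ * x ∧ y * ρ = ρ * y ∧
      ρ * r ^ 2 ^ (d - 2) * ρ⁻¹ = v ∧ ρ * v * ρ⁻¹ = r ^ 2 ^ (d - 2) * v
  /-- if some involution of `T` is of `PGL`-type, then the field part of `T` splits
  [`T/⟨x⟩ = D* : ⟨field automorphism⟩`, `D*` a Sylow 2-subgroup of `PGL₂(q)`] -/
  field_lift : ∀ j ∈ T, j * j = 1 → o1 j ≠ 1 → ∃ t ∈ T, o1 t = 1 ∧ (∀ u ∈ T, ∃ n : ℕ, o2 u = o2 t ^ n) ∧
    ∀ n : ℕ, o2 t ^ n = 1 → t ^ n = 1 ∨ t ^ n = x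

namespace Frame

variable {x : G} {K T D : Subgroup G} {d : ℕ} {r c : G} {o1 : G → ℤˣ} {o2 : G → A}

theorem D_le (F : Frame x K T D d r c o1 o2) : D ≤ T := fun g hg => ((F.mem_D g).1 hg).1

theorem D_le_K (F : Frame x K T D d r c o1 o2) : D ≤ K := fun g hg => ((F.mem_D g).1 hg).2

theorem r_T (F : Frame x K T D d r c o1 o2) : r ∈ T := F.D_le F.r_mem

theorem c_T (F : Frame x K T D d r c o1 o2) : c ∈ T := F.D_le F.c_mem

theorem x_inv (F : Frame x K T D d r c o1 o2) : x⁻¹ = x := inv_eq_of_mul_eq_one_right F.xx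

theorem c_inv (F : Frame x K T D d r c o1 o2) : c⁻¹ = c := inv_eq_of_mul_eq_one_right F.cc

theorem c_ne (F : Frame x K T D d r c o1 o2) : c ≠ 1 := fun h => F.c_not 0 (by rw [h, zpow_zero])

theorem D_norm (F : Frame x K T D d r c o1 o2) {t e : G} (ht : t ∈ T) (he : e ∈ D) :
    t * e * t⁻¹ ∈ D :=
  (F.mem_D _).2 ⟨T.mul_mem (T.mul_mem ht (F.D_le he)) (T.inv_mem ht),
    F.K_norm t (F.T_comm t ht) e (F.D_le_K he)⟩

theorem x_comm_D (F : Frame x K T D d r c o1 o2) {e : G} (he : e ∈ D) : x * e = e * x :=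
  F.K_comm e (F.D_le_K he)

/-- uniqueness of the decomposition -/
theorem xD_ne (F : Frame x K T D d r c o1 o2) {e e' : G} (he : e ∈ D) (he' : e' ∈ D) :
    x * e ≠ e' := by
  intro h
  apply F.x_not
  have : x = e' * e⁻¹ := by rw [← h]; group
  rw [this]
  exact D.mul_mem he' (D.inv_mem he)

theorem o1_one (F : Frame x K T D d r c o1 o2) : o1 1 = 1 := F.o1_K 1 K.one_mem

theorem o2_one (F : Frame x K T D d r c o1 o2) : o2 1 = 1 := F.o2_K 1 K.one_mem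

theorem o1_D (F : Frame x K T D d r c o1 o2) {e : G} (he : e ∈ D) : o1 e = 1 :=
  F.o1_K e (F.D_le_K he)

theorem o2_D (F : Frame x K T D d r c o1 o2) {e : G} (he : e ∈ D) : o2 e = 1 :=
  F.o2_K e (F.D_le_K he)

theorem o1_mul' (F : Frame x K T D d r c o1 o2) {a b : G} (ha : a ∈ T) (hb : b ∈ T) :
    o1 (a * b) = o1 a * o1 b := F.o1_mul a b (F.T_comm a ha) (F.T_comm b hb)

theorem o2_mul' (F : Frame x K T D d r c o1 o2) {a b : G} (ha : a ∈ T) (hb : b ∈ T) :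
    o2 (a * b) = o2 a * o2 b := F.o2_mul a b (F.T_comm a ha) (F.T_comm b hb)

theorem comm_inv (F : Frame x K T D d r c o1 o2) {g : G} (hg : x * g = g * x) :
    x * g⁻¹ = g⁻¹ * x := by
  have h : Commute x g := hg
  exact h.inv_right

theorem comm_mul (F : Frame x K T D d r c o1 o2) {g h : G} (hg : x * g = g * x)
    (hh : x * h = h * x) : x * (g * h) = g * h * x := by
  have h1 : Commute x g := hg
  have h2 : Commute x h := hh
  exact h1.mul_right h2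

theorem o1_inv' (F : Frame x K T D d r c o1 o2) {a : G} (ha : x * a = a * x) :
    o1 a⁻¹ = (o1 a)⁻¹ := by
  have h := F.o1_mul _ _ (F.comm_inv ha) ha
  rw [inv_mul_cancel, F.o1_one] at h
  exact eq_inv_of_mul_eq_one_left h.symm

theorem o2_inv' (F : Frame x K T D d r c o1 o2) {a : G} (ha : x * a = a * x) :
    o2 a⁻¹ = (o2 a)⁻¹ := by
  have h := F.o2_mul _ _ (F.comm_inv ha) ha
  rw [inv_mul_cancel, F.o2_one] at h
  exact eq_inv_of_mul_eq_one_left h.symm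

theorem o1_inv (F : Frame x K T D d r c o1 o2) {a : G} (ha : a ∈ T) : o1 a⁻¹ = (o1 a)⁻¹ :=
  F.o1_inv' (F.T_comm a ha)

theorem o2_inv (F : Frame x K T D d r c o1 o2) {a : G} (ha : a ∈ T) : o2 a⁻¹ = (o2 a)⁻¹ :=
  F.o2_inv' (F.T_comm a ha)

theorem units_sq (u : ℤˣ) : u * u = 1 := by
  rcases Int.units_eq_one_or u with h | h <;> rw [h] <;> rfl

theorem o1_sq (F : Frame x K T D d r c o1 o2) {a : G} (ha : a ∈ T) : o1 (a * a) = 1 := by
  rw [F.o1_mul' ha ha, units_sq]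

/-- the image in the outer automorphism group of an involution -/
theorem o2_invol (F : Frame x K T D d r c o1 o2) {a : G} (ha : a ∈ T) (haa : a * a = 1) :
    o2 a * o2 a = 1 := by rw [← F.o2_mul' ha ha, haa, F.o2_one]

theorem o1_conj (F : Frame x K T D d r c o1 o2) {a b : G} (ha : x * a = a * x)
    (hb : x * b = b * x) : o1 (a * b * a⁻¹) = o1 b := by
  rw [F.o1_mul _ _ (F.comm_mul ha hb) (F.comm_inv ha), F.o1_mul _ _ ha hb, F.o1_inv' ha,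
    mul_comm (o1 a), mul_inv_cancel_right]

theorem o2_conj_ne (F : Frame x K T D d r c o1 o2) {a b : G} (ha : x * a = a * x)
    (hb : x * b = b * x) : o2 (a * b * a⁻¹) = 1 ↔ o2 b = 1 := by
  rw [F.o2_mul _ _ (F.comm_mul ha hb) (F.comm_inv ha), F.o2_mul _ _ ha hb, F.o2_inv' ha,
    mul_inv_eq_one, mul_eq_left]

/-! ### the dihedral group `D` -/

theorem crk (F : Frame x K T D d r c o1 o2) (k : ℤ) : c * r ^ k * c⁻¹ = r ^ (-k) := by
  have h : c * r ^ k * c⁻¹ = (c * r * c⁻¹) ^ k := (conj_zpow).symm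
  rw [h, F.crc, inv_zpow, zpow_neg]

theorem c_rk (F : Frame x K T D d r c o1 o2) (k : ℤ) : c * r ^ k = r ^ (-k) * c := by
  rw [← F.crk k, inv_mul_cancel_right]

/-- reflections are involutions -/
theorem refl_sq (F : Frame x K T D d r c o1 o2) (k : ℤ) : r ^ k * c * (r ^ k * c) = 1 := by
  calc r ^ k * c * (r ^ k * c) = r ^ k * (c * r ^ k) * c := by group
    _ = r ^ k * (r ^ (-k) * c) * c := by rw [F.c_rk]
    _ = (r ^ k * r ^ (-k)) * (c * c) := by group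
    _ = 1 := by rw [F.cc, ← zpow_add, add_neg_cancel, zpow_zero, one_mul]

theorem refl_ne (F : Frame x K T D d r c o1 o2) (k l : ℤ) : r ^ k * c ≠ r ^ l := by
  intro h
  apply F.c_not (-k + l)
  rw [zpow_add, ← h, ← mul_assoc, ← zpow_add, neg_add_cancel, zpow_zero, one_mul]

theorem refl_ne_one (F : Frame x K T D d r c o1 o2) (k : ℤ) : r ^ k * c ≠ 1 := by
  have := F.refl_ne k 0
  rwa [zpow_zero] at this

/-- `r ^ k = 1` iff `2^(d-1)` divides `k` -/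
theorem rk_one (F : Frame x K T D d r c o1 o2) (k : ℤ) : r ^ k = 1 ↔ (2 : ℤ) ^ (d - 1) ∣ k := by
  rw [← orderOf_dvd_iff_zpow_eq_one, F.or_eq]
  norm_num

theorem rk_eq (F : Frame x K T D d r c o1 o2) (k l : ℤ) :
    r ^ k = r ^ l ↔ (2 : ℤ) ^ (d - 1) ∣ k - l := by
  rw [← F.rk_one, zpow_sub, mul_inv_eq_one]

theorem r_rk (F : Frame x K T D d r c o1 o2) (k : ℤ) : r ^ k ∈ D := D.zpow_mem F.r_mem k

theorem refl_mem (F : Frame x K T D d r c o1 o2) (k : ℤ) : r ^ k * c ∈ D :=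
  D.mul_mem (F.r_rk k) F.c_mem

/-- the central involution of `D` -/
theorem z_sq (F : Frame x K T D d r c o1 o2) : r ^ 2 ^ (d - 2) * r ^ 2 ^ (d - 2) = 1 := by
  rw [← pow_add, ← orderOf_dvd_iff_pow_eq_one, F.or_eq]
  have h : d - 1 = (d - 2) + 1 := by have := F.d_ge; omega
  rw [h, pow_succ, mul_two]

theorem z_ne (F : Frame x K T D d r c o1 o2) : r ^ 2 ^ (d - 2) ≠ 1 := by
  intro h
  rw [← orderOf_dvd_iff_pow_eq_one, F.or_eq] at h
  have h1 : 2 ^ (d - 1) ≤ 2 ^ (d - 2) := Nat.le_of_dvd (by positivity) h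
  have h2 : d - 1 = (d - 2) + 1 := by have := F.d_ge; omega
  rw [h2, pow_succ] at h1
  have h9 : 0 < 2 ^ (d - 2) := by positivity
  omega

theorem z_mem (F : Frame x K T D d r c o1 o2) : r ^ 2 ^ (d - 2) ∈ D := D.pow_mem F.r_mem _

/-- a rotation of square one is `1` or `z` -/
theorem rot_sq (F : Frame x K T D d r c o1 o2) {k : ℤ} (h : r ^ k * r ^ k = 1) :
    r ^ k = 1 ∨ r ^ k = r ^ 2 ^ (d - 2) := by
  rw [← zpow_add, F.rk_one] at h
  have h2 : d - 1 = (d - 2) + 1 := by have := F.d_ge; omega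
  obtain ⟨m, hm⟩ := h
  have hk : k = 2 ^ (d - 2) * m := by
    rw [h2, pow_succ] at hm
    linarith
  have e : (r ^ 2 ^ (d - 2) : G) = r ^ ((2 : ℤ) ^ (d - 2)) := by
    rw [← zpow_natCast]; norm_num
  rcases Int.even_or_odd m with ⟨a, ha⟩ | ⟨a, ha⟩
  · left
    rw [F.rk_one, h2, pow_succ]
    exact ⟨a, by rw [hk, ha]; ring⟩
  · right
    rw [e, F.rk_eq, h2, pow_succ]
    exact ⟨a, by rw [hk, ha]; ring⟩

theorem zz (F : Frame x K T D d r c o1 o2) : (r ^ 2 ^ (d - 2) : G) = r ^ ((2 : ℤ) ^ (d - 2)) := by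
  rw [← zpow_natCast]; norm_num

/-- `z` is central in `D` -/
theorem z_comm (F : Frame x K T D d r c o1 o2) {e : G} (he : e ∈ D) :
    r ^ 2 ^ (d - 2) * e = e * r ^ 2 ^ (d - 2) := by
  have hc : r ^ 2 ^ (d - 2) * c = c * r ^ 2 ^ (d - 2) := by
    have h1 : (r ^ 2 ^ (d - 2))⁻¹ = r ^ 2 ^ (d - 2) := inv_eq_of_mul_eq_one_right F.z_sq
    rw [F.zz, F.c_rk, zpow_neg, ← F.zz, h1]
  have hr : ∀ k : ℤ, r ^ 2 ^ (d - 2) * r ^ k = r ^ k * r ^ 2 ^ (d - 2) := by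
    intro k
    rw [F.zz, ← zpow_add, ← zpow_add, add_comm]
  obtain ⟨k, hk | hk⟩ := F.D_form e he
  · rw [hk, hr]
  · rw [hk, ← mul_assoc, hr, mul_assoc, hc, mul_assoc]

/-- the involutions of `D` -/
theorem inv_form (F : Frame x K T D d r c o1 o2) {e : G} (he : e ∈ D) (h : e * e = 1) :
    e = 1 ∨ e = r ^ 2 ^ (d - 2) ∨ ∃ k : ℤ, e = r ^ k * c := by
  obtain ⟨k, hk | hk⟩ := F.D_form e he
  · rw [hk] at h ⊢
    rcases F.rot_sq h with h | h
    · exact Or.inl h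
    · exact Or.inr (Or.inl h)
  · exact Or.inr (Or.inr ⟨k, hk⟩)

/-- every element of `T` maps `r` to an odd power (`d ≥ 3`) -/
theorem conj_r (F : Frame x K T D d r c o1 o2) (hd : 3 ≤ d) {t : G} (ht : t ∈ T) :
    ∃ l : ℤ, Odd l ∧ t * r * t⁻¹ = r ^ l := by
  obtain ⟨l, hl⟩ := F.D_form _ (F.D_norm ht F.r_mem)
  have hl' : t * r * t⁻¹ = r ^ l := by
    rcases hl with h | h
    · exact h
    · exfalso
      have h1 : t * r ^ (2 : ℤ) * t⁻¹ = 1 := by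
        have e2 : t * r ^ (2 : ℤ) * t⁻¹ = (t * r * t⁻¹) * (t * r * t⁻¹) := by
          rw [zpow_two]; group
        rw [e2, h, F.refl_sq]
      have h2 : r ^ (2 : ℤ) = 1 := by
        have : r ^ (2 : ℤ) = t⁻¹ * (t * r ^ (2 : ℤ) * t⁻¹) * t := by group
        rw [this, h1]; group
      rw [F.rk_one] at h2
      have h3 : (2 : ℤ) ^ 2 ∣ 2 ^ (d - 1) := pow_dvd_pow 2 (by omega)
      have h4 := h3.trans h2
      norm_num at h4
  refine ⟨l, ?_, hl'⟩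
  by_contra heven
  rw [Int.not_odd_iff_even] at heven
  obtain ⟨j, hj⟩ := heven
  have hinj : ∀ m : ℤ, t * r ^ m * t⁻¹ = r ^ (l * m) := by
    intro m
    rw [← conj_zpow, hl', zpow_mul]
  have h5 : t * r ^ ((2 : ℤ) ^ (d - 2)) * t⁻¹ = 1 := by
    rw [hinj, F.rk_one, hj]
    refine ⟨j, ?_⟩
    have : d - 1 = (d - 2) + 1 := by omega
    rw [this, pow_succ]; ring
  apply F.z_ne
  rw [F.zz]
  have : r ^ ((2 : ℤ) ^ (d - 2)) = t⁻¹ * (t * r ^ ((2 : ℤ) ^ (d - 2)) * t⁻¹) * t := by group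
  rw [this, h5]; group

theorem conj_rk (F : Frame x K T D d r c o1 o2) {t : G} {l : ℤ} (h : t * r * t⁻¹ = r ^ l) (k : ℤ) :
    t * r ^ k * t⁻¹ = r ^ (l * k) := by
  rw [← conj_zpow, h, zpow_mul]

/-- every element of `T` maps `c` to a reflection (`d ≥ 3`) -/
theorem conj_c (F : Frame x K T D d r c o1 o2) (hd : 3 ≤ d) {t : G} (ht : t ∈ T) :
    ∃ k : ℤ, t * c * t⁻¹ = r ^ k * c := by
  obtain ⟨l, hodd, hl⟩ := F.conj_r hd ht
  obtain ⟨k, hk⟩ := F.D_form _ (F.D_norm ht F.c_mem)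
  rcases hk with h | h
  · exfalso
    have hinj := F.conj_rk hl
    have hcop : IsCoprime l ((2 : ℤ) ^ (d - 1)) := by
      apply IsCoprime.pow_right
      obtain ⟨j, hj⟩ := hodd
      exact ⟨1, -j, by rw [hj]; ring⟩
    obtain ⟨a, b, hab⟩ := hcop
    have h10 : t * r ^ (a * k) * t⁻¹ = r ^ k := by
      rw [hinj]
      have : l * (a * k) = k + (2 : ℤ) ^ (d - 1) * (-(b * k)) := by
        linear_combination k * hab
      rw [this, zpow_add, (F.rk_one _).2 (Dvd.intro _ rfl), mul_one]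
    rw [← h] at h10
    have h11 : r ^ (a * k) = c := by
      have := congrArg (fun g => t⁻¹ * g * t) h10
      simp only [mul_assoc, inv_mul_cancel_left, inv_mul_cancel, mul_one] at this
      exact this
    exact F.c_not _ h11.symm
  · exact ⟨k, h⟩

end Frame

end Cfsg.Agent.GH.L2QTwo
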