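import Cfsg.Agent.GH.L2Good
import Cfsg.Agent.GH.L2AutRho
import Cfsg.Agent.GH.L2Conj
import Cfsg.Agent.GH.L2One.Bridge
import Cfsg.Agent.GH.L2QTwo.Frame

/-!
# GH-L2, `|Q| = 2`: the instance of `L2QTwo.Frame`

`exists_frame`: `L2Frame.Frame (C x) K T`, `Good (STop K)`, `T ⊓ fix K = {1, x}` give `L2QTwo.Frame x K T (T ⊓ K)`.
-/

set_option autoImplicit false
set_option linter.unusedSectionVars false

open Cfsg Subgroup
open Cfsg.Agent.SignalizersComponents
open Cfsg.Agent.Intrinsic.Basic Cfsg.Agent.GH.Defs Cfsg.Agent.GH.Comp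
open Cfsg.Agent.Walter.SylowIn Cfsg.Agent.GH.L2Frame
open Cfsg.Agent.GH.L2One Cfsg.Agent.GH.L2AutPlus
open Cfsg.Agent.GH.L2Aut (Four)

namespace Cfsg.Agent.GH.L2QTwo

variable {G : Type*} [Group G] [Finite G]

/-- **The frame**. -/
theorem frame_of {A : Type*} [Group A] {x : G} {K T : Subgroup G} (hx : x * x = 1)
    (hx1 : x ≠ 1) (F : L2Frame.Frame (centralizer ({x} : Set G)) K T)
    (hn : centralizer ({x} : Set G) ≤ normalizer (K : Set G)) {d : ℕ} {r c : STop K}
    {p1 : MulAut (STop K) →* ℤˣ} {p2 : MulAut (STop K) →* A} {S : Sylow 2 (STop K)}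
    (hS : (S : Subgroup (STop K)) = F.dTop.range)
    (E : AutData (S : Subgroup (STop K)) d r c p1 p2) (R : AutPlus p1 p2)
    (hQ : ∀ q ∈ T ⊓ fix K, q = 1 ∨ q = x) :
    ∃ r' c' : ↥(T ⊓ K), F.dTop r' = r ∧ F.dTop c' = c ∧
      L2QTwo.Frame x K T (T ⊓ K) d (r' : G) (c' : G) (outFun K p1) (outFun K p2) := by
  have : Fact (Nat.Prime 2) := ⟨Nat.prime_two⟩
  have hES := E
  rw [hS] at E
  obtain ⟨r', hr'⟩ := E.r_mem
  obtain ⟨c', hc'⟩ := E.c_mem
  have hinj := F.dTop_injective
  have hN : ∀ {g : G}, x * g = g * x → g ∈ normalizer (K : Set G) := fun h => hn (mem_cent.2 h)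
  have hTx : ∀ t ∈ T, x * t = t * x := fun t ht => mem_cent.1 (F.le ht)
  have hKx : ∀ k ∈ K, x * k = k * x := fun k hk => mem_cent.1 (F.comp.le hk)
  have hsyl : ∀ P : Subgroup G, IsPGroup 2 P → (∀ p ∈ P, x * p = p * x) →
      ∃ g, x * g = g * x ∧ ∀ p ∈ P, g * p * g⁻¹ ∈ T := by
    intro P hP hPx
    obtain ⟨g, hg, h1⟩ := F.syl.conj_le (fun p hp => mem_cent.2 (hPx p hp)) hP
    exact ⟨g, mem_cent.1 hg, h1⟩
  have hxT : x ∈ T := by
    have h1 : IsPGroup 2 (zpowers x) := by
      rintro ⟨y, hy⟩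
      obtain ⟨k, rfl⟩ := mem_zpowers_iff.1 hy
      refine ⟨1, Subtype.ext ?_⟩
      change (x ^ k) ^ 2 ^ 1 = 1
      rw [pow_one, ← zpow_natCast, ← zpow_mul, mul_comm, zpow_mul, zpow_natCast, _root_.sq, hx, one_zpow]
    obtain ⟨g, hg, h2⟩ := hsyl (zpowers x) h1 (by
      rintro p hp
      obtain ⟨k, rfl⟩ := mem_zpowers_iff.1 hp
      exact ((Commute.refl x).zpow_right k).eq)
    have h3 := h2 x (mem_zpowers x)
    rwa [← hg, mul_inv_cancel_right] at h3
  have hxf : x ∈ fix K := by
    rw [mem_fix]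
    refine ⟨hN rfl, fun y hy => ?_⟩
    rw [commutatorElement_eq_one_iff_mul_comm.2 (hKx y hy)]
    exact one_mem _
  have hmap : ∀ {t : G} (ht : t ∈ T), ∀ s ∈ F.dTop.range, F.rho ⟨t, ht⟩ s ∈ F.dTop.range := by
    rintro t ht _ ⟨s, rfl⟩
    rw [F.rho_dTop]
    exact ⟨_, rfl⟩
  have hpow : ∀ {t : G} (ht : t ∈ T), ∃ n : ℕ, F.rho ⟨t, ht⟩ ^ 2 ^ n = 1 := by
    intro t ht
    obtain ⟨n, hn'⟩ := F.exists_pow ht
    refine ⟨n, ?_⟩
    rw [← map_pow]
    have h1 : (⟨t, ht⟩ : T) ^ 2 ^ n = 1 := Subtype.ext hn'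
    rw [h1, map_one]
  have hfix : ∀ {t : G} (ht : t ∈ T), (∀ s ∈ F.dTop.range, F.rho ⟨t, ht⟩ s = s) ↔
      ∀ e ∈ T ⊓ K, t * e = e * t := by
    intro t ht
    constructor
    · intro h e he
      exact (F.comm_iff ⟨t, ht⟩ ⟨e, he⟩).2 (h _ ⟨_, rfl⟩)
    · rintro h _ ⟨e, rfl⟩
      exact (F.comm_iff ⟨t, ht⟩ e).1 (h e e.2)
  have hsq : ∀ {t : G} (ht : t ∈ T), t * t = 1 → F.rho ⟨t, ht⟩ * F.rho ⟨t, ht⟩ = 1 := by
    intro t ht h
    rw [← map_mul]
    have h1 : (⟨t, ht⟩ : T) * ⟨t, ht⟩ = 1 := Subtype.ext h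
    rw [h1, map_one]
  have hrhofix : ∀ {t : G} (ht : t ∈ T), F.rho ⟨t, ht⟩ = 1 ↔ t ∈ fix K :=
    fun ht => F.rho_eq_one_iff ⟨_, ht⟩
  refine ⟨r', c', hr', hc', ?_⟩
  exact
    { xx := hx
      x_ne := hx1
      K_comm := hKx
      K_norm := fun g hg k hk => L2Frame.conj_mem (hN hg) hk
      T_comm := hTx
      T_two := F.two
      T_syl := hsyl
      mem_D := fun g => mem_inf
      x_mem := hxT
      x_not := fun h => hx1 (F.eq_one h hxf)
      d_ge := E.d_ge
      r_mem := r'.2
      c_mem := c'.2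
      cc := by
        have h1 : c' * c' = 1 := hinj (by rw [map_mul, hc', E.cc, map_one])
        exact congrArg Subtype.val h1
      crc := by
        have h1 : c' * r' * c'⁻¹ = r'⁻¹ := hinj (by
          rw [map_mul, map_mul, map_inv, map_inv, hc', hr', E.crc])
        exact congrArg Subtype.val h1
      or_eq := by
        rw [Subgroup.orderOf_coe, ← orderOf_injective F.dTop hinj, hr', E.or_eq]
      c_not := by
        intro k h
        apply E.c_not k
        have h1 : c' = r' ^ k := Subtype.ext h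
        rw [← hc', h1, map_zpow, hr']
      D_form := by
        intro g hg
        obtain ⟨k, hk | hk⟩ := E.S_form (F.dTop ⟨g, hg⟩) ⟨_, rfl⟩
        · refine ⟨k, Or.inl ?_⟩
          have h1 : (⟨g, hg⟩ : ↥(T ⊓ K)) = r' ^ k := hinj (by rw [hk, map_zpow, hr'])
          exact congrArg Subtype.val h1
        · refine ⟨k, Or.inr ?_⟩
          have h1 : (⟨g, hg⟩ : ↥(T ⊓ K)) = r' ^ k * c' := hinj (by
            rw [hk, map_mul, map_zpow, hr', hc'])
          exact congrArg Subtype.val h1
      inv_conj := by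
        intro a ha b hb haa ha1 hbb hb1
        have haa' : (⟨a, ha⟩ : ↥(T ⊓ K)) * ⟨a, ha⟩ = 1 := Subtype.ext haa
        have hbb' : (⟨b, hb⟩ : ↥(T ⊓ K)) * ⟨b, hb⟩ = 1 := Subtype.ext hbb
        obtain ⟨l, hl⟩ := E.inv_conj (F.dTop ⟨a, ha⟩) (F.dTop ⟨b, hb⟩)
          (by rw [← map_mul, haa', map_one])
          (fun h => ha1 (congrArg Subtype.val (hinj (h.trans (map_one _).symm))))
          (by rw [← map_mul, hbb', map_one])
          (fun h => hb1 (congrArg Subtype.val (hinj (h.trans (map_one _).symm))))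
        obtain ⟨k, rfl⟩ := topMap_surjective K l
        have hmem : (k : G) * a * (k : G)⁻¹ * b ∈ K :=
          mul_mem (mul_mem (mul_mem k.2 ha.2) (inv_mem k.2)) hb.2
        obtain ⟨t, ht, h1⟩ := exists_conj_of_ker (K := K) F.odd (u := (k : G) * a * (k : G)⁻¹)
          (v := b) (by
            calc (k : G) * a * (k : G)⁻¹ * ((k : G) * a * (k : G)⁻¹) = k * (a * a) * (k : G)⁻¹ := by
                  group
              _ = 1 := by rw [haa, mul_one, mul_inv_cancel]) hbb hmem (by
            rw [MonoidHom.mem_ker]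
            have e1 : (⟨(k : G) * a * (k : G)⁻¹ * b, hmem⟩ : K) =
                k * ⟨a, ha.2⟩ * k⁻¹ * ⟨b, hb.2⟩ := rfl
            have e2 : topMap K k * topMap K ⟨a, ha.2⟩ * (topMap K k)⁻¹ = topMap K ⟨b, hb.2⟩ := hl
            have e3 : (⟨b, hb.2⟩ : K) * ⟨b, hb.2⟩ = 1 := Subtype.ext hbb
            rw [e1, map_mul, map_mul, map_mul, map_inv, e2, ← map_mul, e3, map_one])
        refine ⟨t⁻¹ * k, mul_mem (inv_mem ht) k.2, ?_⟩
        calc t⁻¹ * k * a * (t⁻¹ * k)⁻¹ = t⁻¹ * (k * a * (k : G)⁻¹) * t := by group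
          _ = t⁻¹ * (t * b * t⁻¹) * t := by rw [h1]
          _ = b := by group
      o1_mul := fun g h hg hh => outFun_mul p1 (hN hg) (hN hh)
      o2_mul := fun g h hg hh => outFun_mul p2 (hN hg) (hN hh)
      A_inv := E.A_inv
      o1_x := by rw [outFun_rho F p1 hxT, (hrhofix hxT).2 hxf, map_one]
      o2_x := by rw [outFun_rho F p2 hxT, (hrhofix hxT).2 hxf, map_one]
      o1_K := fun k hk => by
        rw [outFun_of_mem p1 (le_normalizer hk), act_of_mem ⟨k, hk⟩]
        exact E.inn1 _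
      o2_K := fun k hk => by
        rw [outFun_of_mem p2 (le_normalizer hk), act_of_mem ⟨k, hk⟩]
        exact E.inn2 _
      ker := by
        intro t ht h1 h2
        rw [outFun_rho F p1 ht] at h1
        rw [outFun_rho F p2 ht] at h2
        obtain ⟨l, hl⟩ := E.ker _ h1 h2
        obtain ⟨y, hy, a, h3, -⟩ := F.exists_mul hl
        rcases hQ y hy with h4 | h4
        · exact ⟨a, a.2, Or.inl (by rw [h4, one_mul] at h3; exact h3)⟩
        · exact ⟨a, a.2, Or.inr (by rw [h4] at h3; exact h3)⟩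
      swap := by
        intro hd t ht k hk
        rw [outFun_rho F p1 ht]
        apply E.swap hd _ (hmap ht) k
        rw [← hc', F.rho_dTop, ← hr', ← map_zpow, ← map_mul]
        congr 1
        exact Subtype.ext hk
      small := by
        intro hd t ht
        obtain ⟨h1, h2⟩ := E.small hd _ (hpow ht) (hmap ht)
        rw [outFun_rho F p1 ht, outFun_rho F p2 ht, ← hfix ht]
        exact ⟨h1, h2⟩
      sq_mem := by
        intro g hg h
        have h1 := E.sq _ (hpow hg) ((hfix hg).2 h)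
        rw [← map_mul] at h1
        exact hQ _ ⟨mul_mem hg hg, (hrhofix (mul_mem hg hg)).1 h1⟩
      no_mixed := by
        intro y hy h
        rw [outFun_rho F p1 hy, outFun_rho F p2 hy]
        exact E.no_mixed _ (hsq hy h)
      field_cent := by
        intro y hy h h2
        rw [outFun_rho F p2 hy] at h2
        obtain ⟨l, hl⟩ := E.field_cent _ (hsq hy h) h2
        refine exists_conj_comm F hy
          (S' := F.dTop.range.map (MulAut.conj l⁻¹).toMonoidHom)
          (card_map_of_injective (MulAut.conj l⁻¹).injective) ?_ ?_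
        · obtain ⟨S, hS⟩ := F.exists_sylow
          rw [← hS]
          exact S.2.map _
        · rintro _ ⟨s, hs, rfl⟩
          have h3 := hl s hs
          rw [← map_inv, MulAut.mul_apply, MulAut.mul_apply] at h3
          have h4 := congrArg (MulAut.conj l⁻¹) h3
          rw [map_inv MulAut.conj l, MulAut.inv_apply_self, ← map_inv MulAut.conj l] at h4
          exact h4
      field_rho := by
        intro y hy h h2 h3
        rw [outFun_rho F p2 hy] at h2
        have hyN : y ∈ normalizer (K : Set G) := F.norm hy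
        obtain ⟨v, hvS, l, hvv, hv1, hvz, hl, h4, h5⟩ := L2AutPlus.field_rho hES R (hsq hy h) h2
          (by rw [hS]; exact (hfix hy).2 h3)
        rw [hS] at hvS
        obtain ⟨v', rfl⟩ := hvS
        obtain ⟨z', hz'⟩ : ∃ z' : ↥(T ⊓ K), z' = r' ^ 2 ^ (d - 2) := ⟨_, rfl⟩
        have hzt : F.dTop z' = r ^ (2 ^ (d - 2) : ℤ) := by
          rw [hz', map_pow, hr', ← zpow_natCast]
          push_cast
          rfl
        have hzG : (z' : G) = (r' : G) ^ 2 ^ (d - 2) := by rw [hz']; rfl
        rw [← hzt] at hvz h4 h5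
        rw [← hzG]
        have hD := L2AutPlus.dih E
        have hzz : z' * z' = 1 := hinj (by rw [map_mul, hzt, hD.z_sq, map_one])
        have hz1 : z' ≠ 1 := fun h6 => hD.z_ne (by rw [← hzt, h6, map_one])
        have hvv' : v' * v' = 1 := hinj (by rw [map_mul, hvv, map_one])
        have hv1' : v' ≠ 1 := fun h6 => hv1 (by rw [h6, map_one])
        have hvz' : z' ≠ v' := fun h6 => hvz (by rw [h6])
        have hzv : z' * v' = v' * z' := hinj (by
          rw [map_mul, map_mul, hzt]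
          exact hD.z_comm ⟨v', rfl⟩)
        let ι : ↥(T ⊓ K) →* K := inclusion inf_le_right
        have hι : Function.Injective ι := inclusion_injective inf_le_right
        have hF : Four (ι z') (ι v') := by
          refine ⟨by rw [← map_mul, hzz, map_one], by rw [← map_mul, hvv', map_one],
            fun h6 => hz1 (hι (by rw [h6, map_one])), fun h6 => hv1' (hι (by rw [h6, map_one])),
            fun h6 => hvz' (hι h6), by rw [← map_mul, hzv, map_mul]⟩
        have hcz : ∀ e : ↥(T ⊓ K), (ι e : G) ∈ centralizer (zpowers y : Set G) := by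
          intro e
          rw [mem_centralizer_iff]
          intro p hp
          obtain ⟨k, rfl⟩ := mem_zpowers_iff.1 hp
          have h6 : Commute y (e : G) := h3 e e.2
          exact (h6.zpow_left k).eq
        have hmem : ∀ a ∈ hF.sub, (a : G) ∈ centralizer (zpowers y : Set G) := by
          rintro a (rfl | rfl | rfl | rfl)
          · exact one_mem _
          · exact hcz z'
          · exact hcz v'
          · exact mul_mem (hcz z') (hcz v')
        have hlfix : l ∈ fixedTop K (zpowers y) := by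
          rw [mem_fixedTop]
          rintro ⟨p, hp⟩ hpy
          obtain ⟨k, hk⟩ := mem_zpowers_iff.1 hpy
          have h1 : (⟨p, hp⟩ : normalizer (K : Set G)) = ⟨y, hyN⟩ ^ k := Subtype.ext hk.symm
          rw [h1, map_zpow]
          have h2 : act K ⟨y, hyN⟩ ∈ MulAction.stabilizer (MulAut (STop K)) l := hl
          exact (zpow_mem h2 k : _)
        have htop : ∀ e : ↥(T ⊓ K), topMap K (ι e) = F.dTop e := fun e => rfl
        have h6 : l * F.dTop (z' * v') * l⁻¹ = F.dTop z' := by
          have e1 : l * F.dTop (z' * v') * l⁻¹ = (l * F.dTop z' * l⁻¹) * (l * F.dTop v' * l⁻¹) := by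
            rw [map_mul]; group
          rw [e1, h4, h5, ← map_mul, ← map_mul]
          congr 1
          rw [hzv, ← mul_assoc, hvv', one_mul]
        obtain ⟨k, hkP, -, hk⟩ := exists_conj_fixed' F.odd (F.two.to_le (zpowers_le.2 hy))
          (zpowers_le.2 hyN) hF.sub_two hF.sub_two hmem hmem hlfix (by
            rintro a (ha | ha | ha | ha) <;> rw [ha]
            · exact ⟨1, Or.inl rfl, by rw [map_one]; group⟩
            · exact ⟨ι v', Or.inr (Or.inr (Or.inl rfl)), h4⟩
            · exact ⟨ι z' * ι v', Or.inr (Or.inr (Or.inr rfl)), by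
                rw [htop, h5, map_mul, htop, htop]⟩
            · exact ⟨ι z', Or.inr (Or.inl rfl), by rw [← map_mul, htop, h6, htop]⟩)
        have h7 := hk (ι z') (Or.inr (Or.inl rfl)) (ι v') (Or.inr (Or.inr (Or.inl rfl))) h4
        have h8 := hk (ι v') (Or.inr (Or.inr (Or.inl rfl))) (ι z' * ι v')
          (Or.inr (Or.inr (Or.inr rfl))) (by rw [htop, h5, map_mul, htop, htop])
        refine ⟨v', v'.2, congrArg Subtype.val hvv', fun h9 => hv1' (Subtype.ext h9),
          fun h9 => hvz' (Subtype.ext h9.symm), k, hKx k k.2, ?_, congrArg Subtype.val h7,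
          congrArg Subtype.val h8⟩
        exact mem_centralizer_iff.1 hkP y (mem_zpowers y)
      field_lift := by
        intro j hj hjj hj1
        rw [outFun_rho F p1 hj] at hj1
        have hj2 : p2 (F.rho ⟨j, hj⟩) = 1 := (E.no_mixed _ (hsq hj hjj)).resolve_left hj1
        -- the image of `T` under `p2` is cyclic
        let f : T →* A := p2.comp F.rho
        have hfin : Finite f.range := Finite.of_surjective f.rangeRestrict f.rangeRestrict_surjective
        obtain ⟨z, hz⟩ : ∃ z : f.range, ∀ w : f.range, w * w = 1 → w = 1 ∨ w = z := by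
          by_cases hex : ∃ z : f.range, z * z = 1 ∧ z ≠ 1
          · obtain ⟨z, hz, hz1⟩ := hex
            refine ⟨z, fun w hw => ?_⟩
            by_cases hw1 : w = 1
            · exact Or.inl hw1
            · right
              apply Subtype.ext
              exact E.A_inv w z (congrArg Subtype.val hw) (fun h => hw1 (Subtype.ext h))
                (congrArg Subtype.val hz) (fun h => hz1 (Subtype.ext h))
          · push Not at hex
            exact ⟨1, fun w hw => Or.inl (hex w hw)⟩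
        have hr2 : IsPGroup 2 (⊤ : Subgroup f.range) := by
          have h1 : IsPGroup 2 f.range := F.two.of_surjective f.rangeRestrict
            f.rangeRestrict_surjective
          exact h1.of_injective (⊤ : Subgroup f.range).subtype (subtype_injective _)
        obtain ⟨⟨_, ⟨t0, rfl⟩⟩, -, ht0⟩ := L2Aut.exists_zpowers (⊤ : Subgroup f.range) hr2 (by
            rintro ⟨_, ⟨a, rfl⟩⟩ - ⟨_, ⟨b, rfl⟩⟩ -
            exact Subtype.ext (R.comm _ _)) z (fun w _ hw => hz w hw)
        have hgen : ∀ u : T, ∃ n : ℕ, f u = f t0 ^ n := by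
          intro u
          have h1 := ht0 ⟨f u, ⟨u, rfl⟩⟩ (mem_top _)
          rw [← mem_powers_iff_mem_zpowers] at h1
          obtain ⟨n, hn⟩ := (Submonoid.mem_powers_iff _ _).1 h1
          exact ⟨n, (congrArg Subtype.val hn).symm⟩
        -- a generator `t1` with `p1 = 1`
        obtain ⟨t1, ht1, ht1'⟩ : ∃ t1 : T, f t1 = f t0 ∧ p1 (F.rho t1) = 1 := by
          by_cases h1 : p1 (F.rho t0) = 1
          · exact ⟨t0, rfl, h1⟩
          · refine ⟨t0 * ⟨j, hj⟩, ?_, ?_⟩
            · rw [map_mul]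
              change f t0 * p2 (F.rho ⟨j, hj⟩) = f t0
              rw [hj2, mul_one]
            · rw [map_mul, map_mul]
              exact units_mul h1 hj1
        obtain ⟨m, hm⟩ := hpow t1.2
        obtain ⟨s, hs, hst⟩ := L2AutPlus.field_lift (conj_injective F.comp) R hm
          (by rw [hS]; exact hmap t1.2) ht1'
        rw [hS] at hs
        obtain ⟨e, rfl⟩ := hs
        have heT : (e : G) * t1 ∈ T := mul_mem e.2.1 t1.2
        have hrho : F.rho ⟨e * t1, heT⟩ = MulAut.conj (F.dTop e) * F.rho t1 := by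
          rw [← F.rho_of_mem, ← map_mul]; rfl
        have hp2 : p2 (F.rho ⟨e * t1, heT⟩) = f t0 := by
          rw [hrho, map_mul, E.inn2, one_mul]
          exact ht1
        refine ⟨e * t1, heT, ?_, ?_, ?_⟩
        · rw [outFun_rho F p1 heT, hrho, map_mul, E.inn1, one_mul, ht1']
        · intro u hu
          obtain ⟨n, hn⟩ := hgen ⟨u, hu⟩
          refine ⟨n, ?_⟩
          rw [outFun_rho F p2 heT, outFun_rho F p2 hu, hp2, ← hn]
          rfl
        · intro n hn
          rw [outFun_rho F p2 heT, hp2] at hn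
          have h1 := hst n (by rw [← ht1] at hn; exact hn)
          change (MulAut.conj (F.dTop e) * F.rho t1) ^ n = 1 at h1
          rw [← hrho, ← map_pow] at h1
          have h2 : (⟨(e : G) * t1, heT⟩ : T) ^ n = ⟨(e * t1) ^ n, pow_mem heT n⟩ := rfl
          rw [h2] at h1
          exact hQ _ ⟨pow_mem heT n, (hrhofix (pow_mem heT n)).1 h1⟩ }

/-- **The frame** of a 2-component `K` of `C(x)` with `T ⊓ fix K = {1, x}`. -/
theorem exists_frame {x : G} {K T : Subgroup G} (hx : orderOf x = 2)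
    (F : L2Frame.Frame (centralizer ({x} : Set G)) K T)
    (hn : centralizer ({x} : Set G) ≤ normalizer (K : Set G)) (h : Good (STop K))
    (hQ : ∀ q ∈ T ⊓ fix K, q = 1 ∨ q = x) :
    ∃ (A : Type) (_ : Group A) (d : ℕ) (r c : G) (o1 : G → ℤˣ) (o2 : G → A),
      L2QTwo.Frame x K T (T ⊓ K) d r c o1 o2 := by
  obtain ⟨A, _, d, p1, p2, R, h2⟩ := h
  obtain ⟨S, hS⟩ := F.exists_sylow
  obtain ⟨r, c, E⟩ := h2 S
  have hxx : x * x = 1 := by rw [← sq, ← hx, pow_orderOf_eq_one]
  have hx1 : x ≠ 1 := by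
    rintro rfl
    rw [orderOf_one] at hx
    exact absurd hx (by norm_num)
  obtain ⟨r', c', -, -, h5⟩ := frame_of hxx hx1 F hn hS E R hQ
  exact ⟨A, inferInstance, d, r', c', _, _, h5⟩

/-- **The frame**, together with `mixed`: no element of `T` acting as an involution has both parts nontrivial. -/
theorem exists_frame' {x : G} {K T : Subgroup G} (hx : orderOf x = 2)
    (F : L2Frame.Frame (centralizer ({x} : Set G)) K T)
    (hn : centralizer ({x} : Set G) ≤ normalizer (K : Set G)) (h : Good (STop K))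
    (hQ : ∀ q ∈ T ⊓ fix K, q = 1 ∨ q = x) :
    ∃ (A : Type) (_ : Group A) (d : ℕ) (r c : G) (o1 : G → ℤˣ) (o2 : G → A),
      L2QTwo.Frame x K T (T ⊓ K) d r c o1 o2 ∧
      (∀ y ∈ T, y * y = x → o1 y = 1 ∨ o2 y = 1) ∧
      (∀ a ∈ T, ∀ b ∈ T, o2 a * o2 b = o2 b * o2 a) := by
  obtain ⟨A, _, d, p1, p2, R, h2⟩ := h
  obtain ⟨S, hS⟩ := F.exists_sylow
  obtain ⟨r, c, E⟩ := h2 S
  have hxx : x * x = 1 := by rw [← sq, ← hx, pow_orderOf_eq_one]
  have hx1 : x ≠ 1 := by
    rintro rfl
    rw [orderOf_one] at hx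
    exact absurd hx (by norm_num)
  obtain ⟨r', c', -, -, h5⟩ := frame_of hxx hx1 F hn hS E R hQ
  refine ⟨A, inferInstance, d, r', c', _, _, h5, ?_, ?_⟩
  · intro y hy hyy
    rw [outFun_rho F p1 hy, outFun_rho F p2 hy]
    apply E.no_mixed
    rw [← map_mul, F.rho_eq_one_iff]
    have e1 : ((⟨y, hy⟩ * ⟨y, hy⟩ : T) : G) = x := hyy
    rw [e1, mem_fix]
    exact ⟨hn (mem_centralizer_singleton_iff.2 rfl), fun k hk => by
      rw [commutatorElement_eq_one_iff_mul_comm.2 (h5.K_comm k hk)]
      exact one_mem _⟩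
  · intro a ha b hb
    rw [outFun_rho F p2 ha, outFun_rho F p2 hb]
    exact R.comm _ _

end Cfsg.Agent.GH.L2QTwo
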