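import Cfsg.Agent.GH.N2.FrameInst

/-!
# GH-L2, `|Q| = 2`: further facts on the frame

`FrameX`: `mixed`, `comm`, `field_comm`, `field_o1`, `four`;
`exists_frameX`: the frame of `exists_frame` satisfies them.
-/

set_option autoImplicit false
set_option linter.unusedSectionVars false

open Cfsg Subgroup
open Cfsg.Agent.SignalizersComponents
open Cfsg.Agent.Intrinsic.Basic Cfsg.Agent.GH.Defs Cfsg.Agent.GH.Comp
open Cfsg.Agent.Walter.SylowIn Cfsg.Agent.GH.L2Frame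
open Cfsg.Agent.GH.L2One Cfsg.Agent.GH.L2AutPlus
open Cfsg.Agent.GH.L2Aut (Four)

namespace Cfsg.Agent.GH.L2QTwo

variable {G : Type*} [Group G]

/-- Further facts on the frame. -/
structure FrameX {A : Type*} [Group A] (x : G) (K T D : Subgroup G) (o1 : G → ℤˣ) (o2 : G → A) :
    Prop where
  mixed : ∀ y ∈ T, (y * y = 1 ∨ y * y = x) → o1 y = 1 ∨ o2 y = 1
  comm : ∀ a ∈ T, ∀ b ∈ T, o2 a * o2 b = o2 b * o2 a
  field_comm : ∀ y ∈ T, o1 y = 1 → o2 y ≠ 1 → o2 y * o2 y = 1 →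
    ∃ b ∈ D, (∀ e ∈ D, b * y * e = e * (b * y)) ∧ (b * y * (b * y) = 1 ∨ b * y * (b * y) = x)
  field_o1 : ∀ y ∈ T, o2 y ≠ 1 → (y * y = 1 ∨ y * y = x) → ∀ g ∈ T, g * y = y * g → o1 g = 1
  four : ∀ a ∈ D, ∀ b ∈ D, a * a = 1 → a ≠ 1 → b * b = 1 → b ≠ 1 → a ≠ b → a * b = b * a →
    ∃ ρ ∈ K, x * ρ = ρ * x ∧ ρ * a * ρ⁻¹ = b ∧ ρ * b * ρ⁻¹ = a * b

/-- **The frame**, with `FrameX`. -/
theorem exists_frameX [Finite G] {x : G} {K T : Subgroup G} (hx : orderOf x = 2)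
    (F : L2Frame.Frame (centralizer ({x} : Set G)) K T)
    (hn : centralizer ({x} : Set G) ≤ normalizer (K : Set G)) (h : Good (STop K))
    (hQ : ∀ q ∈ T ⊓ fix K, q = 1 ∨ q = x) :
    ∃ (A : Type) (_ : Group A) (d : ℕ) (r c : G) (o1 : G → ℤˣ) (o2 : G → A),
      L2QTwo.Frame x K T (T ⊓ K) d r c o1 o2 ∧ FrameX x K T (T ⊓ K) o1 o2 := by
  have hgood := h
  obtain ⟨A, _, d, p1, p2, R, h2⟩ := h
  obtain ⟨S, hS⟩ := F.exists_sylow
  obtain ⟨r, c, E⟩ := h2 S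
  have hxx : x * x = 1 := by rw [← sq, ← hx, pow_orderOf_eq_one]
  have hx1 : x ≠ 1 := by
    rintro rfl
    rw [orderOf_one] at hx
    exact absurd hx (by norm_num)
  obtain ⟨r', c', -, -, h5⟩ := frame_of hxx hx1 F hn hS E R hQ
  have hxfix : x ∈ fix K := by
    rw [mem_fix]
    exact ⟨hn (mem_centralizer_singleton_iff.2 rfl), fun k hk => by
      rw [commutatorElement_eq_one_iff_mul_comm.2 (h5.K_comm k hk)]
      exact one_mem _⟩
  have hsq : ∀ {y : G} (hy : y ∈ T), (y * y = 1 ∨ y * y = x) →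
      F.rho ⟨y, hy⟩ * F.rho ⟨y, hy⟩ = 1 := by
    intro y hy hyy
    rw [← map_mul, F.rho_eq_one_iff]
    have e1 : ((⟨y, hy⟩ * ⟨y, hy⟩ : T) : G) = y * y := rfl
    rw [e1]
    rcases hyy with h6 | h6 <;> rw [h6]
    · exact one_mem _
    · exact hxfix
  have hmap : ∀ {t : G} (ht : t ∈ T), ∀ s ∈ F.dTop.range, F.rho ⟨t, ht⟩ s ∈ F.dTop.range := by
    rintro t ht _ ⟨s, rfl⟩
    rw [F.rho_dTop]
    exact ⟨_, rfl⟩
  refine ⟨A, inferInstance, d, r', c', _, _, h5, ?_, ?_, ?_, ?_, ?_⟩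
  · intro y hy hyy
    rw [outFun_rho F p1 hy, outFun_rho F p2 hy]
    exact E.no_mixed _ (hsq hy hyy)
  · intro a ha b hb
    rw [outFun_rho F p2 ha, outFun_rho F p2 hb]
    exact R.comm _ _
  · intro y hy h1 h2 h3
    rw [outFun_rho F p1 hy] at h1
    rw [outFun_rho F p2 hy] at h2 h3
    obtain ⟨l, hl⟩ := R.split (F.rho ⟨y, hy⟩) h1
    have hβ : (MulAut.conj l * F.rho ⟨y, hy⟩) * (MulAut.conj l * F.rho ⟨y, hy⟩) = 1 := by
      rw [← pow_two]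
      exact hl 2 (by rw [pow_two]; exact h3)
    obtain ⟨m, hm⟩ := F.exists_pow hy
    have hm' : F.rho ⟨y, hy⟩ ^ 2 ^ m = 1 := by
      rw [← map_pow]
      have h6 : (⟨y, hy⟩ : T) ^ 2 ^ m = 1 := Subtype.ext hm
      rw [h6, map_one]
    obtain ⟨a, ha, h6, h7⟩ := field_split (conj_injective F.comp) E hm'
      (by rw [hS]; exact hmap hy) rfl hβ (by rw [map_mul, E.inn2, one_mul]; exact h2)
    rw [hS] at ha h6
    obtain ⟨b, rfl⟩ := ha
    have hbT : (b : G) * y ∈ T := mul_mem b.2.1 hy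
    have hrho : F.rho ⟨b * y, hbT⟩ = MulAut.conj (F.dTop b) * F.rho ⟨y, hy⟩ := by
      rw [← F.rho_of_mem, ← map_mul]; rfl
    refine ⟨b, b.2, fun e he => ?_, ?_⟩
    · exact (F.comm_iff ⟨b * y, hbT⟩ ⟨e, he⟩).2 (by rw [hrho]; exact h6 _ ⟨_, rfl⟩)
    · rw [← hrho, ← map_mul, F.rho_eq_one_iff] at h7
      exact hQ _ ⟨mul_mem hbT hbT, h7⟩
  · intro y hy h2 hyy g hg hgy
    rw [outFun_rho F p2 hy] at h2
    rw [outFun_rho F p1 hg]
    apply E.field_o1 _ (hsq hy hyy) h2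
    rw [← map_inv, ← map_mul, ← map_mul]
    congr 1
    apply Subtype.ext
    change g * y * g⁻¹ = y
    rw [hgy, mul_inv_cancel_right]
  · intro a ha b hb haa ha1 hbb hb1 hab hcomm
    have h2 : IsPGroup 2 (zpowers x) := isPGroup_zpowers (n := 1) (by rw [pow_one, pow_two, hxx])
    obtain ⟨k, hk, h6, h7, h8⟩ := N2.exists_rho F hgood ha.2 hb.2
      ⟨haa, hbb, ha1, hb1, hab, hcomm⟩ h2 (zpowers_le.2 hxfix) (by
        rintro p hp
        obtain ⟨i, rfl⟩ := mem_zpowers_iff.1 hp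
        have e1 : Commute x a := h5.K_comm a ha.2
        have e2 : Commute x b := h5.K_comm b hb.2
        exact ⟨(e1.zpow_left i).eq, (e2.zpow_left i).eq⟩)
    exact ⟨k, hk, h8 x (mem_zpowers x), h6, h7⟩

end Cfsg.Agent.GH.L2QTwo
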