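import Cfsg.Agent.GH.L2QTwo.MFCls

/-!
# GH-L2, `|Q| = 2`: orders of `D`, `M₀`, and of the `E₁₆`'s of `M₀`
-/

set_option autoImplicit false
set_option linter.unusedVariables false
set_option linter.unusedSimpArgs false

open Subgroup

namespace Cfsg.Agent.GH.L2QTwo

variable {G A : Type*} [Group G] [Group A]

theorem card_eq_two_mul [Finite G] {H L : Subgroup G} (h : H ≤ L) {a : G} (ha : a ∈ L) (ha' : a ∉ H)
    (hall : ∀ b ∈ L, b ∈ H ∨ a * b ∈ H) : Nat.card L = 2 * Nat.card H := by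
  have h1 : (H.subgroupOf L).index = 2 := by
    rw [Subgroup.index_eq_two_iff]
    refine ⟨⟨a, ha⟩⁻¹, fun b => ?_⟩
    have e1 : b * (⟨a, ha⟩⁻¹ : L) ∈ H.subgroupOf L ↔ (b : G) * a⁻¹ ∈ H := Iff.rfl
    have e2 : b ∈ H.subgroupOf L ↔ (b : G) ∈ H := Iff.rfl
    rw [e1, e2]
    rcases hall (b : G)⁻¹ (L.inv_mem b.2) with h2 | h2
    · have h3 : (b : G) ∈ H := by simpa using H.inv_mem h2
      refine Or.inr ⟨h3, fun h4 => ha' ?_⟩
      have : a = ((b : G)⁻¹ * (b * a⁻¹))⁻¹ := by group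
      rw [this]
      exact H.inv_mem (H.mul_mem (H.inv_mem h3) h4)
    · have h3 : (b : G) * a⁻¹ ∈ H := by
        have : (b : G) * a⁻¹ = (a * (b : G)⁻¹)⁻¹ := by group
        rw [this]
        exact H.inv_mem h2
      refine Or.inl ⟨h3, fun h4 => ha' ?_⟩
      have : a = ((b : G)⁻¹ * (b * a⁻¹))⁻¹ := by group
      rw [this]
      exact H.inv_mem (H.mul_mem (H.inv_mem h4) h3)
  have h2 := (H.subgroupOf L).card_mul_index
  rw [h1, Nat.card_congr (subgroupOfEquivOfLe h).toEquiv] at h2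
  omega

namespace Frame

variable {x : G} {K T D : Subgroup G} {d : ℕ} {r c : G} {o1 : G → ℤˣ} {o2 : G → A} {f s : G}

theorem card_D [Finite G] (F : Frame x K T D d r c o1 o2) : Nat.card D = 2 ^ d := by
  have h1 : Nat.card D = 2 * Nat.card (zpowers r) := by
    refine card_eq_two_mul (a := c) (by rw [zpowers_le]; exact F.r_mem) F.c_mem ?_ fun b hb => ?_
    · intro h
      obtain ⟨k, hk⟩ := mem_zpowers_iff.1 h
      exact F.c_not k hk.symm
    · obtain ⟨k, hk | hk⟩ := F.D_form b hb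
      · exact Or.inl (mem_zpowers_iff.2 ⟨k, hk.symm⟩)
      · right
        rw [hk, ← mul_assoc, F.c_rk, mul_assoc, F.cc, mul_one]
        exact mem_zpowers_iff.2 ⟨-k, rfl⟩
  rw [h1, Nat.card_zpowers, F.or_eq]
  have : d = (d - 1) + 1 := by have := F.d_ge; omega
  nth_rewrite 2 [this]
  rw [pow_succ]; ring

theorem mem_T0 (F : Frame x K T D d r c o1 o2) {t : G} :
    t ∈ F.T0 ↔ t ∈ T ∧ o1 t = 1 ∧ o2 t = 1 := Iff.rfl

theorem card_T0 [Finite G] (F : Frame x K T D d r c o1 o2) : Nat.card F.T0 = 2 * 2 ^ d := by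
  rw [← F.card_D]
  refine card_eq_two_mul (a := x) (fun e he => ⟨F.D_le he, F.o1_D he, F.o2_D he⟩)
    ⟨F.x_mem, F.o1_x, F.o2_x⟩ F.x_not fun b hb => ?_
  obtain ⟨e, he, h | h⟩ := F.ker b hb.1 hb.2.1 hb.2.2
  · left; rw [h]; exact he
  · right; rw [h, ← mul_assoc, F.xx, one_mul]; exact he

theorem Fld.card_M0 [Finite G] {F : Frame x K T D d r c o1 o2} (h : F.Fld f) :
    Nat.card F.M0 = 4 * 2 ^ d := by
  have h1 : Nat.card F.M0 = 2 * Nat.card F.T0 := by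
    refine card_eq_two_mul (a := f) (fun e he => ⟨he.1, he.2.1, by rw [he.2.2, one_mul]⟩) h.mem_M0
      (fun h1 => h.ne h1.2.2) fun b hb => ?_
    by_cases h2 : o2 b = 1
    · exact Or.inl ⟨hb.1, hb.2.1, h2⟩
    · right
      refine ⟨T.mul_mem h.mem hb.1, by rw [F.o1_mul' h.mem hb.1, h.o1f, hb.2.1, one_mul], ?_⟩
      have h4 : o2 b = o2 f := F.A_inv _ _ hb.2.2 h2 (F.o2_invol h.mem h.sq) h.ne
      rw [F.o2_mul' h.mem hb.1, h4, F.o2_invol h.mem h.sq]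
  rw [h1, F.card_T0]; ring

/-- `F_j = ⟨x, f⟩ × ⟨z, r^j c⟩` -/
def EE (F : Frame x K T D d r c o1 o2) (j : ℤ) : Subgroup G :=
  F.M0 ⊓ centralizer ({r ^ j * c} : Set G)

theorem mem_EE (F : Frame x K T D d r c o1 o2) {j : ℤ} {m : G} :
    m ∈ F.EE j ↔ m ∈ F.M0 ∧ m * (r ^ j * c) = r ^ j * c * m := by
  rw [EE, mem_inf, mem_centralizer_singleton_iff]

/-- elements of `D` commuting with a reflection -/
theorem D_comm (F : Frame x K T D d r c o1 o2) {j : ℤ} {e : G} (he : e ∈ D)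
    (h : e * (r ^ j * c) = r ^ j * c * e) :
    e = 1 ∨ e = r ^ 2 ^ (d - 2) ∨ e = r ^ j * c ∨ e = r ^ 2 ^ (d - 2) * (r ^ j * c) := by
  obtain ⟨k, hk | hk⟩ := F.D_form e he
  · have h1 : r ^ k * r ^ k = 1 := by
      have h2 : r ^ j * c * r ^ k * (r ^ j * c) = r ^ (-k) := by
        calc r ^ j * c * r ^ k * (r ^ j * c) = r ^ j * (c * r ^ k) * (r ^ j * c) := by group
          _ = r ^ j * (r ^ (-k) * c) * (r ^ j * c) := by rw [F.c_rk]
          _ = (r ^ j * r ^ (-k)) * (c * r ^ j) * c := by group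
          _ = (r ^ j * r ^ (-k)) * (r ^ (-j) * c) * c := by rw [F.c_rk]
          _ = (r ^ j * r ^ (-k) * r ^ (-j)) * (c * c) := by group
          _ = r ^ (-k) := by rw [F.cc, mul_one, ← zpow_add, ← zpow_add]; congr 1; ring
      have h3 : r ^ j * c * r ^ k * (r ^ j * c) = r ^ k := by
        rw [hk] at h
        rw [← h, mul_assoc, F.refl_sq, mul_one]
      rw [h3] at h2
      nth_rewrite 2 [h2]
      rw [← zpow_add, add_neg_cancel, zpow_zero]
    rcases F.rot_sq h1 with h2 | h2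
    · exact Or.inl (by rw [hk, h2])
    · exact Or.inr (Or.inl (by rw [hk, h2]))
  · -- `e · (r^j c)` is a rotation of square 1
    have h1 : e * (r ^ j * c) = r ^ (k - j) := by
      rw [hk]
      calc r ^ k * c * (r ^ j * c) = r ^ k * (c * r ^ j) * c := by group
        _ = r ^ k * (r ^ (-j) * c) * c := by rw [F.c_rk]
        _ = r ^ k * r ^ (-j) * (c * c) := by group
        _ = r ^ (k - j) := by rw [F.cc, mul_one, ← zpow_add, sub_eq_add_neg]
    have hee : e * e = 1 := by rw [hk]; exact F.refl_sq k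
    have h2 : r ^ (k - j) * r ^ (k - j) = 1 := by
      rw [← h1]
      calc e * (r ^ j * c) * (e * (r ^ j * c)) = e * ((r ^ j * c) * e) * (r ^ j * c) := by group
        _ = e * (e * (r ^ j * c)) * (r ^ j * c) := by rw [h]
        _ = (e * e) * ((r ^ j * c) * (r ^ j * c)) := by group
        _ = 1 := by rw [hee, F.refl_sq, one_mul]
    have h3 : e = r ^ (k - j) * (r ^ j * c) := by
      rw [← h1, mul_assoc, F.refl_sq, mul_one]
    rcases F.rot_sq h2 with h4 | h4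
    · exact Or.inr (Or.inr (Or.inl (by rw [h3, h4, one_mul])))
    · exact Or.inr (Or.inr (Or.inr (by rw [h3, h4])))

theorem Fld.EE_form {F : Frame x K T D d r c o1 o2} (h : F.Fld f) {j : ℤ} {m : G} (hm : m ∈ F.EE j) :
    ∃ ζ, (ζ = 1 ∨ ζ = x ∨ ζ = f ∨ ζ = x * f) ∧ (m = ζ ∨ m = ζ * r ^ 2 ^ (d - 2) ∨ m = ζ * (r ^ j * c) ∨
      m = ζ * (r ^ 2 ^ (d - 2) * (r ^ j * c))) := by
  obtain ⟨h1, h2⟩ := F.mem_EE.1 hm
  obtain ⟨e, he, ζ, hζ, rfl⟩ := h.form h1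
  obtain ⟨-, z1, -, -, -⟩ := h.zeta hζ
  have h3 : e * (r ^ j * c) = r ^ j * c * e := by
    have : ζ * (e * (r ^ j * c)) = ζ * (r ^ j * c * e) := by
      calc ζ * (e * (r ^ j * c)) = ζ * e * (r ^ j * c) := by group
        _ = r ^ j * c * (ζ * e) := h2
        _ = (ζ * (r ^ j * c)) * e := by rw [z1 _ (F.refl_mem j)]; group
        _ = ζ * (r ^ j * c * e) := by group
    exact mul_left_cancel this
  refine ⟨ζ, hζ, ?_⟩
  rcases F.D_comm he h3 with h4 | h4 | h4 | h4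
  · left; rw [h4, mul_one]
  · right; left; rw [h4]
  · right; right; left; rw [h4]
  · right; right; right; rw [h4]

theorem Fld.zeta_EE {F : Frame x K T D d r c o1 o2} (h : F.Fld f) (j : ℤ) {ζ : G}
    (hζ : ζ = 1 ∨ ζ = x ∨ ζ = f ∨ ζ = x * f) : ζ ∈ F.EE j :=
  F.mem_EE.2 ⟨(h.zeta hζ).1, (h.zeta hζ).2.1 _ (F.refl_mem j)⟩

theorem z_EE (F : Frame x K T D d r c o1 o2) (j : ℤ) : r ^ 2 ^ (d - 2) ∈ F.EE j :=
  F.mem_EE.2 ⟨F.D_le_M0 F.z_mem, F.z_comm (F.refl_mem j)⟩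

theorem v_EE (F : Frame x K T D d r c o1 o2) (j : ℤ) : r ^ j * c ∈ F.EE j :=
  F.mem_EE.2 ⟨F.D_le_M0 (F.refl_mem j), rfl⟩

theorem Fld.card_EE [Finite G] {F : Frame x K T D d r c o1 o2} (h : F.Fld f) (j : ℤ) :
    Nat.card (F.EE j) = 16 := by
  have hx2 : o2 x = 1 := F.o2_x
  have c1 : Nat.card (F.EE j) = 2 * Nat.card ↥(F.EE j ⊓ F.T0) := by
    refine card_eq_two_mul (a := f) inf_le_left (h.zeta_EE j (Or.inr (Or.inr (Or.inl rfl))))
      (fun h1 => h.ne h1.2.2.2) fun b hb => ?_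
    obtain ⟨b0, b1, b2⟩ := (F.mem_EE.1 hb).1
    by_cases h2 : o2 b = 1
    · exact Or.inl ⟨hb, b0, b1, h2⟩
    · right
      have h4 : o2 b = o2 f := F.A_inv _ _ b2 h2 (F.o2_invol h.mem h.sq) h.ne
      refine ⟨(F.EE j).mul_mem (h.zeta_EE j (Or.inr (Or.inr (Or.inl rfl)))) hb, T.mul_mem h.mem b0, ?_, ?_⟩
      · rw [F.o1_mul' h.mem b0, h.o1f, b1, one_mul]
      · rw [F.o2_mul' h.mem b0, h4, F.o2_invol h.mem h.sq]
  have c2 : Nat.card ↥(F.EE j ⊓ F.T0) = 2 * Nat.card ↥(F.EE j ⊓ D) := by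
    refine card_eq_two_mul (a := x) (fun a ha => ⟨ha.1, F.D_le ha.2, F.o1_D ha.2, F.o2_D ha.2⟩)
      ⟨h.zeta_EE j (Or.inr (Or.inl rfl)), F.x_mem, F.o1_x, F.o2_x⟩ (fun h1 => F.x_not h1.2)
      fun b hb => ?_
    obtain ⟨b0, b1, b2⟩ := F.mem_T0.1 hb.2
    obtain ⟨e, he, h3 | h3⟩ := F.ker b b0 b1 b2
    · left; exact ⟨hb.1, by rw [h3]; exact he⟩
    · right
      refine ⟨(F.EE j).mul_mem (h.zeta_EE j (Or.inr (Or.inl rfl))) hb.1, ?_⟩
      change x * b ∈ D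
      rw [h3, ← mul_assoc, F.xx, one_mul]
      exact he
  have c3 : Nat.card ↥(F.EE j ⊓ D) = 2 * Nat.card ↥(F.EE j ⊓ zpowers r) := by
    refine card_eq_two_mul (a := r ^ j * c)
      (fun a ha => ⟨ha.1, (by rw [zpowers_le]; exact F.r_mem : zpowers r ≤ D) ha.2⟩)
      ⟨F.v_EE j, F.refl_mem j⟩ ?_ fun b hb => ?_
    · rintro ⟨-, h1⟩
      obtain ⟨k, hk⟩ := mem_zpowers_iff.1 h1
      exact F.refl_ne j k hk.symm
    · have hzr : r ^ 2 ^ (d - 2) ∈ zpowers r := by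
        exact Subgroup.pow_mem _ (mem_zpowers r) _
      rcases F.D_comm hb.2 (F.mem_EE.1 hb.1).2 with h4 | h4 | h4 | h4
      · left; exact ⟨hb.1, by rw [h4]; exact Subgroup.one_mem _⟩
      · left; exact ⟨hb.1, by rw [h4]; exact hzr⟩
      · right
        rw [h4, F.refl_sq]
        exact Subgroup.one_mem _
      · right
        have : r ^ j * c * b = r ^ 2 ^ (d - 2) := by
          rw [h4, F.z_comm (F.refl_mem j), ← mul_assoc, F.refl_sq, one_mul]
        rw [this]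
        exact ⟨F.z_EE j, hzr⟩
  have c4 : Nat.card ↥(F.EE j ⊓ zpowers r) = 2 * Nat.card ↥(⊥ : Subgroup G) := by
    refine card_eq_two_mul (a := r ^ 2 ^ (d - 2)) bot_le ⟨F.z_EE j, Subgroup.pow_mem _ (mem_zpowers r) _⟩
      (fun h1 => F.z_ne (mem_bot.1 h1)) fun b hb => ?_
    have hbD : b ∈ D := (by rw [zpowers_le]; exact F.r_mem : zpowers r ≤ D) hb.2
    obtain ⟨k, hk⟩ := mem_zpowers_iff.1 hb.2
    rcases F.D_comm hbD (F.mem_EE.1 hb.1).2 with h4 | h4 | h4 | h4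
    · left; rw [h4]; exact Subgroup.one_mem _
    · right; rw [h4, F.z_sq]; exact Subgroup.one_mem _
    · exact absurd (h4.symm.trans hk.symm) (F.refl_ne j k)
    · exfalso
      rw [← hk, F.zz, ← mul_assoc, ← zpow_add] at h4
      exact F.refl_ne _ k h4.symm
  rw [c1, c2, c3, c4, card_bot]

end Frame

end Cfsg.Agent.GH.L2QTwo
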