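import Cfsg.Agent.GH.L2QTwo.MFBase

/-!
# GH-L2, `|Q| = 2`, configuration (M-f): the conjugates of `x` in `M₀`
-/

set_option autoImplicit false
set_option linter.unusedVariables false
set_option linter.unusedSimpArgs false

open Subgroup

namespace Cfsg.Agent.GH.L2QTwo

variable {G A : Type*} [Group G] [Group A]

namespace Frame

variable {x : G} {K T D : Subgroup G} {d : ℕ} {r c : G} {o1 : G → ℤˣ} {o2 : G → A} {f s : G}

/-- the elements of order 3: `ρ₁` commutes with `x`, `f`, `ρ₂` with `x`, `fz`; `ρ₁ : z → v₁ → zv₁`,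
`ρ₂ : z → v₂ → zv₂`, `v_i = r^{j_i} c`, `j₁ ≢ j₂` mod 2 -/
structure Rho (F : Frame x K T D d r c o1 o2) (f : G) (j1 j2 : ℤ) (ρ1 ρ2 : G) : Prop where
  x1 : ρ1 * x * ρ1⁻¹ = x
  f1 : ρ1 * f * ρ1⁻¹ = f
  z1 : ρ1 * r ^ 2 ^ (d - 2) * ρ1⁻¹ = r ^ j1 * c
  v1 : ρ1 * (r ^ j1 * c) * ρ1⁻¹ = r ^ 2 ^ (d - 2) * (r ^ j1 * c)
  x2 : ρ2 * x * ρ2⁻¹ = x
  fz2 : ρ2 * (f * r ^ 2 ^ (d - 2)) * ρ2⁻¹ = f * r ^ 2 ^ (d - 2)
  z2 : ρ2 * r ^ 2 ^ (d - 2) * ρ2⁻¹ = r ^ j2 * c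
  v2 : ρ2 * (r ^ j2 * c) * ρ2⁻¹ = r ^ 2 ^ (d - 2) * (r ^ j2 * c)
  odd : Odd (j2 - j1)

namespace MF

variable {F : Frame x K T D d r c o1 o2}

theorem exists_field_rho (h : F.Fld f) :
    ∃ (j : ℤ) (ρ : G), ρ * x * ρ⁻¹ = x ∧ ρ * f * ρ⁻¹ = f ∧ ρ * r ^ 2 ^ (d - 2) * ρ⁻¹ = r ^ j * c ∧
      ρ * (r ^ j * c) * ρ⁻¹ = r ^ 2 ^ (d - 2) * (r ^ j * c) := by
  obtain ⟨v, hv, hvv, hv1, hvz, ρ, hρx, hρf, hρz, hρv⟩ := F.field_rho _ h.mem h.sq h.ne h.cent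
  obtain ⟨j, hj⟩ : ∃ j : ℤ, v = r ^ j * c := by
    rcases F.inv_form hv hvv with h2 | h2 | h2
    · exact absurd h2 hv1
    · exact absurd h2 hvz
    · exact h2
  subst hj
  exact ⟨j, ρ, conj_eq_of_comm hρx.symm, conj_eq_of_comm hρf.symm, hρz, hρv⟩

/-- conjugation by a rotation -/
theorem rot_conj (F : Frame x K T D d r c o1 o2) (a j : ℤ) :
    r ^ a * (r ^ j * c) * (r ^ a)⁻¹ = r ^ (j + 2 * a) * c := by
  calc r ^ a * (r ^ j * c) * (r ^ a)⁻¹ = r ^ a * r ^ j * (c * r ^ (-a)) := by rw [zpow_neg]; group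
    _ = r ^ a * r ^ j * (r ^ (- -a) * c) := by rw [F.c_rk]
    _ = (r ^ a * r ^ j * r ^ (- -a)) * c := by group
    _ = _ := by rw [← zpow_add, ← zpow_add]; congr 2; ring

theorem rot_zeta (h : F.Fld f) {ζ : G} (hζ : ζ = 1 ∨ ζ = x ∨ ζ = f ∨ ζ = x * f) (a : ℤ) :
    r ^ a * ζ * (r ^ a)⁻¹ = ζ :=
  conj_eq_of_comm ((h.zeta hζ).2.1 _ (F.r_rk a)).symm

theorem exists_rho [Finite G] (h : F.MF f s) : ∃ (j1 j2 : ℤ) (ρ1 ρ2 : G), F.Rho f j1 j2 ρ1 ρ2 := by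
  obtain ⟨j1, ρ1, x1, f1, z1, v1⟩ := exists_field_rho h.fld
  obtain ⟨j2, ρ2, x2, f2, z2, v2⟩ := exists_field_rho (h.fld.mul_z h.hd)
  refine ⟨j1, j2, ρ1, ρ2, x1, f1, z1, v1, x2, f2, z2, v2, ?_⟩
  by_contra hodd
  rw [Int.not_odd_iff_even] at hodd
  obtain ⟨a, ha⟩ := hodd
  have zf : r ^ 2 ^ (d - 2) * f = f * r ^ 2 ^ (d - 2) := (h.fld.cent _ F.z_mem).symm
  -- `f z v₂ ~ f`
  have hf : f = f * r ^ 2 ^ (d - 2) * r ^ 2 ^ (d - 2) := by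
    rw [mul_assoc, F.z_sq, mul_one]
  have e1 : ρ2 * f * ρ2⁻¹ = f * r ^ 2 ^ (d - 2) * (r ^ j2 * c) := by
    nth_rewrite 1 [hf]
    rw [conj_mul3, f2, z2]
  have p1 : IsConj x (f * r ^ 2 ^ (d - 2) * (r ^ j2 * c)) := by
    rw [← e1]; exact conj_iff.2 h.pf
  -- conjugate into `v₁`
  have e2 : r ^ (-a) * (f * r ^ 2 ^ (d - 2) * (r ^ j2 * c)) * (r ^ (-a))⁻¹ =
      f * r ^ 2 ^ (d - 2) * (r ^ j1 * c) := by
    rw [conj_mul3, conj_mul3, rot_conj F, rot_zeta h.fld (Or.inr (Or.inr (Or.inl rfl))),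
      conj_eq_of_comm (F.z_comm (F.r_rk (-a))).symm]
    congr 3
    linarith
  have p2 : IsConj x (f * r ^ 2 ^ (d - 2) * (r ^ j1 * c)) := by
    rw [← e2]; exact conj_iff.2 p1
  -- `ρ₁² : f z → f z v₁`
  have e3 : ρ1 * (ρ1 * (f * r ^ 2 ^ (d - 2)) * ρ1⁻¹) * ρ1⁻¹ = f * (r ^ 2 ^ (d - 2) * (r ^ j1 * c)) := by
    rw [conj_mul3 ρ1 f, f1, z1, conj_mul3, f1, v1]
  apply h.nfz
  rw [← conj_iff (g := ρ1), ← conj_iff (g := ρ1), e3, ← mul_assoc]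
  exact p2

variable {j1 j2 : ℤ} {ρ1 ρ2 : G}

/-- the elements of `M₀` conjugate to `x` -/
theorem cls [Finite G] (h : F.MF f s) (R : F.Rho f j1 j2 ρ1 ρ2) {m : G} (hm : m ∈ F.M0)
    (hc : IsConj x m) : m = x ∨ m = f ∨ ∃ j : ℤ, Even (j - j2) ∧ m = f * (r ^ j * c) := by
  obtain ⟨e, he, ζ, hζ, rfl⟩ := h.fld.form hm
  obtain ⟨-, z1, zx, zf, zz⟩ := h.fld.zeta hζ
  have hee : e * e = 1 := by
    obtain ⟨g, hg⟩ := isConj_iff.1 hc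
    have h1 : ζ * e * (ζ * e) = 1 := by
      rw [← hg, conj_mul_conj, F.xx]; group
    calc e * e = (ζ * ζ) * (e * e) := by rw [zz, one_mul]
      _ = ζ * (ζ * e) * e := by group
      _ = ζ * (e * ζ) * e := by rw [z1 e he]
      _ = ζ * e * (ζ * e) := by group
      _ = 1 := h1
  have hρζ1 : ρ1 * ζ * ρ1⁻¹ = ζ := by
    rcases hζ with h2 | h2 | h2 | h2 <;> subst h2
    · group
    · exact R.x1
    · exact R.f1
    · rw [conj_mul3, R.x1, R.f1]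
  -- `ζ z` is not conjugate to `x`
  have hnz : ¬ IsConj x (ζ * r ^ 2 ^ (d - 2)) := by
    rcases hζ with h2 | h2 | h2 | h2 <;> subst h2
    · rw [one_mul]; exact h.nz
    · exact h.nxz
    · exact h.nfz
    · rw [mul_assoc]; exact h.nxfz
  rcases F.inv_form he hee with h3 | h3 | ⟨j, h3⟩
  · subst h3
    rw [mul_one] at hc ⊢
    rcases hζ with h2 | h2 | h2 | h2
    · exfalso
      subst h2
      obtain ⟨g, hg⟩ := isConj_iff.1 hc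
      exact conj_ne_one F.x_ne hg
    · exact Or.inl h2
    · exact Or.inr (Or.inl h2)
    · exact absurd hc (by rw [h2]; exact h.nxf)
  · exact absurd hc (by rw [h3]; exact hnz)
  · subst h3
    by_cases hev : Even (j - j2)
    · obtain ⟨a, ha⟩ := hev
      have e2 : r ^ (-a) * (ζ * (r ^ j * c)) * (r ^ (-a))⁻¹ = ζ * (r ^ j2 * c) := by
        rw [conj_mul3, rot_conj F, rot_zeta h.fld hζ]
        congr 3
        linarith
      have p2 : IsConj x (ζ * (r ^ j2 * c)) := by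
        rw [← e2]; exact conj_iff.2 hc
      -- `ρ₂`
      rcases hζ with h2 | h2 | h2 | h2
      · exfalso
        subst h2
        rw [one_mul, ← R.z2] at p2
        exact h.nz (conj_iff.1 p2)
      · exfalso
        subst h2
        apply h.nxz
        rw [← conj_iff (g := ρ2), conj_mul3, R.x2, R.z2]
        exact p2
      · exact Or.inr (Or.inr ⟨j, ⟨a, ha⟩, by rw [h2]⟩)
      · exfalso
        subst h2
        apply h.nxf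
        -- `ρ₂² : x f → x f v₂`
        have e3 : x * f = x * ((f * r ^ 2 ^ (d - 2)) * r ^ 2 ^ (d - 2)) := by
          rw [mul_assoc f, F.z_sq, mul_one]
        have e4 : ρ2 * (x * f) * ρ2⁻¹ = x * (f * r ^ 2 ^ (d - 2) * (r ^ j2 * c)) := by
          rw [e3, conj_mul3 ρ2 x, conj_mul3 ρ2 (f * _), R.x2, R.fz2, R.z2]
        have e5 : ρ2 * (ρ2 * (x * f) * ρ2⁻¹) * ρ2⁻¹ = x * f * (r ^ j2 * c) := by
          rw [e4, conj_mul3, conj_mul3, R.x2, R.fz2, R.v2, mul_assoc f, ← mul_assoc (r ^ 2 ^ (d - 2)) _ (r ^ j2 * c),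
            F.z_sq, one_mul, mul_assoc]
        rw [← conj_iff (g := ρ2), ← conj_iff (g := ρ2), e5]
        exact p2
    · exfalso
      have hev' : Even (j - j1) := by
        rw [Int.not_even_iff_odd] at hev
        have h4 := hev.add_odd R.odd
        have : j - j2 + (j2 - j1) = j - j1 := by ring
        rwa [this] at h4
      obtain ⟨a, ha⟩ := hev'
      have e2 : r ^ (-a) * (ζ * (r ^ j * c)) * (r ^ (-a))⁻¹ = ζ * (r ^ j1 * c) := by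
        rw [conj_mul3, rot_conj F, rot_zeta h.fld hζ]
        congr 3
        linarith
      apply hnz
      rw [← conj_iff (g := ρ1), conj_mul3, hρζ1, R.z1, ← e2]
      exact conj_iff.2 hc

/-- `f v₂`, `f z v₂` are conjugate to `x` -/
theorem p2 [Finite G] (h : F.MF f s) (R : F.Rho f j1 j2 ρ1 ρ2) :
    ρ2 * f * ρ2⁻¹ = f * (r ^ 2 ^ (d - 2) * (r ^ j2 * c)) ∧
    ρ2 * (f * (r ^ 2 ^ (d - 2) * (r ^ j2 * c))) * ρ2⁻¹ = f * (r ^ j2 * c) ∧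
    ρ2 * (f * (r ^ j2 * c)) * ρ2⁻¹ = f := by
  have hf : f = f * r ^ 2 ^ (d - 2) * r ^ 2 ^ (d - 2) := by
    rw [mul_assoc, F.z_sq, mul_one]
  have e1 : ρ2 * f * ρ2⁻¹ = f * (r ^ 2 ^ (d - 2) * (r ^ j2 * c)) := by
    nth_rewrite 1 [hf]
    rw [conj_mul3, R.fz2, R.z2, mul_assoc]
  refine ⟨e1, ?_, ?_⟩
  · rw [conj_mul3, conj_mul3 ρ2 (r ^ 2 ^ (d - 2)), e1, R.z2, R.v2]
    calc f * (r ^ 2 ^ (d - 2) * (r ^ j2 * c)) * (r ^ j2 * c * (r ^ 2 ^ (d - 2) * (r ^ j2 * c))) =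
        f * r ^ 2 ^ (d - 2) * ((r ^ j2 * c) * (r ^ j2 * c)) * (r ^ 2 ^ (d - 2) * (r ^ j2 * c)) := by group
      _ = f * (r ^ 2 ^ (d - 2) * r ^ 2 ^ (d - 2)) * (r ^ j2 * c) := by
          rw [F.refl_sq, mul_one]; group
      _ = _ := by rw [F.z_sq, mul_one]
  · rw [conj_mul3, e1, R.v2]
    calc f * (r ^ 2 ^ (d - 2) * (r ^ j2 * c)) * (r ^ 2 ^ (d - 2) * (r ^ j2 * c)) =
        f * ((r ^ 2 ^ (d - 2) * (r ^ j2 * c)) * (r ^ 2 ^ (d - 2) * (r ^ j2 * c))) := by group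
      _ = f * (((r ^ j2 * c) * r ^ 2 ^ (d - 2)) * (r ^ 2 ^ (d - 2) * (r ^ j2 * c))) := by
          rw [F.z_comm (F.refl_mem j2)]
      _ = f * ((r ^ j2 * c) * (r ^ 2 ^ (d - 2) * r ^ 2 ^ (d - 2)) * (r ^ j2 * c)) := by group
      _ = f := by rw [F.z_sq, mul_one, F.refl_sq, mul_one]

end MF

end Frame

end Cfsg.Agent.GH.L2QTwo
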