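import Cfsg.Agent.GH.L2QTwo.MFPhi

/-!
# GH-L2, `|Q| = 2`, configuration (M-f): the elementary section of order 32
-/

set_option autoImplicit false
set_option linter.unusedVariables false
set_option linter.unusedSimpArgs false

open Subgroup
open Cfsg.Agent.TwoFusion.SectionalRank

namespace Cfsg.Agent.GH.L2QTwo

variable {G A : Type*} [Group G] [Group A]

namespace Frame

variable {x : G} {K T D : Subgroup G} {d : ℕ} {r c : G} {o1 : G → ℤˣ} {o2 : G → A} {f s : G}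

/-- `q`, `w` induce `(e₃ e₄)`, `(e₁ e₂)` on `{x, f, fv, fzv}` -/
structure Pk (F : Frame x K T D d r c o1 o2) (f : G) (j : ℤ) (φ q w : G) : Prop where
  φE : ∀ m ∈ F.EE j, φ * m = m * φ
  φM : φ ∉ F.M0
  φφ : φ * φ = x * (f * r ^ 2 ^ (d - 2))
  qx : q * x * q⁻¹ = x
  qf : q * f * q⁻¹ = f
  qz : q * r ^ 2 ^ (d - 2) * q⁻¹ = r ^ 2 ^ (d - 2)
  qv : q * (r ^ j * c) * q⁻¹ = r ^ 2 ^ (d - 2) * (r ^ j * c)
  wx : w * x * w⁻¹ = f
  wf : w * f * w⁻¹ = x
  wz : w * r ^ 2 ^ (d - 2) * w⁻¹ = r ^ 2 ^ (d - 2)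
  we : w * (f * (r ^ j * c)) * w⁻¹ = f * (r ^ j * c)
  qq : q * q = 1
  ww : w * w = 1
  qφ : q * φ * q⁻¹ * φ⁻¹ = 1 ∨ q * φ * q⁻¹ * φ⁻¹ = r ^ 2 ^ (d - 2)
  wφ : w * φ * w⁻¹ * φ⁻¹ = 1 ∨ w * φ * w⁻¹ * φ⁻¹ = x * f
  qwE : q * w * q⁻¹ * w⁻¹ ∈ F.EE j
  qwq : q * (q * w * q⁻¹ * w⁻¹) = q * w * q⁻¹ * w⁻¹ * q
  qww : w * (q * w * q⁻¹ * w⁻¹) = q * w * q⁻¹ * w⁻¹ * w

namespace MF

variable {F : Frame x K T D d r c o1 o2} {j : ℤ} {φ q w : G}

/-- the group `W = C_E(q) ∩ C_E(w)` -/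
def WW (F : Frame x K T D d r c o1 o2) (j : ℤ) (q w : G) : Subgroup G :=
  F.EE j ⊓ (centralizer ({q} : Set G) ⊓ centralizer ({w} : Set G))

theorem mem_WW {u : G} : u ∈ WW F j q w ↔ u ∈ F.EE j ∧ u * q = q * u ∧ u * w = w * u := by
  rw [WW, mem_inf, mem_inf, mem_centralizer_singleton_iff, mem_centralizer_singleton_iff]

theorem comm_inv_swap {B : Subgroup G} {a b : G} (h1 : a * b * a⁻¹ * b⁻¹ ∈ B) : b * a * b⁻¹ * a⁻¹ ∈ B := by
  have h2 := B.inv_mem h1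
  have : (a * b * a⁻¹ * b⁻¹)⁻¹ = b * a * b⁻¹ * a⁻¹ := by group
  rwa [this] at h2

theorem comm_mem_of {B : Subgroup G} {a b : G} (h1 : a * b = b * a) : a * b * a⁻¹ * b⁻¹ ∈ B := by
  rw [h1]
  have : b * a * a⁻¹ * b⁻¹ = 1 := by group
  rw [this]; exact B.one_mem

theorem count [Finite G] (h : F.MF f s) (P : F.Pk f j φ q w)
    (hr : ∀ A B : Subgroup G, ElemSection 2 A B → Nat.card A ≤ 2 ^ 4 * Nat.card B) : False := by
  have hx := h.x_EE j
  have hf := h.f_EE j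
  have he := h.e3_EE j
  have hz := F.z_EE j
  have hqx := comm_of_conj_eq P.qx
  have hqf := comm_of_conj_eq P.qf
  have hqz := comm_of_conj_eq P.qz
  have hwz := comm_of_conj_eq P.wz
  have hwe := comm_of_conj_eq P.we
  have hfx := h.f_ne_x
  have zf : r ^ 2 ^ (d - 2) * f = f * r ^ 2 ^ (d - 2) := (h.fld.cent _ F.z_mem).symm
  -- members of `W`
  have wz : r ^ 2 ^ (d - 2) ∈ WW F j q w := mem_WW.2 ⟨hz, hqz.symm, hwz.symm⟩
  have wxf : x * f ∈ WW F j q w := by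
    refine mem_WW.2 ⟨(F.EE j).mul_mem hx hf, ?_, ?_⟩
    · rw [mul_assoc, ← hqf, ← mul_assoc, ← hqx, mul_assoc]
    · symm
      apply comm_of_conj_eq
      rw [conj_mul3, P.wx, P.wf, h.fld.fx]
  have wxfz : x * (f * r ^ 2 ^ (d - 2)) ∈ WW F j q w := by
    rw [← mul_assoc]; exact (WW F j q w).mul_mem wxf wz
  have wqw : q * w * q⁻¹ * w⁻¹ ∈ WW F j q w := mem_WW.2 ⟨P.qwE, P.qwq.symm, P.qww.symm⟩
  let S : Set G := {a | a = x ∨ a = f * (r ^ j * c) ∨ a = φ ∨ a = q ∨ a = w}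
  have hn : ∀ a ∈ S, a ∈ normalizer (WW F j q w : Set G) := by
    intro a ha
    refine mem_norm_of fun m hm => ?_
    obtain ⟨m1, m2, m3⟩ := mem_WW.1 hm
    have key : a * m = m * a := by
      rcases ha with rfl | rfl | rfl | rfl | rfl
      · exact h.EE_comm hx m1
      · exact h.EE_comm he m1
      · exact P.φE m m1
      · exact m2.symm
      · exact m3.symm
    rw [conj_eq_of_comm key]
    exact hm
  have c1 : x * (f * (r ^ j * c)) * x⁻¹ * (f * (r ^ j * c))⁻¹ ∈ WW F j q w :=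
    comm_mem_of (h.EE_comm hx he)
  have c2 : x * φ * x⁻¹ * φ⁻¹ ∈ WW F j q w := comm_mem_of (P.φE x hx).symm
  have c3 : x * q * x⁻¹ * q⁻¹ ∈ WW F j q w := comm_mem_of hqx.symm
  have c4 : w * x * w⁻¹ * x⁻¹ ∈ WW F j q w := by
    rw [P.wx, F.x_inv, h.fld.fx]; exact wxf
  have c5 : f * (r ^ j * c) * φ * (f * (r ^ j * c))⁻¹ * φ⁻¹ ∈ WW F j q w :=
    comm_mem_of (P.φE _ he).symm
  have c6 : q * (f * (r ^ j * c)) * q⁻¹ * (f * (r ^ j * c))⁻¹ ∈ WW F j q w := by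
    rw [conj_mul3, P.qf, P.qv, ← mul_assoc f, ← zf]
    have : r ^ 2 ^ (d - 2) * f * (r ^ j * c) * (f * (r ^ j * c))⁻¹ = r ^ 2 ^ (d - 2) := by group
    rw [this]; exact wz
  have c7 : f * (r ^ j * c) * w * (f * (r ^ j * c))⁻¹ * w⁻¹ ∈ WW F j q w := comm_mem_of hwe.symm
  have c8 : q * φ * q⁻¹ * φ⁻¹ ∈ WW F j q w := by
    rcases P.qφ with h1 | h1 <;> rw [h1]
    · exact (WW F j q w).one_mem
    · exact wz
  have c9 : w * φ * w⁻¹ * φ⁻¹ ∈ WW F j q w := by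
    rcases P.wφ with h1 | h1 <;> rw [h1]
    · exact (WW F j q w).one_mem
    · exact wxf
  have hcc : ∀ a ∈ S, ∀ b ∈ S, a * b * a⁻¹ * b⁻¹ ∈ WW F j q w := by
    rintro a (ha | ha | ha | ha | ha) b (hb | hb | hb | hb | hb) <;> rw [ha, hb]
    · exact comm_mem_of rfl
    · exact c1
    · exact c2
    · exact c3
    · exact comm_inv_swap c4
    · exact comm_inv_swap c1
    · exact comm_mem_of rfl
    · exact c5
    · exact comm_inv_swap c6
    · exact c7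
    · exact comm_inv_swap c2
    · exact comm_inv_swap c5
    · exact comm_mem_of rfl
    · exact comm_inv_swap c8
    · exact comm_inv_swap c9
    · exact comm_inv_swap c3
    · exact c6
    · exact c8
    · exact comm_mem_of rfl
    · exact wqw
    · exact c4
    · exact comm_inv_swap c7
    · exact c9
    · exact comm_inv_swap wqw
    · exact comm_mem_of rfl
  have hsq : ∀ a ∈ S, a * a ∈ WW F j q w := by
    rintro a (ha | ha | ha | ha | ha) <;> rw [ha]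
    · rw [F.xx]; exact (WW F j q w).one_mem
    · rw [h.EE_sq he]; exact (WW F j q w).one_mem
    · rw [P.φφ]; exact wxfz
    · rw [P.qq]; exact (WW F j q w).one_mem
    · rw [P.ww]; exact (WW F j q w).one_mem
  have hcard := hr _ _ (elemSection_gen hn hcc hsq)
  set B := closure S ⊔ WW F j q w with hB
  have mS : ∀ a ∈ S, a ∈ B := fun a ha => mem_sup_left (subset_closure ha)
  have mx : x ∈ B := mS _ (Or.inl rfl)
  have me : f * (r ^ j * c) ∈ B := mS _ (Or.inr (Or.inl rfl))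
  have mφ : φ ∈ B := mS _ (Or.inr (Or.inr (Or.inl rfl)))
  have mq : q ∈ B := mS _ (Or.inr (Or.inr (Or.inr (Or.inl rfl))))
  have mw : w ∈ B := mS _ (Or.inr (Or.inr (Or.inr (Or.inr rfl))))
  let B1 := B ⊓ centralizer ({x} : Set G)
  let B2 := B1 ⊓ centralizer ({f * (r ^ j * c)} : Set G)
  let B3 := B2 ⊓ F.M0
  let B4 := B3 ⊓ centralizer ({q} : Set G)
  let B5 := B4 ⊓ centralizer ({w} : Set G)
  have i1 : 2 * Nat.card B1 ≤ Nat.card B := by
    refine two_mul_card_le inf_le_left mw fun h1 => hfx ?_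
    rw [← P.wx]
    exact conj_eq_of_comm (mem_centralizer_singleton_iff.1 h1.2)
  have i2 : 2 * Nat.card B2 ≤ Nat.card B1 := by
    refine two_mul_card_le inf_le_left (a := q) ⟨mq, mem_centralizer_singleton_iff.2 hqx⟩ fun h1 => ?_
    have h2 := conj_eq_of_comm (mem_centralizer_singleton_iff.1 h1.2)
    rw [conj_mul3, P.qf, P.qv] at h2
    have h3 := mul_left_cancel h2
    apply F.z_ne
    exact (mul_eq_right (b := r ^ j * c)).1 h3
  have i3 : 2 * Nat.card B3 ≤ Nat.card B2 := by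
    refine two_mul_card_le inf_le_left (a := φ) ⟨⟨mφ, mem_centralizer_singleton_iff.2 (P.φE x hx)⟩,
      mem_centralizer_singleton_iff.2 (P.φE _ he)⟩ fun h1 => P.φM h1.2
  have i4 : 2 * Nat.card B4 ≤ Nat.card B3 := by
    refine two_mul_card_le inf_le_left (a := f * (r ^ j * c))
      ⟨⟨⟨me, mem_centralizer_singleton_iff.2 (h.EE_comm he hx)⟩, mem_centralizer_singleton_iff.2 rfl⟩,
        (F.mem_EE.1 he).1⟩ fun h1 => ?_
    have h2 := conj_eq_of_comm (mem_centralizer_singleton_iff.1 h1.2).symm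
    rw [conj_mul3, P.qf, P.qv] at h2
    have h3 := mul_left_cancel h2
    apply F.z_ne
    exact (mul_eq_right (b := r ^ j * c)).1 h3
  have i5 : 2 * Nat.card B5 ≤ Nat.card B4 := by
    refine two_mul_card_le inf_le_left (a := x)
      ⟨⟨⟨⟨mx, mem_centralizer_singleton_iff.2 rfl⟩, mem_centralizer_singleton_iff.2 (h.EE_comm hx he)⟩,
        (F.mem_EE.1 hx).1⟩, mem_centralizer_singleton_iff.2 hqx.symm⟩ fun h1 => hfx ?_
    rw [← P.wx]
    exact conj_eq_of_comm (mem_centralizer_singleton_iff.1 h1.2).symm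
  have i6 : Nat.card (WW F j q w) ≤ Nat.card B5 := by
    apply Nat.card_le_card_of_injective _ (inclusion_injective _)
    intro m hm
    obtain ⟨m1, m2, m3⟩ := mem_WW.1 hm
    exact ⟨⟨⟨⟨⟨mem_sup_right hm, mem_centralizer_singleton_iff.2 (h.EE_comm m1 hx)⟩,
      mem_centralizer_singleton_iff.2 (h.EE_comm m1 he)⟩, (F.mem_EE.1 m1).1⟩,
      mem_centralizer_singleton_iff.2 m2⟩, mem_centralizer_singleton_iff.2 m3⟩
  have i7 : 0 < Nat.card (WW F j q w) := Nat.card_pos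
  omega

end MF

end Frame

end Cfsg.Agent.GH.L2QTwo
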