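import Cfsg.Agent.GTwoFour.TransferTL

/-!
# GH-L2, `|Q| = 2`: transfer to a Sylow 2-subgroup of `C(x)` (transfer parity)

`T` a 2-subgroup of `C(x)` of odd index, `x` an involution of `T` lying in the kernel of every homomorphism
`G → A`, `φ : T → A` with `φ x ≠ 1`. Then some conjugate `u ≠ x` of `x` is central in `T` and `φ u ≠ 1`.
(`T` need not be a Sylow 2-subgroup of `G`.)
-/

set_option autoImplicit false

open Subgroup

namespace Cfsg.Agent.GH.L2QTwo.TP

variable {G : Type*} [Group G]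

/-- a conjugate `u` of `x` with `|C(u) : T ∩ C(u)|` odd is centralised by `T` -/
theorem central_of_odd [Finite G] {T : Subgroup G} (hT : IsPGroup 2 T) {x u : G} (hxu : IsConj x u)
    (hx : ∀ t ∈ T, x * t = t * x)
    (hodd' : Odd (T.relIndex (centralizer {u}))) : ∀ t ∈ T, u * t = t * u := by
  obtain ⟨g, hg⟩ := isConj_iff.1 hxu
  have hTx : T ≤ centralizer {x} := fun t ht => mem_centralizer_singleton_iff.2 (hx t ht).symm
  -- the centralisers have the same order
  have hcard : Nat.card (centralizer {u} : Subgroup G) = Nat.card (centralizer {x} : Subgroup G) := by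
    refine Nat.card_congr ⟨fun a => ⟨g⁻¹ * a.1 * g, ?_⟩, fun a => ⟨g * a.1 * g⁻¹, ?_⟩, ?_, ?_⟩
    · have ha := mem_centralizer_singleton_iff.1 a.2
      rw [mem_centralizer_singleton_iff]
      have : x = g⁻¹ * u * g := by rw [← hg]; group
      rw [this]
      calc g⁻¹ * a.1 * g * (g⁻¹ * u * g) = g⁻¹ * (a.1 * u) * g := by group
        _ = g⁻¹ * (u * a.1) * g := by rw [ha]
        _ = _ := by group
    · have ha := mem_centralizer_singleton_iff.1 a.2
      rw [mem_centralizer_singleton_iff, ← hg]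
      calc g * a.1 * g⁻¹ * (g * x * g⁻¹) = g * (a.1 * x) * g⁻¹ := by group
        _ = g * (x * a.1) * g⁻¹ := by rw [ha]
        _ = _ := by group
    · intro a; ext; simp; group
    · intro a; ext; simp; group
  -- `|T| · odd = |T ∩ C(u)| · odd`
  have h1 : Nat.card T * T.relIndex (centralizer {x}) = Nat.card (centralizer {x} : Subgroup G) := by
    have h := (T.subgroupOf (centralizer {x})).card_mul_index
    rw [Nat.card_congr (subgroupOfEquivOfLe hTx).toEquiv] at h
    exact h
  have h2 : Nat.card (T ⊓ centralizer {u} : Subgroup G) * T.relIndex (centralizer {u}) =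
      Nat.card (centralizer {u} : Subgroup G) := by
    have h := (T.subgroupOf (centralizer {u})).card_mul_index
    rw [← inf_subgroupOf_right,
      Nat.card_congr (subgroupOfEquivOfLe (inf_le_right : T ⊓ centralizer {u} ≤ _)).toEquiv,
      inf_subgroupOf_right] at h
    exact h
  have h3 : Nat.card (T ⊓ centralizer {u} : Subgroup G) = Nat.card T := by
    obtain ⟨m, hm⟩ := IsPGroup.iff_card.1 hT
    have hT' : IsPGroup 2 (T ⊓ centralizer {u} : Subgroup G) := hT.to_le inf_le_left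
    obtain ⟨l, hl⟩ := IsPGroup.iff_card.1 hT'
    apply Nat.dvd_antisymm (card_dvd_of_le inf_le_left)
    have hco : Nat.Coprime (Nat.card T) (T.relIndex (centralizer {u})) := by
      rw [hm]
      exact Nat.Coprime.pow_left _ (Nat.coprime_two_left.2 hodd')
    apply hco.dvd_of_dvd_mul_right
    rw [h2, hcard, ← h1]
    exact Dvd.intro _ rfl
  have h4 : (T ⊓ centralizer {u} : Subgroup G) = T :=
    Subgroup.eq_of_le_of_card_ge inf_le_left h3.ge
  intro t ht
  have : t ∈ (T ⊓ centralizer {u} : Subgroup G) := h4.symm ▸ ht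
  exact (mem_centralizer_singleton_iff.1 this.2).symm

/-- **(TP) for `P = T`**. -/
theorem exists_central [Finite G] {A : Type*} [CommGroup A] {T : Subgroup G} (hT : IsPGroup 2 T)
    {x : G} (xx : x * x = 1) (hxT : x ∈ T) (hx : ∀ t ∈ T, x * t = t * x)
    (hodd : Odd (T.relIndex (centralizer {x}))) (hG : ∀ f : G →* A, f x = 1) (φ : T →* A)
    (hφ : φ ⟨x, hxT⟩ ≠ 1) :
    ∃ u, ∃ hu : u ∈ T, IsConj x u ∧ (∀ t ∈ T, u * t = t * u) ∧ u ≠ x ∧ φ ⟨u, hu⟩ ≠ 1 := by
  obtain ⟨g, hg, h1, h2, h3⟩ := GTwoFour.TransferTL.exists_extremal T φ x hG xx hxT hφ hodd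
  have hc : IsConj x (g⁻¹ * x * g) := isConj_iff.2 ⟨g⁻¹, by group⟩
  refine ⟨g⁻¹ * x * g, hg, hc, central_of_odd hT hc hx h2, ?_, h1⟩
  intro h
  exact h3 1 T.one_mem (by rw [h]; group)

/-- If `x` and `f` are the only conjugates of `x` central in `T`, then `φ x ≠ 1` implies `φ f ≠ 1`. -/
theorem map_ne_one [Finite G] {A : Type*} [CommGroup A] {T : Subgroup G} (hT : IsPGroup 2 T)
    {x f : G} (xx : x * x = 1) (hxT : x ∈ T) (hfT : f ∈ T) (hx : ∀ t ∈ T, x * t = t * x)
    (hodd : Odd (T.relIndex (centralizer {x}))) (hG : ∀ f : G →* A, f x = 1)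
    (hc : ∀ u ∈ T, IsConj x u → (∀ t ∈ T, u * t = t * u) → u = x ∨ u = f) (φ : T →* A)
    (hφ : φ ⟨x, hxT⟩ ≠ 1) : φ ⟨f, hfT⟩ ≠ 1 := by
  obtain ⟨u, hu, h1, h2, h3, h4⟩ := exists_central hT xx hxT hx hodd hG φ hφ
  rcases hc u hu h1 h2 with h | h
  · exact absurd h h3
  · subst h; exact h4

end Cfsg.Agent.GH.L2QTwo.TP
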