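import Cfsg.Agent.GH.L2QTwo.MFMain
import Cfsg.Agent.GH.L2QTwo.TP

/-!
# GH-L2, `|Q| = 2`, configuration (M-f): the contradiction (transfer to `T = ⟨x, f⟩ × D`)
-/

set_option autoImplicit false
set_option linter.unusedVariables false
set_option linter.unusedSimpArgs false

open Subgroup
open Cfsg.Agent.TwoFusion.SectionalRank

namespace Cfsg.Agent.GH.L2QTwo

variable {G A : Type*} [Group G] [Group A]

namespace Frame

variable {x : G} {K T D : Subgroup G} {d : ℕ} {r c : G} {o1 : G → ℤˣ} {o2 : G → A} {f s : G}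

/-- a 2-subgroup of `L` containing a conjugate of every 2-subgroup of `L` has odd index in `L` -/
theorem odd_relIndex_of [Finite G] {T L : Subgroup G} (hTL : T ≤ L) (hT : IsPGroup 2 T)
    (hmax : ∀ P ≤ L, IsPGroup 2 P → Nat.card P ≤ Nat.card T) : Odd (T.relIndex L) := by
  have : Fact (Nat.Prime 2) := ⟨Nat.prime_two⟩
  have hT2 : IsPGroup 2 (T.subgroupOf L) := hT.of_equiv (subgroupOfEquivOfLe hTL).symm
  obtain ⟨P, hP⟩ := hT2.exists_le_sylow
  have h0 : Nat.card (T.subgroupOf L) = Nat.card T := Nat.card_congr (subgroupOfEquivOfLe hTL).toEquiv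
  have h1 : T.subgroupOf L = P.toSubgroup := by
    apply Subgroup.eq_of_le_of_card_ge hP
    have hle : P.toSubgroup.map L.subtype ≤ L := by
      rintro _ ⟨p, -, rfl⟩
      exact p.2
    have h2 := hmax _ hle (P.2.map _)
    have h3 : Nat.card (P.toSubgroup.map L.subtype) = Nat.card P.toSubgroup :=
      (Nat.card_congr (P.toSubgroup.equivMapOfInjective _ L.subtype_injective).toEquiv).symm
    rw [h3] at h2
    rw [h0]
    exact h2
  have h2 : ¬ 2 ∣ P.toSubgroup.index := P.not_dvd_index
  have h3 : T.relIndex L = P.toSubgroup.index := by rw [← h1]; rfl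
  rw [h3]
  exact Nat.not_even_iff_odd.1 fun h4 => h2 (even_iff_two_dvd.1 h4)

/-- `|C(x) : T|` is odd -/
theorem odd_relIndex [Finite G] (F : Frame x K T D d r c o1 o2) :
    Odd (T.relIndex (centralizer ({x} : Set G))) :=
  odd_relIndex_of (fun t ht => mem_centralizer_singleton_iff.2 (F.T_comm t ht).symm) F.T_two
    fun P hP hP2 => F.card_le (IsConj.refl x) hP2 fun p hp => mem_centralizer_singleton_iff.1 (hP hp)

namespace MF

variable {F : Frame x K T D d r c o1 o2} {j1 j2 : ℤ} {ρ1 ρ2 : G}

/-- `⟨f⟩ × D` -/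
def fD [Finite G] (h : F.MF f s) : Subgroup G where
  carrier := {t | t ∈ D ∨ f * t ∈ D}
  one_mem' := Or.inl D.one_mem
  mul_mem' := by
    rintro a b (ha | ha) (hb | hb)
    · exact Or.inl (D.mul_mem ha hb)
    · right
      have : f * (a * b) = a * (f * b) := by
        rw [← mul_assoc, h.fld.cent a ha, mul_assoc]
      rw [this]; exact D.mul_mem ha hb
    · right
      rw [← mul_assoc]; exact D.mul_mem ha hb
    · left
      have h1 : f * (f * a) = (f * a) * f := h.fld.cent _ ha
      rw [← mul_assoc, h.fld.sq, one_mul] at h1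
      have : a * b = (f * a) * (f * b) := by
        rw [← mul_assoc, ← h1]
      rw [this]; exact D.mul_mem ha hb
  inv_mem' := by
    rintro a (ha | ha)
    · exact Or.inl (D.inv_mem ha)
    · right
      have h1 : f * (f * a) = (f * a) * f := h.fld.cent _ ha
      rw [← mul_assoc, h.fld.sq, one_mul] at h1
      have h2 : f * a⁻¹ = (f * a)⁻¹ := by
        have finv : f⁻¹ = f := inv_eq_of_mul_eq_one_right h.fld.sq
        rw [mul_inv_rev, finv]
        have h3 : a * f = f * a := by
          nth_rewrite 1 [h1]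
          rw [mul_assoc, h.fld.sq, mul_one]
        have h4 : Commute a f := h3
        exact h4.inv_left.symm
      rw [h2]; exact D.inv_mem ha

theorem mem_fD [Finite G] (h : F.MF f s) {t : G} : t ∈ h.fD ↔ t ∈ D ∨ f * t ∈ D := Iff.rfl

theorem x_not_fD [Finite G] (h : F.MF f s) : x ∉ h.fD := by
  rintro (h1 | h1)
  · exact F.x_not h1
  · apply h.fld.ne
    have h2 := F.o2_D h1
    rwa [F.o2_mul' h.fld.mem F.x_mem, F.o2_x, mul_one] at h2

theorem mem_or [Finite G] (h : F.MF f s) {t : G} (ht : t ∈ F.M0) : t ∈ h.fD ∨ x * t ∈ h.fD := by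
  obtain ⟨e, he, ζ, hζ, rfl⟩ := h.fld.form ht
  rcases hζ with h1 | h1 | h1 | h1 <;> rw [h1]
  · left; left; rwa [one_mul]
  · right; left; rwa [← mul_assoc, F.xx, one_mul]
  · left; right; rwa [← mul_assoc, h.fld.sq, one_mul]
  · right; right
    have : f * (x * (x * f * e)) = e := by
      calc f * (x * (x * f * e)) = f * ((x * x) * f * e) := by group
        _ = (f * f) * e := by rw [F.xx, one_mul]; group
        _ = e := by rw [h.fld.sq, one_mul]
    rwa [this]

theorem f_fD [Finite G] (h : F.MF f s) : f ∈ h.fD := by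
  right; rw [h.fld.sq]; exact D.one_mem

/-- (M-f) is impossible -/
theorem false [Finite G] (h : F.MF f s)
    (hA : ∀ a ∈ T, ∀ b ∈ T, o2 a * o2 b = o2 b * o2 a)
    (hr : ∀ A B : Subgroup G, ElemSection 2 A B → Nat.card A ≤ 2 ^ 4 * Nat.card B)
    (hG : ∀ φ : G →* ℤˣ, φ x = 1) : False := by
  classical
  obtain ⟨j1, j2, ρ1, ρ2, R⟩ := h.exists_rho
  have hT := h.T_le_M0 R hA hr
  have key : ∀ a ∈ T, ∀ b ∈ T, (a * b ∈ h.fD ↔ (a ∈ h.fD ↔ b ∈ h.fD)) := by
    intro a ha b hb
    by_cases h1 : a ∈ h.fD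
    · simp only [h1, true_iff]
      exact ⟨fun h2 => by
        have : b = a⁻¹ * (a * b) := by group
        rw [this]; exact h.fD.mul_mem (h.fD.inv_mem h1) h2, fun h2 => h.fD.mul_mem h1 h2⟩
    · simp only [h1, false_iff]
      have h2 : x * a ∈ h.fD := (h.mem_or (hT ha)).resolve_left h1
      constructor
      · intro h3 h4
        apply h1
        have : a = a * b * b⁻¹ := by group
        rw [this]; exact h.fD.mul_mem h3 (h.fD.inv_mem h4)
      · intro h3
        have h4 : x * b ∈ h.fD := (h.mem_or (hT hb)).resolve_left h3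
        have : a * b = (x * a) * (x * b) := by
          calc a * b = (x * x) * (a * b) := by rw [F.xx, one_mul]
            _ = x * (x * a) * b := by group
            _ = x * (a * x) * b := by rw [F.T_comm a ha]
            _ = (x * a) * (x * b) := by group
        rw [this]; exact h.fD.mul_mem h2 h4
  let φ : T →* ℤˣ := MonoidHom.mk' (fun t => if (t : G) ∈ h.fD then 1 else -1) (by
    intro a b
    have hk := key a a.2 b b.2
    change (if (a : G) * b ∈ h.fD then (1 : ℤˣ) else -1) = _
    by_cases ha : (a : G) ∈ h.fD <;> by_cases hb : (b : G) ∈ h.fD <;>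
      simp [ha, hb, hk])
  have hφ : φ ⟨x, F.x_mem⟩ ≠ 1 := by
    change (if x ∈ h.fD then (1 : ℤˣ) else -1) ≠ 1
    rw [if_neg h.x_not_fD]; decide
  have hc : ∀ u ∈ T, IsConj x u → (∀ t ∈ T, u * t = t * u) → u = x ∨ u = f := by
    intro u hu hxu huc
    rcases h.cls R (hT hu) hxu with h1 | h1 | ⟨j, -, h1⟩
    · exact Or.inl h1
    · exact Or.inr h1
    · exfalso
      have h2 := huc r F.r_T
      rw [h1] at h2
      have h3 : f * (r ^ j * c * r) = f * (r ^ (1 + j) * c) := by
        rw [zpow_add, zpow_one]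
        calc f * (r ^ j * c * r) = f * (r ^ j * c) * r := by group
          _ = r * (f * (r ^ j * c)) := h2
          _ = (r * f) * (r ^ j * c) := by group
          _ = (f * r) * (r ^ j * c) := by rw [h.fld.cent r F.r_mem]
          _ = f * (r * r ^ j * c) := by group
      have h4 := mul_left_cancel h3
      have h5 : r ^ j * c * r = r ^ (j - 1) * c := by
        have := F.c_rk 1
        rw [zpow_one] at this
        rw [mul_assoc, this, ← mul_assoc, ← zpow_add, sub_eq_add_neg]
      rw [h5] at h4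
      have h6 := mul_right_cancel h4
      rw [F.rk_eq] at h6
      have h7 : (2 : ℤ) ^ 2 ∣ 2 ^ (d - 1) := pow_dvd_pow 2 (by have := h.hd; omega)
      have h8 := h7.trans h6
      have : j - 1 - (1 + j) = -2 := by ring
      rw [this] at h8
      norm_num at h8
  have h1 := TP.map_ne_one F.T_two F.xx F.x_mem h.fld.mem F.T_comm F.odd_relIndex hG hc φ hφ
  apply h1
  change (if f ∈ h.fD then (1 : ℤˣ) else -1) = 1
  rw [if_pos h.f_fD]

end MF

end Frame

end Cfsg.Agent.GH.L2QTwo
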