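import Cfsg.Agent.TwoFusion.SectionalRank

/-!
# GH-L2, `|Q| = 2`: two general lemmas (elementary sections from generators; Sylow in a subgroup)
-/

set_option autoImplicit false
set_option linter.unusedVariables false

open Subgroup
open Cfsg.Agent.TwoFusion.SectionalRank

namespace Cfsg.Agent.GH.L2QTwo

variable {G : Type*} [Group G]

/-- elements of the normalizer of `B` commuting with `g` modulo `B` -/
def cmodB (B : Subgroup G) (g : G) (hg : g ∈ normalizer (B : Set G)) : Subgroup G where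
  carrier := {h | h ∈ normalizer (B : Set G) ∧ g * h * g⁻¹ * h⁻¹ ∈ B}
  one_mem' := ⟨Subgroup.one_mem _, by
    have : g * 1 * g⁻¹ * 1⁻¹ = 1 := by group
    rw [this]; exact B.one_mem⟩
  mul_mem' := by
    rintro a b ⟨ha, ha'⟩ ⟨hb, hb'⟩
    refine ⟨Subgroup.mul_mem _ ha hb, ?_⟩
    have : g * (a * b) * g⁻¹ * (a * b)⁻¹ = (g * a * g⁻¹ * a⁻¹) * (a * (g * b * g⁻¹ * b⁻¹) * a⁻¹) := by group
    rw [this]
    exact B.mul_mem ha' ((mem_normalizer_iff.1 ha _).1 hb')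
  inv_mem' := by
    rintro a ⟨ha, ha'⟩
    refine ⟨Subgroup.inv_mem _ ha, ?_⟩
    have : g * a⁻¹ * g⁻¹ * a⁻¹⁻¹ = (a⁻¹ * (g * a * g⁻¹ * a⁻¹)⁻¹ * a⁻¹⁻¹) := by group
    rw [this]
    exact (mem_normalizer_iff.1 (Subgroup.inv_mem _ ha) _).1 (B.inv_mem ha')

/-- an elementary abelian section from generators -/
theorem elemSection_gen {B : Subgroup G} {S : Set G} (hn : ∀ a ∈ S, a ∈ normalizer (B : Set G))
    (hcc : ∀ a ∈ S, ∀ b ∈ S, a * b * a⁻¹ * b⁻¹ ∈ B) (hsq : ∀ a ∈ S, a * a ∈ B) :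
    ElemSection 2 (closure S ⊔ B) B := by
  have hB : B ≤ normalizer (B : Set G) := le_normalizer
  have hS : closure S ≤ normalizer (B : Set G) := (closure_le _).2 hn
  have hA : closure S ⊔ B ≤ normalizer (B : Set G) := sup_le hS hB
  -- `[S, A] ≤ B`
  have h1 : ∀ a ∈ S, ∀ b ∈ closure S ⊔ B, a * b * a⁻¹ * b⁻¹ ∈ B := by
    intro a ha b hb
    have h2 : closure S ⊔ B ≤ cmodB B a (hn a ha) := by
      refine sup_le ((closure_le _).2 fun c hc => ⟨hn c hc, hcc a ha c hc⟩) fun c hc => ⟨hB hc, ?_⟩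
      exact B.mul_mem ((mem_normalizer_iff.1 (hn a ha) _).1 hc) (B.inv_mem hc)
    exact (h2 hb).2
  have h2 : ∀ a ∈ closure S ⊔ B, ∀ b ∈ closure S ⊔ B, a * b * a⁻¹ * b⁻¹ ∈ B := by
    intro a ha b hb
    have h3 : closure S ⊔ B ≤ cmodB B b (hA hb) := by
      refine sup_le ((closure_le _).2 fun c hc => ⟨hn c hc, ?_⟩) fun c hc => ⟨hB hc, ?_⟩
      · have h4 := B.inv_mem (h1 c hc b hb)
        have : (c * b * c⁻¹ * b⁻¹)⁻¹ = b * c * b⁻¹ * c⁻¹ := by group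
        rwa [this] at h4
      · exact B.mul_mem ((mem_normalizer_iff.1 (hA hb) _).1 hc) (B.inv_mem hc)
    have h4 := B.inv_mem (h3 ha).2
    have : (b * a * b⁻¹ * a⁻¹)⁻¹ = a * b * a⁻¹ * b⁻¹ := by group
    rwa [this] at h4
  refine ⟨le_sup_right, h2, ?_⟩
  -- squares
  let Q : Subgroup G :=
    { carrier := {a | a ∈ closure S ⊔ B ∧ a * a ∈ B}
      one_mem' := ⟨Subgroup.one_mem _, by rw [one_mul]; exact B.one_mem⟩
      mul_mem' := by
        rintro a b ⟨ha, ha'⟩ ⟨hb, hb'⟩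
        refine ⟨Subgroup.mul_mem _ ha hb, ?_⟩
        have : a * b * (a * b) = (a * (b * a * b⁻¹ * a⁻¹) * a⁻¹) * ((a * a) * (b * b)) := by group
        rw [this]
        exact B.mul_mem ((mem_normalizer_iff.1 (hA ha) _).1 (h2 b hb a ha)) (B.mul_mem ha' hb')
      inv_mem' := by
        rintro a ⟨ha, ha'⟩
        refine ⟨Subgroup.inv_mem _ ha, ?_⟩
        have : a⁻¹ * a⁻¹ = (a * a)⁻¹ := by group
        rw [this]; exact B.inv_mem ha' }
  intro a ha
  rw [pow_two]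
  have h3 : closure S ⊔ B ≤ Q := by
    refine sup_le ((closure_le _).2 fun c hc => ⟨mem_sup_left (subset_closure hc), hsq c hc⟩) fun c hc => ?_
    exact ⟨mem_sup_right hc, B.mul_mem hc hc⟩
  exact (h3 ha).2

/-- a 2-subgroup of `L` of the largest order: all 2-subgroups of `L` are conjugate into it -/
theorem exists_conj_le [Finite G] {L P Q : Subgroup G} (hP : P ≤ L) (hp : IsPGroup 2 P)
    (hmax : ∀ Q ≤ L, IsPGroup 2 Q → Nat.card Q ≤ Nat.card P) (hQ : Q ≤ L) (hq : IsPGroup 2 Q) :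
    ∃ l ∈ L, ∀ q ∈ Q, l * q * l⁻¹ ∈ P := by
  haveI : Fact (Nat.Prime 2) := ⟨Nat.prime_two⟩
  have hp' : IsPGroup 2 (P.subgroupOf L) := hp.of_equiv (subgroupOfEquivOfLe hP).symm
  have hq' : IsPGroup 2 (Q.subgroupOf L) := hq.of_equiv (subgroupOfEquivOfLe hQ).symm
  obtain ⟨SP, hSP⟩ := hp'.exists_le_sylow
  obtain ⟨SQ, hSQ⟩ := hq'.exists_le_sylow
  have h1 : P.subgroupOf L = (SP : Subgroup L) := by
    apply Subgroup.eq_of_le_of_card_ge hSP
    have h2 : Nat.card ((SP : Subgroup L).map L.subtype) ≤ Nat.card P := by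
      apply hmax
      · rintro _ ⟨a, -, rfl⟩
        exact a.2
      · exact SP.2.map _
    rw [Nat.card_congr ((SP : Subgroup L).equivMapOfInjective _ L.subtype_injective).symm.toEquiv] at h2
    rwa [Nat.card_congr (subgroupOfEquivOfLe hP).toEquiv]
  obtain ⟨l, hl⟩ := MulAction.exists_smul_eq L SQ SP
  refine ⟨l, l.2, fun q hq1 => ?_⟩
  have h3 : (⟨q, hQ hq1⟩ : L) ∈ (SQ : Subgroup L) := hSQ hq1
  have h4 : l * ⟨q, hQ hq1⟩ * l⁻¹ ∈ (SP : Subgroup L) := by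
    rw [← hl]
    exact Subgroup.smul_mem_pointwise_smul _ (MulAut.conj l) (SQ : Subgroup L) h3
  rw [← h1] at h4
  exact h4

end Cfsg.Agent.GH.L2QTwo
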