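import Cfsg.Agent.GH.L2QTwo.MFSyl

/-!
# GH-L2, `|Q| = 2`, configuration (M-f): `T = M₀`

`φ ∈ C_T(F₂) - M₀`, `φ² ∈ M₀`, gives `φ² = xfz`, and `⟨F₂, φ, d, w⟩ / ⟨z, xf⟩` is elementary abelian of
order 32 (`d`, `w` induce the transpositions `(e₃ e₄)` and `(e₁ e₂)` on `x^G ∩ F₂ = {e₁, e₂, e₃, e₄}`).
-/

set_option autoImplicit false
set_option linter.unusedVariables false
set_option linter.unusedSimpArgs false

open Subgroup
open Cfsg.Agent.TwoFusion.SectionalRank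

namespace Cfsg.Agent.GH.L2QTwo

variable {G A : Type*} [Group G] [Group A]

namespace Frame

variable {x : G} {K T D : Subgroup G} {d : ℕ} {r c : G} {o1 : G → ℤˣ} {o2 : G → A} {f s : G}

namespace MF

variable {F : Frame x K T D d r c o1 o2} {j1 j2 : ℤ} {ρ1 ρ2 : G}

theorem x_EE (h : F.MF f s) (j : ℤ) : x ∈ F.EE j := h.fld.zeta_EE j (Or.inr (Or.inl rfl))

theorem f_EE (h : F.MF f s) (j : ℤ) : f ∈ F.EE j := h.fld.zeta_EE j (Or.inr (Or.inr (Or.inl rfl)))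

theorem e3_EE (h : F.MF f s) (j : ℤ) : f * (r ^ j * c) ∈ F.EE j := (F.EE j).mul_mem (h.f_EE j) (F.v_EE j)

theorem f_ne_x (h : F.MF f s) : f ≠ x := by
  intro h3
  apply h.fld.ne
  rw [h3, F.o2_x]

theorem o2_fe (h : F.MF f s) {e : G} (he : e ∈ D) : o2 (f * e) = o2 f := by
  rw [F.o2_mul' h.fld.mem (F.D_le he), F.o2_D he, mul_one]

theorem fe_ne_x (h : F.MF f s) {e : G} (he : e ∈ D) : f * e ≠ x := by
  intro h3
  apply h.fld.ne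
  rw [← h.o2_fe he, h3, F.o2_x]

theorem fe_ne_f {f e : G} (he : e ≠ 1) : f * e ≠ f := by
  intro h3
  apply he
  exact mul_left_cancel (a := f) (by rw [h3, mul_one])

/-- `x^G ∩ F₂` -/
theorem XE [Finite G] (h : F.MF f s) (R : F.Rho f j1 j2 ρ1 ρ2) {m : G} (hm : m ∈ F.EE j2)
    (hc : IsConj x m) : m = x ∨ m = f ∨ m = f * (r ^ j2 * c) ∨ m = f * (r ^ 2 ^ (d - 2) * (r ^ j2 * c)) := by
  rcases h.cls R (F.mem_EE.1 hm).1 hc with h1 | h1 | ⟨i, hi, h1⟩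
  · exact Or.inl h1
  · exact Or.inr (Or.inl h1)
  · right; right
    rw [h1] at hm
    have h3 : r ^ i * c ∈ F.EE j2 := by
      have := (F.EE j2).mul_mem (h.f_EE j2) hm
      rwa [← mul_assoc, h.fld.sq, one_mul] at this
    rcases F.D_comm (F.refl_mem i) (F.mem_EE.1 h3).2 with h4 | h4 | h4 | h4
    · exact absurd h4 (F.refl_ne_one i)
    · rw [F.zz] at h4; exact absurd h4 (F.refl_ne i _)
    · left; rw [h1, h4]
    · right; rw [h1, h4]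

/-- elements of `N(F₂) ∩ C(z) ∩ C(xf)` permute `{x, f}` and `{e₃, e₄}` -/
theorem perm [Finite G] (h : F.MF f s) (R : F.Rho f j1 j2 ρ1 ρ2) {g : G}
    (hg : ∀ m ∈ F.EE j2, g * m * g⁻¹ ∈ F.EE j2) (hz : g * r ^ 2 ^ (d - 2) * g⁻¹ = r ^ 2 ^ (d - 2))
    (hxf : g * (x * f) * g⁻¹ = x * f) :
    (g * x * g⁻¹ = x ∧ g * f * g⁻¹ = f ∨ g * x * g⁻¹ = f ∧ g * f * g⁻¹ = x) ∧
    (g * (f * (r ^ j2 * c)) * g⁻¹ = f * (r ^ j2 * c) ∨
      g * (f * (r ^ j2 * c)) * g⁻¹ = f * (r ^ 2 ^ (d - 2) * (r ^ j2 * c))) := by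
  have inj : ∀ a b : G, a ≠ b → g * a * g⁻¹ ≠ g * b * g⁻¹ := fun a b hab h2 =>
    hab (mul_left_cancel (mul_right_cancel h2))
  -- the image of `f` from the image of `x`
  have hf : g * f * g⁻¹ = g * x * g⁻¹ * (x * f) := by
    rw [← hxf, conj_mul_conj, ← mul_assoc x, F.xx, one_mul]
  have hv := F.refl_mem (x := x) (K := K) (T := T) (D := D) (d := d) (o1 := o1) (o2 := o2) j2
  have hzv : r ^ 2 ^ (d - 2) * (r ^ j2 * c) ∈ D := D.mul_mem F.z_mem hv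
  -- `x v`, `x z v` are not conjugate to `x`
  have key : ∀ e ∈ D, e ≠ 1 → ¬ IsConj x (x * e) ∨ True := fun _ _ _ => Or.inr trivial
  have no : ∀ e ∈ D, e ≠ 1 → x * e ∈ F.EE j2 → ¬ IsConj x (x * e) := by
    intro e he he1 hm hc
    rcases h.XE R hm hc with h1 | h1 | h1 | h1
    · exact he1 (mul_left_cancel (a := x) (by rw [h1, mul_one]))
    · apply h.fld.ne
      rw [← h1, F.o2_mul' F.x_mem (F.D_le he), F.o2_x, F.o2_D he, one_mul]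
    · apply h.fld.ne
      rw [← h.o2_fe hv, ← h1, F.o2_mul' F.x_mem (F.D_le he), F.o2_x, F.o2_D he, one_mul]
    · apply h.fld.ne
      rw [← h.o2_fe hzv, ← h1, F.o2_mul' F.x_mem (F.D_le he), F.o2_x, F.o2_D he, one_mul]
  have hne : r ^ 2 ^ (d - 2) * (r ^ j2 * c) ≠ 1 := by
    rw [F.zz, ← mul_assoc, ← zpow_add]; exact F.refl_ne_one _
  have swap : ∀ e ∈ D, e ≠ 1 → f * e ∈ F.EE j2 → g * x * g⁻¹ ≠ f * e := by
    intro e he he1 hm h1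
    have h2 : g * f * g⁻¹ = x * e := by
      rw [hf, h1]
      calc f * e * (x * f) = f * (e * x) * f := by group
        _ = f * (x * e) * f := by rw [F.x_comm_D he]
        _ = (f * x) * (e * f) := by group
        _ = (x * f) * (f * e) := by rw [h.fld.fx, h.fld.cent e he]
        _ = x * (f * f) * e := by group
        _ = x * e := by rw [h.fld.sq, mul_one]
    have h3 : IsConj x (x * e) := by rw [← h2]; exact conj_iff.2 h.pf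
    refine no e he he1 ?_ h3
    have h4 : e ∈ F.EE j2 := by
      have := (F.EE j2).mul_mem (h.f_EE j2) hm
      rwa [← mul_assoc, h.fld.sq, one_mul] at this
    exact (F.EE j2).mul_mem (h.x_EE j2) h4
  have hzvE : f * (r ^ 2 ^ (d - 2) * (r ^ j2 * c)) ∈ F.EE j2 :=
    (F.EE j2).mul_mem (h.f_EE j2) ((F.EE j2).mul_mem (F.z_EE j2) (F.v_EE j2))
  have hx : g * x * g⁻¹ = x ∨ g * x * g⁻¹ = f := by
    rcases h.XE R (hg x (h.x_EE j2)) (conj_iff.2 (IsConj.refl x)) with h1 | h1 | h1 | h1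
    · exact Or.inl h1
    · exact Or.inr h1
    · exact absurd h1 (swap _ hv (F.refl_ne_one j2) (h.e3_EE j2))
    · exact absurd h1 (swap _ hzv hne hzvE)
  have hxf' : g * x * g⁻¹ = x ∧ g * f * g⁻¹ = f ∨ g * x * g⁻¹ = f ∧ g * f * g⁻¹ = x := by
    rcases hx with h1 | h1
    · left
      refine ⟨h1, ?_⟩
      rw [hf, h1, ← mul_assoc, F.xx, one_mul]
    · right
      refine ⟨h1, ?_⟩
      rw [hf, h1, ← h.fld.fx, ← mul_assoc, h.fld.sq, one_mul]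
  refine ⟨hxf', ?_⟩
  rcases h.XE R (hg _ (h.e3_EE j2)) (conj_iff.2 (h.pv R)) with h1 | h1 | h1 | h1
  · exfalso
    rcases hxf' with ⟨h2, h3⟩ | ⟨h2, h3⟩
    · exact inj _ _ (h.fe_ne_x hv) (h1.trans h2.symm)
    · exact inj _ _ (fe_ne_f (F.refl_ne_one j2)) (h1.trans h3.symm)
  · exfalso
    rcases hxf' with ⟨h2, h3⟩ | ⟨h2, h3⟩
    · exact inj _ _ (fe_ne_f (F.refl_ne_one j2)) (h1.trans h3.symm)
    · exact inj _ _ (h.fe_ne_x hv) (h1.trans h2.symm)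
  · exact Or.inl h1
  · exact Or.inr h1

/-- the element `d` inducing `(e₃ e₄)`: a reflection of `D` -/
theorem d_conj (F : Frame x K T D d r c o1 o2) (hd : 3 ≤ d) (j : ℤ) :
    (r ^ (j + 2 ^ (d - 3)) * c) * (r ^ j * c) * (r ^ (j + 2 ^ (d - 3)) * c)⁻¹ =
      r ^ 2 ^ (d - 2) * (r ^ j * c) := by
  have h1 : (r ^ (j + 2 ^ (d - 3)) * c)⁻¹ = r ^ (j + 2 ^ (d - 3)) * c :=
    inv_eq_of_mul_eq_one_right (F.refl_sq _)
  rw [h1, F.zz]
  calc r ^ (j + 2 ^ (d - 3)) * c * (r ^ j * c) * (r ^ (j + 2 ^ (d - 3)) * c) =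
      r ^ (j + 2 ^ (d - 3)) * (c * r ^ j) * (c * r ^ (j + 2 ^ (d - 3))) * c := by group
    _ = r ^ (j + 2 ^ (d - 3)) * (r ^ (-j) * c) * (r ^ (-(j + 2 ^ (d - 3))) * c) * c := by
        rw [F.c_rk, F.c_rk]
    _ = r ^ (j + 2 ^ (d - 3)) * r ^ (-j) * (c * r ^ (-(j + 2 ^ (d - 3)))) * (c * c) := by group
    _ = r ^ (j + 2 ^ (d - 3)) * r ^ (-j) * (r ^ (- -(j + 2 ^ (d - 3))) * c) * (c * c) := by
        rw [F.c_rk]
    _ = r ^ (j + 2 ^ (d - 3)) * r ^ (-j) * r ^ (- -(j + 2 ^ (d - 3))) * c := by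
        rw [F.cc, mul_one]; group
    _ = r ^ ((2 : ℤ) ^ (d - 2)) * (r ^ j * c) := by
        rw [← zpow_add, ← zpow_add, ← mul_assoc, ← zpow_add]
        congr 2
        have : d - 2 = (d - 3) + 1 := by omega
        rw [this, pow_succ]
        ring

theorem e4_eq (h : F.MF f s) (j : ℤ) : f * (r ^ 2 ^ (d - 2) * (r ^ j * c)) =
    r ^ 2 ^ (d - 2) * (f * (r ^ j * c)) := by
  rw [← mul_assoc, h.fld.cent _ F.z_mem, mul_assoc]

/-- the rotated `s`: induces `(e₁ e₂)` on `F₂` -/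
theorem exists_s [Finite G] (h : F.MF f s) (R : F.Rho f j1 j2 ρ1 ρ2) :
    ∃ s', s' ∈ T ⊔ zpowers s ∧ (∀ t ∈ T, s' * t * s'⁻¹ ∈ T) ∧ (∀ m ∈ F.EE j2, s' * m * s'⁻¹ ∈ F.EE j2) ∧
      s' * x * s'⁻¹ = f ∧ s' * f * s'⁻¹ = x ∧ s' * r ^ 2 ^ (d - 2) * s'⁻¹ = r ^ 2 ^ (d - 2) ∧
      s' * (f * (r ^ j2 * c)) * s'⁻¹ = f * (r ^ j2 * c) := by
  obtain ⟨a, ha⟩ := h.to_EE R (g := s) fun m hm => h.out.norm m (F.mem_EE.1 hm).1.1
  have hs1 : s ∈ T ⊔ zpowers s := mem_sup_right (mem_zpowers s)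
  have key : ∀ k : ℤ, (r ^ k * s ∈ T ⊔ zpowers s) ∧ (∀ t ∈ T, r ^ k * s * t * (r ^ k * s)⁻¹ ∈ T) ∧
      r ^ k * s * x * (r ^ k * s)⁻¹ = f ∧ r ^ k * s * f * (r ^ k * s)⁻¹ = x ∧
      r ^ k * s * r ^ 2 ^ (d - 2) * (r ^ k * s)⁻¹ = r ^ 2 ^ (d - 2) := by
    intro k
    have hr := F.D_le (F.r_rk k)
    have e : ∀ y, r ^ k * s * y * (r ^ k * s)⁻¹ = r ^ k * (s * y * s⁻¹) * (r ^ k)⁻¹ := by
      intro y; group
    refine ⟨mul_mem (mem_sup_left hr) hs1, fun t ht => ?_, ?_, ?_, ?_⟩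
    · rw [e]; exact T.mul_mem (T.mul_mem hr (h.out.norm t ht)) (T.inv_mem hr)
    · rw [e, h.sx]; exact conj_eq_of_comm (h.fld.cent _ (F.r_rk k)).symm
    · rw [e, h.sf]; exact conj_eq_of_comm (F.x_comm_D (F.r_rk k)).symm
    · rw [e, h.sz]; exact conj_eq_of_comm (F.z_comm (F.r_rk k)).symm
  obtain ⟨k1, k2, k3, k4, k5⟩ := key a
  have hxf : r ^ a * s * (x * f) * (r ^ a * s)⁻¹ = x * f := by
    rw [conj_mul3, k3, k4, h.fld.fx]
  rcases (h.perm R ha k5 hxf).2 with h1 | h1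
  · exact ⟨r ^ a * s, k1, k2, ha, k3, k4, k5, h1⟩
  · obtain ⟨l1, l2, l3, l4, l5⟩ := key (2 ^ (d - 3) + a)
    have e : ∀ y, r ^ (2 ^ (d - 3) + a) * s * y * (r ^ (2 ^ (d - 3) + a) * s)⁻¹ =
        r ^ (2 ^ (d - 3) : ℤ) * (r ^ a * s * y * (r ^ a * s)⁻¹) * (r ^ (2 ^ (d - 3) : ℤ))⁻¹ := by
      intro y; rw [zpow_add]; group
    have hd := h.hd
    have e2 : j2 + 2 * 2 ^ (d - 3) = 2 ^ (d - 2) + j2 := by
      have : d - 2 = (d - 3) + 1 := by omega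
      rw [this, pow_succ]; ring
    have e3 : ∀ k : ℤ, r ^ (k + (2 : ℤ) ^ (d - 2) + (2 : ℤ) ^ (d - 2)) = r ^ k := by
      intro k
      rw [F.rk_eq]
      have : d - 1 = (d - 2) + 1 := by omega
      rw [this, pow_succ]
      exact ⟨1, by ring⟩
    refine ⟨r ^ (2 ^ (d - 3) + a) * s, l1, l2, fun m hm => ?_, l3, l4, l5, ?_⟩
    · rw [e]
      -- conjugation by `r^(2^(d-3))` normalises `EE j2`
      have h2 := h.rot_EE (2 ^ (d - 3)) (ha m hm)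
      rw [e2] at h2
      obtain ⟨h3, h4⟩ := F.mem_EE.1 h2
      refine F.mem_EE.2 ⟨h3, ?_⟩
      -- commuting with `z v` and `z` gives commuting with `v`
      have h5 : Commute (r ^ (2 ^ (d - 3) : ℤ) * (r ^ a * s * m * (r ^ a * s)⁻¹) * (r ^ (2 ^ (d - 3) : ℤ))⁻¹)
          (r ^ ((2 : ℤ) ^ (d - 2) + j2) * c) := h4
      have h6 : Commute (r ^ (2 ^ (d - 3) : ℤ) * (r ^ a * s * m * (r ^ a * s)⁻¹) * (r ^ (2 ^ (d - 3) : ℤ))⁻¹)
          (r ^ 2 ^ (d - 2)) := F.z_comm_T hd h3.1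
      have h7 := h6.mul_right h5
      have e4 : r ^ 2 ^ (d - 2) * (r ^ ((2 : ℤ) ^ (d - 2) + j2) * c) = r ^ j2 * c := by
        rw [F.zz, ← mul_assoc, ← zpow_add]
        congr 1
        rw [← e3 j2]
        congr 1; ring
      rw [e4] at h7
      exact h7
    · rw [e, h1, conj_mul3, conj_mul3, conj_eq_of_comm (h.fld.cent _ (F.r_rk _)).symm,
        conj_eq_of_comm (F.z_comm (F.r_rk _)).symm, rot_conj F, e2, F.zz]
      congr 1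
      rw [← mul_assoc, ← zpow_add]
      congr 1
      rw [← e3 j2]
      congr 1; ring

/-- Frattini argument in `N(F₂)` -/
theorem frattini [Finite G] (h : F.MF f s) (R : F.Rho f j1 j2 ρ1 ρ2) {g : G}
    (hg : ∀ m ∈ F.EE j2, g * m * g⁻¹ ∈ F.EE j2) :
    ∃ k : G, (∀ m ∈ F.EE j2, k * m = m * k) ∧ ∀ u ∈ F.CT j2, k * g * u * (k * g)⁻¹ ∈ F.CT j2 := by
  let L : Subgroup G := centralizer (F.EE j2 : Set G)
  have hL : ∀ l, l ∈ L ↔ ∀ m ∈ F.EE j2, l * m = m * l := by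
    intro l
    constructor
    · intro hl m hm
      exact (mem_centralizer_iff.1 hl m hm).symm
    · intro hl
      exact mem_centralizer_iff.2 fun m hm => (hl m hm).symm
  have hCT : F.CT j2 ≤ L := fun u hu => (hL u).2 fun m hm => h.CT_comm hu hm
  have hmax : ∀ Q ≤ L, IsPGroup 2 Q → Nat.card Q ≤ Nat.card (F.CT j2) := by
    intro Q hQ hQ2
    exact h.card_CT R hQ2 fun p hp m hm => (hL p).1 (hQ hp) m hm
  have hgL : (F.CT j2).map (MulAut.conj g).toMonoidHom ≤ L := by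
    rintro _ ⟨u, hu, rfl⟩
    rw [hL]
    intro m hm
    obtain ⟨m', hm', h1⟩ := conj_surj hg m hm
    change g * u * g⁻¹ * m = m * (g * u * g⁻¹)
    rw [← h1, conj_mul_conj, conj_mul_conj, h.CT_comm hu hm']
  obtain ⟨k, hk, hk2⟩ := exists_conj_le hCT (F.T_two.to_le inf_le_left) hmax hgL
    ((F.T_two.to_le inf_le_left).map _)
  refine ⟨k, (hL k).1 hk, fun u hu => ?_⟩
  have h1 : k * (g * u * g⁻¹) * k⁻¹ ∈ F.CT j2 := hk2 _ ⟨u, hu, rfl⟩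
  have e : k * g * u * (k * g)⁻¹ = k * (g * u * g⁻¹) * k⁻¹ := by group
  rw [e]; exact h1

theorem ρ2_EE [Finite G] (h : F.MF f s) (R : F.Rho f j1 j2 ρ1 ρ2) :
    ∀ m ∈ F.EE j2, ρ2 * m * ρ2⁻¹ ∈ F.EE j2 := by
  intro m hm
  have hE := F.EE j2
  have px : ρ2 * x * ρ2⁻¹ ∈ F.EE j2 := by rw [R.x2]; exact h.x_EE j2
  have pf : ρ2 * f * ρ2⁻¹ ∈ F.EE j2 := by
    rw [(h.p2 R).1]
    exact (F.EE j2).mul_mem (h.f_EE j2) ((F.EE j2).mul_mem (F.z_EE j2) (F.v_EE j2))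
  have pz : ρ2 * r ^ 2 ^ (d - 2) * ρ2⁻¹ ∈ F.EE j2 := by rw [R.z2]; exact F.v_EE j2
  have pv : ρ2 * (r ^ j2 * c) * ρ2⁻¹ ∈ F.EE j2 := by
    rw [R.v2]; exact (F.EE j2).mul_mem (F.z_EE j2) (F.v_EE j2)
  obtain ⟨ζ, hζ, h3⟩ := h.fld.EE_form hm
  have pζ : ρ2 * ζ * ρ2⁻¹ ∈ F.EE j2 := by
    rcases hζ with h4 | h4 | h4 | h4 <;> rw [h4]
    · have : ρ2 * 1 * ρ2⁻¹ = 1 := by group
      rw [this]; exact (F.EE j2).one_mem
    · exact px
    · exact pf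
    · rw [conj_mul3]; exact (F.EE j2).mul_mem px pf
  rcases h3 with h4 | h4 | h4 | h4 <;> rw [h4]
  · exact pζ
  · rw [conj_mul3]; exact (F.EE j2).mul_mem pζ pz
  · rw [conj_mul3]; exact (F.EE j2).mul_mem pζ pv
  · rw [conj_mul3, conj_mul3 ρ2 (r ^ 2 ^ (d - 2))]
    exact (F.EE j2).mul_mem pζ ((F.EE j2).mul_mem pz pv)

end MF

end Frame

end Cfsg.Agent.GH.L2QTwo
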