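import Cfsg.Agent.GH.L2QTwo.MFTau

/-!
# GH-L2, `|Q| = 2`, configuration (M-f): `T = M₀`
-/

set_option autoImplicit false
set_option linter.unusedVariables false
set_option linter.unusedSimpArgs false

open Subgroup
open Cfsg.Agent.TwoFusion.SectionalRank

namespace Cfsg.Agent.GH.L2QTwo

variable {G A : Type*} [Group G] [Group A]

namespace Frame

variable {x : G} {K T D : Subgroup G} {d : ℕ} {r c : G} {o1 : G → ℤˣ} {o2 : G → A} {f s : G}

namespace MF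

variable {F : Frame x K T D d r c o1 o2} {j1 j2 : ℤ} {ρ1 ρ2 : G}

/-- `T = M₀` -/
theorem T_le_M0 [Finite G] (h : F.MF f s) (R : F.Rho f j1 j2 ρ1 ρ2)
    (hA : ∀ a ∈ T, ∀ b ∈ T, o2 a * o2 b = o2 b * o2 a)
    (hr : ∀ A B : Subgroup G, ElemSection 2 A B → Nat.card A ≤ 2 ^ 4 * Nat.card B) : T ≤ F.M0 := by
  by_contra hT
  obtain ⟨φ, hφ, hφ1, hφ2⟩ := h.exists_phi R hT
  have φφ := h.phi_sq R hA hφ hφ1 hφ2
  obtain ⟨w, wS, ww, wx, wf, wz, we, wu⟩ := h.exists_w R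
  set q := r ^ (j2 + 2 ^ (d - 3)) * c with hq
  have qT : q ∈ T := q_T F j2
  have qx := q_x F j2
  have qf := h.q_f j2
  have qz := q_z F j2
  have qv := d_conj F h.hd j2
  have qq := F.refl_sq (j2 + 2 ^ (d - 3))
  have qu := fun u hu => h.q_comm (j := j2) (u := u) hu
  rw [← hq] at qx qf qz qv qq qu
  have hxE := h.x_EE j2
  have hfE := h.f_EE j2
  have hzE := F.z_EE j2
  have hvE := F.v_EE j2
  have heE := h.e3_EE j2
  have qinv : q⁻¹ = q := inv_eq_of_mul_eq_one_right qq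
  have winv : w⁻¹ = w := inv_eq_of_mul_eq_one_right ww
  have qe : q * (f * (r ^ j2 * c)) * q⁻¹ = r ^ 2 ^ (d - 2) * (f * (r ^ j2 * c)) := by
    rw [conj_mul3, qf, qv, h.e4_eq]
  -- `u = [q, w] = (qw)²`
  set u := q * w * q⁻¹ * w⁻¹ with hu
  have ue : ∀ m, u * m * u⁻¹ = q * (w * (q⁻¹ * (w⁻¹ * m * w) * q) * w⁻¹) * q⁻¹ := by
    intro m; rw [hu]; group
  have ue' : ∀ m, u * m * u⁻¹ = q * (w * (q * (w * m * w⁻¹) * q⁻¹) * w⁻¹) * q⁻¹ := by
    intro m
    rw [ue, qinv, winv]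
  have ux : u * x * u⁻¹ = x := by rw [ue', wx, qf, wf, qx]
  have uf : u * f * u⁻¹ = f := by rw [ue', wf, qx, wx, qf]
  have uz : u * r ^ 2 ^ (d - 2) * u⁻¹ = r ^ 2 ^ (d - 2) := by rw [ue', wz, qz, wz, qz]
  have u3 : u * (f * (r ^ j2 * c)) * u⁻¹ = f * (r ^ j2 * c) := by
    rw [ue', we, qe, conj_mul3 w, wz, we, conj_mul3 q, qz, qe, ← mul_assoc, F.z_sq, one_mul]
  have uv : u * (r ^ j2 * c) = r ^ j2 * c * u := by
    have c1 : Commute u f := comm_of_conj_eq uf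
    have c2 : Commute u (f * (r ^ j2 * c)) := comm_of_conj_eq u3
    have c3 := c1.mul_right c2
    rwa [← mul_assoc, h.fld.sq, one_mul] at c3
  have uE : ∀ m ∈ F.EE j2, u * m = m * u :=
    h.comm_EE_of (comm_of_conj_eq ux) (comm_of_conj_eq uf) (comm_of_conj_eq uz) uv
  have uS : u ∈ T ⊔ zpowers s := by
    have hqS : q ∈ T ⊔ zpowers s := mem_sup_left qT
    exact mul_mem (mul_mem (mul_mem hqS wS) (inv_mem hqS)) (inv_mem wS)
  -- `u ∈ C_T(E)`
  have uC : u ∈ F.CT j2 := by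
    let P := (T ⊔ zpowers s) ⊓ centralizer (F.EE j2 : Set G)
    have hPE : ∀ p ∈ P, ∀ m ∈ F.EE j2, p * m = m * p := fun p hp m hm =>
      (mem_centralizer_iff.1 hp.2 m hm).symm
    have h1 := h.card_CT R (h.out.two.to_le inf_le_left : IsPGroup 2 P) hPE
    have h2 : F.CT j2 ≤ P := fun t ht => ⟨mem_sup_left (F.mem_CT.1 ht).1,
      mem_centralizer_iff.2 fun m hm => (h.CT_comm ht hm).symm⟩
    have h3 : F.CT j2 = P := Subgroup.eq_of_le_of_card_ge h2 h1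
    rw [h3]
    exact ⟨uS, mem_centralizer_iff.2 fun m hm => (uE m hm).symm⟩
  -- inverted by `q`, `w`
  have q_inv : q * u * q⁻¹ = u⁻¹ := by
    rw [hu, qinv, winv]
    have e : (q * w * q * w)⁻¹ = w⁻¹ * q⁻¹ * w⁻¹ * q⁻¹ := by group
    rw [e, qinv, winv]
    calc q * (q * w * q * w) * q = (q * q) * w * q * w * q := by group
      _ = w * q * w * q := by rw [qq, one_mul]
  have w_inv : w * u * w⁻¹ = u⁻¹ := by
    rw [hu, qinv, winv]
    have e : (q * w * q * w)⁻¹ = w⁻¹ * q⁻¹ * w⁻¹ * q⁻¹ := by group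
    rw [e, qinv, winv]
    calc w * (q * w * q * w) * w = w * q * w * q * (w * w) := by group
      _ = w * q * w * q := by rw [ww, mul_one]
  have uu : u * u = 1 := by
    have a1 : u⁻¹ * u⁻¹ = 1 ∨ u⁻¹ * u⁻¹ = r ^ 2 ^ (d - 2) := by
      have := qu u uC
      rwa [q_inv] at this
    have a2 : u⁻¹ * u⁻¹ = 1 ∨ u⁻¹ * u⁻¹ = x * f := by
      have := wu u uC
      rwa [w_inv] at this
    have a3 : u⁻¹ * u⁻¹ = 1 := by
      rcases a1 with b1 | b1
      · exact b1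
      rcases a2 with b2 | b2
      · exact b2
      exfalso
      have b3 : x * r ^ 2 ^ (d - 2) = f := by
        rw [← b1, b2, ← mul_assoc, F.xx, one_mul]
      exact h.xe_ne_f F.z_mem b3
    have : u * u = (u⁻¹ * u⁻¹)⁻¹ := by rw [mul_inv_rev, inv_inv]
    rw [this, a3, inv_one]
  have uinv : u⁻¹ = u := inv_eq_of_mul_eq_one_right uu
  have uEE : u ∈ F.EE j2 := by
    by_contra hne
    have uM : u ∉ F.M0 := fun h1 => hne (F.mem_EE.2 ⟨h1, (F.mem_CT.1 uC).2⟩)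
    obtain ⟨e, he, hu'⟩ := h.type R hA uC hφ uM hφ1 (by rw [uu]; exact F.M0.one_mem) hφ2
    have h1 := h.sq_eq_of_type he hφ
    rw [← hu', uu, φφ] at h1
    -- `x f z ≠ 1`
    have h2 : x * r ^ 2 ^ (d - 2) = f := by
      have h3 : x * (x * (f * r ^ 2 ^ (d - 2))) = x := by rw [← h1, mul_one]
      rw [← mul_assoc, F.xx, one_mul] at h3
      rw [← h3, mul_assoc, F.z_sq, mul_one]
    exact h.xe_ne_f F.z_mem h2
  refine h.count (j := j2) (φ := φ) (q := q) (w := w) ⟨fun m hm => h.CT_comm hφ hm, hφ1, φφ, qx, qf, qz, qv,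
    wx, wf, wz, we, qq, ww, qu φ hφ, wu φ hφ, uEE, ?_, ?_⟩ hr
  · rw [uinv] at q_inv
    exact comm_of_conj_eq q_inv
  · rw [uinv] at w_inv
    exact comm_of_conj_eq w_inv

end MF

end Frame

end Cfsg.Agent.GH.L2QTwo
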