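import Cfsg.Agent.GH.L2QTwo.MFK

/-!
# GH-L2, `|Q| = 2`, configuration (M-f): `φ ∈ C_T(F₂) - M₀` with `φ² = xfz`
-/

set_option autoImplicit false
set_option linter.unusedVariables false
set_option linter.unusedSimpArgs false

open Subgroup
open Cfsg.Agent.TwoFusion.SectionalRank

namespace Cfsg.Agent.GH.L2QTwo

variable {G A : Type*} [Group G] [Group A]

namespace Frame

variable {x : G} {K T D : Subgroup G} {d : ℕ} {r c : G} {o1 : G → ℤˣ} {o2 : G → A} {f s : G}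

namespace MF

variable {F : Frame x K T D d r c o1 o2} {j1 j2 : ℤ} {ρ1 ρ2 : G}

/-- an element of order 2 mod `M₀` centralising `F₂` -/
theorem exists_phi [Finite G] (h : F.MF f s) (R : F.Rho f j1 j2 ρ1 ρ2) (hT : ¬ T ≤ F.M0) :
    ∃ φ ∈ F.CT j2, φ ∉ F.M0 ∧ φ * φ ∈ F.M0 := by
  obtain ⟨t, ht, htM⟩ := SetLike.not_le_iff_exists.1 hT
  obtain ⟨k, hk⟩ := F.T_two ⟨t, ht⟩
  have hk' : t ^ 2 ^ k = 1 := congrArg Subtype.val hk
  obtain ⟨u, huT, hu, huu⟩ : ∃ u ∈ T, u ∉ F.M0 ∧ u * u ∈ F.M0 := by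
    classical
    have hex : ∃ i, t ^ 2 ^ i ∈ F.M0 := ⟨k, by rw [hk']; exact F.M0.one_mem⟩
    have h1 := Nat.find_spec hex
    have h0 : Nat.find hex ≠ 0 := by
      intro h0
      rw [h0, pow_zero, pow_one] at h1
      exact htM h1
    refine ⟨t ^ 2 ^ (Nat.find hex - 1), T.pow_mem ht _, Nat.find_min hex (by omega), ?_⟩
    have e : t ^ 2 ^ (Nat.find hex - 1) * t ^ 2 ^ (Nat.find hex - 1) = t ^ 2 ^ Nat.find hex := by
      rw [← pow_add]
      congr 1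
      have : Nat.find hex = (Nat.find hex - 1) + 1 := by omega
      conv_rhs => rw [this]
      rw [pow_succ]; ring
    rw [e]; exact h1
  obtain ⟨i, hi, hi'⟩ := conj_refl h.good F huT j2
  obtain ⟨b, hb⟩ := hi'.1 (h.o1_T R huT)
  have hr := F.D_le (F.r_rk (-b))
  refine ⟨r ^ (-b) * u, F.mem_CT.2 ⟨T.mul_mem hr huT, ?_⟩, ?_, ?_⟩
  · apply comm_of_conj_eq
    have e : r ^ (-b) * u * (r ^ j2 * c) * (r ^ (-b) * u)⁻¹ =
        r ^ (-b) * (u * (r ^ j2 * c) * u⁻¹) * (r ^ (-b))⁻¹ := by group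
    rw [e, hi, rot_conj F]
    congr 2
    linarith
  · intro h1
    apply hu
    have : u = r ^ b * (r ^ (-b) * u) := by rw [← mul_assoc, ← zpow_add, add_neg_cancel, zpow_zero, one_mul]
    rw [this]
    exact F.M0.mul_mem (F.D_le_M0 (F.r_rk b)) h1
  · have e : r ^ (-b) * u * (r ^ (-b) * u) = r ^ (-b) * (u * r ^ (-b) * u⁻¹) * (u * u) := by group
    rw [e]
    exact F.M0.mul_mem (F.M0.mul_mem (F.D_le_M0 (F.r_rk _)) (F.D_le_M0 (F.D_norm huT (F.r_rk _)))) huu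

theorem zv_ne_one (F : Frame x K T D d r c o1 o2) (j : ℤ) : r ^ 2 ^ (d - 2) * (r ^ j * c) ≠ 1 := by
  rw [F.zz, ← mul_assoc, ← zpow_add]; exact F.refl_ne_one _

theorem z_ne_v (F : Frame x K T D d r c o1 o2) (j : ℤ) : r ^ 2 ^ (d - 2) ≠ r ^ j * c := by
  rw [F.zz]; exact (F.refl_ne _ _).symm

theorem xe_ne_f (h : F.MF f s) {e : G} (he : e ∈ D) : x * e ≠ f := by
  intro h3
  apply h.fld.ne
  rw [← h3, F.o2_mul' F.x_mem (F.D_le he), F.o2_x, F.o2_D he, one_mul]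

/-- `φ² = xfz` -/
theorem phi_sq [Finite G] (h : F.MF f s) (R : F.Rho f j1 j2 ρ1 ρ2)
    (hA : ∀ a ∈ T, ∀ b ∈ T, o2 a * o2 b = o2 b * o2 a) {φ : G}
    (hφ : φ ∈ F.CT j2) (hφ1 : φ ∉ F.M0) (hφ2 : φ * φ ∈ F.M0) : φ * φ = x * (f * r ^ 2 ^ (d - 2)) := by
  have φT := (F.mem_CT.1 hφ).1
  have o1φ := h.o1_T R φT
  have o2φ : o2 (φ * φ) ≠ 1 := by
    intro h1
    apply hφ1
    exact ⟨φT, o1φ, by rw [← F.o2_mul' φT φT]; exact h1⟩
  have hφE : φ * φ ∈ F.EE j2 := by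
    refine F.mem_EE.2 ⟨hφ2, ?_⟩
    exact (F.mem_CT.1 ((F.CT j2).mul_mem hφ hφ)).2
  have f1 := h.sq_fixed R hA hφ hφ1 hφ2 (h.ρ2_EE R)
  obtain ⟨s', -, -, s3, sx, sf, sz, se⟩ := h.exists_s R
  have f2 := h.sq_fixed R hA hφ hφ1 hφ2 s3
  obtain ⟨p1, p2, p3⟩ := h.p2 R
  have hv := F.refl_mem (x := x) (K := K) (T := T) (D := D) (d := d) (o1 := o1) (o2 := o2) j2
  have hzv : r ^ 2 ^ (d - 2) * (r ^ j2 * c) ∈ D := D.mul_mem F.z_mem hv
  have z1 := F.z_ne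
  have z2 := F.refl_ne_one j2
  have z3 := zv_ne_one F j2
  have z4 := z_ne_v F j2
  -- excluded values of `ρ₂`-fixed points
  have nf : ρ2 * f * ρ2⁻¹ ≠ f := by rw [p1]; exact fe_ne_f z3
  have nfv : ρ2 * (f * (r ^ j2 * c)) * ρ2⁻¹ ≠ f * (r ^ j2 * c) := by
    rw [p3]; exact (fe_ne_f z2).symm
  have nfzv : ρ2 * (f * (r ^ 2 ^ (d - 2) * (r ^ j2 * c))) * ρ2⁻¹ ≠
      f * (r ^ 2 ^ (d - 2) * (r ^ j2 * c)) := by
    rw [p2]
    intro h1
    have := mul_left_cancel h1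
    apply z1
    exact (mul_eq_right (b := r ^ j2 * c)).1 this.symm
  have addx : ∀ y, ρ2 * y * ρ2⁻¹ ≠ y → ρ2 * (x * y) * ρ2⁻¹ ≠ x * y := by
    intro y hy h1
    rw [conj_mul3, R.x2] at h1
    exact hy (mul_left_cancel h1)
  obtain ⟨ζ, hζ, h3⟩ := h.fld.EE_form hφE
  have kD : ∀ e ∈ D, o2 (1 * e) = 1 := fun e he => by rw [one_mul, F.o2_D he]
  have kxD : ∀ e ∈ D, o2 (x * e) = 1 := fun e he => by
    rw [F.o2_mul' F.x_mem (F.D_le he), F.o2_x, F.o2_D he, one_mul]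
  rcases hζ with h4 | h4 | h4 | h4 <;> rw [h4] at h3
  · exfalso
    apply o2φ
    rcases h3 with h5 | h5 | h5 | h5 <;> rw [h5]
    · exact F.o2_one
    · exact kD _ F.z_mem
    · exact kD _ hv
    · exact kD _ hzv
  · exfalso
    apply o2φ
    rcases h3 with h5 | h5 | h5 | h5 <;> rw [h5]
    · exact F.o2_x
    · exact kxD _ F.z_mem
    · exact kxD _ hv
    · exact kxD _ hzv
  · exfalso
    rcases h3 with h5 | h5 | h5 | h5 <;> rw [h5] at f1 f2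
    · exact nf f1
    · rw [conj_mul3, sf, sz] at f2
      exact h.f_ne_x (mul_right_cancel f2).symm
    · exact nfv f1
    · exact nfzv f1
  · rcases h3 with h5 | h5 | h5 | h5
    · exfalso
      rw [h5] at f1
      exact addx _ nf f1
    · rw [h5, mul_assoc]
    · exfalso
      rw [h5, mul_assoc x f] at f1
      exact addx _ nfv f1
    · exfalso
      rw [h5, mul_assoc x f] at f1
      exact addx _ nfzv f1

end MF

end Frame

end Cfsg.Agent.GH.L2QTwo
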