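import Cfsg.Agent.GH.L2QTwo.MFCount

/-!
# GH-L2, `|Q| = 2`, configuration (M-f): `T = M₀` (sectional 2-rank at most 4)
-/

set_option autoImplicit false
set_option linter.unusedVariables false
set_option linter.unusedSimpArgs false

open Subgroup
open Cfsg.Agent.TwoFusion.SectionalRank

namespace Cfsg.Agent.GH.L2QTwo

variable {G A : Type*} [Group G] [Group A]

namespace Frame

variable {x : G} {K T D : Subgroup G} {d : ℕ} {r c : G} {o1 : G → ℤˣ} {o2 : G → A} {f s : G}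

namespace MF

variable {F : Frame x K T D d r c o1 o2} {j1 j2 : ℤ} {ρ1 ρ2 : G}

/-- the reflection `q` of `D` with `q v₂ q = z v₂` -/
theorem q_T (F : Frame x K T D d r c o1 o2) (j : ℤ) : r ^ (j + 2 ^ (d - 3)) * c ∈ T :=
  F.D_le (F.refl_mem _)

/-- `[q, u] ∈ {1, z}` for `u ∈ C_T(v)` -/
theorem q_comm [Finite G] (h : F.MF f s) {j : ℤ} {u : G} (hu : u ∈ F.CT j) :
    (r ^ (j + 2 ^ (d - 3)) * c) * u * (r ^ (j + 2 ^ (d - 3)) * c)⁻¹ * u⁻¹ = 1 ∨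
    (r ^ (j + 2 ^ (d - 3)) * c) * u * (r ^ (j + 2 ^ (d - 3)) * c)⁻¹ * u⁻¹ = r ^ 2 ^ (d - 2) := by
  obtain ⟨uT, uv⟩ := F.mem_CT.1 hu
  obtain ⟨l, ⟨m, hm⟩, hl⟩ := F.conj_r h.hd uT
  have hd := h.hd
  have e1 : r ^ (j + 2 ^ (d - 3)) * c = r ^ ((2 : ℤ) ^ (d - 3)) * (r ^ j * c) := by
    rw [← mul_assoc, ← zpow_add, add_comm]
  have e2 : u * (r ^ (j + 2 ^ (d - 3)) * c) * u⁻¹ = r ^ (l * (2 : ℤ) ^ (d - 3)) * (r ^ j * c) := by
    rw [e1, conj_mul3, F.conj_rk hl, conj_eq_of_comm uv]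
  have e3 : (r ^ (j + 2 ^ (d - 3)) * c) * u * (r ^ (j + 2 ^ (d - 3)) * c)⁻¹ * u⁻¹ =
      r ^ (-(m * (2 : ℤ) ^ (d - 2))) := by
    have e4 : (r ^ (j + 2 ^ (d - 3)) * c) * u * (r ^ (j + 2 ^ (d - 3)) * c)⁻¹ * u⁻¹ =
        (r ^ (j + 2 ^ (d - 3)) * c) * (u * (r ^ (j + 2 ^ (d - 3)) * c) * u⁻¹)⁻¹ := by group
    rw [e4, e2, e1]
    have e5 : r ^ ((2 : ℤ) ^ (d - 3)) * (r ^ j * c) * (r ^ (l * (2 : ℤ) ^ (d - 3)) * (r ^ j * c))⁻¹ =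
        r ^ ((2 : ℤ) ^ (d - 3)) * (r ^ (l * (2 : ℤ) ^ (d - 3)))⁻¹ := by group
    rw [e5, ← zpow_neg, ← zpow_add]
    congr 1
    have : d - 2 = (d - 3) + 1 := by omega
    rw [hm, this, pow_succ]; ring
  rw [e3]
  have e6 : r ^ (-(m * (2 : ℤ) ^ (d - 2))) * r ^ (-(m * (2 : ℤ) ^ (d - 2))) = 1 := by
    rw [← zpow_add, F.rk_one]
    have : d - 1 = (d - 2) + 1 := by omega
    refine ⟨-m, ?_⟩
    rw [this, pow_succ]; ring
  exact F.rot_sq e6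

theorem EE_le_CT (F : Frame x K T D d r c o1 o2) (j : ℤ) : F.EE j ≤ F.CT j := fun m hm =>
  F.mem_CT.2 ⟨(F.mem_EE.1 hm).1.1, (F.mem_EE.1 hm).2⟩

theorem q_CT [Finite G] (h : F.MF f s) {j : ℤ} {u : G} (hu : u ∈ F.CT j) :
    (r ^ (j + 2 ^ (d - 3)) * c) * u * (r ^ (j + 2 ^ (d - 3)) * c)⁻¹ ∈ F.CT j := by
  have e : (r ^ (j + 2 ^ (d - 3)) * c) * u * (r ^ (j + 2 ^ (d - 3)) * c)⁻¹ =
      ((r ^ (j + 2 ^ (d - 3)) * c) * u * (r ^ (j + 2 ^ (d - 3)) * c)⁻¹ * u⁻¹) * u := by group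
  rw [e]
  rcases h.q_comm hu with h1 | h1 <;> rw [h1]
  · rw [one_mul]; exact hu
  · exact (F.CT j).mul_mem (EE_le_CT F j (F.z_EE j)) hu

theorem q_x (F : Frame x K T D d r c o1 o2) (j : ℤ) :
    (r ^ (j + 2 ^ (d - 3)) * c) * x * (r ^ (j + 2 ^ (d - 3)) * c)⁻¹ = x :=
  conj_eq_of_comm (F.x_comm_D (F.refl_mem _)).symm

theorem q_f (h : F.MF f s) (j : ℤ) :
    (r ^ (j + 2 ^ (d - 3)) * c) * f * (r ^ (j + 2 ^ (d - 3)) * c)⁻¹ = f :=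
  conj_eq_of_comm (h.fld.cent _ (F.refl_mem _)).symm

theorem q_z (F : Frame x K T D d r c o1 o2) (j : ℤ) :
    (r ^ (j + 2 ^ (d - 3)) * c) * r ^ 2 ^ (d - 2) * (r ^ (j + 2 ^ (d - 3)) * c)⁻¹ = r ^ 2 ^ (d - 2) :=
  conj_eq_of_comm (F.z_comm (F.refl_mem _)).symm

/-- an element acting on the generators acts on `E` -/
theorem norm_EE_of (h : F.MF f s) {j : ℤ} {g : G} (hx : g * x * g⁻¹ ∈ F.EE j)
    (hf : g * f * g⁻¹ ∈ F.EE j) (hz : g * r ^ 2 ^ (d - 2) * g⁻¹ ∈ F.EE j)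
    (hv : g * (r ^ j * c) * g⁻¹ ∈ F.EE j) : ∀ m ∈ F.EE j, g * m * g⁻¹ ∈ F.EE j := by
  intro m hm
  obtain ⟨ζ, hζ, h3⟩ := h.fld.EE_form hm
  have pζ : g * ζ * g⁻¹ ∈ F.EE j := by
    rcases hζ with h4 | h4 | h4 | h4 <;> rw [h4]
    · have : g * 1 * g⁻¹ = 1 := by group
      rw [this]; exact (F.EE j).one_mem
    · exact hx
    · exact hf
    · rw [conj_mul3]; exact (F.EE j).mul_mem hx hf
  rcases h3 with h4 | h4 | h4 | h4 <;> rw [h4]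
  · exact pζ
  · rw [conj_mul3]; exact (F.EE j).mul_mem pζ hz
  · rw [conj_mul3]; exact (F.EE j).mul_mem pζ hv
  · rw [conj_mul3, conj_mul3 g (r ^ 2 ^ (d - 2))]
    exact (F.EE j).mul_mem pζ ((F.EE j).mul_mem hz hv)

theorem q_EE (h : F.MF f s) (j : ℤ) :
    ∀ m ∈ F.EE j, (r ^ (j + 2 ^ (d - 3)) * c) * m * (r ^ (j + 2 ^ (d - 3)) * c)⁻¹ ∈ F.EE j := by
  apply h.norm_EE_of
  · rw [q_x F]; exact h.x_EE j
  · rw [h.q_f]; exact h.f_EE j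
  · rw [q_z F]; exact F.z_EE j
  · rw [d_conj F h.hd]; exact (F.EE j).mul_mem (F.z_EE j) (F.v_EE j)

/-- an element fixing the generators centralises `E` -/
theorem comm_EE_of (h : F.MF f s) {j : ℤ} {g : G} (hx : g * x = x * g) (hf : g * f = f * g)
    (hz : g * r ^ 2 ^ (d - 2) = r ^ 2 ^ (d - 2) * g) (hv : g * (r ^ j * c) = r ^ j * c * g) :
    ∀ m ∈ F.EE j, g * m = m * g := by
  intro m hm
  obtain ⟨ζ, hζ, h3⟩ := h.fld.EE_form hm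
  have cx : Commute g x := hx
  have cf : Commute g f := hf
  have cz : Commute g (r ^ 2 ^ (d - 2)) := hz
  have cv : Commute g (r ^ j * c) := hv
  have pζ : Commute g ζ := by
    rcases hζ with h4 | h4 | h4 | h4 <;> rw [h4]
    · exact Commute.one_right g
    · exact cx
    · exact cf
    · exact cx.mul_right cf
  rcases h3 with h4 | h4 | h4 | h4 <;> rw [h4]
  · exact pζ
  · exact pζ.mul_right cz
  · exact pζ.mul_right cv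
  · exact pζ.mul_right (cz.mul_right cv)

end MF

end Frame

end Cfsg.Agent.GH.L2QTwo
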