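import Cfsg.Agent.GH.L2QTwo.MFThree
import Cfsg.Agent.GH.L2QTwo.MFGen

/-!
# GH-L2, `|Q| = 2`, configuration (M-f): the `E₁₆`'s of `T` and the Sylow 2-subgroup of `C(E₁₆)`
-/

set_option autoImplicit false
set_option linter.unusedVariables false
set_option linter.unusedSimpArgs false

open Subgroup

namespace Cfsg.Agent.GH.L2QTwo

variable {G A : Type*} [Group G] [Group A]

theorem map_conj_card (E : Subgroup G) (g : G) :
    Nat.card (E.map (MulAut.conj g).toMonoidHom) = Nat.card E :=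
  (Nat.card_congr (E.equivMapOfInjective _ (MulAut.conj g).injective).toEquiv).symm

namespace Frame

variable {x : G} {K T D : Subgroup G} {d : ℕ} {r c : G} {o1 : G → ℤˣ} {o2 : G → A} {f s : G}

/-- `C_T(r^j c)` -/
def CT (F : Frame x K T D d r c o1 o2) (j : ℤ) : Subgroup G := T ⊓ centralizer ({r ^ j * c} : Set G)

theorem mem_CT (F : Frame x K T D d r c o1 o2) {j : ℤ} {u : G} :
    u ∈ F.CT j ↔ u ∈ T ∧ u * (r ^ j * c) = r ^ j * c * u := by
  rw [CT, mem_inf, mem_centralizer_singleton_iff]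

namespace MF

variable {F : Frame x K T D d r c o1 o2} {j1 j2 : ℤ} {ρ1 ρ2 : G}

theorem zeta_T [Finite G] (h : F.MF f s) {ζ : G} (hζ : ζ = 1 ∨ ζ = x ∨ ζ = f ∨ ζ = x * f) {t : G}
    (ht : t ∈ T) : t * ζ = ζ * t := by
  rcases hζ with h1 | h1 | h1 | h1
  · rw [h1, one_mul, mul_one]
  · rw [h1, F.T_comm t ht]
  · rw [h1, h.f_T ht]
  · rw [h1, ← mul_assoc, ← F.T_comm t ht, mul_assoc, h.f_T ht, mul_assoc]

theorem EE_sq (h : F.MF f s) {j : ℤ} {m : G} (hm : m ∈ F.EE j) : m * m = 1 := by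
  obtain ⟨h1, h2⟩ := F.mem_EE.1 hm
  obtain ⟨ζ, hζ, h3⟩ := h.fld.EE_form hm
  obtain ⟨-, z1, -, -, z2⟩ := h.fld.zeta hζ
  have key : ∀ e ∈ D, e * e = 1 → ζ * e * (ζ * e) = 1 := by
    intro e he hee
    calc ζ * e * (ζ * e) = ζ * (e * ζ) * e := by group
      _ = ζ * (ζ * e) * e := by rw [z1 e he]
      _ = (ζ * ζ) * (e * e) := by group
      _ = 1 := by rw [z2, hee, one_mul]
  rcases h3 with h4 | h4 | h4 | h4
  · rw [h4, z2]
  · rw [h4]; exact key _ F.z_mem F.z_sq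
  · rw [h4]; exact key _ (F.refl_mem j) (F.refl_sq j)
  · rw [h4]
    refine key _ (D.mul_mem F.z_mem (F.refl_mem j)) ?_
    calc r ^ 2 ^ (d - 2) * (r ^ j * c) * (r ^ 2 ^ (d - 2) * (r ^ j * c)) =
        r ^ 2 ^ (d - 2) * ((r ^ j * c) * r ^ 2 ^ (d - 2)) * (r ^ j * c) := by group
      _ = r ^ 2 ^ (d - 2) * (r ^ 2 ^ (d - 2) * (r ^ j * c)) * (r ^ j * c) := by
          rw [F.z_comm (F.refl_mem j)]
      _ = (r ^ 2 ^ (d - 2) * r ^ 2 ^ (d - 2)) * ((r ^ j * c) * (r ^ j * c)) := by group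
      _ = 1 := by rw [F.z_sq, F.refl_sq, one_mul]

theorem EE_comm (h : F.MF f s) {j : ℤ} {a b : G} (ha : a ∈ F.EE j) (hb : b ∈ F.EE j) :
    a * b = b * a := by
  have h3 : a⁻¹ = a := inv_eq_of_mul_eq_one_right (h.EE_sq ha)
  have h4 : b⁻¹ = b := inv_eq_of_mul_eq_one_right (h.EE_sq hb)
  have h5 : (a * b)⁻¹ = a * b := inv_eq_of_mul_eq_one_right (h.EE_sq ((F.EE j).mul_mem ha hb))
  calc a * b = (a * b)⁻¹ := h5.symm
    _ = b⁻¹ * a⁻¹ := mul_inv_rev a b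
    _ = b * a := by rw [h3, h4]

/-- the elementary abelian subgroups of order 16 of `T` -/
theorem E16 [Finite G] (h : F.MF f s) {E : Subgroup G} (hE : E ≤ T) (h2 : ∀ y ∈ E, y * y = 1)
    (hc : Nat.card E = 16) : ∃ j : ℤ, E = F.EE j := by
  have hM : E ≤ F.M0 := F.le_M0' h.good hE h2 (by omega)
  have hcomm : ∀ a ∈ E, ∀ b ∈ E, a * b = b * a := by
    intro a ha b hb
    have h3 : a⁻¹ = a := inv_eq_of_mul_eq_one_right (h2 a ha)
    have h4 : b⁻¹ = b := inv_eq_of_mul_eq_one_right (h2 b hb)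
    have h5 : (a * b)⁻¹ = a * b := inv_eq_of_mul_eq_one_right (h2 _ (E.mul_mem ha hb))
    calc a * b = (a * b)⁻¹ := h5.symm
      _ = b⁻¹ * a⁻¹ := mul_inv_rev a b
      _ = b * a := by rw [h3, h4]
  obtain ⟨ζ, hζ, j, hj⟩ : ∃ ζ, (ζ = 1 ∨ ζ = x ∨ ζ = f ∨ ζ = x * f) ∧ ∃ j : ℤ, ζ * (r ^ j * c) ∈ E := by
    by_contra hcon
    push Not at hcon
    classical
    let L : Finset G := Finset.univ.image (fun p : Bool × Bool × Bool =>
      (if p.1 then x else 1) * (if p.2.1 then f else 1) * (if p.2.2 then r ^ 2 ^ (d - 2) else 1))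
    have hmem : ∀ y : E, (y : G) ∈ L := by
      intro y
      obtain ⟨e, he, ζ, hζ, h3⟩ := h.fld.form (hM y.2)
      obtain ⟨-, z1, -, -, z2⟩ := h.fld.zeta hζ
      have hee : e * e = 1 := by
        have h4 := h2 y y.2
        rw [h3] at h4
        calc e * e = (ζ * ζ) * (e * e) := by rw [z2, one_mul]
          _ = ζ * (ζ * e) * e := by group
          _ = ζ * (e * ζ) * e := by rw [z1 e he]
          _ = ζ * e * (ζ * e) := by group
          _ = 1 := h4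
      have h5 : e = 1 ∨ e = r ^ 2 ^ (d - 2) := by
        rcases F.inv_form he hee with h4 | h4 | ⟨j, h4⟩
        · exact Or.inl h4
        · exact Or.inr h4
        · exact absurd (by rw [← h4, ← h3]; exact y.2) (hcon ζ hζ j)
      simp only [L, Finset.mem_image, Finset.mem_univ, true_and]
      rcases hζ with h6 | h6 | h6 | h6 <;> rcases h5 with h7 | h7
      · exact ⟨(false, false, false), by simp [h3, h6, h7]⟩
      · exact ⟨(false, false, true), by simp [h3, h6, h7]⟩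
      · exact ⟨(true, false, false), by simp [h3, h6, h7]⟩
      · exact ⟨(true, false, true), by simp [h3, h6, h7]⟩
      · exact ⟨(false, true, false), by simp [h3, h6, h7]⟩
      · exact ⟨(false, true, true), by simp [h3, h6, h7]⟩
      · exact ⟨(true, true, false), by simp [h3, h6, h7]⟩
      · exact ⟨(true, true, true), by simp [h3, h6, h7]⟩
    have h6 : Nat.card E ≤ Nat.card L := by
      apply Nat.card_le_card_of_injective (fun y : E => (⟨(y : G), hmem y⟩ : L))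
      intro a b hab
      have h8 := congrArg Subtype.val hab
      exact Subtype.ext h8
    have h7 : L.card ≤ 8 := by
      refine Finset.card_image_le.trans ?_
      simp
    rw [Nat.card_eq_fintype_card (α := L), Fintype.card_coe] at h6
    omega
  refine ⟨j, Subgroup.eq_of_le_of_card_ge (fun y hy => F.mem_EE.2 ⟨hM hy, ?_⟩) ?_⟩
  · have h3 := hcomm y hy _ hj
    have h4 := h.zeta_T hζ (hM hy).1
    have : ζ * (y * (r ^ j * c)) = ζ * (r ^ j * c * y) := by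
      calc ζ * (y * (r ^ j * c)) = (ζ * y) * (r ^ j * c) := by group
        _ = y * (ζ * (r ^ j * c)) := by rw [← h4]; group
        _ = ζ * (r ^ j * c) * y := h3
        _ = ζ * (r ^ j * c * y) := by group
    exact mul_left_cancel this
  · rw [h.fld.card_EE, hc]

/-- parity of a reflection of `EE j` -/
theorem refl_EE (h : F.MF f s) {i j : ℤ} (hi : r ^ i * c ∈ F.EE j) : Even (i - j) := by
  have hd := h.hd
  have e1 : (2 : ℤ) ∣ 2 ^ (d - 1) := dvd_pow_self 2 (by omega)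
  rcases F.D_comm (F.refl_mem i) (F.mem_EE.1 hi).2 with h1 | h1 | h1 | h1
  · exact absurd h1 (F.refl_ne_one i)
  · rw [F.zz] at h1; exact absurd h1 (F.refl_ne i _)
  · have h2 := mul_right_cancel h1
    rw [F.rk_eq] at h2
    exact even_iff_two_dvd.2 (e1.trans h2)
  · rw [F.zz, ← mul_assoc, ← zpow_add] at h1
    have h2 := mul_right_cancel h1
    rw [F.rk_eq] at h2
    have e2 : (2 : ℤ) ∣ 2 ^ (d - 2) := dvd_pow_self 2 (by omega)
    have h3 := dvd_add (e1.trans h2) e2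
    have : i - (2 ^ (d - 2) + j) + 2 ^ (d - 2) = i - j := by ring
    rw [this] at h3
    exact even_iff_two_dvd.2 h3

/-- a conjugate of `F₂` in `T` -/
theorem parity [Finite G] (h : F.MF f s) (R : F.Rho f j1 j2 ρ1 ρ2) {g : G} {j : ℤ}
    (hg : ∀ m ∈ F.EE j2, g * m * g⁻¹ ∈ F.EE j) : Even (j - j2) := by
  have inj : ∀ a b : G, a ≠ b → g * a * g⁻¹ ≠ g * b * g⁻¹ := fun a b hab h2 =>
    hab (mul_left_cancel (mul_right_cancel h2))
  have hx : x ∈ F.EE j2 := h.fld.zeta_EE j2 (Or.inr (Or.inl rfl))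
  have hf : f ∈ F.EE j2 := h.fld.zeta_EE j2 (Or.inr (Or.inr (Or.inl rfl)))
  have hv : f * (r ^ j2 * c) ∈ F.EE j2 := (F.EE j2).mul_mem hf (F.v_EE j2)
  have hfx : f ≠ x := by
    intro h3
    apply h.fld.ne
    rw [h3, F.o2_x]
  have hxv : x ≠ f * (r ^ j2 * c) := by
    intro h3
    apply h.fld.ne
    have h4 : o2 (f * (r ^ j2 * c)) = o2 f := by
      rw [F.o2_mul' h.fld.mem (F.D_le (F.refl_mem j2)), F.o2_D (F.refl_mem j2), mul_one]
    rw [← h4, ← h3, F.o2_x]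
  have hfv : f ≠ f * (r ^ j2 * c) := by
    intro h3
    apply F.refl_ne_one j2
    exact mul_left_cancel (a := f) (by rw [← h3, mul_one])
  -- one of the images is a reflection times `f`
  have third : ∀ m ∈ F.EE j2, IsConj x m → g * m * g⁻¹ = x ∨ g * m * g⁻¹ = f ∨ Even (j - j2) := by
    intro m hm hc
    have h1 := hg m hm
    rcases h.cls R (F.mem_EE.1 h1).1 (conj_iff.2 hc) with h2 | h2 | ⟨i, hi, h2⟩
    · exact Or.inl h2
    · exact Or.inr (Or.inl h2)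
    · right; right
      rw [h2] at h1
      have h3 : r ^ i * c ∈ F.EE j := by
        have := (F.EE j).mul_mem (h.fld.zeta_EE j (Or.inr (Or.inr (Or.inl rfl)))) h1
        rwa [← mul_assoc, h.fld.sq, one_mul] at this
      have h4 := h.refl_EE h3
      have : j - j2 = (i - j2) - (i - j) := by ring
      rw [this]
      exact hi.sub h4
  rcases third x hx (IsConj.refl x) with a1 | a1 | a1
  · rcases third f hf h.pf with a2 | a2 | a2
    · exact absurd (a2.trans a1.symm) (inj _ _ hfx)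
    · rcases third _ hv (h.pv R) with a3 | a3 | a3
      · exact absurd (a1.trans a3.symm) (inj _ _ hxv)
      · exact absurd (a2.trans a3.symm) (inj _ _ hfv)
      · exact a3
    · exact a2
  · rcases third f hf h.pf with a2 | a2 | a2
    · rcases third _ hv (h.pv R) with a3 | a3 | a3
      · exact absurd (a2.trans a3.symm) (inj _ _ hfv)
      · exact absurd (a1.trans a3.symm) (inj _ _ hxv)
      · exact a3
    · exact absurd (a2.trans a1.symm) (inj _ _ hfx)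
    · exact a2
  · exact a1

theorem rot_EE (h : F.MF f s) {j : ℤ} (a : ℤ) {m : G} (hm : m ∈ F.EE j) :
    r ^ a * m * (r ^ a)⁻¹ ∈ F.EE (j + 2 * a) := by
  obtain ⟨h1, h2⟩ := F.mem_EE.1 hm
  have hr := F.D_le_M0 (F.r_rk a)
  refine F.mem_EE.2 ⟨F.M0.mul_mem (F.M0.mul_mem hr h1) (F.M0.inv_mem hr), ?_⟩
  rw [← rot_conj F a j, conj_mul_conj, conj_mul_conj, h2]

theorem EE_conj_sq (h : F.MF f s) {j : ℤ} {g m : G} (hm : m ∈ F.EE j) :
    g * m * g⁻¹ * (g * m * g⁻¹) = 1 := by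
  rw [conj_mul_conj, h.EE_sq hm]; group

/-- a conjugate of `F₂` in `T` is `M₀`-conjugate to `F₂` -/
theorem to_EE [Finite G] (h : F.MF f s) (R : F.Rho f j1 j2 ρ1 ρ2) {g : G}
    (hg : ∀ m ∈ F.EE j2, g * m * g⁻¹ ∈ T) :
    ∃ a : ℤ, ∀ m ∈ F.EE j2, (r ^ a * g) * m * (r ^ a * g)⁻¹ ∈ F.EE j2 := by
  obtain ⟨j, hj⟩ := h.E16 (E := (F.EE j2).map (MulAut.conj g).toMonoidHom)
    (by rintro _ ⟨m, hm, rfl⟩; exact hg m hm)
    (by rintro _ ⟨m, hm, rfl⟩; exact h.EE_conj_sq hm)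
    (by rw [map_conj_card, h.fld.card_EE])
  have h1 : ∀ m ∈ F.EE j2, g * m * g⁻¹ ∈ F.EE j := by
    intro m hm
    rw [← hj]
    exact ⟨m, hm, rfl⟩
  obtain ⟨b, hb⟩ := h.parity R h1
  refine ⟨-b, fun m hm => ?_⟩
  have h2 := h.rot_EE (-b) (h1 m hm)
  have e1 : j + 2 * -b = j2 := by linarith
  rw [e1] at h2
  have e2 : r ^ (-b) * (g * m * g⁻¹) * (r ^ (-b))⁻¹ = r ^ (-b) * g * m * (r ^ (-b) * g)⁻¹ := by group
  rwa [e2] at h2

/-- `C_T(F_j)` centralises `F_j` -/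
theorem CT_comm [Finite G] (h : F.MF f s) {j : ℤ} {u m : G} (hu : u ∈ F.CT j) (hm : m ∈ F.EE j) :
    u * m = m * u := by
  obtain ⟨u1, u2⟩ := F.mem_CT.1 hu
  obtain ⟨ζ, hζ, h3⟩ := h.fld.EE_form hm
  have h4 := h.zeta_T hζ u1
  have key : ∀ e, u * e = e * u → u * (ζ * e) = ζ * e * u := by
    intro e he
    rw [← mul_assoc, h4, mul_assoc, he, mul_assoc]
  have hz := F.z_comm_T h.hd u1
  rcases h3 with h5 | h5 | h5 | h5
  · rw [h5, h4]
  · rw [h5]; exact key _ hz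
  · rw [h5]; exact key _ u2
  · rw [h5]
    refine key _ ?_
    rw [← mul_assoc, hz, mul_assoc, u2, ← mul_assoc]

/-- 2-subgroups of `C(F₂)` -/
theorem le_CT [Finite G] (h : F.MF f s) (R : F.Rho f j1 j2 ρ1 ρ2) {P : Subgroup G}
    (hP : IsPGroup 2 P) (hPE : ∀ p ∈ P, ∀ m ∈ F.EE j2, p * m = m * p) :
    ∃ l : G, x * l = l * x ∧ (∀ m ∈ F.EE j2, l * m * l⁻¹ ∈ F.EE j2) ∧ ∀ p ∈ P, l * p * l⁻¹ ∈ F.CT j2 := by
  have hx : x ∈ F.EE j2 := h.fld.zeta_EE j2 (Or.inr (Or.inl rfl))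
  have hE2 : IsPGroup 2 (F.EE j2) := F.T_two.to_le fun m hm => (F.mem_EE.1 hm).1.1
  have hn : P ≤ normalizer (F.EE j2 : Set G) := by
    intro p hp
    exact mem_norm_of fun m hm => by rw [conj_eq_of_comm (hPE p hp m hm)]; exact hm
  have hPE2 : IsPGroup 2 ↥(P ⊔ F.EE j2) := IsPGroup.to_sup_of_normal_right' hP hE2 hn
  have hPx : ∀ p ∈ P ⊔ F.EE j2, x * p = p * x := by
    have h1 : P ⊔ F.EE j2 ≤ centralizer ({x} : Set G) := by
      rw [sup_le_iff]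
      exact ⟨fun p hp => mem_centralizer_singleton_iff.2 (hPE p hp x hx),
        fun m hm => mem_centralizer_singleton_iff.2 (h.EE_comm hm hx)⟩
    intro p hp
    exact (mem_centralizer_singleton_iff.1 (h1 hp)).symm
  obtain ⟨l, hl, hlP⟩ := F.T_syl _ hPE2 hPx
  obtain ⟨a, ha⟩ := h.to_EE R (g := l) fun m hm => hlP m (mem_sup_right hm)
  refine ⟨r ^ a * l, F.comm_mul (F.x_comm_D (F.r_rk a)) hl, ha, fun p hp => ?_⟩
  refine F.mem_CT.2 ⟨?_, ?_⟩
  · have e1 : r ^ a * l * p * (r ^ a * l)⁻¹ = r ^ a * (l * p * l⁻¹) * (r ^ a)⁻¹ := by group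
    rw [e1]
    have hr := F.D_le (F.r_rk a)
    exact T.mul_mem (T.mul_mem hr (hlP p (mem_sup_left hp))) (T.inv_mem hr)
  · obtain ⟨m, hm, hm'⟩ := conj_surj ha _ (F.v_EE j2)
    rw [← hm', conj_mul_conj, conj_mul_conj, hPE p hp m hm]

theorem card_CT [Finite G] (h : F.MF f s) (R : F.Rho f j1 j2 ρ1 ρ2) {P : Subgroup G}
    (hP : IsPGroup 2 P) (hPE : ∀ p ∈ P, ∀ m ∈ F.EE j2, p * m = m * p) :
    Nat.card P ≤ Nat.card (F.CT j2) := by
  obtain ⟨l, -, -, hl⟩ := h.le_CT R hP hPE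
  rw [← map_conj_card P l]
  apply Nat.card_le_card_of_injective _ (inclusion_injective _)
  rintro _ ⟨p, hp, rfl⟩
  exact hl p hp

/-- elements of `C_T(r^j c)` of order 2 modulo `M₀` -/
theorem type [Finite G] (h : F.MF f s) (R : F.Rho f j1 j2 ρ1 ρ2)
    (hA : ∀ a ∈ T, ∀ b ∈ T, o2 a * o2 b = o2 b * o2 a) {j : ℤ} {u φ : G} (hu : u ∈ F.CT j)
    (hφ : φ ∈ F.CT j) (hu1 : u ∉ F.M0) (hφ1 : φ ∉ F.M0) (hu2 : u * u ∈ F.M0) (hφ2 : φ * φ ∈ F.M0) :
    ∃ e ∈ F.EE j, u = e * φ := by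
  have uT := (F.mem_CT.1 hu).1
  have φT := (F.mem_CT.1 hφ).1
  have ou : o2 u * o2 u ≠ 1 := fun h1 => hu1 ⟨uT, h.o1_T R uT, h1⟩
  have oφ : o2 φ * o2 φ ≠ 1 := fun h1 => hφ1 ⟨φT, h.o1_T R φT, h1⟩
  have ou2 : (o2 u * o2 u) * (o2 u * o2 u) = 1 := by
    have := hu2.2.2
    rwa [F.o2_mul' uT uT] at this
  have oφ2 : (o2 φ * o2 φ) * (o2 φ * o2 φ) = 1 := by
    have := hφ2.2.2
    rwa [F.o2_mul' φT φT] at this
  have h1 := F.A_inv _ _ ou2 ou oφ2 oφ
  have hc := hA u uT φ φT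
  have h2 : u * φ⁻¹ ∈ F.EE j := by
    refine F.mem_EE.2 ⟨⟨T.mul_mem uT (T.inv_mem φT), h.o1_T R (T.mul_mem uT (T.inv_mem φT)), ?_⟩, ?_⟩
    · rw [F.o2_mul' uT (T.inv_mem φT), F.o2_inv φT]
      have hc' : o2 u * (o2 φ)⁻¹ = (o2 φ)⁻¹ * o2 u := by
        have hcc : Commute (o2 u) (o2 φ) := hc
        exact hcc.inv_right
      calc o2 u * (o2 φ)⁻¹ * (o2 u * (o2 φ)⁻¹) = o2 u * ((o2 φ)⁻¹ * o2 u) * (o2 φ)⁻¹ := by group
        _ = o2 u * (o2 u * (o2 φ)⁻¹) * (o2 φ)⁻¹ := by rw [hc']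
        _ = (o2 u * o2 u) * (o2 φ * o2 φ)⁻¹ := by group
        _ = 1 := by rw [h1, mul_inv_cancel]
    · have a1 : Commute u (r ^ j * c) := (F.mem_CT.1 hu).2
      have a2 : Commute φ (r ^ j * c) := (F.mem_CT.1 hφ).2
      exact a1.mul_left a2.inv_left
  exact ⟨_, h2, by group⟩

theorem sq_eq_of_type [Finite G] (h : F.MF f s) {j : ℤ} {e φ : G} (he : e ∈ F.EE j) (hφ : φ ∈ F.CT j) :
    e * φ * (e * φ) = φ * φ := by
  calc e * φ * (e * φ) = e * (φ * e) * φ := by group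
    _ = e * (e * φ) * φ := by rw [h.CT_comm hφ he]
    _ = (e * e) * (φ * φ) := by group
    _ = φ * φ := by rw [h.EE_sq he, one_mul]

/-- the square of the elements of order 4 of `C_T(F₂)` is `N(F₂)`-invariant -/
theorem sq_fixed [Finite G] (h : F.MF f s) (R : F.Rho f j1 j2 ρ1 ρ2)
    (hA : ∀ a ∈ T, ∀ b ∈ T, o2 a * o2 b = o2 b * o2 a) {φ g : G}
    (hφ : φ ∈ F.CT j2) (hφ1 : φ ∉ F.M0) (hφ2 : φ * φ ∈ F.M0)
    (hg : ∀ m ∈ F.EE j2, g * m * g⁻¹ ∈ F.EE j2) : g * (φ * φ) * g⁻¹ = φ * φ := by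
  let L : Subgroup G := centralizer (F.EE j2 : Set G)
  have hL : ∀ l, l ∈ L ↔ ∀ m ∈ F.EE j2, l * m = m * l := by
    intro l
    constructor
    · intro hl m hm
      exact (mem_centralizer_iff.1 hl m hm).symm
    · intro hl
      exact mem_centralizer_iff.2 fun m hm => (hl m hm).symm
  have hCT : F.CT j2 ≤ L := fun u hu => (hL u).2 fun m hm => h.CT_comm hu hm
  have hmax : ∀ Q ≤ L, IsPGroup 2 Q → Nat.card Q ≤ Nat.card (F.CT j2) := by
    intro Q hQ hQ2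
    exact h.card_CT R hQ2 fun p hp m hm => (hL p).1 (hQ hp) m hm
  have hgL : (F.CT j2).map (MulAut.conj g).toMonoidHom ≤ L := by
    rintro _ ⟨u, hu, rfl⟩
    rw [hL]
    intro m hm
    obtain ⟨m', hm', h1⟩ := conj_surj hg m hm
    change g * u * g⁻¹ * m = m * (g * u * g⁻¹)
    rw [← h1, conj_mul_conj, conj_mul_conj, h.CT_comm hu hm']
  obtain ⟨k, hk, hk2⟩ := exists_conj_le hCT (F.T_two.to_le inf_le_left) hmax hgL
    ((F.T_two.to_le inf_le_left).map _)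
  have h1 : k * (g * φ * g⁻¹) * k⁻¹ ∈ F.CT j2 := hk2 _ ⟨φ, hφ, rfl⟩
  have hφE : φ * φ ∈ F.EE j2 := by
    refine F.mem_EE.2 ⟨hφ2, ?_⟩
    exact (F.mem_CT.1 ((F.CT j2).mul_mem hφ hφ)).2
  have h2 : k * (g * φ * g⁻¹) * k⁻¹ * (k * (g * φ * g⁻¹) * k⁻¹) = g * (φ * φ) * g⁻¹ := by
    rw [conj_mul_conj, conj_mul_conj]
    exact conj_eq_of_comm ((hL k).1 hk _ (hg _ hφE))
  have h3 : k * (g * φ * g⁻¹) * k⁻¹ ∉ F.M0 := by
    intro h4
    have h5 : k * (g * φ * g⁻¹) * k⁻¹ ∈ F.EE j2 := F.mem_EE.2 ⟨h4, (F.mem_CT.1 h1).2⟩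
    obtain ⟨m, hm, h6⟩ := conj_surj hg _ h5
    have h7 : k * (g * φ * g⁻¹) * k⁻¹ = k * (g * m * g⁻¹) * k⁻¹ := by
      rw [conj_eq_of_comm ((hL k).1 hk _ (hg m hm)), h6]
    have h8 : φ = m := by
      have := mul_left_cancel (mul_right_cancel h7)
      exact mul_left_cancel (mul_right_cancel this)
    rw [h8] at hφ1
    exact hφ1 (F.mem_EE.1 hm).1
  have h4 : k * (g * φ * g⁻¹) * k⁻¹ * (k * (g * φ * g⁻¹) * k⁻¹) ∈ F.M0 := by
    rw [h2]; exact (F.mem_EE.1 (hg _ hφE)).1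
  obtain ⟨e, he, h5⟩ := h.type R hA h1 hφ h3 hφ1 h4 hφ2
  rw [← h2, h5, h.sq_eq_of_type he hφ]

end MF

end Frame

end Cfsg.Agent.GH.L2QTwo
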