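import Cfsg.Agent.GH.L2QTwo.MFRank

/-!
# GH-L2, `|Q| = 2`, configuration (M-f): an involution `w ∈ T⟨s⟩` inducing `(e₁ e₂)`
-/

set_option autoImplicit false
set_option linter.unusedVariables false
set_option linter.unusedSimpArgs false

open Subgroup
open Cfsg.Agent.TwoFusion.SectionalRank

namespace Cfsg.Agent.GH.L2QTwo

variable {G A : Type*} [Group G] [Group A]

theorem card_le_two_mul [Finite G] {H L : Subgroup G} (h : H ≤ L)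
    (hall : ∀ a ∈ L, a ∉ H → ∀ b ∈ L, b ∉ H → a * b ∈ H) : Nat.card L ≤ 2 * Nat.card H := by
  by_cases hL : L ≤ H
  · have : L = H := le_antisymm hL h
    rw [this]; omega
  · obtain ⟨a, ha, ha'⟩ := SetLike.not_le_iff_exists.1 hL
    rw [card_eq_two_mul h ha ha' fun b hb => ?_]
    by_cases hb' : b ∈ H
    · exact Or.inl hb'
    · exact Or.inr (hall a ha ha' b hb hb')

namespace Frame

variable {x : G} {K T D : Subgroup G} {d : ℕ} {r c : G} {o1 : G → ℤˣ} {o2 : G → A} {f s : G}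

namespace MF

variable {F : Frame x K T D d r c o1 o2} {j1 j2 : ℤ} {ρ1 ρ2 : G}

/-- `N(E) ∩ N(C_T(E)) ∩ C(z) ∩ C(xf)` -/
def L0 (F : Frame x K T D d r c o1 o2) (f : G) (j : ℤ) : Subgroup G :=
  (normalizer (F.EE j : Set G) ⊓ normalizer (F.CT j : Set G)) ⊓
    (centralizer ({r ^ 2 ^ (d - 2)} : Set G) ⊓ centralizer ({x * f} : Set G))

theorem mem_L0 [Finite G] {j : ℤ} {g : G} : g ∈ L0 F f j ↔ (∀ m ∈ F.EE j, g * m * g⁻¹ ∈ F.EE j) ∧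
    (∀ u ∈ F.CT j, g * u * g⁻¹ ∈ F.CT j) ∧ g * r ^ 2 ^ (d - 2) * g⁻¹ = r ^ 2 ^ (d - 2) ∧
    g * (x * f) * g⁻¹ = x * f := by
  rw [L0, mem_inf, mem_inf, mem_inf, mem_centralizer_singleton_iff, mem_centralizer_singleton_iff]
  constructor
  · rintro ⟨⟨h1, h2⟩, h3, h4⟩
    exact ⟨fun m hm => (mem_normalizer_iff.1 h1 m).1 hm, fun m hm => (mem_normalizer_iff.1 h2 m).1 hm,
      conj_eq_of_comm h3, conj_eq_of_comm h4⟩
  · rintro ⟨h1, h2, h3, h4⟩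
    exact ⟨⟨mem_norm_of h1, mem_norm_of h2⟩, comm_of_conj_eq h3, comm_of_conj_eq h4⟩

theorem z_e3 (h : F.MF f s) (j : ℤ) {g : G} (hz : g * r ^ 2 ^ (d - 2) * g⁻¹ = r ^ 2 ^ (d - 2)) :
    g * (f * (r ^ 2 ^ (d - 2) * (r ^ j * c))) * g⁻¹ =
      r ^ 2 ^ (d - 2) * (g * (f * (r ^ j * c)) * g⁻¹) := by
  rw [h.e4_eq, conj_mul3, hz]

theorem z_e4 (h : F.MF f s) (j : ℤ) : r ^ 2 ^ (d - 2) * (f * (r ^ 2 ^ (d - 2) * (r ^ j * c))) =
    f * (r ^ j * c) := by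
  rw [h.e4_eq, ← mul_assoc, F.z_sq, one_mul]

/-- upper bound for the 2-subgroups of `L0` -/
theorem L0_card_le [Finite G] (h : F.MF f s) (R : F.Rho f j1 j2 ρ1 ρ2) {Q : Subgroup G}
    (hQ : Q ≤ L0 F f j2) (hQ2 : IsPGroup 2 Q) : Nat.card Q ≤ 4 * Nat.card (F.CT j2) := by
  let Q1 := Q ⊓ centralizer ({x} : Set G)
  let Q2 := Q1 ⊓ centralizer ({f * (r ^ j2 * c)} : Set G)
  have hp : ∀ g ∈ Q, (g * x * g⁻¹ = x ∧ g * f * g⁻¹ = f ∨ g * x * g⁻¹ = f ∧ g * f * g⁻¹ = x) ∧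
    (g * (f * (r ^ j2 * c)) * g⁻¹ = f * (r ^ j2 * c) ∨
      g * (f * (r ^ j2 * c)) * g⁻¹ = f * (r ^ 2 ^ (d - 2) * (r ^ j2 * c))) := by
    intro g hg
    obtain ⟨a1, a2, a3, a4⟩ := mem_L0.1 (hQ hg)
    exact h.perm R a1 a3 a4
  have i1 : Nat.card Q ≤ 2 * Nat.card Q1 := by
    refine card_le_two_mul inf_le_left fun a ha ha' b hb hb' => ⟨Q.mul_mem ha hb, ?_⟩
    have ha1 : ¬ a * x * a⁻¹ = x := fun h1 => ha' ⟨ha, mem_centralizer_singleton_iff.2 (comm_of_conj_eq h1)⟩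
    have hb1 : ¬ b * x * b⁻¹ = x := fun h1 => hb' ⟨hb, mem_centralizer_singleton_iff.2 (comm_of_conj_eq h1)⟩
    rcases (hp a ha).1 with h1 | h1
    · exact absurd h1.1 ha1
    rcases (hp b hb).1 with h2 | h2
    · exact absurd h2.1 hb1
    apply mem_centralizer_singleton_iff.2
    apply comm_of_conj_eq
    have e : a * b * x * (a * b)⁻¹ = a * (b * x * b⁻¹) * a⁻¹ := by group
    rw [e, h2.1, h1.2]
  have i2 : Nat.card Q1 ≤ 2 * Nat.card Q2 := by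
    refine card_le_two_mul inf_le_left fun a ha ha' b hb hb' => ⟨Q1.mul_mem ha hb, ?_⟩
    have ha1 : ¬ a * (f * (r ^ j2 * c)) * a⁻¹ = f * (r ^ j2 * c) := fun h1 =>
      ha' ⟨ha, mem_centralizer_singleton_iff.2 (comm_of_conj_eq h1)⟩
    have hb1 : ¬ b * (f * (r ^ j2 * c)) * b⁻¹ = f * (r ^ j2 * c) := fun h1 =>
      hb' ⟨hb, mem_centralizer_singleton_iff.2 (comm_of_conj_eq h1)⟩
    rcases (hp a ha.1).2 with h1 | h1
    · exact absurd h1 ha1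
    rcases (hp b hb.1).2 with h2 | h2
    · exact absurd h2 hb1
    apply mem_centralizer_singleton_iff.2
    apply comm_of_conj_eq
    have e : a * b * (f * (r ^ j2 * c)) * (a * b)⁻¹ = a * (b * (f * (r ^ j2 * c)) * b⁻¹) * a⁻¹ := by group
    rw [e, h2, h.z_e3 j2 (mem_L0.1 (hQ ha.1)).2.2.1, h1, h.z_e4]
  have i3 : Nat.card Q2 ≤ Nat.card (F.CT j2) := by
    refine h.card_CT R (hQ2.to_le (inf_le_left.trans inf_le_left)) fun p hp => ?_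
    have p1 := mem_centralizer_singleton_iff.1 hp.1.2
    have p2 := mem_centralizer_singleton_iff.1 hp.2
    have p3 := comm_of_conj_eq (mem_L0.1 (hQ hp.1.1)).2.2.1
    have p4 := comm_of_conj_eq (mem_L0.1 (hQ hp.1.1)).2.2.2
    have c1 : Commute p x := p1
    have c4 : Commute p (x * f) := p4
    have c2 : Commute p (f * (r ^ j2 * c)) := p2
    have cf : Commute p f := by
      have h5 := c1.mul_right c4
      rwa [← mul_assoc, F.xx, one_mul] at h5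
    have cv : Commute p (r ^ j2 * c) := by
      have h5 := cf.mul_right c2
      rwa [← mul_assoc, h.fld.sq, one_mul] at h5
    exact h.comm_EE_of p1 cf p3 cv
  omega

/-- `s'` normalises `C_T(E)` -/
theorem s_CT [Finite G] (h : F.MF f s) {j : ℤ} {s' : G} (hT : ∀ t ∈ T, s' * t * s'⁻¹ ∈ T)
    (hf : s' * f * s'⁻¹ = x) (he : s' * (f * (r ^ j * c)) * s'⁻¹ = f * (r ^ j * c)) {u : G}
    (hu : u ∈ F.CT j) : s' * u * s'⁻¹ ∈ F.CT j := by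
  have hv := (F.mem_CT.1 hu).2
  have huT := (F.mem_CT.1 hu).1
  refine F.mem_CT.2 ⟨hT u huT, ?_⟩
  -- `s' v s'⁻¹ = x f v`
  have h1 : s' * (r ^ j * c) * s'⁻¹ = x * (f * (r ^ j * c)) := by
    rw [conj_mul3, hf] at he
    rw [← he, ← mul_assoc x x, F.xx, one_mul]
  have h2 : Commute (s' * u * s'⁻¹) (x * (f * (r ^ j * c))) := by
    rw [← h1]
    change s' * u * s'⁻¹ * (s' * (r ^ j * c) * s'⁻¹) = s' * (r ^ j * c) * s'⁻¹ * (s' * u * s'⁻¹)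
    rw [conj_mul_conj, conj_mul_conj, hv]
  have hT' := hT u huT
  have h3 : Commute (s' * u * s'⁻¹) x := (F.T_comm _ hT').symm
  have h4 : Commute (s' * u * s'⁻¹) f := h.f_T hT'
  have h5 := h4.mul_right (h3.mul_right h2)
  have e : f * (x * (x * (f * (r ^ j * c)))) = r ^ j * c := by
    rw [← mul_assoc x, F.xx, one_mul, ← mul_assoc, h.fld.sq, one_mul]
  rwa [e] at h5

theorem exists_w [Finite G] (h : F.MF f s) (R : F.Rho f j1 j2 ρ1 ρ2) :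
    ∃ w ∈ T ⊔ zpowers s, w * w = 1 ∧ w * x * w⁻¹ = f ∧ w * f * w⁻¹ = x ∧
      w * r ^ 2 ^ (d - 2) * w⁻¹ = r ^ 2 ^ (d - 2) ∧
      w * (f * (r ^ j2 * c)) * w⁻¹ = f * (r ^ j2 * c) ∧
      ∀ u ∈ F.CT j2, w * u * w⁻¹ * u⁻¹ = 1 ∨ w * u * w⁻¹ * u⁻¹ = x * f := by
  obtain ⟨s', sT, sn, sE, sx, sf, sz, se⟩ := h.exists_s R
  obtain ⟨p1, p2, p3⟩ := h.p2 R
  have hxE := h.x_EE j2
  have hfE := h.f_EE j2
  have hzE := F.z_EE j2
  have hvE := F.v_EE j2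
  have heE := h.e3_EE j2
  have he4E : f * (r ^ 2 ^ (d - 2) * (r ^ j2 * c)) ∈ F.EE j2 :=
    (F.EE j2).mul_mem hfE ((F.EE j2).mul_mem hzE hvE)
  have hzee : r ^ 2 ^ (d - 2) = f * (r ^ j2 * c) * (f * (r ^ 2 ^ (d - 2) * (r ^ j2 * c))) := by
    rw [h.EE_comm heE he4E, h.e4_eq, mul_assoc, h.EE_sq heE, mul_one]
  -- `g₀`
  have ge : ∀ m, ρ2 * s' * ρ2 * m * (ρ2 * s' * ρ2)⁻¹ = ρ2 * (s' * (ρ2 * m * ρ2⁻¹) * s'⁻¹) * ρ2⁻¹ := by
    intro m; group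
  have g0E : ∀ m ∈ F.EE j2, ρ2 * s' * ρ2 * m * (ρ2 * s' * ρ2)⁻¹ ∈ F.EE j2 := by
    intro m hm
    rw [ge]
    exact h.ρ2_EE R _ (sE _ (h.ρ2_EE R m hm))
  obtain ⟨k, hk, hk2⟩ := h.frattini R g0E
  set γ := k * (ρ2 * s' * ρ2) with hγ
  have γe : ∀ m ∈ F.EE j2, γ * m * γ⁻¹ = ρ2 * (s' * (ρ2 * m * ρ2⁻¹) * s'⁻¹) * ρ2⁻¹ := by
    intro m hm
    have e : γ * m * γ⁻¹ = k * (ρ2 * s' * ρ2 * m * (ρ2 * s' * ρ2)⁻¹) * k⁻¹ := by rw [hγ]; group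
    rw [e, conj_eq_of_comm (hk _ (g0E m hm)), ge]
  have s4 : s' * (f * (r ^ 2 ^ (d - 2) * (r ^ j2 * c))) * s'⁻¹ = f * (r ^ 2 ^ (d - 2) * (r ^ j2 * c)) := by
    rw [h.z_e3 j2 sz, se, ← h.e4_eq]
  have γx : γ * x * γ⁻¹ = f * (r ^ 2 ^ (d - 2) * (r ^ j2 * c)) := by
    rw [γe x hxE, R.x2, sx, p1]
  have γf : γ * f * γ⁻¹ = f * (r ^ j2 * c) := by
    rw [γe f hfE, p1, s4, p2]
  have γ3 : γ * (f * (r ^ j2 * c)) * γ⁻¹ = x := by
    rw [γe _ heE, p3, sf, R.x2]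
  have γ4 : γ * (f * (r ^ 2 ^ (d - 2) * (r ^ j2 * c))) * γ⁻¹ = f := by
    rw [γe _ he4E, p2, se, p3]
  have γz : γ * r ^ 2 ^ (d - 2) * γ⁻¹ = x * f := by
    rw [hzee, conj_mul3 γ (f * (r ^ j2 * c)), γ3, γ4]
  -- `τ`
  set q := r ^ (j2 + 2 ^ (d - 3)) * c with hq
  have qx := q_x F j2
  have qf := h.q_f j2
  have qz := q_z F j2
  have qv := d_conj F h.hd j2
  rw [← hq] at qx qf qz qv
  have q3 : q * (f * (r ^ j2 * c)) * q⁻¹ = f * (r ^ 2 ^ (d - 2) * (r ^ j2 * c)) := by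
    rw [conj_mul3, qf, qv]
  have q4 : q * (f * (r ^ 2 ^ (d - 2) * (r ^ j2 * c))) * q⁻¹ = f * (r ^ j2 * c) := by
    rw [h.z_e3 j2 qz, q3, h.z_e4]
  set τ := γ * q * γ⁻¹ with hτ
  have τe : ∀ m, τ * (γ * m * γ⁻¹) * τ⁻¹ = γ * (q * m * q⁻¹) * γ⁻¹ := by
    intro m; rw [hτ]; group
  have τx : τ * x * τ⁻¹ = f := by
    have := τe (f * (r ^ j2 * c))
    rwa [γ3, q3, γ4] at this
  have τf : τ * f * τ⁻¹ = x := by
    have := τe (f * (r ^ 2 ^ (d - 2) * (r ^ j2 * c)))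
    rwa [γ4, q4, γ3] at this
  have τ3 : τ * (f * (r ^ j2 * c)) * τ⁻¹ = f * (r ^ j2 * c) := by
    have := τe f
    rwa [γf, qf, γf] at this
  have τ4 : τ * (f * (r ^ 2 ^ (d - 2) * (r ^ j2 * c))) * τ⁻¹ = f * (r ^ 2 ^ (d - 2) * (r ^ j2 * c)) := by
    have := τe x
    rwa [γx, qx, γx] at this
  have τz : τ * r ^ 2 ^ (d - 2) * τ⁻¹ = r ^ 2 ^ (d - 2) := by
    nth_rewrite 1 [hzee]
    rw [conj_mul3, τ3, τ4, ← hzee]
  have τxf : τ * (x * f) * τ⁻¹ = x * f := by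
    rw [conj_mul3, τx, τf, h.fld.fx]
  have τv : τ * (r ^ j2 * c) * τ⁻¹ ∈ F.EE j2 := by
    have e1 : r ^ j2 * c = f * (f * (r ^ j2 * c)) := by rw [← mul_assoc, h.fld.sq, one_mul]
    rw [e1, conj_mul3, τf, τ3]
    exact (F.EE j2).mul_mem hxE heE
  have τE : ∀ m ∈ F.EE j2, τ * m * τ⁻¹ ∈ F.EE j2 :=
    h.norm_EE_of (by rw [τx]; exact hfE) (by rw [τf]; exact hxE) (by rw [τz]; exact hzE) τv
  have τu : ∀ u ∈ F.CT j2, τ * u * τ⁻¹ * u⁻¹ = 1 ∨ τ * u * τ⁻¹ * u⁻¹ = x * f := by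
    intro u hu
    obtain ⟨u', hu', rfl⟩ := conj_surj hk2 u hu
    have e : τ * (γ * u' * γ⁻¹) * τ⁻¹ * (γ * u' * γ⁻¹)⁻¹ = γ * (q * u' * q⁻¹ * u'⁻¹) * γ⁻¹ := by
      rw [τe]; group
    rw [e]
    rcases h.q_comm hu' with h1 | h1
    · left; rw [← hq] at h1; rw [h1]; group
    · right; rw [← hq] at h1; rw [h1, γz]
  have hxfCT : x * f ∈ F.CT j2 := EE_le_CT F j2 ((F.EE j2).mul_mem hxE hfE)
  have τC : ∀ u ∈ F.CT j2, τ * u * τ⁻¹ ∈ F.CT j2 := by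
    intro u hu
    have e : τ * u * τ⁻¹ = (τ * u * τ⁻¹ * u⁻¹) * u := by group
    rw [e]
    rcases τu u hu with h1 | h1 <;> rw [h1]
    · rw [one_mul]; exact hu
    · exact (F.CT j2).mul_mem hxfCT hu
  have ττ : τ * τ = 1 := by
    rw [hτ, conj_mul_conj, hq, F.refl_sq]; group
  have τL : τ ∈ L0 F f j2 := mem_L0.2 ⟨τE, τC, τz, τxf⟩
  -- `P`
  have qT : q ∈ T := q_T F j2
  have qL : q ∈ L0 F f j2 := mem_L0.2 ⟨h.q_EE j2, fun u hu => h.q_CT hu, qz, by rw [conj_mul3, qx, qf]⟩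
  have sL : s' ∈ L0 F f j2 := mem_L0.2 ⟨sE, fun u hu => h.s_CT sn sf se hu, sz, by
    rw [conj_mul3, sx, sf, h.fld.fx]⟩
  have hlow : 4 * Nat.card (F.CT j2) ≤ Nat.card ↥((T ⊔ zpowers s) ⊓ L0 F f j2) := by
    have j1' : 2 * Nat.card ↥(((T ⊔ zpowers s) ⊓ L0 F f j2) ⊓ centralizer ({x} : Set G)) ≤
        Nat.card ↥((T ⊔ zpowers s) ⊓ L0 F f j2) := by
      refine two_mul_card_le inf_le_left (a := s') ⟨sT, sL⟩ fun h1 => h.f_ne_x ?_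
      rw [← sx]
      exact conj_eq_of_comm (mem_centralizer_singleton_iff.1 h1.2)
    have j2' : 2 * Nat.card ↥((((T ⊔ zpowers s) ⊓ L0 F f j2) ⊓ centralizer ({x} : Set G)) ⊓
        centralizer ({f * (r ^ j2 * c)} : Set G)) ≤
        Nat.card ↥(((T ⊔ zpowers s) ⊓ L0 F f j2) ⊓ centralizer ({x} : Set G)) := by
      refine two_mul_card_le inf_le_left (a := q)
        ⟨⟨mem_sup_left qT, qL⟩, mem_centralizer_singleton_iff.2 (comm_of_conj_eq qx)⟩ fun h1 => ?_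
      have h2 := conj_eq_of_comm (mem_centralizer_singleton_iff.1 h1.2)
      rw [q3] at h2
      have h3 := mul_left_cancel h2
      apply F.z_ne
      exact (mul_eq_right (b := r ^ j2 * c)).1 h3
    have j3' : Nat.card (F.CT j2) ≤ Nat.card ↥((((T ⊔ zpowers s) ⊓ L0 F f j2) ⊓
        centralizer ({x} : Set G)) ⊓ centralizer ({f * (r ^ j2 * c)} : Set G)) := by
      apply Nat.card_le_card_of_injective _ (inclusion_injective _)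
      intro u hu
      have huE : ∀ m ∈ F.EE j2, u * m = m * u := fun m hm => h.CT_comm hu hm
      refine ⟨⟨⟨mem_sup_left (F.mem_CT.1 hu).1, mem_L0.2 ⟨fun m hm => ?_, fun u' hu' => ?_, ?_, ?_⟩⟩,
        mem_centralizer_singleton_iff.2 (huE _ hxE)⟩, mem_centralizer_singleton_iff.2 (huE _ heE)⟩
      · rw [conj_eq_of_comm (huE m hm)]; exact hm
      · exact (F.CT j2).mul_mem ((F.CT j2).mul_mem hu hu') ((F.CT j2).inv_mem hu)
      · exact conj_eq_of_comm (huE _ hzE)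
      · exact conj_eq_of_comm (huE _ ((F.EE j2).mul_mem hxE hfE))
    omega
  have τp : IsPGroup 2 (zpowers τ) := by
    rintro ⟨a, ha⟩
    obtain ⟨i, rfl⟩ := mem_zpowers_iff.1 ha
    refine ⟨1, Subtype.ext ?_⟩
    change (τ ^ i) ^ 2 ^ 1 = 1
    rw [pow_one, pow_two, ← zpow_add, ← two_mul, zpow_mul, zpow_two, ττ, one_zpow]
  obtain ⟨l, hl, hlw⟩ := exists_conj_le (P := (T ⊔ zpowers s) ⊓ L0 F f j2) inf_le_right
    (h.out.two.to_le inf_le_left) (fun Q hQ hQ2 => (h.L0_card_le R hQ hQ2).trans hlow)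
    (show zpowers τ ≤ L0 F f j2 by rw [zpowers_le]; exact τL) τp
  have hw := hlw τ (mem_zpowers τ)
  obtain ⟨l1, l2, l3, l4⟩ := mem_L0.1 hl
  obtain ⟨lx, le⟩ := h.perm R l1 l3 l4
  have we : ∀ m, l * τ * l⁻¹ * (l * m * l⁻¹) * (l * τ * l⁻¹)⁻¹ = l * (τ * m * τ⁻¹) * l⁻¹ := by
    intro m; group
  refine ⟨l * τ * l⁻¹, hw.1, ?_, ?_, ?_, (mem_L0.1 hw.2).2.2.1, ?_, ?_⟩
  · rw [conj_mul_conj, ττ]; group
  · rcases lx with ⟨a1, a2⟩ | ⟨a1, a2⟩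
    · have := we x
      rwa [a1, τx, a2] at this
    · have := we f
      rwa [a2, τf, a1] at this
  · rcases lx with ⟨a1, a2⟩ | ⟨a1, a2⟩
    · have := we f
      rwa [a2, τf, a1] at this
    · have := we x
      rwa [a1, τx, a2] at this
  · rcases le with a1 | a1
    · have := we (f * (r ^ j2 * c))
      rwa [a1, τ3, a1] at this
    · have a2 : l * (f * (r ^ 2 ^ (d - 2) * (r ^ j2 * c))) * l⁻¹ = f * (r ^ j2 * c) := by
        rw [h.z_e3 j2 l3, a1, h.z_e4]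
      have := we (f * (r ^ 2 ^ (d - 2) * (r ^ j2 * c)))
      rwa [a2, τ4, a2] at this
  · intro u hu
    obtain ⟨u', hu', rfl⟩ := conj_surj l2 u hu
    have e : l * τ * l⁻¹ * (l * u' * l⁻¹) * (l * τ * l⁻¹)⁻¹ * (l * u' * l⁻¹)⁻¹ =
        l * (τ * u' * τ⁻¹ * u'⁻¹) * l⁻¹ := by
      rw [we]; group
    rw [e]
    rcases τu u' hu' with h1 | h1
    · left; rw [h1]; group
    · right; rw [h1, l4]

end MF

end Frame

end Cfsg.Agent.GH.L2QTwo
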