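import Cfsg.Agent.GH.L2QTwo.MFCard

/-!
# GH-L2, `|Q| = 2`, configuration (M-f): `d = 3`, `T = M₀`
-/

set_option autoImplicit false
set_option linter.unusedVariables false
set_option linter.unusedSimpArgs false

open Subgroup

namespace Cfsg.Agent.GH.L2QTwo

variable {G A : Type*} [Group G] [Group A]

namespace Frame

variable {x : G} {K T D : Subgroup G} {d : ℕ} {r c : G} {o1 : G → ℤˣ} {o2 : G → A} {f s : G}

namespace MF

variable {F : Frame x K T D d r c o1 o2} {j1 j2 : ℤ} {ρ1 ρ2 : G}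

/-- conjugation of a reflection by an element of `T` -/
theorem conj_refl (hg : Good T d r c o1) (F : Frame x K T D d r c o1 o2) {t : G} (ht : t ∈ T) (j : ℤ) :
    ∃ i : ℤ, t * (r ^ j * c) * t⁻¹ = r ^ i * c ∧ (o1 t = 1 ↔ Even (i - j)) := by
  obtain ⟨k, hk, hk'⟩ := hg.sw t ht
  obtain ⟨l, ⟨m, hm⟩, hl'⟩ := hg.ro t ht
  refine ⟨l * j + k, ?_, ?_⟩
  · rw [conj_mul3, F.conj_rk hl', hk, ← mul_assoc, ← zpow_add]
  · rw [hk']
    have : l * j + k - j = k + 2 * (m * j) := by rw [hm]; ring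
    rw [this, Int.even_add]
    constructor
    · intro h1; exact iff_of_true h1 (even_two_mul _)
    · intro h1; exact h1.2 (even_two_mul _)

/-- the reflections with `f r^j c ~ x` -/
theorem even_of_conj [Finite G] (h : F.MF f s) (R : F.Rho f j1 j2 ρ1 ρ2) {j : ℤ}
    (hc : IsConj x (f * (r ^ j * c))) : Even (j - j2) := by
  have hm : f * (r ^ j * c) ∈ F.M0 := F.M0.mul_mem h.fld.mem_M0 (F.D_le_M0 (F.refl_mem j))
  rcases h.cls R hm hc with h1 | h1 | ⟨i, hi, h1⟩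
  · exfalso
    apply h.fld.ne
    have h2 : o2 (f * (r ^ j * c)) = o2 f := by
      rw [F.o2_mul' h.fld.mem (F.D_le (F.refl_mem j)), F.o2_D (F.refl_mem j), mul_one]
    rw [← h2, h1, F.o2_x]
  · exfalso
    apply F.refl_ne_one j
    exact mul_left_cancel (a := f) (by rw [h1, mul_one])
  · have h2 := mul_right_cancel (mul_left_cancel h1)
    rw [F.rk_eq] at h2
    have h3 : (2 : ℤ) ∣ j - i := dvd_trans (dvd_pow_self 2 (by have := h.hd; omega)) h2
    obtain ⟨a, ha⟩ := hi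
    obtain ⟨b, hb⟩ := h3
    exact ⟨a + b, by linarith⟩

/-- no element of `T` is of `PGL`-type -/
theorem o1_T [Finite G] (h : F.MF f s) (R : F.Rho f j1 j2 ρ1 ρ2) {t : G} (ht : t ∈ T) : o1 t = 1 := by
  obtain ⟨i, hi, hi'⟩ := conj_refl h.good F ht j2
  rw [hi']
  apply h.even_of_conj R
  rw [← hi]
  have h1 : f * (t * (r ^ j2 * c) * t⁻¹) = t * (f * (r ^ j2 * c)) * t⁻¹ := by
    rw [conj_mul3 t f, conj_eq_of_comm (h.f_T ht)]
  rw [h1, conj_iff]
  -- `f v₂ = ρ₂ (…) ρ₂⁻¹`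
  obtain ⟨p1, p2, p3⟩ := h.p2 R
  rw [← p2, conj_iff, ← p1, conj_iff]
  exact h.pf

/-- `f v₂ ~ x` -/
theorem pv [Finite G] (h : F.MF f s) (R : F.Rho f j1 j2 ρ1 ρ2) : IsConj x (f * (r ^ j2 * c)) := by
  obtain ⟨p1, p2, p3⟩ := h.p2 R
  rw [← p2, conj_iff, ← p1, conj_iff]
  exact h.pf

theorem pzv [Finite G] (h : F.MF f s) (R : F.Rho f j1 j2 ρ1 ρ2) :
    IsConj x (f * (r ^ 2 ^ (d - 2) * (r ^ j2 * c))) := by
  obtain ⟨p1, p2, p3⟩ := h.p2 R
  rw [← p1, conj_iff]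
  exact h.pf

/-- `d = 3`: `T = M₀` -/
theorem le_M0 [Finite G] (h : F.MF f s) (R : F.Rho f j1 j2 ρ1 ρ2) (h3 : d = 3) : T ≤ F.M0 := by
  intro t ht
  have ho1 := h.o1_T R ht
  obtain ⟨k, hk, hk'⟩ := h.good.sw t ht
  obtain ⟨l, ⟨m, hm⟩, hl'⟩ := h.good.ro t ht
  obtain ⟨a, ha⟩ := hk'.1 ho1
  refine ⟨ht, ho1, ?_⟩
  -- `g = (r^a)⁻¹ t` centralises `c`
  let g : G := (r ^ a)⁻¹ * t
  have hgT : g ∈ T := T.mul_mem (T.inv_mem (F.D_le (F.r_rk a))) ht
  have hgc : g * c * g⁻¹ = c := by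
    have e1 : g * c * g⁻¹ = r ^ (-a) * (t * c * t⁻¹) * (r ^ (-a))⁻¹ := by
      simp only [g]
      rw [zpow_neg]; group
    rw [e1, hk, rot_conj F, ha]
    have : a + a + 2 * -a = 0 := by ring
    rw [this, zpow_zero, one_mul]
  have hgr : g * r * g⁻¹ = r ^ l := by
    have e1 : g * r * g⁻¹ = r ^ (-a) * (t * r * t⁻¹) * (r ^ (-a))⁻¹ := by
      simp only [g]
      rw [zpow_neg]; group
    rw [e1, hl']
    exact conj_eq_of_comm (by rw [← zpow_add, ← zpow_add, add_comm])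
  have hg2 : o2 g = o2 t := by
    rw [F.o2_mul' (T.inv_mem (F.D_le (F.r_rk a))) ht, F.o2_D (D.inv_mem (F.r_rk a)), one_mul]
  have hr4 : r ^ (4 : ℤ) = 1 := by
    rw [F.rk_one, h3]; norm_num
  -- `g` or `c g` centralises `D`
  have key : ∀ g' ∈ T, g' * c * g'⁻¹ = c → g' * r * g'⁻¹ = r → o2 g' * o2 g' = 1 := by
    intro g' hg' h4 h5
    have h6 : ∀ e ∈ D, g' * e = e * g' := by
      intro e he
      apply comm_of_conj_eq
      obtain ⟨i, hi | hi⟩ := F.D_form e he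
      · rw [hi, ← conj_zpow, h5]
      · rw [hi, conj_mul3, ← conj_zpow, h5, h4]
    rw [← F.o2_mul' hg' hg']
    rcases F.sq_mem g' hg' h6 with h7 | h7
    · rw [h7, F.o2_one]
    · rw [h7, F.o2_x]
  rw [← hg2]
  rcases Int.even_or_odd m with ⟨b, hb⟩ | ⟨b, hb⟩
  · apply key g hgT hgc
    rw [hgr, hm, hb]
    have : 2 * (b + b) + 1 = 4 * b + 1 := by ring
    rw [this, zpow_add, zpow_mul, hr4, one_zpow, one_mul, zpow_one]
  · have h7 : o2 (c * g) = o2 g := by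
      rw [F.o2_mul' F.c_T hgT, F.o2_D F.c_mem, one_mul]
    rw [← h7]
    apply key (c * g) (T.mul_mem F.c_T hgT)
    · calc c * g * c * (c * g)⁻¹ = c * (g * c * g⁻¹) * c⁻¹ := by group
        _ = c := by rw [hgc]; group
    · calc c * g * r * (c * g)⁻¹ = c * (g * r * g⁻¹) * c⁻¹ := by group
        _ = r ^ (-l) := by rw [hgr, F.crk]
        _ = r := by
          rw [hm, hb]
          have : -(2 * (2 * b + 1) + 1) = 4 * (-b - 1) + 1 := by ring
          rw [this, zpow_add, zpow_mul, hr4, one_zpow, one_mul, zpow_one]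

/-- `T = M₀` has order 32 if `d = 3` -/
theorem card_T [Finite G] (h : F.MF f s) (R : F.Rho f j1 j2 ρ1 ρ2) (h3 : d = 3) : Nat.card T = 32 := by
  have h1 : T = F.M0 := le_antisymm (h.le_M0 R h3) fun m hm => hm.1
  rw [h1, h.fld.card_M0, h3]; norm_num

/-- `d = 3`: the conjugates of `x` in `T` -/
theorem cls_three [Finite G] (h : F.MF f s) (R : F.Rho f j1 j2 ρ1 ρ2) (h3 : d = 3) {t : G} (ht : t ∈ T)
    (hc : IsConj x t) : t = x ∨ t = f ∨ t = f * (r ^ j2 * c) ∨ t = f * (r ^ 2 ^ (d - 2) * (r ^ j2 * c)) := by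
  rcases h.cls R (h.le_M0 R h3 ht) hc with h1 | h1 | ⟨j, ⟨a, ha⟩, h1⟩
  · exact Or.inl h1
  · exact Or.inr (Or.inl h1)
  · right; right
    have hr4 : r ^ (4 : ℤ) = 1 := by
      rw [F.rk_one, h3]; norm_num
    have hj : j = j2 + 2 * a := by linarith
    rcases Int.even_or_odd a with ⟨b, hb⟩ | ⟨b, hb⟩
    · left
      rw [h1, hj, hb]
      have : j2 + 2 * (b + b) = 4 * b + j2 := by ring
      rw [this, zpow_add, zpow_mul, hr4, one_zpow, one_mul]
    · right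
      rw [h1, hj, hb, F.zz, ← mul_assoc (r ^ _), ← zpow_add]
      have : j2 + 2 * (2 * b + 1) = 4 * b + (2 ^ (d - 2) + j2) := by rw [h3]; ring
      rw [this, zpow_add, zpow_mul, hr4, one_zpow, one_mul]

/-- `v₁` swaps `f v₂` and `f z v₂` if `d = 3` -/
theorem swap_three [Finite G] (h : F.MF f s) (R : F.Rho f j1 j2 ρ1 ρ2) (h3 : d = 3) :
    (r ^ j1 * c) * (f * (r ^ j2 * c)) = f * (r ^ 2 ^ (d - 2) * (r ^ j2 * c)) * (r ^ j1 * c) := by
  have e0 : (r ^ j1 * c) * (r ^ j2 * c) = r ^ 2 ^ (d - 2) * (r ^ j2 * c) * (r ^ j1 * c) := by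
    have a1 : (r ^ j1 * c) * (r ^ j2 * c) = r ^ (j1 - j2) := by
      calc r ^ j1 * c * (r ^ j2 * c) = r ^ j1 * (c * r ^ j2) * c := by group
        _ = r ^ j1 * (r ^ (-j2) * c) * c := by rw [F.c_rk]
        _ = r ^ j1 * r ^ (-j2) * (c * c) := by group
        _ = r ^ (j1 - j2) := by rw [F.cc, mul_one, ← zpow_add, sub_eq_add_neg]
    have a2 : (r ^ j2 * c) * (r ^ j1 * c) = r ^ (j2 - j1) := by
      calc r ^ j2 * c * (r ^ j1 * c) = r ^ j2 * (c * r ^ j1) * c := by group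
        _ = r ^ j2 * (r ^ (-j1) * c) * c := by rw [F.c_rk]
        _ = r ^ j2 * r ^ (-j1) * (c * c) := by group
        _ = r ^ (j2 - j1) := by rw [F.cc, mul_one, ← zpow_add, sub_eq_add_neg]
    rw [a1, mul_assoc, a2, F.zz, ← zpow_add, F.rk_eq, h3]
    obtain ⟨m, hm⟩ := R.odd
    refine ⟨-m - 1, ?_⟩
    have : j1 - j2 = -(2 * m + 1) := by linarith
    rw [this, hm]; norm_num; ring
  calc (r ^ j1 * c) * (f * (r ^ j2 * c)) = ((r ^ j1 * c) * f) * (r ^ j2 * c) := by group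
    _ = f * ((r ^ j1 * c) * (r ^ j2 * c)) := by rw [← h.fld.cent _ (F.refl_mem j1)]; group
    _ = _ := by rw [e0]; group

end MF

end Frame

end Cfsg.Agent.GH.L2QTwo
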