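import Cfsg.Agent.GH.L2QTwo.MInFPrep

/-!
# GH-L2, `|Q| = 2`, configuration (M-in-f): the action of `L` on `C`
-/

set_option autoImplicit false
set_option linter.unusedVariables false
set_option linter.unusedSimpArgs false

open Subgroup

namespace Cfsg.Agent.GH.L2QTwo.MInF

variable {L : Type*} [Group L]

/-- the formal core: `g₁ = ρgρ⁻¹`, `g₂ = ρ⁻¹gρ`, `d g d⁻¹ = g δ`, `d ρ d⁻¹ = ρ⁻¹ c`, `δ`, `c` central -/
theorem core {Q : Type*} [Group Q] {g ρ d δ c : Q} (hδ2 : δ * δ = 1) (hδg : Commute δ g)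
    (hδρ : Commute δ ρ) (hcg : Commute c g) (hcρ : Commute c ρ) (hcδ : Commute c δ)
    (hdg : d * g * d⁻¹ = g * δ) (hdρ : d * ρ * d⁻¹ = ρ⁻¹ * c)
    (ht : d * (g * ((ρ * g * ρ⁻¹) * (ρ⁻¹ * g * ρ))) * d⁻¹ = g * ((ρ * g * ρ⁻¹) * (ρ⁻¹ * g * ρ)))
    (hs : Commute (g * g) ρ) (hss : g * g * (g * g) = 1) :
    (ρ * g * ρ⁻¹) * (ρ⁻¹ * g * ρ) * ((ρ * g * ρ⁻¹) * (ρ⁻¹ * g * ρ)) = δ ∧
      d * ((ρ * g * ρ⁻¹) * (ρ⁻¹ * g * ρ)) * d⁻¹ = (ρ * g * ρ⁻¹) * (ρ⁻¹ * g * ρ) * δ := by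
  set g1 := ρ * g * ρ⁻¹ with hg1
  set g2 := ρ⁻¹ * g * ρ with hg2
  have c1 : Commute δ g1 := (hδρ.mul_right hδg).mul_right hδρ.inv_right
  have c2 : Commute δ g2 := (hδρ.inv_right.mul_right hδg).mul_right hδρ
  have k1 : Commute c g1 := (hcρ.mul_right hcg).mul_right hcρ.inv_right
  have d1 : d * g1 * d⁻¹ = g2 * δ := by
    calc d * g1 * d⁻¹ = (d * ρ * d⁻¹) * (d * g * d⁻¹) * (d * ρ * d⁻¹)⁻¹ := by rw [hg1]; group
      _ = ρ⁻¹ * (c * (g * δ)) * c⁻¹ * ρ := by rw [hdρ, hdg]; group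
      _ = ρ⁻¹ * ((g * δ) * c) * c⁻¹ * ρ := by rw [(hcg.mul_right hcδ).eq]
      _ = ρ⁻¹ * g * (δ * ρ) := by group
      _ = g2 * δ := by rw [hδρ.eq, hg2]; group
  have d2 : d * g2 * d⁻¹ = g1 * δ := by
    calc d * g2 * d⁻¹ = (d * ρ * d⁻¹)⁻¹ * (d * g * d⁻¹) * (d * ρ * d⁻¹) := by rw [hg2]; group
      _ = c⁻¹ * (ρ * g * (δ * ρ⁻¹)) * c := by rw [hdρ, hdg]; group
      _ = c⁻¹ * ((g1 * δ) * c) := by rw [(hδρ.inv_right).eq, hg1]; group
      _ = c⁻¹ * (c * (g1 * δ)) := by rw [(k1.mul_right hcδ).eq]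
      _ = g1 * δ := by group
  have e1 : g1 * g2 = g2 * g1 * δ := by
    have : d * (g * (g1 * g2)) * d⁻¹ = g * (g2 * g1 * δ) := by
      calc d * (g * (g1 * g2)) * d⁻¹ = (d * g * d⁻¹) * ((d * g1 * d⁻¹) * (d * g2 * d⁻¹)) := by group
        _ = g * (δ * g2) * (δ * (g1 * δ)) := by rw [hdg, d1, d2]; group
        _ = g * (g2 * (δ * δ)) * (g1 * δ) := by rw [c2.eq]; group
        _ = g * (g2 * g1 * δ) := by rw [hδ2]; group
    rw [this] at ht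
    exact (mul_left_cancel ht).symm
  have e2 : g2 * g1 = g1 * g2 * δ := by
    rw [e1, mul_assoc (g2 * g1), hδ2, mul_one]
  have s1 : g1 * g1 = g * g := by
    calc g1 * g1 = ρ * (g * g) * ρ⁻¹ := by rw [hg1]; group
      _ = g * g := by rw [← hs.eq]; group
  have s2 : g2 * g2 = g * g := by
    calc g2 * g2 = ρ⁻¹ * ((g * g) * ρ) := by rw [hg2]; group
      _ = g * g := by rw [hs.eq]; group
  constructor
  · calc g1 * g2 * (g1 * g2) = g1 * (g2 * g1) * g2 := by group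
      _ = (g1 * g1) * g2 * (δ * g2) := by rw [e2]; group
      _ = (g1 * g1) * (g2 * g2) * δ := by rw [c2.eq]; group
      _ = δ := by rw [s1, s2, hss, one_mul]
  · calc d * (g1 * g2) * d⁻¹ = (d * g1 * d⁻¹) * (d * g2 * d⁻¹) := by group
      _ = g2 * (δ * g1) * δ := by rw [d1, d2]; group
      _ = g2 * g1 * (δ * δ) := by rw [c1.eq]; group
      _ = g1 * g2 * δ := by rw [hδ2, mul_one, e2]

namespace Data

variable {x h z v d ρ φ : L} {C : Subgroup L} {k : ℕ}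

theorem cx (D : Data x h z v d ρ φ C k) : d * x * d⁻¹ = x := by rw [D.dx, mul_inv_cancel_right]
theorem cz (D : Data x h z v d ρ φ C k) : d * z * d⁻¹ = z := by rw [D.dz, mul_inv_cancel_right]
theorem cφ (D : Data x h z v d ρ φ C k) : d * φ * d⁻¹ = φ := by rw [D.dφ, mul_inv_cancel_right]
theorem ρx (D : Data x h z v d ρ φ C k) : ρ * x * ρ⁻¹ = x := by rw [D.rx, mul_inv_cancel_right]
theorem ρφ (D : Data x h z v d ρ φ C k) : ρ * φ * ρ⁻¹ = φ := by rw [D.rφ, mul_inv_cancel_right]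

/-- the action of `d` -/
theorem d_e (D : Data x h z v d ρ φ C k) (m i j l : ℤ) :
    d * e φ x z v m i j l * d⁻¹ = e φ x z v m i (j + l) l := by
  rw [conj_e, D.cφ, D.cx, D.cz, D.dv]
  have hv : z * v = e φ x z v 0 0 1 1 := by simp [e]
  have e1 : φ ^ m * (x ^ i * (z ^ j * (z * v) ^ l)) = e φ x z v m i j 0 * e φ x z v 0 0 1 1 ^ l := by
    rw [hv]; simp only [e]; group
  rw [e1, D.e_zpow, D.e_mul]
  congr 1 <;> ring

/-- the action of `ρ` -/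
theorem ρ_e (D : Data x h z v d ρ φ C k) (m i j l : ℤ) :
    ρ * e φ x z v m i j l * ρ⁻¹ = e φ x z v m i l (j + l) := by
  rw [conj_e, D.ρφ, D.ρx, D.rz, D.rv]
  have hv : z * v = e φ x z v 0 0 1 1 := by simp [e]
  have e1 : φ ^ m * (x ^ i * (v ^ j * (z * v) ^ l)) = e φ x z v m i 0 j * e φ x z v 0 0 1 1 ^ l := by
    rw [hv]; simp only [e]; group
  rw [e1, D.e_zpow, D.e_mul]
  congr 1 <;> ring

/-- the action of `ρ⁻¹` -/
theorem ρ_e' (D : Data x h z v d ρ φ C k) (m i j l : ℤ) :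
    ρ⁻¹ * e φ x z v m i j l * ρ = e φ x z v m i (l - j) j := by
  have h1 := D.ρ_e m i (l - j) j
  have e1 : l - j + j = l := by ring
  rw [e1] at h1
  rw [← h1]; group

end Data

/-- `y : x → x zᵅ hᵝ, h → h, z → z, v → v hᵞ` -/
structure Act (φ x h z v : L) (k : ℕ) (y : L) (α β γ : ℤ) : Prop where
  yx : y * x * y⁻¹ = e φ x z v (2 ^ (k - 1) * β) 1 α 0
  yh : y * h * y⁻¹ = h
  yz : y * z * y⁻¹ = z
  yv : y * v * y⁻¹ = e φ x z v (2 ^ (k - 1) * γ) 0 0 1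

namespace Act

variable {x h z v d ρ φ : L} {C : Subgroup L} {k : ℕ} {y : L} {α β γ : ℤ}

theorem hz_pow (D : Data x h z v d ρ φ C k) (a : ℤ) : φ ^ ((2 : ℤ) ^ (k - 1) * a) = h ^ a := by
  rw [zpow_mul]
  congr 1
  have : ((2 : ℤ) ^ (k - 1)) = ((2 ^ (k - 1) : ℕ) : ℤ) := by push_cast; rfl
  rw [this, zpow_natCast, D.hφ]

theorem two_k (D : Data x h z v d ρ φ C k) : (2 : ℤ) ^ k = 2 * 2 ^ (k - 1) := by
  rw [← pow_succ']; congr 1; have := D.hk; omega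

/-- the action on `F` -/
theorem act_q (D : Data x h z v d ρ φ C k) (A : Act φ x h z v k y α β γ) (a i j l : ℤ) :
    y * e φ x z v (2 ^ (k - 1) * a) i j l * y⁻¹ =
      e φ x z v (2 ^ (k - 1) * (a + β * i + γ * l)) i (α * i + j) l := by
  have e1 : y * e φ x z v (2 ^ (k - 1) * a) i j l * y⁻¹ =
      (y * φ ^ ((2 : ℤ) ^ (k - 1) * a) * y⁻¹) * ((y * x * y⁻¹) ^ i * ((y * z * y⁻¹) ^ j *
        (y * v * y⁻¹) ^ l)) := by
    simp only [conj_zpow, e]; group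
  have e2 : y * φ ^ ((2 : ℤ) ^ (k - 1) * a) * y⁻¹ = e φ x z v (2 ^ (k - 1) * a) 0 0 0 := by
    rw [hz_pow D, ← conj_zpow, A.yh, ← hz_pow D]; simp [e]
  have e3 : (y * z * y⁻¹) ^ j = e φ x z v 0 0 j 0 := by rw [A.yz]; simp [e]
  rw [e1, e2, e3, A.yx, A.yv, D.e_zpow, D.e_zpow, D.e_mul, D.e_mul, D.e_mul]
  congr 1 <;> ring

/-- the full action, `yφy⁻¹ = e m₀ i₀ j₀ l₀` -/
theorem act_e (D : Data x h z v d ρ φ C k) (A : Act φ x h z v k y α β γ) {m0 i0 j0 l0 : ℤ}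
    (h0 : y * φ * y⁻¹ = e φ x z v m0 i0 j0 l0) (m i j l : ℤ) :
    y * e φ x z v m i j l * y⁻¹ =
      e φ x z v (m0 * m + 2 ^ (k - 1) * (β * i + γ * l)) (i0 * m + i) (j0 * m + α * i + j)
        (l0 * m + l) := by
  have e3 : (y * z * y⁻¹) ^ j = e φ x z v 0 0 j 0 := by rw [A.yz]; simp [e]
  rw [Data.conj_e, e3, h0, A.yx, A.yv, D.e_zpow, D.e_zpow, D.e_zpow, D.e_mul, D.e_mul, D.e_mul]
  congr 1 <;> ring

/-- `y` preserves `C` -/
theorem mem_C (D : Data x h z v d ρ φ C k) (A : Act φ x h z v k y α β γ) {c : L} (hc : c ∈ C) :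
    y * c * y⁻¹ ∈ C := by
  have key : ∀ a i j l : ℤ, y⁻¹ * e φ x z v (2 ^ (k - 1) * a) i j l * y ∈ C := by
    intro a i j l
    have h1 := act_q D A (a - β * i - γ * l) i (j - α * i) l
    have e1 : a - β * i - γ * l + β * i + γ * l = a := by ring
    have e2 : α * i + (j - α * i) = j := by ring
    rw [e1, e2] at h1
    rw [← h1]
    have : y⁻¹ * (y * e φ x z v (2 ^ (k - 1) * (a - β * i - γ * l)) i (j - α * i) l * y⁻¹) * y =
        e φ x z v (2 ^ (k - 1) * (a - β * i - γ * l)) i (j - α * i) l := by group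
    rw [this]
    exact D.e_mem _ _ _ _
  apply D.conj_C _ _ _ _ hc
  · have := key 0 1 0 0
    simpa [e] using this
  · have := key 1 0 0 0
    rw [mul_one, ← D.h_eq] at this
    exact this
  · have := key 0 0 1 0
    simpa [e] using this
  · have := key 0 0 0 1
    simpa [e] using this

/-- membership in `C` from the action on `F` -/
theorem mem_of_triv (D : Data x h z v d ρ φ C k) {y : L} (yx : y * x * y⁻¹ = x) (yh : y * h * y⁻¹ = h)
    (yz : y * z * y⁻¹ = z) (yv : y * v * y⁻¹ = v) : y ∈ C := by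
  have key : ∀ u : L, y * u * y⁻¹ = u → y * u = u * y := fun u hu => by
    nth_rewrite 2 [← hu]; group
  exact D.cent y (key x yx) (key h yh) (key z yz) (key v yv)

theorem mul (D : Data x h z v d ρ φ C k) (A : Act φ x h z v k y α β γ) {y' : L} {α' β' γ' : ℤ}
    (A' : Act φ x h z v k y' α' β' γ') : Act φ x h z v k (y * y') (α + α') (β + β') (γ + γ') where
  yx := by
    have : y * y' * x * (y * y')⁻¹ = y * (y' * x * y'⁻¹) * y⁻¹ := by group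
    rw [this, A'.yx, act_q D A]
    congr 1 <;> ring
  yh := by
    have : y * y' * h * (y * y')⁻¹ = y * (y' * h * y'⁻¹) * y⁻¹ := by group
    rw [this, A'.yh, A.yh]
  yz := by
    have : y * y' * z * (y * y')⁻¹ = y * (y' * z * y'⁻¹) * y⁻¹ := by group
    rw [this, A'.yz, A.yz]
  yv := by
    have : y * y' * v * (y * y')⁻¹ = y * (y' * v * y'⁻¹) * y⁻¹ := by group
    rw [this, A'.yv, act_q D A]
    congr 1 <;> ring

/-- the square lies in `C` -/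
theorem sq_mem (D : Data x h z v d ρ φ C k) (A : Act φ x h z v k y α β γ) : y * y ∈ C := by
  have A2 := mul D A A
  have h2 := two_k D
  apply mem_of_triv D
  · rw [A2.yx]
    refine Eq.trans ?_ (Data.x_eq φ x z v).symm
    rw [D.e_eq]
    exact ⟨⟨β, by rw [h2]; ring⟩, ⟨0, by ring⟩, ⟨α, by ring⟩, ⟨0, by ring⟩⟩
  · exact A2.yh
  · exact A2.yz
  · rw [A2.yv]
    refine Eq.trans ?_ (Data.v_eq φ x z v).symm
    rw [D.e_eq]
    exact ⟨⟨γ, by rw [h2]; ring⟩, ⟨0, by ring⟩, ⟨0, by ring⟩, ⟨0, by ring⟩⟩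

/-- `y⁻¹ d y d⁻¹ ∈ ⟨h, x, z⟩` -/
theorem comm_d (D : Data x h z v d ρ φ C k) (A : Act φ x h z v k y α β γ) :
    ∃ n i j : ℤ, d * y * d⁻¹ = y * e φ x z v (2 ^ (k - 1) * n) i j 0 := by
  have ch : d * h * d⁻¹ = h := by
    rw [D.h_eq, D.d_e]; congr 1
  have hC : y⁻¹ * (d * y * d⁻¹) ∈ C := by
    -- `d y d⁻¹` acts like `y`
    have key : ∀ a i j l : ℤ, y⁻¹ * (d * y * d⁻¹) * e φ x z v (2 ^ (k - 1) * a) i j l *
        (y⁻¹ * (d * y * d⁻¹))⁻¹ = e φ x z v (2 ^ (k - 1) * a) i j l := by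
      intro a i j l
      have dinv : d⁻¹ = d := inv_eq_of_mul_eq_one_right D.dd
      have e1 : y⁻¹ * (d * y * d⁻¹) * e φ x z v (2 ^ (k - 1) * a) i j l * (y⁻¹ * (d * y * d⁻¹))⁻¹ =
          y⁻¹ * (d * (y * (d⁻¹ * e φ x z v (2 ^ (k - 1) * a) i j l * d) * y⁻¹) * d⁻¹) * y := by group
      have e2 : d⁻¹ * e φ x z v (2 ^ (k - 1) * a) i j l * d = e φ x z v (2 ^ (k - 1) * a) i (j + l) l := by
        rw [← D.d_e, dinv]
      have e3 : y⁻¹ * (y * e φ x z v (2 ^ (k - 1) * a) i (j + 2 * l) l * y⁻¹) * y =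
          e φ x z v (2 ^ (k - 1) * a) i (j + 2 * l) l := by group
      rw [e1, e2, act_q D A, D.d_e]
      have e4 : α * i + (j + l) + l = α * i + (j + 2 * l) := by ring
      rw [e4, ← act_q D A, e3, D.e_eq]
      exact ⟨⟨0, by ring⟩, ⟨0, by ring⟩, ⟨l, by ring⟩, ⟨0, by ring⟩⟩
    apply mem_of_triv D
    · have := key 0 1 0 0
      rw [mul_zero, ← Data.x_eq] at this
      exact this
    · have := key 1 0 0 0
      rw [mul_one, ← D.h_eq] at this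
      exact this
    · have := key 0 0 1 0
      rw [mul_zero, ← Data.z_eq] at this
      exact this
    · have := key 0 0 0 1
      rw [mul_zero, ← Data.v_eq] at this
      exact this
  obtain ⟨m, i, j, l, h1⟩ := D.exists_e hC
  have h2 : d * y * d⁻¹ = y * e φ x z v m i j l := by rw [← h1]; group
  have h3 : e φ x z v m i j l * (d * e φ x z v m i j l * d⁻¹) = 1 := by
    have e1 : d * (d * y * d⁻¹) * d⁻¹ = y := by
      have dinv : d⁻¹ = d := inv_eq_of_mul_eq_one_right D.dd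
      calc d * (d * y * d⁻¹) * d⁻¹ = (d * d) * y * (d⁻¹ * d⁻¹) := by group
        _ = y := by rw [dinv, D.dd, one_mul, mul_one]
    have e2 : d * (d * y * d⁻¹) * d⁻¹ = y * (e φ x z v m i j l * (d * e φ x z v m i j l * d⁻¹)) := by
      nth_rewrite 1 [h2]
      calc d * (y * e φ x z v m i j l) * d⁻¹ = (d * y * d⁻¹) * (d * e φ x z v m i j l * d⁻¹) := by group
        _ = _ := by rw [h2, mul_assoc]
    rw [e1] at e2
    exact (mul_left_cancel (a := y) (by rw [mul_one]; exact e2)).symm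
  rw [D.d_e, D.e_mul, D.e_eq_one] at h3
  obtain ⟨⟨n, hn⟩, -, ⟨a, ha⟩, -⟩ := h3
  refine ⟨n, i, j, ?_⟩
  rw [h2]
  congr 1
  rw [D.e_eq]
  refine ⟨⟨0, ?_⟩, ⟨0, by ring⟩, ⟨0, by ring⟩, ⟨a - j, by linarith⟩⟩
  rw [two_k D] at hn
  linarith

/-- the image of `φ` -/
theorem conj_φ (D : Data x h z v d ρ φ C k) (A : Act φ x h z v k y α β γ) :
    ∃ m0 i0 j0 l0 : ℤ, y * φ * y⁻¹ = e φ x z v m0 i0 j0 l0 ∧ 2 ∣ m0 - 1 ∧ 2 ∣ l0 ∧ 2 ∣ α * i0 := by
  obtain ⟨m0, i0, j0, l0, h0⟩ := D.exists_e (mem_C D A D.φC)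
  have hm : 2 ∣ m0 - 1 := by
    have e1 : y * h * y⁻¹ = (y * φ * y⁻¹) ^ ((2 : ℤ) ^ (k - 1)) := by
      rw [conj_zpow]
      have := hz_pow D 1
      rw [mul_one, zpow_one] at this
      rw [this]
    rw [A.yh, h0, D.e_zpow, D.h_eq, D.e_eq] at e1
    obtain ⟨⟨a, ha⟩, -⟩ := e1
    refine ⟨-a, ?_⟩
    rw [two_k D] at ha
    have h2 : (2 : ℤ) ^ (k - 1) ≠ 0 := by positivity
    have h3 : (2 : ℤ) ^ (k - 1) * (1 - m0) = 2 ^ (k - 1) * (2 * a) := by linarith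
    have h4 := mul_left_cancel₀ h2 h3
    linarith
  have hl : 2 ∣ l0 := by
    obtain ⟨n, i, j, hc⟩ := comm_d D A
    have e1 : d * (y * φ * y⁻¹) * d⁻¹ = y * φ * y⁻¹ := by
      have cc : Commute (e φ x z v (2 ^ (k - 1) * n) i j 0) φ := D.comm _ (D.e_mem _ _ _ _) _ D.φC
      calc d * (y * φ * y⁻¹) * d⁻¹ = (d * y * d⁻¹) * (d * φ * d⁻¹) * (d * y * d⁻¹)⁻¹ := by group
        _ = y * (e φ x z v (2 ^ (k - 1) * n) i j 0 * φ) * (e φ x z v (2 ^ (k - 1) * n) i j 0)⁻¹ * y⁻¹ := by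
            rw [hc, D.cφ]; group
        _ = y * φ * y⁻¹ := by rw [cc.eq]; group
    rw [h0, D.d_e, D.e_eq] at e1
    obtain ⟨-, -, h2, -⟩ := e1
    have : j0 + l0 - j0 = l0 := by ring
    rwa [this] at h2
  refine ⟨m0, i0, j0, l0, h0, hm, hl, ?_⟩
  have hC := sq_mem D A
  have e1 : y * (y * φ * y⁻¹) * y⁻¹ = φ := by
    have cc : Commute (y * y) φ := D.comm _ hC _ D.φC
    calc y * (y * φ * y⁻¹) * y⁻¹ = y * y * φ * (y * y)⁻¹ := by group
      _ = φ := by rw [cc.eq]; group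
  rw [h0, act_e D A h0] at e1
  replace e1 := e1.trans (Data.φ_eq φ x z v)
  rw [D.e_eq] at e1
  obtain ⟨-, -, ⟨a, ha⟩, -⟩ := e1
  obtain ⟨b, hb⟩ := hm
  refine ⟨a - j0 * b - j0, ?_⟩
  have hm0 : m0 = 2 * b + 1 := by linarith
  rw [hm0] at ha
  linarith

end Act

end Cfsg.Agent.GH.L2QTwo.MInF
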