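import Cfsg.Agent.GH.L2QTwo.MInFR

/-!
# GH-L2, `|Q| = 2`, field involution in `T`: (M-in-f) (4)(c) of helper311's text

`RData x z v d φ ρ k`, `h = φ ^ 2 ^ (k - 1)`.  Two elements `σ`, `τ` normalizing `T_F`, `x ^ σ = x z`, `x ^ τ = x h`,
acting on `v`, `d` modulo `⟨z, h⟩` trivially and centralizing `z`, `h`; squares of `σ`, `τ`, `σ τ` in `T_F`; `τ` is odd.
Then the sectional 2-rank is at least 5.
-/

set_option autoImplicit false

open Subgroup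

namespace Cfsg.Agent.GH.L2QTwo.MInFC

open Cfsg.Agent.TwoFusion.SectionalRank Cfsg.Agent.GH.TOne Cfsg.Agent.GH.L2QTwo.TwistD
  Cfsg.Agent.GH.L2QTwo.MInFR

variable {G : Type*} [Group G] {x z v d φ ρ : G} {k : ℕ}

/-- an element of `S_F` -/
structure GData (x z v d φ : G) (k : ℕ) (ζ g : G) : Prop where
  gx : g * x * g⁻¹ = x * ζ
  gz : Commute g z
  gh : Commute g (φ ^ 2 ^ (k - 1))
  gv : ∃ a b : ℤ, g * v * g⁻¹ = v * (z ^ a * (φ ^ 2 ^ (k - 1)) ^ b)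
  gd : ∃ a b : ℤ, g * d * g⁻¹ = d * (z ^ a * (φ ^ 2 ^ (k - 1)) ^ b)
  gφ : ∃ a b c e j : ℤ, g * φ * g⁻¹ = x ^ a * z ^ b * v ^ c * d ^ e * φ ^ j
  gg : ∃ a b c e j : ℤ, g * g = x ^ a * z ^ b * v ^ c * d ^ e * φ ^ j

/-- `h` -/
theorem hh (R : RData x z v d φ ρ k) : φ ^ 2 ^ (k - 1) * φ ^ 2 ^ (k - 1) = 1 := by
  rw [← pow_add, ← two_mul, ← pow_succ']
  have : k - 1 + 1 = k := by have := R.hk; omega
  rw [this]
  have := (R.ord (2 ^ k)).2 (dvd_refl _)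
  rw [← zpow_natCast]
  push_cast
  exact this

theorem h_zpow (R : RData x z v d φ ρ k) (b : ℤ) :
    (φ ^ 2 ^ (k - 1)) ^ b = φ ^ ((2 : ℤ) ^ (k - 1) * b) := by
  rw [zpow_mul, ← zpow_natCast]
  push_cast
  rfl

theorem h_ne (R : RData x z v d φ ρ k) : φ ^ 2 ^ (k - 1) ≠ 1 := by
  intro h
  have h1 := h_zpow R 1
  rw [zpow_one, h, mul_one] at h1
  have h2 := (R.ord _).1 h1.symm
  have h3 := Int.le_of_dvd (by positivity) h2
  have h4 : (2 : ℤ) ^ k = 2 ^ (k - 1) * 2 := by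
    rw [← pow_succ]; congr 1; have := R.hk; omega
  have h9 : (0 : ℤ) < 2 ^ (k - 1) := by positivity
  omega

/-- elements of `⟨z, h⟩` -/
theorem w_sq (R : RData x z v d φ ρ k) (a b : ℤ) :
    z ^ a * (φ ^ 2 ^ (k - 1)) ^ b * (z ^ a * (φ ^ 2 ^ (k - 1)) ^ b) = 1 := by
  have c : Commute (z ^ a) ((φ ^ 2 ^ (k - 1)) ^ b) := (R.zφ.pow_right _).zpow_zpow a b
  calc z ^ a * (φ ^ 2 ^ (k - 1)) ^ b * (z ^ a * (φ ^ 2 ^ (k - 1)) ^ b)
      = z ^ a * ((φ ^ 2 ^ (k - 1)) ^ b * z ^ a) * (φ ^ 2 ^ (k - 1)) ^ b := by group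
    _ = (z ^ a * z ^ a) * ((φ ^ 2 ^ (k - 1)) ^ b * (φ ^ 2 ^ (k - 1)) ^ b) := by
        rw [← c.eq]; group
    _ = 1 := by rw [sq_one R.zz, sq_one (hh R), one_mul]

theorem w_comm {y : G} (hz : Commute y z) (hh : Commute y (φ ^ 2 ^ (k - 1))) (a b : ℤ) :
    Commute y (z ^ a * (φ ^ 2 ^ (k - 1)) ^ b) :=
  (hz.zpow_right a).mul_right (hh.zpow_right b)

/-- elements of `T_F` commute with `z` and `φ` -/
theorem TF_comm (R : RData x z v d φ ρ k) {y : G} (hx : Commute y x) (hz : Commute y z)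
    (hv : Commute y v) (hd : Commute y d) (hφ : Commute y φ) (a b c e j : ℤ) :
    Commute (x ^ a * z ^ b * v ^ c * d ^ e * φ ^ j) y :=
  ((((hx.symm.zpow_left a).mul_left (hz.symm.zpow_left b)).mul_left
      (hv.symm.zpow_left c)).mul_left (hd.symm.zpow_left e)).mul_left (hφ.symm.zpow_left j)

/-- the forms of `φ ^ g` and `g²` -/
theorem GData.forms (R : RData x z v d φ ρ k) {ζ g : G} (A : GData x z v d φ k ζ g) :
    (∃ a b j : ℤ, g * φ * g⁻¹ = x ^ a * z ^ b * φ ^ j) ∧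
      ∃ a b j : ℤ, g * g = x ^ a * z ^ b * φ ^ j := by
  have conj : ∀ y, Commute φ y → (∃ a b : ℤ, g * y * g⁻¹ = y * (z ^ a * (φ ^ 2 ^ (k - 1)) ^ b)) →
      Commute (g * φ * g⁻¹) y := by
    rintro y hy ⟨a, b, h⟩
    have h3 : Commute (g * φ * g⁻¹) (g * y * g⁻¹) := by
      show g * φ * g⁻¹ * (g * y * g⁻¹) = g * y * g⁻¹ * (g * φ * g⁻¹)
      calc g * φ * g⁻¹ * (g * y * g⁻¹) = g * (φ * y) * g⁻¹ := by group
        _ = g * (y * φ) * g⁻¹ := by rw [hy.eq]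
        _ = _ := by group
    rw [h] at h3
    obtain ⟨i, l, m, e, j, hf⟩ := A.gφ
    have h4 : Commute (g * φ * g⁻¹) (z ^ a * (φ ^ 2 ^ (k - 1)) ^ b) := by
      rw [hf]
      refine w_comm (TF_comm R R.xz.symm (Commute.refl z) R.zv R.zd R.zφ i l m e j) ?_ a b
      exact (TF_comm R R.xφ.symm R.zφ.symm R.vφ.symm R.dφ.symm (Commute.refl φ) i l m e j).pow_right _
    have h5 := h3.mul_right h4.inv_right
    rwa [mul_inv_cancel_right] at h5
  have sq : ∀ y, (∃ a b : ℤ, g * y * g⁻¹ = y * (z ^ a * (φ ^ 2 ^ (k - 1)) ^ b)) →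
      Commute (g * g) y := by
    rintro y ⟨a, b, h⟩
    have h6 : g * g * y * (g * g)⁻¹ = y := by
      calc g * g * y * (g * g)⁻¹ = g * (g * y * g⁻¹) * g⁻¹ := by group
        _ = g * (y * (z ^ a * (φ ^ 2 ^ (k - 1)) ^ b)) * g⁻¹ := by rw [h]
        _ = (g * y * g⁻¹) * (g * (z ^ a * (φ ^ 2 ^ (k - 1)) ^ b) * g⁻¹) := by group
        _ = y * (z ^ a * (φ ^ 2 ^ (k - 1)) ^ b) * (z ^ a * (φ ^ 2 ^ (k - 1)) ^ b) := by
            rw [(w_comm A.gz A.gh a b).eq, mul_inv_cancel_right, h]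
        _ = y := by rw [mul_assoc, w_sq R, mul_one]
    exact mul_inv_eq_iff_eq_mul.1 h6
  refine ⟨?_, ?_⟩
  · obtain ⟨a, b, c, e, j, h⟩ := A.gφ
    exact ⟨a, b, j, R.form_of_comm h (conj v R.vφ.symm A.gv) (conj d R.dφ.symm A.gd)⟩
  · obtain ⟨a, b, c, e, j, h⟩ := A.gg
    exact ⟨a, b, j, R.form_of_comm h (sq v A.gv) (sq d A.gd)⟩

/-- normal form of a product in `⟨x, z, φ⟩` -/
theorem ind3 (R : RData x z v d φ ρ k) {a b j : ℤ} (h : x ^ a * z ^ b * φ ^ j = 1) :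
    Even a ∧ Even b ∧ (2 : ℤ) ^ k ∣ j := by
  have h1 : x ^ a * z ^ b * v ^ (0 : ℤ) * d ^ (0 : ℤ) = φ ^ (-j) := by
    rw [zpow_zero, zpow_zero, mul_one, mul_one, zpow_neg]
    exact eq_inv_of_mul_eq_one_left h
  obtain ⟨p1, p2, -, -⟩ := R.ind a b 0 0 (by rw [h1]; exact zpow_mem (mem_zpowers φ) _)
  rw [zpow_even R.xx p1, zpow_even R.zz p2, one_mul, one_mul] at h
  exact ⟨p1, p2, (R.ord j).1 h⟩

theorem mul3 (R : RData x z v d φ ρ k) (a b j a' b' j' : ℤ) :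
    x ^ a * z ^ b * φ ^ j * (x ^ a' * z ^ b' * φ ^ j') = x ^ (a + a') * z ^ (b + b') * φ ^ (j + j') := by
  have c1 : Commute (z ^ b * φ ^ j) (x ^ a') :=
    (R.xz.symm.zpow_zpow b a').mul_left (R.xφ.symm.zpow_zpow j a')
  have c2 : Commute (φ ^ j) (z ^ b') := R.zφ.symm.zpow_zpow j b'
  calc x ^ a * z ^ b * φ ^ j * (x ^ a' * z ^ b' * φ ^ j')
      = x ^ a * ((z ^ b * φ ^ j) * x ^ a') * z ^ b' * φ ^ j' := by group
    _ = x ^ a * x ^ a' * z ^ b * (φ ^ j * z ^ b') * φ ^ j' := by rw [c1.eq]; group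
    _ = (x ^ a * x ^ a') * (z ^ b * z ^ b') * (φ ^ j * φ ^ j') := by rw [c2.eq]; group
    _ = _ := by rw [← zpow_add, ← zpow_add, ← zpow_add]

theorem pow3 (R : RData x z v d φ ρ k) (a b j n : ℤ) :
    (x ^ a * z ^ b * φ ^ j) ^ n = x ^ (a * n) * z ^ (b * n) * φ ^ (j * n) := by
  have c1 : Commute (x ^ a * z ^ b) (φ ^ j) := (R.xφ.zpow_zpow a j).mul_left (R.zφ.zpow_zpow b j)
  have c2 : Commute (x ^ a) (z ^ b) := R.xz.zpow_zpow a b
  rw [c1.mul_zpow, c2.mul_zpow, ← zpow_mul, ← zpow_mul, ← zpow_mul]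

/-- `⟨z, u⟩`, `u = φ x ^ α` -/
def PS (R : RData x z v d φ ρ k) (α : ℤ) : Subgroup G := gen4 1 1 z (φ * x ^ α) (Commute.one_left _)
  (Commute.one_left _) (Commute.one_left _) (Commute.one_left _) (Commute.one_left _)
  (R.zφ.mul_right (R.xz.symm.zpow_right α))

theorem mem_PS (R : RData x z v d φ ρ k) {α : ℤ} {y : G} :
    y ∈ PS R α ↔ ∃ i j : ℤ, y = z ^ i * (φ * x ^ α) ^ j := by
  constructor
  · rintro ⟨-, -, i, j, rfl⟩; exact ⟨i, j, by simp⟩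
  · rintro ⟨i, j, rfl⟩; exact ⟨0, 0, i, j, by simp⟩

/-- the final rank argument -/
theorem final [Finite G] (hr : RankFour G) (R : RData x z v d φ ρ k) {α : ℤ} {σ τ : G}
    (h1 : φ ^ 2 ^ (k - 1) ∈ PS R α)
    (σx : σ * x * σ⁻¹ = x * z) (τx : τ * x * τ⁻¹ = x * φ ^ 2 ^ (k - 1))
    (σz : Commute σ z) (τz : Commute τ z) (τh : Commute τ (φ ^ 2 ^ (k - 1)))
    (σu : Commute σ (φ * x ^ α)) (τu : Commute τ (φ * x ^ α))
    (σv : Cm (PS R α) σ v) (τv : Cm (PS R α) τ v) (σd : Cm (PS R α) σ d) (τd : Cm (PS R α) τ d)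
    (σσ : σ * σ ∈ PS R α) (ττ : τ * τ ∈ PS R α) (στ : σ * τ * (σ * τ) ∈ PS R α) : False := by
  have zP : z ∈ PS R α := (mem_PS R).2 ⟨1, 0, by simp⟩
  have ux : Commute x (φ * x ^ α) := R.xφ.mul_right ((Commute.refl x).zpow_right α)
  have uv : Commute v (φ * x ^ α) := R.vφ.mul_right (R.xv.symm.zpow_right α)
  have ud : Commute d (φ * x ^ α) := R.dφ.mul_right (R.xd.symm.zpow_right α)
  have cz : ∀ s ∈ ({x, v, d, σ, τ} : Set G), Commute s z ∧ Commute s (φ * x ^ α) := by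
    rintro s (rfl | rfl | rfl | rfl | rfl)
    · exact ⟨R.xz, ux⟩
    · exact ⟨R.zv.symm, uv⟩
    · exact ⟨R.zd.symm, ud⟩
    · exact ⟨σz, σu⟩
    · exact ⟨τz, τu⟩
  have hN' : ∀ s ∈ ({x, v, d, σ, τ} : Set G), ∀ n ∈ PS R α, s * n * s⁻¹ = n := by
    intro s hs n hn
    obtain ⟨i, l, rfl⟩ := (mem_PS R).1 hn
    have : Commute s (z ^ i * (φ * x ^ α) ^ l) :=
      ((cz s hs).1.zpow_right i).mul_right ((cz s hs).2.zpow_right l)
    rw [this.eq, mul_inv_cancel_right]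
  have hN : ∀ s ∈ ({x, v, d, σ, τ} : Set G), ∀ n ∈ PS R α, s * n * s⁻¹ ∈ PS R α := by
    intro s hs n hn
    rw [hN' s hs n hn]; exact hn
  have σx' : Cm (PS R α) σ x := by
    unfold Cm
    rw [σx, R.xz.eq, mul_inv_cancel_right]
    exact zP
  have τx' : Cm (PS R α) τ x := by
    unfold Cm
    rw [τx, (R.xφ.pow_right _).eq, mul_inv_cancel_right]
    exact h1
  have dv' : Cm (PS R α) d v := by
    unfold Cm
    rw [R.dv, mul_inv_cancel_right]; exact zP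
  have στ' : Cm (PS R α) σ τ := by
    unfold Cm
    have e : σ * τ * σ⁻¹ * τ⁻¹ = (σ * τ * (σ * τ)) * ((τ⁻¹ * (σ * σ)⁻¹ * τ) * (τ * τ)⁻¹) := by group
    rw [e]
    refine mul_mem στ (mul_mem ?_ (inv_mem ττ))
    have h2 := hN' τ (by simp) _ (inv_mem σσ)
    have h3 : τ⁻¹ * (σ * σ)⁻¹ * τ = (σ * σ)⁻¹ := by
      nth_rewrite 1 [← h2]; group
    rw [h3]
    exact inv_mem σσ
  have hc : ∀ s ∈ ({x, v, d, σ, τ} : Set G), ∀ t ∈ ({x, v, d, σ, τ} : Set G), Cm (PS R α) s t := by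
    rintro s (rfl | rfl | rfl | rfl | rfl) t (rfl | rfl | rfl | rfl | rfl)
    · exact Cm.of_comm rfl
    · exact Cm.of_comm R.xv
    · exact Cm.of_comm R.xd
    · exact σx'.symm
    · exact τx'.symm
    · exact Cm.of_comm R.xv.symm
    · exact Cm.of_comm rfl
    · exact dv'.symm
    · exact σv.symm
    · exact τv.symm
    · exact Cm.of_comm R.xd.symm
    · exact dv'
    · exact Cm.of_comm rfl
    · exact σd.symm
    · exact τd.symm
    · exact σx'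
    · exact σv
    · exact σd
    · exact Cm.of_comm rfl
    · exact στ'
    · exact τx'
    · exact τv
    · exact τd
    · exact στ'.symm
    · exact Cm.of_comm rfl
  have hs : ∀ s ∈ ({x, v, d, σ, τ} : Set G), s * s ∈ PS R α := by
    rintro s (rfl | rfl | rfl | rfl | rfl)
    · rw [R.xx]; exact one_mem _
    · rw [R.vv]; exact one_mem _
    · rw [R.dd]; exact one_mem _
    · exact σσ
    · exact ττ
  -- the chain
  let H1 : Subgroup G := gen4 1 x z φ (Commute.one_left _) (Commute.one_left _) (Commute.one_left _)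
    R.xz R.xφ R.zφ
  have hmem1 : ∀ u, u ∈ H1 ↔ ∃ a i j : ℤ, u = x ^ a * z ^ i * φ ^ j := by
    intro u
    constructor
    · rintro ⟨-, a, i, j, rfl⟩; exact ⟨a, i, j, by simp⟩
    · rintro ⟨a, i, j, rfl⟩; exact ⟨0, a, i, j, by simp⟩
  let H4 : Subgroup G :=
    { carrier := {g | Commute g z ∧ (g * x * g⁻¹ = x ∨ g * x * g⁻¹ = x * z)}
      one_mem' := ⟨Commute.one_left _, Or.inl (by simp)⟩
      mul_mem' := by
        rintro a b ⟨ha, ha'⟩ ⟨hb, hb'⟩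
        refine ⟨ha.mul_left hb, ?_⟩
        have e : a * b * x * (a * b)⁻¹ = a * (b * x * b⁻¹) * a⁻¹ := by group
        have e2 : a * (x * z) * a⁻¹ = (a * x * a⁻¹) * z := by
          calc a * (x * z) * a⁻¹ = (a * x * a⁻¹) * (a * z * a⁻¹) := by group
            _ = _ := by rw [ha.eq, mul_inv_cancel_right]
        rw [e]
        rcases hb' with h | h <;> rcases ha' with h' | h'
        · left; rw [h, h']
        · right; rw [h, h']
        · right; rw [h, e2, h']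
        · left; rw [h, e2, h', mul_assoc, R.zz, mul_one]
      inv_mem' := by
        rintro a ⟨ha, ha'⟩
        refine ⟨ha.inv_left, ?_⟩
        rcases ha' with h | h
        · left; nth_rewrite 1 [← h]; group
        · right
          have e : a⁻¹ * (a * x * a⁻¹ * z) * a⁻¹⁻¹ = x * z := by
            calc a⁻¹ * (a * x * a⁻¹ * z) * a⁻¹⁻¹ = x * (a⁻¹ * z * a) := by group
              _ = x * z := by rw [ha.inv_left.eq, inv_mul_cancel_right]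
          rw [h, mul_assoc x z z, R.zz, mul_one] at e
          exact e }
  refine kill hr (x₁ := x) (x₂ := v) (x₃ := d) (x₄ := σ) (x₅ := τ) hN hc hs (H₁ := H1)
    (H₂ := R.CF) (H₃ := centralizer {x} ⊓ centralizer {z}) (H₄ := H4) ?_ ?_ ?_ ?_ ?_ ?_ ?_ ?_ ?_ ?_
      ?_ ?_ ?_
  · intro u hu
    obtain ⟨i, j, rfl⟩ := (mem_PS R).1 hu
    refine (hmem1 _).2 ⟨α * j, i, j, ?_⟩
    rw [(R.xφ.symm.zpow_right α).mul_zpow, ← zpow_mul]
    have c1 : Commute (z ^ i * φ ^ j) (x ^ (α * j)) :=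
      (R.xz.symm.zpow_zpow _ _).mul_left (R.xφ.symm.zpow_zpow _ _)
    calc z ^ i * (φ ^ j * x ^ (α * j)) = (z ^ i * φ ^ j) * x ^ (α * j) := by group
      _ = _ := by rw [c1.eq]; group
  · exact (hmem1 _).2 ⟨1, 0, 0, by simp⟩
  · intro u hu
    obtain ⟨a, i, j, rfl⟩ := (hmem1 u).1 hu
    exact ⟨a, i, 0, j, by simp⟩
  · exact R.v_CF
  · intro u hu
    rw [mem_inf, mem_centralizer_singleton_iff, mem_centralizer_singleton_iff]
    exact ⟨(R.CF_comm R.x_CF hu).eq.symm, (R.CF_comm R.z_CF hu).eq.symm⟩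
  · rw [mem_inf, mem_centralizer_singleton_iff, mem_centralizer_singleton_iff]
    exact ⟨R.xd.eq.symm, R.zd.eq.symm⟩
  · intro u hu
    rw [mem_inf, mem_centralizer_singleton_iff, mem_centralizer_singleton_iff] at hu
    exact ⟨hu.2, Or.inl (by rw [hu.1, mul_inv_cancel_right])⟩
  · exact ⟨σz, Or.inr σx⟩
  · intro h
    obtain ⟨i, l, h⟩ := (mem_PS R).1 h
    rw [(R.xφ.symm.zpow_right α).mul_zpow, ← zpow_mul] at h
    have h2 : x ^ (α * l - 1) * z ^ i * φ ^ l = 1 := by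
      have c1 : Commute (z ^ i * φ ^ l) (x ^ (α * l)) :=
        (R.xz.symm.zpow_zpow _ _).mul_left (R.xφ.symm.zpow_zpow _ _)
      rw [← mul_assoc, c1.eq] at h
      calc x ^ (α * l - 1) * z ^ i * φ ^ l = x⁻¹ * (x ^ (α * l) * (z ^ i * φ ^ l)) := by
            rw [sub_eq_add_neg, add_comm, zpow_add, zpow_neg, zpow_one]; group
        _ = 1 := by rw [← h, inv_mul_cancel]
    obtain ⟨p1, -, p3⟩ := ind3 R h2
    have h4 : (2 : ℤ) ∣ l := (dvd_pow_self 2 (by have := R.hk; omega)).trans p3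
    obtain ⟨l', hl'⟩ := h4
    obtain ⟨y, hy⟩ := p1
    rw [hl'] at hy
    have : (1 : ℤ) = 2 * (α * l' - y) := by linarith
    omega
  · intro h
    obtain ⟨a, i, l, h⟩ := (hmem1 _).1 h
    have h2 := (R.ind (-a) (-i) 1 0 (by
      have e : x ^ (-a) * z ^ (-i) * v ^ (1 : ℤ) * d ^ (0 : ℤ) = φ ^ l := by
        rw [zpow_zero, mul_one, zpow_one]
        nth_rewrite 1 [h]
        have h3 : Commute (z ^ (-i)) (x ^ a) := R.xz.symm.zpow_zpow (-i) a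
        calc x ^ (-a) * z ^ (-i) * (x ^ a * z ^ i * φ ^ l)
            = x ^ (-a) * (z ^ (-i) * x ^ a) * z ^ i * φ ^ l := by group
          _ = φ ^ l := by rw [h3.eq]; group
      rw [e]
      exact zpow_mem (mem_zpowers φ) _)).2.2.1
    exact (by decide : ¬ Even (1 : ℤ)) h2
  · rintro ⟨a, i, l, m, h⟩
    have h2 := (R.ind (-a) (-i) (-l) 1 (by
      have e : x ^ (-a) * z ^ (-i) * v ^ (-l) * d ^ (1 : ℤ) = φ ^ m := by
        rw [zpow_one]
        nth_rewrite 1 [h]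
        have h3 : Commute (z ^ (-i) * v ^ (-l)) (x ^ a) :=
          (R.xz.symm.zpow_zpow (-i) a).mul_left (R.xv.symm.zpow_zpow (-l) a)
        have h4 : Commute (v ^ (-l)) (z ^ i) := R.zv.symm.zpow_zpow (-l) i
        calc x ^ (-a) * z ^ (-i) * v ^ (-l) * (x ^ a * z ^ i * v ^ l * φ ^ m)
            = x ^ (-a) * ((z ^ (-i) * v ^ (-l)) * x ^ a) * z ^ i * v ^ l * φ ^ m := by group
          _ = z ^ (-i) * (v ^ (-l) * z ^ i) * v ^ l * φ ^ m := by rw [h3.eq]; group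
          _ = φ ^ m := by rw [h4.eq]; group
      rw [e]
      exact zpow_mem (mem_zpowers φ) _)).2.2.2
    exact (by decide : ¬ Even (1 : ℤ)) h2
  · intro h
    rw [mem_inf, mem_centralizer_singleton_iff, mem_centralizer_singleton_iff] at h
    rw [h.1, mul_inv_cancel_right] at σx
    exact R.z_ne (mul_eq_left.1 σx.symm)
  · rintro ⟨-, h | h⟩
    · rw [τx] at h
      exact h_ne R (mul_eq_left.1 h)
    · rw [τx] at h
      have h2 : x ^ (0 : ℤ) * z ^ (1 : ℤ) * φ ^ (-((2 : ℤ) ^ (k - 1))) = 1 := by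
        have h3 := mul_left_cancel h
        have h4 := h_zpow R 1
        rw [zpow_one, mul_one] at h4
        rw [zpow_zero, one_mul, zpow_one, zpow_neg, ← h4, h3, mul_inv_cancel]
      exact (by decide : ¬ Even (1 : ℤ)) (ind3 R h2).2.1

theorem w_PS (R : RData x z v d φ ρ k) {α : ℤ} (h1 : φ ^ 2 ^ (k - 1) ∈ PS R α) {y g : G}
    (yz : Commute y z) (yh : Commute y (φ ^ 2 ^ (k - 1)))
    (h : ∃ a b : ℤ, g * y * g⁻¹ = y * (z ^ a * (φ ^ 2 ^ (k - 1)) ^ b)) : Cm (PS R α) g y := by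
  obtain ⟨a, b, h⟩ := h
  unfold Cm
  rw [h, (w_comm yz yh a b).eq, mul_inv_cancel_right]
  exact mul_mem (zpow_mem ((mem_PS R).2 ⟨1, 0, by simp⟩) _) (zpow_mem h1 _)

/-- `k ≥ 2`: `h ∈ Φ` -/
theorem h_PH (R : RData x z v d φ ρ k) (hk : 2 ≤ k) : φ ^ 2 ^ (k - 1) ∈ R.PH := by
  refine R.mem_PH.2 ⟨0, 2 ^ (k - 2), ?_⟩
  rw [zpow_zero, one_mul, ← pow_succ', ← zpow_natCast]
  push_cast
  congr 2
  omega

/-- the rank argument with `Φ = ⟨z, φ²⟩`, `k ≥ 2` -/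
theorem killPH [Finite G] (hr : RankFour G) (R : RData x z v d φ ρ k) (hk : 2 ≤ k) {ζ g : G}
    (A : GData x z v d φ k ζ g) (hζ : ζ ∈ R.PH) (hζ1 : ζ ≠ 1)
    {b j : ℤ} (hj : Odd j) (gφ : g * φ * g⁻¹ = z ^ b * φ ^ j) (gg : g * g ∈ R.PH) : False := by
  have zPH : z ∈ R.PH := R.mem_PH.2 ⟨1, 0, by simp⟩
  have hPH := h_PH R hk
  have φPH : φ * φ ∈ R.PH := R.mem_PH.2 ⟨0, 1, by
    rw [zpow_zero, one_mul, mul_one, zpow_two]⟩
  have cz : ∀ s ∈ ({φ, x, v, d, g} : Set G), s * z = z * s := by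
    rintro s (rfl | rfl | rfl | rfl | rfl)
    · exact R.zφ.symm
    · exact R.xz
    · exact R.zv.symm
    · exact R.zd.symm
    · exact A.gz
  have hN : ∀ s ∈ ({φ, x, v, d, g} : Set G), ∀ n ∈ R.PH, s * n * s⁻¹ ∈ R.PH := by
    intro s hs n hn
    obtain ⟨i, l, rfl⟩ := R.mem_PH.1 hn
    have h1 : ∃ i' l' : ℤ, s * φ * s⁻¹ = z ^ i' * φ ^ l' := by
      rcases hs with rfl | rfl | rfl | rfl | rfl
      · exact ⟨0, 1, by simp⟩
      · exact ⟨0, 1, by rw [R.xφ.eq]; simp⟩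
      · exact ⟨0, 1, by rw [R.vφ.eq]; simp⟩
      · exact ⟨0, 1, by rw [R.dφ.eq]; simp⟩
      · exact ⟨b, j, gφ⟩
    obtain ⟨i', l', h1⟩ := h1
    have h2 : s * z ^ i * s⁻¹ = z ^ i := by
      have : Commute s z := cz s hs
      rw [(this.zpow_right i).eq, mul_inv_cancel_right]
    have h3 : s * φ ^ (2 * l) * s⁻¹ = φ ^ (2 * (l' * l)) := by
      rw [← conj_zpow, h1, zpow_mul, zpow_two]
      have h4 : z ^ i' * φ ^ l' * (z ^ i' * φ ^ l') = φ ^ (2 * l') := by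
        have h5 : Commute (φ ^ l') (z ^ i') := R.zφ.symm.zpow_zpow l' i'
        calc z ^ i' * φ ^ l' * (z ^ i' * φ ^ l') = z ^ i' * (φ ^ l' * z ^ i') * φ ^ l' := by group
          _ = (z ^ i' * z ^ i') * (φ ^ l' * φ ^ l') := by rw [h5.eq]; group
          _ = _ := by rw [sq_one R.zz, one_mul, ← zpow_add, two_mul]
      rw [h4, ← zpow_mul]
      congr 1
      ring
    refine R.mem_PH.2 ⟨i, l' * l, ?_⟩
    calc s * (z ^ i * φ ^ (2 * l)) * s⁻¹ = (s * z ^ i * s⁻¹) * (s * φ ^ (2 * l) * s⁻¹) := by group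
      _ = _ := by rw [h2, h3]
  have gφ' : Cm R.PH g φ := by
    unfold Cm
    obtain ⟨j', hj'⟩ := hj
    rw [gφ, hj', zpow_add_one, ← mul_assoc, mul_inv_cancel_right]
    exact R.mem_PH.2 ⟨b, j', rfl⟩
  have gx' : Cm R.PH g x := by
    unfold Cm
    obtain ⟨i, l, hi⟩ := R.mem_PH.1 hζ
    have : Commute x ζ := by
      rw [hi]; exact (R.xz.zpow_right _).mul_right (R.xφ.zpow_right _)
    rw [A.gx, this.eq, mul_inv_cancel_right]
    exact hζ
  have gy' : ∀ y, Commute y z → Commute y (φ ^ 2 ^ (k - 1)) →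
      (∃ a b : ℤ, g * y * g⁻¹ = y * (z ^ a * (φ ^ 2 ^ (k - 1)) ^ b)) → Cm R.PH g y := by
    rintro y yz yh ⟨a, b, h⟩
    unfold Cm
    rw [h, (w_comm yz yh a b).eq, mul_inv_cancel_right]
    exact mul_mem (zpow_mem zPH _) (zpow_mem hPH _)
  have gv' : Cm R.PH g v := gy' v R.zv.symm (R.vφ.pow_right _) A.gv
  have gd' : Cm R.PH g d := gy' d R.zd.symm (R.dφ.pow_right _) A.gd
  have dv' : Cm R.PH d v := by
    unfold Cm
    rw [R.dv, mul_inv_cancel_right]; exact zPH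
  have hc : ∀ s ∈ ({φ, x, v, d, g} : Set G), ∀ t ∈ ({φ, x, v, d, g} : Set G), Cm R.PH s t := by
    rintro s (rfl | rfl | rfl | rfl | rfl) t (rfl | rfl | rfl | rfl | rfl)
    · exact Cm.of_comm rfl
    · exact Cm.of_comm R.xφ.symm
    · exact Cm.of_comm R.vφ.symm
    · exact Cm.of_comm R.dφ.symm
    · exact gφ'.symm
    · exact Cm.of_comm R.xφ
    · exact Cm.of_comm rfl
    · exact Cm.of_comm R.xv
    · exact Cm.of_comm R.xd
    · exact gx'.symm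
    · exact Cm.of_comm R.vφ
    · exact Cm.of_comm R.xv.symm
    · exact Cm.of_comm rfl
    · exact dv'.symm
    · exact gv'.symm
    · exact Cm.of_comm R.dφ
    · exact Cm.of_comm R.xd.symm
    · exact dv'
    · exact Cm.of_comm rfl
    · exact gd'.symm
    · exact gφ'
    · exact gx'
    · exact gv'
    · exact gd'
    · exact Cm.of_comm rfl
  have hs : ∀ s ∈ ({φ, x, v, d, g} : Set G), s * s ∈ R.PH := by
    rintro s (rfl | rfl | rfl | rfl | rfl)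
    · exact φPH
    · rw [R.xx]; exact one_mem _
    · rw [R.vv]; exact one_mem _
    · rw [R.dd]; exact one_mem _
    · exact gg
  -- the chain
  let H1 : Subgroup G := gen4 1 1 z φ (Commute.one_left _) (Commute.one_left _) (Commute.one_left _)
    (Commute.one_left _) (Commute.one_left _) R.zφ
  let H2 : Subgroup G := gen4 1 x z φ (Commute.one_left _) (Commute.one_left _) (Commute.one_left _)
    R.xz R.xφ R.zφ
  have hmem1 : ∀ u, u ∈ H1 ↔ ∃ i j : ℤ, u = z ^ i * φ ^ j := by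
    intro u
    constructor
    · rintro ⟨-, -, i, j, rfl⟩; exact ⟨i, j, by simp⟩
    · rintro ⟨i, j, rfl⟩; exact ⟨0, 0, i, j, by simp⟩
  have hmem2 : ∀ u, u ∈ H2 ↔ ∃ a i j : ℤ, u = x ^ a * z ^ i * φ ^ j := by
    intro u
    constructor
    · rintro ⟨-, a, i, j, rfl⟩; exact ⟨a, i, j, by simp⟩
    · rintro ⟨a, i, j, rfl⟩; exact ⟨0, a, i, j, by simp⟩
  refine kill hr (x₁ := φ) (x₂ := x) (x₃ := v) (x₄ := d) (x₅ := g) hN hc hs (H₁ := H1) (H₂ := H2)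
    (H₃ := R.CF) (H₄ := centralizer {x}) ?_ ?_ ?_ ?_ ?_ ?_ ?_ ?_ ?_ ?_ ?_ ?_ ?_
  · intro u hu
    obtain ⟨i, j, rfl⟩ := R.mem_PH.1 hu
    exact (hmem1 _).2 ⟨i, 2 * j, rfl⟩
  · exact (hmem1 _).2 ⟨0, 1, by simp⟩
  · intro u hu
    obtain ⟨i, j, rfl⟩ := (hmem1 u).1 hu
    exact (hmem2 _).2 ⟨0, i, j, by simp⟩
  · exact (hmem2 _).2 ⟨1, 0, 0, by simp⟩
  · intro u hu
    obtain ⟨a, i, j, rfl⟩ := (hmem2 u).1 hu
    exact ⟨a, i, 0, j, by simp⟩
  · exact R.v_CF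
  · intro u hu
    rw [mem_centralizer_singleton_iff]
    exact (R.CF_comm R.x_CF hu).eq.symm
  · rw [mem_centralizer_singleton_iff]
    exact R.xd.eq.symm
  · intro h
    obtain ⟨i, l, h⟩ := R.mem_PH.1 h
    have h1 : x ^ (0 : ℤ) * z ^ i * φ ^ (2 * l - 1) = 1 := by
      rw [zpow_zero, one_mul, zpow_sub, zpow_one, ← mul_assoc, ← h, mul_inv_cancel]
    have h4 : (2 : ℤ) ∣ 2 * l - 1 := (dvd_pow_self 2 (by have := R.hk; omega)).trans (ind3 R h1).2.2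
    omega
  · intro h
    obtain ⟨i, l, h⟩ := (hmem1 _).1 h
    have h1 : x ^ (-1 : ℤ) * z ^ i * φ ^ l = 1 := by
      rw [mul_assoc, ← h, zpow_neg, zpow_one, inv_mul_cancel]
    exact (by decide : ¬ Even (-1 : ℤ)) (ind3 R h1).1
  · intro h
    obtain ⟨a, i, l, h⟩ := (hmem2 _).1 h
    have h2 := (R.ind (-a) (-i) 1 0 (by
      have e : x ^ (-a) * z ^ (-i) * v ^ (1 : ℤ) * d ^ (0 : ℤ) = φ ^ l := by
        rw [zpow_zero, mul_one, zpow_one]
        nth_rewrite 1 [h]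
        have h3 : Commute (z ^ (-i)) (x ^ a) := R.xz.symm.zpow_zpow (-i) a
        calc x ^ (-a) * z ^ (-i) * (x ^ a * z ^ i * φ ^ l)
            = x ^ (-a) * (z ^ (-i) * x ^ a) * z ^ i * φ ^ l := by group
          _ = φ ^ l := by rw [h3.eq]; group
      rw [e]
      exact zpow_mem (mem_zpowers φ) _)).2.2.1
    exact (by decide : ¬ Even (1 : ℤ)) h2
  · rintro ⟨a, i, l, m, h⟩
    have h2 := (R.ind (-a) (-i) (-l) 1 (by
      have e : x ^ (-a) * z ^ (-i) * v ^ (-l) * d ^ (1 : ℤ) = φ ^ m := by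
        rw [zpow_one]
        nth_rewrite 1 [h]
        have h3 : Commute (z ^ (-i) * v ^ (-l)) (x ^ a) :=
          (R.xz.symm.zpow_zpow (-i) a).mul_left (R.xv.symm.zpow_zpow (-l) a)
        have h4 : Commute (v ^ (-l)) (z ^ i) := R.zv.symm.zpow_zpow (-l) i
        calc x ^ (-a) * z ^ (-i) * v ^ (-l) * (x ^ a * z ^ i * v ^ l * φ ^ m)
            = x ^ (-a) * ((z ^ (-i) * v ^ (-l)) * x ^ a) * z ^ i * v ^ l * φ ^ m := by group
          _ = z ^ (-i) * (v ^ (-l) * z ^ i) * v ^ l * φ ^ m := by rw [h3.eq]; group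
          _ = φ ^ m := by rw [h4.eq]; group
      rw [e]
      exact zpow_mem (mem_zpowers φ) _)).2.2.2
    exact (by decide : ¬ Even (1 : ℤ)) h2
  · intro h
    have gx := A.gx
    rw [mem_centralizer_singleton_iff] at h
    rw [h, mul_inv_cancel_right] at gx
    exact hζ1 (mul_eq_left.1 gx.symm)

/-- the form of `z ^ a * h ^ b` -/
theorem zh_form (R : RData x z v d φ ρ k) (a b : ℤ) :
    z ^ a * (φ ^ 2 ^ (k - 1)) ^ b = x ^ (0 : ℤ) * z ^ a * φ ^ ((2 : ℤ) ^ (k - 1) * b) := by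
  rw [zpow_zero, one_mul, h_zpow R]

theorem conj_form (R : RData x z v d φ ρ k) {δ ε : ℤ} {g : G}
    (A : GData x z v d φ k (z ^ δ * (φ ^ 2 ^ (k - 1)) ^ ε) g) {a b j : ℤ}
    (gφ : g * φ * g⁻¹ = x ^ a * z ^ b * φ ^ j) (α β m : ℤ) :
    g * (x ^ α * z ^ β * φ ^ m) * g⁻¹ =
      x ^ (α + a * m) * z ^ (β + δ * α + b * m) * φ ^ (2 ^ (k - 1) * ε * α + j * m) := by
  have e1 : g * x * g⁻¹ = x ^ (1 : ℤ) * z ^ δ * φ ^ ((2 : ℤ) ^ (k - 1) * ε) := by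
    rw [A.gx, h_zpow R, zpow_one, mul_assoc]
  have e2 : g * (x ^ α * z ^ β * φ ^ m) * g⁻¹ =
      (g * x * g⁻¹) ^ α * (x ^ (0 : ℤ) * z ^ β * φ ^ (0 : ℤ)) * (g * φ * g⁻¹) ^ m := by
    rw [conj_zpow, conj_zpow, zpow_zero, zpow_zero, one_mul, mul_one]
    have h1 : g * z ^ β * g⁻¹ = z ^ β := by rw [(A.gz.zpow_right β).eq, mul_inv_cancel_right]
    calc g * (x ^ α * z ^ β * φ ^ m) * g⁻¹ =
        g * x ^ α * g⁻¹ * (g * z ^ β * g⁻¹) * (g * φ ^ m * g⁻¹) := by group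
      _ = _ := by rw [h1]
  have i1 : 1 * α + 0 + a * m = α + a * m := by ring
  have i2 : δ * α + β + b * m = β + δ * α + b * m := by ring
  have i3 : (2 : ℤ) ^ (k - 1) * ε * α + 0 + j * m = 2 ^ (k - 1) * ε * α + j * m := by ring
  rw [e2, e1, gφ, pow3 R, pow3 R, mul3 R, mul3 R, i1, i2, i3]

theorem sub3 (R : RData x z v d φ ρ k) {a b j a' b' j' : ℤ}
    (h : x ^ a * z ^ b * φ ^ j = x ^ a' * z ^ b' * φ ^ j') :
    Even (a - a') ∧ Even (b - b') ∧ (2 : ℤ) ^ k ∣ j - j' := by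
  have h1 : x ^ (-a') * z ^ (-b') * φ ^ (-j') * (x ^ a * z ^ b * φ ^ j) = 1 := by
    rw [h, mul3 R]
    simp
  rw [mul3 R] at h1
  obtain ⟨p1, p2, p3⟩ := ind3 R h1
  exact ⟨by convert p1 using 1; ring, by convert p2 using 1; ring, by convert p3 using 1; ring⟩

theorem zh_ne (R : RData x z v d φ ρ k) (ε : ℤ) : z ^ (1 : ℤ) * (φ ^ 2 ^ (k - 1)) ^ ε ≠ 1 := by
  rw [zh_form R]
  intro h
  exact (by decide : ¬ Even (1 : ℤ)) (ind3 R h).2.1

/-- an element `g` with `x ^ g ∈ {x z, x z h}` is odd -/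
theorem GData.odd [Finite G] (hr : RankFour G) (R : RData x z v d φ ρ k) (hk : 2 ≤ k) {ε : ℤ} {g : G}
    (A : GData x z v d φ k (z ^ (1 : ℤ) * (φ ^ 2 ^ (k - 1)) ^ ε) g) {α β m : ℤ}
    (gg : g * g = x ^ α * z ^ β * φ ^ m) : Odd m := by
  obtain ⟨⟨a, b, j, gφ⟩, -⟩ := A.forms R
  have e2k : (2 : ℤ) ∣ 2 ^ k := dvd_pow_self 2 (by omega)
  have e2k1 : (2 : ℤ) ∣ 2 ^ (k - 1) := dvd_pow_self 2 (by omega)
  -- `φ` commutes with `g²`
  have h7 : Commute (g * g) φ := by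
    rw [gg]
    exact ((R.xφ.zpow_left α).mul_left (R.zφ.zpow_left β)).mul_left ((Commute.refl φ).zpow_left m)
  have h8 : g * (x ^ a * z ^ b * φ ^ j) * g⁻¹ = x ^ (0 : ℤ) * z ^ (0 : ℤ) * φ ^ (1 : ℤ) := by
    rw [← gφ, zpow_zero, zpow_zero, one_mul, one_mul, zpow_one]
    calc g * (g * φ * g⁻¹) * g⁻¹ = g * g * φ * (g * g)⁻¹ := by group
      _ = φ := by rw [h7.eq, mul_inv_cancel_right]
  rw [conj_form R A gφ] at h8
  obtain ⟨p1, p2, p3⟩ := sub3 R h8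
  have h11 : (2 : ℤ) ∣ 2 ^ (k - 1) * ε * a + j * j - 1 := e2k.trans p3
  have hj : Odd j := by
    by_contra h
    rw [Int.not_odd_iff_even] at h
    obtain ⟨w, hw⟩ := h
    obtain ⟨y, hy⟩ := h11
    obtain ⟨c, hc⟩ := e2k1
    rw [hw, hc] at hy
    have : (1 : ℤ) = 2 * (c * ε * a + w * (w + w) - y) := by linarith
    omega
  have ha : Even a := by
    obtain ⟨j0, hj0⟩ := hj
    rw [hj0] at p2
    obtain ⟨w, hw⟩ := p2
    exact ⟨w - b - b * j0, by linarith⟩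
  -- `g²` commutes with `g`
  have h9 : g * (x ^ α * z ^ β * φ ^ m) * g⁻¹ = x ^ α * z ^ β * φ ^ m := by
    rw [← gg]; group
  rw [conj_form R A gφ] at h9
  obtain ⟨q1, q2, q3⟩ := sub3 R h9
  by_contra hm
  rw [Int.not_odd_iff_even] at hm
  have hα : Even α := by
    obtain ⟨m0, hm0⟩ := hm
    rw [hm0] at q2
    obtain ⟨w, hw⟩ := q2
    exact ⟨w - b * m0, by linarith⟩
  rw [zpow_even R.xx ha, one_mul] at gφ
  rw [zpow_even R.xx hα, one_mul] at gg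
  refine killPH hr R hk A ?_ (zh_ne R ε) hj gφ ?_
  · exact mul_mem (zpow_mem (R.mem_PH.2 ⟨1, 0, by simp⟩) _) (zpow_mem (h_PH R hk) _)
  · rw [gg]
    obtain ⟨m0, hm0⟩ := hm
    exact R.mem_PH.2 ⟨β, m0, by rw [hm0, two_mul]⟩

/-- odd elements: `φ ^ g = φ ζ ^ α` -/
theorem conj_φ [Finite G] (R : RData x z v d φ ρ k) {δ ε : ℤ} {g : G}
    (A : GData x z v d φ k (z ^ δ * (φ ^ 2 ^ (k - 1)) ^ ε) g) {α β m : ℤ}
    (gg : g * g = x ^ α * z ^ β * φ ^ m) (hm : Odd m) :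
    g * φ * g⁻¹ = φ * (z ^ δ * (φ ^ 2 ^ (k - 1)) ^ ε) ^ α := by
  obtain ⟨⟨a, b, j, gφ⟩, -⟩ := A.forms R
  set ζ := z ^ δ * (φ ^ 2 ^ (k - 1)) ^ ε with hζ
  have ζζ : ζ * ζ = 1 := w_sq R δ ε
  have xζ : Commute x ζ := (R.xz.zpow_right _).mul_right ((R.xφ.pow_right _).zpow_right _)
  have zζ : Commute z ζ := ((Commute.refl z).zpow_right _).mul_right ((R.zφ.pow_right _).zpow_right _)
  have φζ : Commute φ ζ := (R.zφ.symm.zpow_right _).mul_right (((Commute.refl φ).pow_right _).zpow_right _)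
  -- `(φ ^ g) ^ m`
  have h1 : (g * φ * g⁻¹) ^ m = ζ ^ (-α) * φ ^ m := by
    have e1 : φ ^ m = z ^ (-β) * x ^ (-α) * (g * g) := by
      rw [gg, zpow_neg, zpow_neg]; group
    have e2 : g * z ^ (-β) * g⁻¹ = z ^ (-β) := by
      rw [(A.gz.zpow_right _).eq, mul_inv_cancel_right]
    have e3 : g * x ^ (-α) * g⁻¹ = x ^ (-α) * ζ ^ (-α) := by
      rw [← conj_zpow, A.gx, xζ.mul_zpow]
    have e4 : Commute (z ^ (-β) * x ^ (-α)) (ζ ^ (-α)) :=
      (zζ.zpow_zpow _ _).mul_left (xζ.zpow_zpow _ _)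
    calc (g * φ * g⁻¹) ^ m = g * φ ^ m * g⁻¹ := conj_zpow
      _ = g * (z ^ (-β) * x ^ (-α) * (g * g)) * g⁻¹ := by rw [← e1]
      _ = (g * z ^ (-β) * g⁻¹) * (g * x ^ (-α) * g⁻¹) * (g * g) := by group
      _ = z ^ (-β) * x ^ (-α) * ζ ^ (-α) * (g * g) := by rw [e2, e3]; group
      _ = ζ ^ (-α) * (z ^ (-β) * x ^ (-α) * (g * g)) := by rw [e4.eq, mul_assoc]
      _ = _ := by rw [← e1]
  have h2 : (φ * ζ ^ α) ^ m = ζ ^ (-α) * φ ^ m := by
    have c : Commute φ (ζ ^ α) := φζ.zpow_right α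
    rw [c.mul_zpow, ← zpow_mul, ((φζ.zpow_left m).zpow_right _).eq]
    congr 1
    obtain ⟨m0, hm0⟩ := hm
    have : α * m = 2 * (α * m0 + α) + (-α) := by rw [hm0]; ring
    rw [this, zpow_add, zpow_mul, zpow_two, ζζ, one_zpow, one_mul]
  -- coprimality
  have hcop : IsCoprime m ((2 : ℤ) ^ k) := by
    refine IsCoprime.pow_right ?_
    rw [Int.isCoprime_iff_gcd_eq_one, Int.gcd_comm]
    exact (Int.isCoprime_iff_gcd_eq_one.1 (Int.isCoprime_two_left.2 hm))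
  obtain ⟨u, w, huw⟩ := hcop
  have key : ∀ y : G, y ∈ R.CF → y = (y ^ m) ^ u := by
    intro y hy
    have h3 : y ^ ((2 : ℤ) ^ k) = 1 := by
      have := R.pow_CF hy
      rw [← zpow_natCast] at this
      push_cast at this
      exact this
    calc y = y ^ (u * m + w * 2 ^ k) := by rw [huw, zpow_one]
      _ = (y ^ m) ^ u := by
          rw [zpow_add, mul_comm u m, zpow_mul, mul_comm w, zpow_mul, h3, one_zpow, mul_one]
  have m1 : g * φ * g⁻¹ ∈ R.CF := ⟨a, b, 0, j, by rw [gφ, zpow_zero, mul_one]⟩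
  have m2 : φ * ζ ^ α ∈ R.CF := mul_mem R.φ_CF (zpow_mem (mul_mem (zpow_mem R.z_CF _)
    (zpow_mem (pow_mem R.φ_CF _) _)) _)
  rw [key _ m1, key _ m2, h1, h2]

/-- (M-in-f) (4)(c) -/
theorem caseC [Finite G] (hr : RankFour G) (R : RData x z v d φ ρ k) {σ τ : G}
    (A : GData x z v d φ k z σ) (B : GData x z v d φ k (φ ^ 2 ^ (k - 1)) τ)
    (C : GData x z v d φ k (z * φ ^ 2 ^ (k - 1)) (σ * τ))
    (hodd : 2 ≤ k → ∀ a b m : ℤ, τ * τ = x ^ a * z ^ b * φ ^ m → Odd m) : False := by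
  have A' : GData x z v d φ k (z ^ (1 : ℤ) * (φ ^ 2 ^ (k - 1)) ^ (0 : ℤ)) σ := by
    rw [zpow_one, zpow_zero, mul_one]; exact A
  have B' : GData x z v d φ k (z ^ (0 : ℤ) * (φ ^ 2 ^ (k - 1)) ^ (1 : ℤ)) τ := by
    rw [zpow_one, zpow_zero, one_mul]; exact B
  have C' : GData x z v d φ k (z ^ (1 : ℤ) * (φ ^ 2 ^ (k - 1)) ^ (1 : ℤ)) (σ * τ) := by
    rw [zpow_one, zpow_one]; exact C
  obtain ⟨-, α₁, β₁, m₁, gg₁⟩ := A.forms R
  obtain ⟨-, α₂, β₂, m₂, gg₂⟩ := B.forms R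
  obtain ⟨-, α₃, β₃, m₃, gg₃⟩ := C.forms R
  have main : ∀ α : ℤ, φ ^ 2 ^ (k - 1) ∈ PS R α → Commute σ (φ * x ^ α) → Commute τ (φ * x ^ α) →
      Even (α₁ - α * m₁) → Even (α₂ - α * m₂) → Even (α₃ - α * m₃) → False := by
    intro α h1 c1 c2 e1 e2 e3
    have hsq : ∀ {g : G} {a b m : ℤ}, g * g = x ^ a * z ^ b * φ ^ m → Even (a - α * m) →
        g * g ∈ PS R α := by
      intro g a b m hg he
      refine (mem_PS R).2 ⟨b, m, ?_⟩
      have h2 : x ^ a = x ^ (α * m) := by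
        have := zpow_even R.xx he
        rw [zpow_sub, mul_inv_eq_one] at this
        exact this
      have h3 : Commute (z ^ b * φ ^ m) (x ^ (α * m)) :=
        (R.xz.symm.zpow_zpow _ _).mul_left (R.xφ.symm.zpow_zpow _ _)
      rw [hg, h2, (R.xφ.symm.zpow_right α).mul_zpow, ← zpow_mul, ← mul_assoc, h3.eq, mul_assoc]
    exact final hr R h1 A.gx B.gx A.gz B.gz B.gh c1 c2
      (w_PS R h1 R.zv.symm (R.vφ.pow_right _) A.gv) (w_PS R h1 R.zv.symm (R.vφ.pow_right _) B.gv)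
      (w_PS R h1 R.zd.symm (R.dφ.pow_right _) A.gd) (w_PS R h1 R.zd.symm (R.dφ.pow_right _) B.gd)
      (hsq gg₁ e1) (hsq gg₂ e2) (hsq gg₃ e3)
  rcases Nat.lt_or_ge k 2 with hk | hk
  · -- `k = 1`
    have hk1 : k = 1 := by have := R.hk; omega
    subst hk1
    have eh : φ ^ 2 ^ (1 - 1) = φ := by simp
    have par : ∀ {δ ε : ℤ} {g : G} {a b m : ℤ},
        GData x z v d φ 1 (z ^ δ * (φ ^ 2 ^ (1 - 1)) ^ ε) g → z ^ δ * (φ ^ 2 ^ (1 - 1)) ^ ε ≠ 1 →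
        g * g = x ^ a * z ^ b * φ ^ m → Even (a - 0 * m) := by
      intro δ ε g a b m D hne hg
      have gφ : Commute g φ := by have := D.gh; rwa [eh] at this
      set ζ := z ^ δ * (φ ^ 2 ^ (1 - 1)) ^ ε with hζ
      have xζ : Commute x ζ := (R.xz.zpow_right _).mul_right ((R.xφ.pow_right _).zpow_right _)
      have h1 : g * (x ^ a * z ^ b * φ ^ m) * g⁻¹ = x ^ a * z ^ b * φ ^ m := by
        rw [← hg]; group
      have h2 : g * (x ^ a * z ^ b * φ ^ m) * g⁻¹ = x ^ a * ζ ^ a * z ^ b * φ ^ m := by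
        calc g * (x ^ a * z ^ b * φ ^ m) * g⁻¹
            = (g * x * g⁻¹) ^ a * (g * z ^ b * g⁻¹) * (g * φ ^ m * g⁻¹) := by
              rw [conj_zpow]; group
          _ = _ := by
              rw [D.gx, xζ.mul_zpow, (D.gz.zpow_right b).eq, (gφ.zpow_right m).eq,
                mul_inv_cancel_right, mul_inv_cancel_right]
      rw [h2] at h1
      have h3 := mul_right_cancel (mul_right_cancel h1)
      have h4 : ζ ^ a = 1 := mul_eq_left.1 h3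
      rw [zero_mul, sub_zero]
      by_contra ho
      rw [Int.not_even_iff_odd] at ho
      rw [zpow_odd (w_sq R δ ε) ho] at h4
      exact hne h4
    refine main 0 ?_ ?_ ?_ (par A' (zh_ne R 0) gg₁) (par B' ?_ gg₂) (par C' (zh_ne R 1) gg₃)
    · rw [eh]; exact (mem_PS R).2 ⟨0, 1, by simp⟩
    · have := A.gh; rw [eh] at this; rw [zpow_zero, mul_one]; exact this
    · have := B.gh; rw [eh] at this; rw [zpow_zero, mul_one]; exact this
    · rw [zpow_zero, one_mul, zpow_one]; exact h_ne R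
  · -- `k ≥ 2`
    have o₁ := A'.odd hr R hk gg₁
    have o₂ := hodd hk _ _ _ gg₂
    have o₃ := C'.odd hr R hk gg₃
    have f₁ := conj_φ R A' gg₁ o₁
    have f₂ := conj_φ R B' gg₂ o₂
    have f₃ := conj_φ R C' gg₃ o₃
    have hφh : Commute φ (φ ^ 2 ^ (k - 1)) := (Commute.refl φ).pow_right _
    have zh : Commute z (φ ^ 2 ^ (k - 1)) := R.zφ.pow_right _
    rw [zpow_one, zpow_zero, mul_one] at f₁
    rw [zpow_one, zpow_zero, one_mul] at f₂
    rw [zpow_one, zpow_one, zh.mul_zpow] at f₃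
    have f₄ : σ * τ * φ * (σ * τ)⁻¹ = φ * (z ^ α₁ * (φ ^ 2 ^ (k - 1)) ^ α₂) := by
      calc σ * τ * φ * (σ * τ)⁻¹ = σ * (τ * φ * τ⁻¹) * σ⁻¹ := by group
        _ = σ * (φ * (φ ^ 2 ^ (k - 1)) ^ α₂) * σ⁻¹ := by rw [f₂]
        _ = (σ * φ * σ⁻¹) * (σ * (φ ^ 2 ^ (k - 1)) ^ α₂ * σ⁻¹) := by group
        _ = _ := by rw [f₁, (A.gh.zpow_right α₂).eq, mul_inv_cancel_right, mul_assoc]
    rw [f₃] at f₄
    have f₅ := mul_left_cancel f₄
    rw [zh_form R, zh_form R] at f₅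
    obtain ⟨-, p2, p3⟩ := sub3 R f₅
    have p4 : Even (α₃ - α₂) := by
      obtain ⟨w, hw⟩ := p3
      have e2 : (2 : ℤ) ^ k = 2 ^ (k - 1) * 2 := by rw [← pow_succ]; congr 1; omega
      rw [e2, ← mul_sub, mul_assoc] at hw
      have := mul_left_cancel₀ (by positivity) hw
      exact ⟨w, by rw [this]; ring⟩
    refine main α₁ ?_ ?_ ?_ ?_ ?_ ?_
    · refine (mem_PS R).2 ⟨0, 2 ^ (k - 1), ?_⟩
      have e : (φ * x ^ α₁) ^ ((2 : ℤ) ^ (k - 1)) = φ ^ ((2 : ℤ) ^ (k - 1)) := by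
        rw [(R.xφ.symm.zpow_right α₁).mul_zpow, ← zpow_mul]
        have : Even (α₁ * 2 ^ (k - 1)) := by
          have : (2 : ℤ) ^ (k - 1) = 2 * 2 ^ (k - 2) := by rw [← pow_succ']; congr 1; omega
          rw [this]; exact ⟨α₁ * 2 ^ (k - 2), by ring⟩
        rw [zpow_even R.xx this, mul_one]
      rw [e, zpow_zero, one_mul, ← zpow_natCast]
      push_cast
      rfl
    · have h1 : σ * (φ * x ^ α₁) * σ⁻¹ = φ * x ^ α₁ := by
        calc σ * (φ * x ^ α₁) * σ⁻¹ = (σ * φ * σ⁻¹) * (σ * x * σ⁻¹) ^ α₁ := by rw [conj_zpow]; group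
          _ = φ * (z ^ α₁ * x ^ α₁) * z ^ α₁ := by
              rw [f₁, A.gx, R.xz.mul_zpow]; group
          _ = φ * x ^ α₁ * (z ^ α₁ * z ^ α₁) := by
              rw [(R.xz.symm.zpow_zpow α₁ α₁).eq]; group
          _ = _ := by rw [sq_one R.zz, mul_one]
      exact mul_inv_eq_iff_eq_mul.1 h1
    · have h1 : τ * (φ * x ^ α₁) * τ⁻¹ = φ * x ^ α₁ := by
        have xh : Commute x (φ ^ 2 ^ (k - 1)) := R.xφ.pow_right _
        calc τ * (φ * x ^ α₁) * τ⁻¹ = (τ * φ * τ⁻¹) * (τ * x * τ⁻¹) ^ α₁ := by rw [conj_zpow]; group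
          _ = φ * ((φ ^ 2 ^ (k - 1)) ^ α₂ * x ^ α₁) * (φ ^ 2 ^ (k - 1)) ^ α₁ := by
              rw [f₂, B.gx, xh.mul_zpow]; group
          _ = φ * x ^ α₁ * ((φ ^ 2 ^ (k - 1)) ^ α₂ * (φ ^ 2 ^ (k - 1)) ^ α₁) := by
              rw [(xh.symm.zpow_zpow α₂ α₁).eq]; group
          _ = _ := by
              rw [← zpow_add, zpow_even (hh R), mul_one]
              obtain ⟨u, hu⟩ := p2
              obtain ⟨w, hw⟩ := p4
              exact ⟨α₁ + u - w, by linarith⟩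
      exact mul_inv_eq_iff_eq_mul.1 h1
    · obtain ⟨w, hw⟩ := o₁
      exact ⟨-(α₁ * w), by rw [hw]; ring⟩
    · obtain ⟨w, hw⟩ := o₂
      obtain ⟨u, hu⟩ := p2
      obtain ⟨w', hw'⟩ := p4
      exact ⟨u - w' - α₁ * w, by rw [hw]; linarith⟩
    · obtain ⟨w, hw⟩ := o₃
      obtain ⟨u, hu⟩ := p2
      exact ⟨u - α₁ * w, by rw [hw]; linarith⟩

end Cfsg.Agent.GH.L2QTwo.MInFC
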