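import Cfsg.Agent.GH.L2QTwo.MInFRank

/-!
# GH-L2, `|Q| = 2`, configuration (M-in-f): the core
-/

set_option autoImplicit false
set_option linter.unusedVariables false
set_option linter.unusedSimpArgs false

open Subgroup Cfsg.Agent.TwoFusion.SectionalRank Cfsg.Agent.GH.C2Five Cfsg.Agent.GH.C2Syl

namespace Cfsg.Agent.GH.L2QTwo.MInF

variable {L : Type*} [Group L]

namespace Act

variable {x h z v d ρ φ g : L} {C : Subgroup L} {k : ℕ} {γ : ℤ}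

/-- the action of `b = g₁ g₂` on `F` -/
theorem b_q (D : Data x h z v d ρ φ C k) (A : Act φ x h z v k g 1 0 γ) (a i j l : ℤ) :
    (ρ * g * ρ⁻¹) * (ρ⁻¹ * g * ρ) * e φ x z v (2 ^ (k - 1) * a) i j l *
      ((ρ * g * ρ⁻¹) * (ρ⁻¹ * g * ρ))⁻¹ =
      e φ x z v (2 ^ (k - 1) * (a + γ * (j + l) + γ * (j - i))) i (j - i) (3 * i + l - j + (j - i)) := by
  have e1 : (ρ * g * ρ⁻¹) * (ρ⁻¹ * g * ρ) * e φ x z v (2 ^ (k - 1) * a) i j l *
      ((ρ * g * ρ⁻¹) * (ρ⁻¹ * g * ρ))⁻¹ =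
      ρ * (g * (ρ⁻¹ * (ρ⁻¹ * (g * (ρ * e φ x z v (2 ^ (k - 1) * a) i j l * ρ⁻¹) * g⁻¹) * ρ) * ρ) * g⁻¹) *
        ρ⁻¹ := by simp only [mul_inv_rev, inv_inv, mul_assoc]
  rw [e1, D.ρ_e, act_q D A, D.ρ_e', D.ρ_e', act_q D A, D.ρ_e]
  congr 1 <;> ring

theorem act_b (D : Data x h z v d ρ φ C k) (A : Act φ x h z v k g 1 0 γ) :
    Act φ x h z v k ((ρ * g * ρ⁻¹) * (ρ⁻¹ * g * ρ)) 1 γ γ := by
  have h2 := two_k D
  refine ⟨?_, ?_, ?_, ?_⟩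
  · have h1 := b_q D A 0 1 0 0
    rw [mul_zero, ← Data.x_eq] at h1
    rw [h1, D.e_eq]
    exact ⟨⟨-γ, by rw [h2]; ring⟩, ⟨0, by ring⟩, ⟨-1, by ring⟩, ⟨1, by ring⟩⟩
  · have h1 := b_q D A 1 0 0 0
    rw [mul_one, ← D.h_eq] at h1
    rw [h1, D.h_eq, D.e_eq]
    exact ⟨⟨0, by ring⟩, ⟨0, by ring⟩, ⟨0, by ring⟩, ⟨0, by ring⟩⟩
  · have h1 := b_q D A 0 0 1 0
    rw [mul_zero, ← Data.z_eq] at h1
    rw [h1]
    refine Eq.trans ?_ (Data.z_eq φ x z v).symm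
    rw [D.e_eq]
    exact ⟨⟨γ, by rw [h2]; ring⟩, ⟨0, by ring⟩, ⟨0, by ring⟩, ⟨0, by ring⟩⟩
  · have h1 := b_q D A 0 0 0 1
    rw [mul_zero, ← Data.v_eq] at h1
    rw [h1, D.e_eq]
    exact ⟨⟨0, by rw [h2]; ring⟩, ⟨0, by ring⟩, ⟨0, by ring⟩, ⟨0, by ring⟩⟩

/-- `ρ d ρ d⁻¹ ∈ C` -/
theorem rdrd (D : Data x h z v d ρ φ C k) : ρ * (d * ρ * d⁻¹) ∈ C := by
  have dinv : d⁻¹ = d := inv_eq_of_mul_eq_one_right D.dd
  have key : ∀ a i j l : ℤ, ρ * (d * ρ * d⁻¹) * e φ x z v a i j l * (ρ * (d * ρ * d⁻¹))⁻¹ =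
      e φ x z v a i j l := by
    intro a i j l
    have e1 : ρ * (d * ρ * d⁻¹) * e φ x z v a i j l * (ρ * (d * ρ * d⁻¹))⁻¹ =
        ρ * (d * (ρ * (d⁻¹ * e φ x z v a i j l * d) * ρ⁻¹) * d⁻¹) * ρ⁻¹ := by group
    have e2 : d⁻¹ * e φ x z v a i j l * d = e φ x z v a i (j + l) l := by
      rw [← D.d_e, dinv]
    rw [e1, e2, D.ρ_e, D.d_e, D.ρ_e, D.e_eq]
    exact ⟨⟨0, by ring⟩, ⟨0, by ring⟩, ⟨l, by ring⟩, ⟨j + 2 * l, by ring⟩⟩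
  apply mem_of_triv D
  · have := key 0 1 0 0
    rwa [← Data.x_eq] at this
  · have := key (2 ^ (k - 1)) 0 0 0
    rwa [← D.h_eq] at this
  · have := key 0 0 1 0
    rwa [← Data.z_eq] at this
  · have := key 0 0 0 1
    rwa [← Data.v_eq] at this

/-- `t = g g₁ g₂`: `d t d⁻¹ ∈ t U` -/
theorem comm_t (D : Data x h z v d ρ φ C k) {t : L} (hγ : γ = 0 ∨ γ = 1 ∧ 2 ≤ k)
    (A : Act φ x h z v k t (1 + 1) (0 + γ) (γ + γ)) : t⁻¹ * (d * t * d⁻¹) ∈ D.S 2 2 1 1 := by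
  have h2 := two_k D
  rcases hγ with hγ | ⟨hγ, hk⟩
  · subst hγ
    -- `t ∈ C`
    have htC : t ∈ C := by
      apply mem_of_triv D
      · rw [A.yx]
        refine Eq.trans ?_ (Data.x_eq φ x z v).symm
        rw [D.e_eq]
        exact ⟨⟨0, by ring⟩, ⟨0, by ring⟩, ⟨1, by ring⟩, ⟨0, by ring⟩⟩
      · exact A.yh
      · exact A.yz
      · rw [A.yv]
        refine Eq.trans ?_ (Data.v_eq φ x z v).symm
        rw [D.e_eq]
        exact ⟨⟨0, by ring⟩, ⟨0, by ring⟩, ⟨0, by ring⟩, ⟨0, by ring⟩⟩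
    obtain ⟨m, i, j, l, rfl⟩ := D.exists_e htC
    rw [D.d_e, D.e_inv, D.e_mul, D.mem_U]
    exact ⟨⟨0, by ring⟩, ⟨0, by ring⟩⟩
  · subst hγ
    obtain ⟨n, i, j, hc⟩ := comm_d D A
    have e1 : t⁻¹ * (d * t * d⁻¹) = e φ x z v (2 ^ (k - 1) * n) i j 0 := by rw [hc]; group
    rw [e1, D.mem_U]
    have hk2 : (2 : ℤ) ∣ 2 ^ (k - 1) := two_pow_even hk
    refine ⟨Dvd.dvd.mul_right hk2 n, ?_⟩
    -- `[d, t²]`
    have htt := sq_mem D A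
    obtain ⟨m', i', j', l', h3⟩ := D.exists_e htt
    have e2 : d * (t * t) * d⁻¹ = t * t * e φ x z v 0 0 l' 0 := by
      rw [h3, D.d_e, D.e_mul]; congr 1 <;> ring
    have e3 : d * (t * t) * d⁻¹ = t * t * ((t * e φ x z v (2 ^ (k - 1) * n) i j 0 * t⁻¹) *
        e φ x z v (2 ^ (k - 1) * n) i j 0) := by
      have cc : Commute (t * e φ x z v (2 ^ (k - 1) * n) i j 0 * t⁻¹) (t * t) :=
        D.comm _ (mem_C D A (D.e_mem _ _ _ _)) _ htt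
      calc d * (t * t) * d⁻¹ = (d * t * d⁻¹) * (d * t * d⁻¹) := by group
        _ = (t * e φ x z v (2 ^ (k - 1) * n) i j 0 * t⁻¹) * (t * t) *
              e φ x z v (2 ^ (k - 1) * n) i j 0 := by rw [hc]; group
        _ = _ := by rw [cc.eq]; group
    have e4 := mul_left_cancel (e3.symm.trans e2)
    rw [act_q D A, D.e_mul, D.e_eq] at e4
    obtain ⟨⟨a, ha⟩, -⟩ := e4
    refine ⟨a - n, ?_⟩
    rw [h2] at ha
    have h4 : (2 : ℤ) ^ (k - 1) ≠ 0 := by positivity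
    have h5 : (2 : ℤ) ^ (k - 1) * i = 2 ^ (k - 1) * (2 * (a - n)) := by linarith
    exact mul_left_cancel₀ h4 h5

/-- **the core computation modulo `U = ⟨φ², z, v⟩`** -/
theorem core_U [Finite L] (D : Data x h z v d ρ φ C k) (A : Act φ x h z v k g 1 0 γ)
    (hγ : γ = 0 ∨ γ = 1 ∧ 2 ≤ k) {cg : L} (hcgC : cg ∈ C) (hcg : d * g * d⁻¹ = g * cg) :
    ((ρ * g * ρ⁻¹) * (ρ⁻¹ * g * ρ) * ((ρ * g * ρ⁻¹) * (ρ⁻¹ * g * ρ)))⁻¹ * cg ∈ D.S 2 2 1 1 ∧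
    (d * ((ρ * g * ρ⁻¹) * (ρ⁻¹ * g * ρ)) * d⁻¹)⁻¹ * ((ρ * g * ρ⁻¹) * (ρ⁻¹ * g * ρ) * cg) ∈
      D.S 2 2 1 1 := by
  have hγ2 : (2 : ℤ) ∣ 2 ^ (k - 1) * γ := by
    rcases hγ with h | ⟨-, h⟩
    · rw [h, mul_zero]; exact dvd_zero 2
    · exact Dvd.dvd.mul_right (two_pow_even h) γ
  set U := D.S 2 2 1 1 with hU
  let N : Subgroup L := normalizer (U : Set L)
  obtain ⟨m0, i0, j0, l0, h0, hm0, hl0, hi0⟩ := conj_φ D A
  rw [one_mul] at hi0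
  obtain ⟨a1, ha1⟩ := hm0
  obtain ⟨a3, ha3⟩ := hγ2
  obtain ⟨a4, ha4⟩ := hi0
  -- `[y, c] ∈ U`
  have gc : ∀ c ∈ C, c⁻¹ * (g * c * g⁻¹) ∈ U := by
    intro c hc
    obtain ⟨m, i, j, l, rfl⟩ := D.exists_e hc
    rw [act_e D A h0, D.e_inv, D.e_mul, hU, D.mem_U]
    refine ⟨⟨a1 * m + a3 * l, ?_⟩, ⟨a4 * m, by rw [ha4]; ring⟩⟩
    have : m0 = 2 * a1 + 1 := by linarith
    rw [this]
    linear_combination l * ha3
  have rc : ∀ c ∈ C, c⁻¹ * (ρ * c * ρ⁻¹) ∈ U := by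
    intro c hc
    obtain ⟨m, i, j, l, rfl⟩ := D.exists_e hc
    rw [D.ρ_e, D.e_inv, D.e_mul, hU, D.mem_U]
    exact ⟨⟨0, by ring⟩, ⟨0, by ring⟩⟩
  have dc : ∀ c ∈ C, c⁻¹ * (d * c * d⁻¹) ∈ U := by
    intro c hc
    obtain ⟨m, i, j, l, rfl⟩ := D.exists_e hc
    rw [D.d_e, D.e_inv, D.e_mul, hU, D.mem_U]
    exact ⟨⟨0, by ring⟩, ⟨0, by ring⟩⟩
  have hUC : U ≤ C := D.S_le _ _ _ _
  have norm_of : ∀ y : L, (∀ c ∈ C, c⁻¹ * (y * c * y⁻¹) ∈ U) → y ∈ N := by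
    intro y hy
    apply mem_norm_of
    intro u hu
    have := U.mul_mem hu (hy u (hUC hu))
    rwa [mul_inv_cancel_left] at this
  have gN : g ∈ N := norm_of g gc
  have rN : ρ ∈ N := norm_of ρ rc
  have dN : d ∈ N := norm_of d dc
  have CN : ∀ c ∈ C, c ∈ N := by
    intro c hc
    apply norm_of
    intro c' hc'
    have : c'⁻¹ * (c * c' * c⁻¹) = 1 := by rw [D.comm c hc c' hc']; group
    rw [this]; exact U.one_mem
  -- the quotient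
  let π : N →* N ⧸ (U.subgroupOf N) := QuotientGroup.mk' _
  have hπ : ∀ a b : N, π a = π b ↔ (a : L)⁻¹ * b ∈ U := by
    intro a b
    change (QuotientGroup.mk a : N ⧸ (U.subgroupOf N)) = QuotientGroup.mk b ↔ _
    rw [QuotientGroup.eq, mem_subgroupOf]
    rfl
  have hcom : ∀ (c y : N), (c : L) ∈ C → (∀ c ∈ C, c⁻¹ * ((y : L) * c * (y : L)⁻¹) ∈ U) →
      Commute (π c) (π y) := by
    intro c y hc hy
    change π c * π y = π y * π c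
    rw [← map_mul, ← map_mul, hπ]
    have h1 := hy c hc
    have e1 : ((c * y : N) : L)⁻¹ * ((y * c : N) : L) = (y : L)⁻¹ * ((c : L)⁻¹ * ((y : L) * c * (y : L)⁻¹)) *
        (y : L)⁻¹⁻¹ := by
      change ((c : L) * y)⁻¹ * ((y : L) * c) = _
      group
    rw [e1]
    exact (mem_normalizer_iff.1 (N.inv_mem y.2) _).1 h1
  have hsq : ∀ c : N, (c : L) ∈ C → π c * π c = 1 := by
    intro c hc
    rw [← map_mul, ← map_one π, hπ]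
    obtain ⟨m, i, j, l, h1⟩ := D.exists_e hc
    change ((c : L) * c)⁻¹ * 1 ∈ U
    rw [mul_one, h1, D.e_mul, D.e_inv, hU, D.mem_U]
    exact ⟨⟨-m, by ring⟩, ⟨-i, by ring⟩⟩
  have cdC := rdrd D
  set c' := ρ * (d * ρ * d⁻¹) with hc'
  have gC : ∀ c ∈ C, c⁻¹ * (g * c * g⁻¹) ∈ U := gc
  let G : N := ⟨g, gN⟩
  let R : N := ⟨ρ, rN⟩
  let E : N := ⟨d, dN⟩
  let CG : N := ⟨cg, CN _ hcgC⟩
  let CR : N := ⟨c', CN _ cdC⟩
  have hggC : g * g ∈ C := sq_mem D A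
  have t1 := core (g := π G) (ρ := π R) (d := π E) (δ := π CG) (c := π CR) (hsq CG hcgC)
    (hcom CG G hcgC gc) (hcom CG R hcgC rc) (hcom CR G cdC gc) (hcom CR R cdC rc)
    (by
      change π CR * π CG = π CG * π CR
      rw [← map_mul, ← map_mul]
      congr 1
      exact Subtype.ext (D.comm _ cdC _ hcgC))
    (by
      rw [← map_mul, ← map_inv, ← map_mul, ← map_mul]
      congr 1
      exact Subtype.ext hcg)
    (by
      rw [← map_mul, ← map_inv, ← map_inv, ← map_mul, ← map_mul]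
      congr 1
      apply Subtype.ext
      change d * ρ * d⁻¹ = ρ⁻¹ * c'
      rw [hc', inv_mul_cancel_left])
    (by
      have h1 := comm_t D hγ (Act.mul D A (act_b D A))
      rw [← map_inv π R, ← map_inv π E]
      simp only [← map_mul]
      rw [eq_comm, hπ]
      exact h1)
    (by
      rw [← map_mul]
      exact hcom (G * G) R hggC rc)
    (by
      have := hsq (G * G) hggC
      rw [map_mul] at this
      exact this)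
  obtain ⟨t1, t2⟩ := t1
  rw [← map_inv π R] at t1 t2
  rw [← map_inv π E] at t2
  simp only [← map_mul] at t1 t2
  rw [hπ] at t1 t2
  exact ⟨t1, t2⟩

end Act

end Cfsg.Agent.GH.L2QTwo.MInF
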