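import Cfsg.Agent.GH.L2QTwo.MInFPre
import Cfsg.Agent.GH.C2SylLift
import Cfsg.Agent.GH.C2Five

/-!
# GH-L2, `|Q| = 2`, configuration (M-in-f): coordinates in `C = C_L(F)`
-/

set_option autoImplicit false
set_option linter.unusedVariables false
set_option linter.unusedSimpArgs false

open Subgroup

namespace Cfsg.Agent.GH.L2QTwo.MInF

variable {L : Type*} [Group L]

/-- `C = ⟨φ⟩ × ⟨x⟩ × ⟨z⟩ × ⟨v⟩`, `h = φ^(2^(k-1))`. -/
structure Data (x h z v d ρ φ : L) (C : Subgroup L) (k : ℕ) : Prop where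
  hk : 1 ≤ k
  xx : x * x = 1
  zz : z * z = 1
  vv : v * v = 1
  dd : d * d = 1
  hφ : φ ^ 2 ^ (k - 1) = h
  φk : φ ^ 2 ^ k = 1
  xC : x ∈ C
  zC : z ∈ C
  vC : v ∈ C
  φC : φ ∈ C
  comm : ∀ a ∈ C, ∀ b ∈ C, a * b = b * a
  cent : ∀ y, y * x = x * y → y * h = h * y → y * z = z * y → y * v = v * y → y ∈ C
  gen : ∀ a ∈ C, ∃ m i j l : ℤ, a = φ ^ m * (x ^ i * (z ^ j * v ^ l))
  inj : ∀ m i j l : ℤ, φ ^ m * (x ^ i * (z ^ j * v ^ l)) = 1 → (2 : ℤ) ^ k ∣ m ∧ 2 ∣ i ∧ 2 ∣ j ∧ 2 ∣ l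
  dx : d * x = x * d
  dz : d * z = z * d
  dφ : d * φ = φ * d
  dv : d * v * d⁻¹ = z * v
  rx : ρ * x = x * ρ
  rφ : ρ * φ = φ * ρ
  rz : ρ * z * ρ⁻¹ = v
  rv : ρ * v * ρ⁻¹ = z * v

/-- The coordinates. -/
def e (φ x z v : L) (m i j l : ℤ) : L := φ ^ m * (x ^ i * (z ^ j * v ^ l))

namespace Data

variable {x h z v d ρ φ : L} {C : Subgroup L} {k : ℕ}

theorem cm (D : Data x h z v d ρ φ C k) {a b : L} (ha : a ∈ C) (hb : b ∈ C) : Commute a b :=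
  D.comm a ha b hb

theorem e_mem (D : Data x h z v d ρ φ C k) (m i j l : ℤ) : e φ x z v m i j l ∈ C :=
  C.mul_mem (C.zpow_mem D.φC _) (C.mul_mem (C.zpow_mem D.xC _)
    (C.mul_mem (C.zpow_mem D.zC _) (C.zpow_mem D.vC _)))

theorem e_mul (D : Data x h z v d ρ φ C k) (m i j l m' i' j' l' : ℤ) :
    e φ x z v m i j l * e φ x z v m' i' j' l' = e φ x z v (m + m') (i + i') (j + j') (l + l') := by
  have p1 : ∀ n : ℤ, φ ^ n ∈ C := fun n => C.zpow_mem D.φC _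
  have p2 : ∀ n : ℤ, x ^ n ∈ C := fun n => C.zpow_mem D.xC _
  have p3 : ∀ n : ℤ, z ^ n ∈ C := fun n => C.zpow_mem D.zC _
  have p4 : ∀ n : ℤ, v ^ n ∈ C := fun n => C.zpow_mem D.vC _
  simp only [e]
  rw [(D.cm (C.mul_mem (p2 i) (C.mul_mem (p3 j) (p4 l))) (p1 m')).mul_mul_mul_comm,
    (D.cm (C.mul_mem (p3 j) (p4 l)) (p2 i')).mul_mul_mul_comm,
    (D.cm (p4 l) (p3 j')).mul_mul_mul_comm, zpow_add, zpow_add, zpow_add, zpow_add]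

theorem e_zero (φ x z v : L) : e φ x z v 0 0 0 0 = 1 := by simp [e]

theorem e_inv (D : Data x h z v d ρ φ C k) (m i j l : ℤ) :
    (e φ x z v m i j l)⁻¹ = e φ x z v (-m) (-i) (-j) (-l) := by
  apply inv_eq_of_mul_eq_one_right
  rw [D.e_mul]
  simp only [add_neg_cancel]
  exact e_zero φ x z v

theorem e_zpow (D : Data x h z v d ρ φ C k) (m i j l n : ℤ) :
    (e φ x z v m i j l) ^ n = e φ x z v (m * n) (i * n) (j * n) (l * n) := by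
  have p1 : ∀ n : ℤ, φ ^ n ∈ C := fun n => C.zpow_mem D.φC _
  have p2 : ∀ n : ℤ, x ^ n ∈ C := fun n => C.zpow_mem D.xC _
  have p3 : ∀ n : ℤ, z ^ n ∈ C := fun n => C.zpow_mem D.zC _
  have p4 : ∀ n : ℤ, v ^ n ∈ C := fun n => C.zpow_mem D.vC _
  simp only [e]
  rw [(D.cm (p1 m) (C.mul_mem (p2 i) (C.mul_mem (p3 j) (p4 l)))).mul_zpow,
    (D.cm (p2 i) (C.mul_mem (p3 j) (p4 l))).mul_zpow, (D.cm (p3 j) (p4 l)).mul_zpow,
    zpow_mul, zpow_mul, zpow_mul, zpow_mul]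

theorem e_eq_one (D : Data x h z v d ρ φ C k) {m i j l : ℤ} :
    e φ x z v m i j l = 1 ↔ (2 : ℤ) ^ k ∣ m ∧ 2 ∣ i ∧ 2 ∣ j ∧ 2 ∣ l := by
  constructor
  · exact D.inj m i j l
  · rintro ⟨⟨a, ha⟩, ⟨b, hb⟩, ⟨c, hc⟩, ⟨n, hn⟩⟩
    have h1 : φ ^ m = 1 := by
      rw [ha, zpow_mul]
      have : φ ^ ((2 : ℤ) ^ k) = 1 := by
        have e1 : ((2 : ℤ) ^ k) = ((2 ^ k : ℕ) : ℤ) := by push_cast; rfl
        rw [e1, zpow_natCast, D.φk]
      rw [this, one_zpow]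
    have sq : ∀ y : L, y * y = 1 → ∀ n : ℤ, y ^ (2 * n) = 1 := by
      intro y hy n
      rw [zpow_mul, zpow_two, hy, one_zpow]
    simp only [e]
    rw [h1, hb, hc, hn, sq x D.xx, sq z D.zz, sq v D.vv]
    simp

theorem e_eq (D : Data x h z v d ρ φ C k) {m i j l m' i' j' l' : ℤ} :
    e φ x z v m i j l = e φ x z v m' i' j' l' ↔
      (2 : ℤ) ^ k ∣ m - m' ∧ 2 ∣ i - i' ∧ 2 ∣ j - j' ∧ 2 ∣ l - l' := by
  rw [← D.e_eq_one, sub_eq_add_neg, sub_eq_add_neg, sub_eq_add_neg, sub_eq_add_neg, ← D.e_mul,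
    ← D.e_inv, mul_inv_eq_one]

theorem φ_eq (φ x z v : L) : φ = e φ x z v 1 0 0 0 := by simp [e]
theorem x_eq (φ x z v : L) : x = e φ x z v 0 1 0 0 := by simp [e]
theorem z_eq (φ x z v : L) : z = e φ x z v 0 0 1 0 := by simp [e]
theorem v_eq (φ x z v : L) : v = e φ x z v 0 0 0 1 := by simp [e]

theorem h_eq (D : Data x h z v d ρ φ C k) : h = e φ x z v (2 ^ (k - 1)) 0 0 0 := by
  have e1 : ((2 : ℤ) ^ (k - 1)) = ((2 ^ (k - 1) : ℕ) : ℤ) := by push_cast; rfl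
  simp only [e, e1, zpow_natCast, D.hφ]
  simp

theorem hC (D : Data x h z v d ρ φ C k) : h ∈ C := by
  rw [← D.hφ]; exact C.pow_mem D.φC _

/-- elements of `C` in coordinates -/
theorem exists_e (D : Data x h z v d ρ φ C k) {a : L} (ha : a ∈ C) :
    ∃ m i j l : ℤ, a = e φ x z v m i j l := D.gen a ha

/-- conjugation in coordinates -/
theorem conj_e (y : L) (m i j l : ℤ) :
    y * e φ x z v m i j l * y⁻¹ = (y * φ * y⁻¹) ^ m * ((y * x * y⁻¹) ^ i *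
      ((y * z * y⁻¹) ^ j * (y * v * y⁻¹) ^ l)) := by
  simp only [conj_zpow, e]
  group

/-- `y C y⁻¹ ≤ C` if `y` normalises `F` -/
theorem conj_C (D : Data x h z v d ρ φ C k) {y : L} (h1 : y⁻¹ * x * y ∈ C) (h2 : y⁻¹ * h * y ∈ C)
    (h3 : y⁻¹ * z * y ∈ C) (h4 : y⁻¹ * v * y ∈ C) {c : L} (hc : c ∈ C) : y * c * y⁻¹ ∈ C := by
  have key : ∀ u : L, y⁻¹ * u * y ∈ C → y * c * y⁻¹ * u = u * (y * c * y⁻¹) := by
    intro u hu
    have := D.comm _ hc _ hu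
    calc y * c * y⁻¹ * u = y * (c * (y⁻¹ * u * y)) * y⁻¹ := by group
      _ = y * ((y⁻¹ * u * y) * c) * y⁻¹ := by rw [this]
      _ = u * (y * c * y⁻¹) := by group
  exact D.cent _ (key x h1) (key h h2) (key z h3) (key v h4)

end Data

end Cfsg.Agent.GH.L2QTwo.MInF
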