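import Cfsg.Agent.GH.L2QTwo.MFWrap

/-!
# GH-L2, `|Q| = 2`, configuration (M-in-f): existence of a "translation"

`x ~ xz`, a field involution `f ∈ T` centralising `D`, `T < S`: there are a four-group `⟨z, v⟩`, `v = r ^ j c`, with `ρ`
as in `field_rho`, and `g` with `x ^ g = x z`, `h ^ g = h`, `z ^ g = z`, `v ^ g = w v`, `h ∈ {f, x f}`, `w ∈ {1, h}`.
-/

set_option autoImplicit false

open Subgroup

namespace Cfsg.Agent.GH.L2QTwo.MInFExist

/-! ### words -/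

section words

variable {G : Type*} [Group G]

theorem ci {a b y : G} (h : a * b * a⁻¹ = y) : a⁻¹ * y * a⁻¹⁻¹ = b := by rw [← h]; group

/-- conjugation as a homomorphism -/
def cj (g : G) : G →* G := (MulAut.conj g).toMonoidHom

theorem cj_apply (g y : G) : cj g y = g * y * g⁻¹ := rfl

theorem cj_mul (a b y : G) : cj (a * b) y = cj a (cj b y) := by
  simp only [cj_apply, mul_inv_rev, mul_assoc]

theorem word_even {x h z v ρ g ζ : G} (E : Four4 x h z v) (gx : g * x * g⁻¹ = x * z)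
    (gh : g * h * g⁻¹ = h) (gz : g * z * g⁻¹ = z) (gv : g * v * g⁻¹ = ζ * v)
    (ρx : ρ * x * ρ⁻¹ = x) (ρh : ρ * h * ρ⁻¹ = h) (ρz : ρ * z * ρ⁻¹ = v) (ρv : ρ * v * ρ⁻¹ = z * v)
    (hζ : ζ = x ∨ ζ = x * h) : ∃ w, w * x * w⁻¹ = x ∧ w * z * w⁻¹ = ζ * z := by
  have xx' : ∀ y, x * (x * y) = y := fun y => by rw [← mul_assoc, E.xx, one_mul]
  have hh' : ∀ y, h * (h * y) = y := fun y => by rw [← mul_assoc, E.ff, one_mul]
  have zz' : ∀ y, z * (z * y) = y := fun y => by rw [← mul_assoc, E.zz, one_mul]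
  have vv' : ∀ y, v * (v * y) = y := fun y => by rw [← mul_assoc, E.vv, one_mul]
  have hx' : ∀ y, h * (x * y) = x * (h * y) := fun y => by rw [← mul_assoc, E.fx, mul_assoc]
  have zx' : ∀ y, z * (x * y) = x * (z * y) := fun y => by rw [← mul_assoc, E.zx, mul_assoc]
  have zh' : ∀ y, z * (h * y) = h * (z * y) := fun y => by rw [← mul_assoc, E.zf, mul_assoc]
  have vx' : ∀ y, v * (x * y) = x * (v * y) := fun y => by rw [← mul_assoc, E.vx, mul_assoc]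
  have vh' : ∀ y, v * (h * y) = h * (v * y) := fun y => by rw [← mul_assoc, E.vf, mul_assoc]
  have vz' : ∀ y, v * (z * y) = z * (v * y) := fun y => by rw [← mul_assoc, E.vz, mul_assoc]
  have ρi : ρ⁻¹ * v * ρ⁻¹⁻¹ = z := ci ρz
  have ρzi : ρ⁻¹ * z * ρ⁻¹⁻¹ = z * v := by
    have h1 : ρ * (z * v) * ρ⁻¹ = z := by
      rw [conj_mul3, ρz, ρv, ← mul_assoc, E.vz, mul_assoc, E.vv, mul_one]
    exact ci h1
  have ρxi : ρ⁻¹ * x * ρ⁻¹⁻¹ = x := ci ρx
  have ρhi : ρ⁻¹ * h * ρ⁻¹⁻¹ = h := ci ρh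
  have gzi : g⁻¹ * z * g⁻¹⁻¹ = z := ci gz
  have ghi : g⁻¹ * h * g⁻¹⁻¹ = h := ci gh
  have gxi : g⁻¹ * x * g⁻¹⁻¹ = x * z := by
    have h1 : g * (x * z) * g⁻¹ = x := by
      rw [conj_mul3, gx, gz, mul_assoc, E.zz, mul_one]
    exact ci h1
  rw [← cj_apply] at gx gh gz gv ρx ρh ρz ρv ρi ρzi ρxi ρhi gzi ghi gxi
  refine ⟨g⁻¹ * ρ * g * ρ * g * ρ⁻¹ * g, ?_, ?_⟩
  · rw [← cj_apply]
    rcases hζ with rfl | rfl <;>
    simp only [cj_mul, map_mul, gx, gh, gz, gv, ρx, ρh, ρz, ρv, ρi, ρzi, ρxi, ρhi, gzi, ghi, gxi,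
      mul_assoc, mul_one, one_mul, E.xx, E.ff, E.zz, E.vv, E.fx, E.zx, E.zf, E.vx, E.vf, E.vz,
      xx', hh', zz', vv', hx', zx', zh', vx', vh', vz']
  · rw [← cj_apply]
    rcases hζ with rfl | rfl <;>
    simp only [cj_mul, map_mul, gx, gh, gz, gv, ρx, ρh, ρz, ρv, ρi, ρzi, ρxi, ρhi, gzi, ghi, gxi,
      mul_assoc, mul_one, one_mul, E.xx, E.ff, E.zz, E.vv, E.fx, E.zx, E.zf, E.vx, E.vf, E.vz,
      xx', hh', zz', vv', hx', zx', zh', vx', vh', vz']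

theorem word_odd {x h z v ρ τ ζ : G} (E : Four4 x h z v) (τx : τ * (x * z) * τ⁻¹ = x * z)
    (τh : τ * h * τ⁻¹ = h) (τz : τ * z * τ⁻¹ = ζ * v) (τv : τ * (ζ * v) * τ⁻¹ = z * (ζ * v))
    (ρx : ρ * x * ρ⁻¹ = x) (ρh : ρ * h * ρ⁻¹ = h) (ρz : ρ * z * ρ⁻¹ = v) (ρv : ρ * v * ρ⁻¹ = z * v) :
    (ζ = x ∨ ζ = x * h → ∃ w, w * x * w⁻¹ = x ∧ w * z * w⁻¹ = ζ * z) ∧
    (ζ = h → ∃ w, w * x * w⁻¹ = x * (h * z)) ∧
    (ζ = 1 → ∃ g, g * x * g⁻¹ = x * z ∧ g * h * g⁻¹ = h ∧ g * z * g⁻¹ = z ∧ g * v * g⁻¹ = v) := by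
  have xx' : ∀ y, x * (x * y) = y := fun y => by rw [← mul_assoc, E.xx, one_mul]
  have hh' : ∀ y, h * (h * y) = y := fun y => by rw [← mul_assoc, E.ff, one_mul]
  have zz' : ∀ y, z * (z * y) = y := fun y => by rw [← mul_assoc, E.zz, one_mul]
  have vv' : ∀ y, v * (v * y) = y := fun y => by rw [← mul_assoc, E.vv, one_mul]
  have hx' : ∀ y, h * (x * y) = x * (h * y) := fun y => by rw [← mul_assoc, E.fx, mul_assoc]
  have zx' : ∀ y, z * (x * y) = x * (z * y) := fun y => by rw [← mul_assoc, E.zx, mul_assoc]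
  have zh' : ∀ y, z * (h * y) = h * (z * y) := fun y => by rw [← mul_assoc, E.zf, mul_assoc]
  have vx' : ∀ y, v * (x * y) = x * (v * y) := fun y => by rw [← mul_assoc, E.vx, mul_assoc]
  have vh' : ∀ y, v * (h * y) = h * (v * y) := fun y => by rw [← mul_assoc, E.vf, mul_assoc]
  have vz' : ∀ y, v * (z * y) = z * (v * y) := fun y => by rw [← mul_assoc, E.vz, mul_assoc]
  have ρi : ρ⁻¹ * v * ρ⁻¹⁻¹ = z := ci ρz
  have ρzi : ρ⁻¹ * z * ρ⁻¹⁻¹ = z * v := by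
    have h1 : ρ * (z * v) * ρ⁻¹ = z := by
      rw [conj_mul3, ρz, ρv, ← mul_assoc, E.vz, mul_assoc, E.vv, mul_one]
    exact ci h1
  have ρxi : ρ⁻¹ * x * ρ⁻¹⁻¹ = x := ci ρx
  have ρhi : ρ⁻¹ * h * ρ⁻¹⁻¹ = h := ci ρh
  rw [← cj_apply] at τx τh τz τv ρx ρh ρz ρv ρi ρzi ρxi ρhi
  -- `x ^ τ`
  have τx' : cj τ x = x * z * (ζ * v) := by
    have e : x = x * z * z := by rw [mul_assoc, E.zz, mul_one]
    calc cj τ x = cj τ (x * z * z) := by rw [← e]
      _ = _ := by rw [map_mul, τx, τz]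
  refine ⟨?_, ?_, ?_⟩
  · intro hζ
    have τv' : cj τ v = ζ := by
      rcases hζ with rfl | rfl
      · rw [map_mul, τx'] at τv
        have h1 := congrArg (fun y => ζ * v * z * ζ * y) τv
        simp only [mul_assoc, mul_one, one_mul, E.xx, E.ff, E.zz, E.vv, E.fx, E.zx, E.zf, E.vx, E.vf, E.vz,
          xx', hh', zz', vv', hx', zx', zh', vx', vh', vz'] at h1
        exact h1
      · rw [map_mul, map_mul, τx', τh] at τv
        have h1 := congrArg (fun y => h * (x * h * v) * z * x * y) τv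
        simp only [mul_assoc, mul_one, one_mul, E.xx, E.ff, E.zz, E.vv, E.fx, E.zx, E.zf, E.vx, E.vf, E.vz,
          xx', hh', zz', vv', hx', zx', zh', vx', vh', vz'] at h1
        exact h1
    refine ⟨τ * ρ⁻¹ * τ, ?_, ?_⟩
    · rw [← cj_apply]
      rcases hζ with rfl | rfl <;>
      simp only [cj_mul, map_mul, τx', τh, τz, τv', ρx, ρh, ρz, ρv, ρi, ρzi, ρxi, ρhi,
        mul_assoc, mul_one, one_mul, E.xx, E.ff, E.zz, E.vv, E.fx, E.zx, E.zf, E.vx, E.vf, E.vz,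
        xx', hh', zz', vv', hx', zx', zh', vx', vh', vz']
    · rw [← cj_apply]
      rcases hζ with rfl | rfl <;>
      simp only [cj_mul, map_mul, τx', τh, τz, τv', ρx, ρh, ρz, ρv, ρi, ρzi, ρxi, ρhi,
        mul_assoc, mul_one, one_mul, E.xx, E.ff, E.zz, E.vv, E.fx, E.zx, E.zf, E.vx, E.vf, E.vz,
        xx', hh', zz', vv', hx', zx', zh', vx', vh', vz']
  · rintro rfl
    refine ⟨ρ * τ, ?_⟩
    rw [← cj_apply]
    simp only [cj_mul, map_mul, τx', τh, τz, ρx, ρh, ρz, ρv, ρi, ρzi, ρxi, ρhi,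
      mul_assoc, mul_one, one_mul, E.xx, E.ff, E.zz, E.vv, E.fx, E.zx, E.zf, E.vx, E.vf, E.vz,
      xx', hh', zz', vv', hx', zx', zh', vx', vh', vz']
  · rintro rfl
    rw [one_mul] at τz τv τx'
    refine ⟨ρ * τ * ρ⁻¹ * ρ⁻¹, ?_, ?_, ?_, ?_⟩ <;> rw [← cj_apply] <;>
    simp only [cj_mul, map_mul, τx', τh, τz, τv, ρx, ρh, ρz, ρv, ρi, ρzi, ρxi, ρhi,
      mul_assoc, mul_one, one_mul, E.xx, E.ff, E.zz, E.vv, E.fx, E.zx, E.zf, E.vx, E.vf, E.vz,
      xx', hh', zz', vv', hx', zx', zh', vx', vh', vz']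

end words

/-! ### the frame -/

section frame

variable {G A : Type*} [Group G] [Group A] {x : G} {K T D : Subgroup G} {d : ℕ} {r c : G}
  {o1 : G → ℤˣ} {o2 : G → A} {F : Frame x K T D d r c o1 o2} {f s : G}

theorem o2_pow (F : Frame x K T D d r c o1 o2) {t : G} (ht : t ∈ T) (n : ℕ) : o2 (t ^ n) = o2 t ^ n := by
  induction n with
  | zero => rw [pow_zero, pow_zero, F.o2_one]
  | succ n ih => rw [pow_succ, pow_succ, F.o2_mul' (T.pow_mem ht n) ht, ih]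

theorem o1_pow (F : Frame x K T D d r c o1 o2) {t : G} (ht : t ∈ T) (h1 : o1 t = 1) (n : ℕ) :
    o1 (t ^ n) = 1 := by
  induction n with
  | zero => rw [pow_zero, F.o1_one]
  | succ n ih => rw [pow_succ, F.o1_mul' (T.pow_mem ht n) ht, ih, h1, one_mul]

/-- elements of `T` centralising a reflection centralise `f` -/
theorem comm_fld (h : F.Fld f) (hd : 3 ≤ d) {t : G} (ht : t ∈ T) {j : ℤ}
    (hj : t * (r ^ j * c) = r ^ j * c * t) : t * f = f * t := by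
  have hg := F.good_of_ge hd
  have o1t : o1 t = 1 := F.o1_of_comm_refl hg ht hj
  have tx : Commute t x := (F.T_comm t ht).symm
  have tz : Commute t (r ^ 2 ^ (d - 2)) := F.z_comm_T hd ht
  have tv : Commute t (r ^ j * c) := hj
  by_cases h2 : o2 t = 1
  · obtain ⟨e, he, h3 | h3⟩ := F.ker t ht o1t h2
    · rw [h3]; exact (h.cent e he).symm
    · have c1 : Commute f x := h.fx
      have c2 : Commute f e := h.cent e he
      rw [h3]; exact (c1.mul_right c2).symm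
  · have hex : ∃ n, o2 (t ^ 2 ^ n) = 1 := by
      obtain ⟨n, hn⟩ := F.T_two ⟨t, ht⟩
      have hn' : t ^ 2 ^ n = 1 := congrArg Subtype.val hn
      exact ⟨n, by rw [hn', F.o2_one]⟩
    classical
    have hf1 := Nat.find_spec hex
    have h0 : Nat.find hex ≠ 0 := by
      intro h0
      rw [h0, pow_zero, pow_one] at hf1
      exact h2 hf1
    have hf2 := Nat.find_min hex (m := Nat.find hex - 1) (by omega)
    set n := Nat.find hex - 1 with hn
    have hn1 : Nat.find hex = n + 1 := by omega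
    rw [hn1] at hf1
    set y := t ^ 2 ^ n with hy
    have yT : y ∈ T := T.pow_mem ht _
    have yy : t ^ 2 ^ (n + 1) = y * y := by rw [pow_succ, pow_mul, pow_two]
    rw [yy, F.o2_mul' yT yT] at hf1
    have hy2 : o2 y = o2 f := F.A_inv _ _ hf1 hf2 (F.o2_invol h.mem h.sq) h.ne
    have hy1 : o1 y = 1 := o1_pow F ht o1t _
    have ty : Commute t y := (Commute.refl t).pow_right _
    have yv : Commute y (r ^ j * c) := tv.pow_left _
    have h5 : o2 (f * y) = 1 := by rw [F.o2_mul' h.mem yT, hy2, F.o2_invol h.mem h.sq]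
    have h6 : o1 (f * y) = 1 := by rw [F.o1_mul' h.mem yT, h.o1f, hy1, one_mul]
    have fv : Commute f (r ^ j * c) := h.cent _ (F.refl_mem j)
    have xv : Commute x (r ^ j * c) := F.x_comm_D (F.refl_mem j)
    have key : ∀ e ∈ D, Commute e (r ^ j * c) → Commute t e := by
      intro e he hev
      rcases F.D_comm he hev with h4 | h4 | h4 | h4
      · rw [h4]; exact Commute.one_right t
      · rw [h4]; exact tz
      · rw [h4]; exact tv
      · rw [h4]; exact tz.mul_right tv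
    obtain ⟨e, he, h3 | h3⟩ := F.ker _ (T.mul_mem h.mem yT) h6 h5
    · have hev : Commute e (r ^ j * c) := by rw [← h3]; exact fv.mul_left yv
      have hf : f = e * y⁻¹ := by rw [← h3, mul_inv_cancel_right]
      rw [hf]; exact (key e he hev).mul_right ty.inv_right
    · have hev : Commute e (r ^ j * c) := by
        have : e = x * (f * y) := by rw [h3, ← mul_assoc, F.xx, one_mul]
        rw [this]; exact xv.mul_left (fv.mul_left yv)
      have hf : f = x * e * y⁻¹ := by rw [← h3, mul_inv_cancel_right]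
      rw [hf]; exact (tx.mul_right (key e he hev)).mul_right ty.inv_right

/-- elements of `T` with `o1 = 1` centralise `f` -/
theorem comm_fld' (h : F.Fld f) (hd : 3 ≤ d) {t : G} (ht : t ∈ T) (h1 : o1 t = 1) : t * f = f * t := by
  obtain ⟨i, hi, hi'⟩ := Frame.MF.conj_refl (F.good_of_ge hd) F ht 0
  obtain ⟨a, ha⟩ := hi'.1 h1
  have hr : r ^ (-a) ∈ D := F.r_rk _
  have h2 : r ^ (-a) * t * (r ^ (0 : ℤ) * c) = r ^ (0 : ℤ) * c * (r ^ (-a) * t) := by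
    apply comm_of_conj_eq
    have e : r ^ (-a) * t * (r ^ (0 : ℤ) * c) * (r ^ (-a) * t)⁻¹ =
        r ^ (-a) * (t * (r ^ (0 : ℤ) * c) * t⁻¹) * (r ^ (-a))⁻¹ := by
      simp only [mul_inv_rev, mul_assoc]
    have e2 : i + 2 * -a = 0 := by linarith
    rw [e, hi, Frame.MF.rot_conj F, e2]
  have h3 : Commute (r ^ (-a) * t) f := comm_fld h hd (T.mul_mem (F.D_le hr) ht) h2
  have h4 : Commute (r ^ (-a)) f := (h.cent _ hr).symm
  have h5 := h4.inv_left.mul_left h3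
  rwa [inv_mul_cancel_left] at h5

theorem EE_sq (h : F.Fld f) {j : ℤ} {m : G} (hm : m ∈ F.EE j) : m * m = 1 := by
  obtain ⟨ζ, hζ, h3⟩ := h.EE_form hm
  obtain ⟨-, z1, -, -, z2⟩ := h.zeta hζ
  have key : ∀ e ∈ D, e * e = 1 → ζ * e * (ζ * e) = 1 := by
    intro e he hee
    calc ζ * e * (ζ * e) = ζ * (e * ζ) * e := by group
      _ = ζ * (ζ * e) * e := by rw [z1 e he]
      _ = (ζ * ζ) * (e * e) := by group
      _ = 1 := by rw [z2, hee, one_mul]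
  rcases h3 with h4 | h4 | h4 | h4
  · rw [h4, z2]
  · rw [h4]; exact key _ F.z_mem F.z_sq
  · rw [h4]; exact key _ (F.refl_mem j) (F.refl_sq j)
  · rw [h4]
    have e : r ^ 2 ^ (d - 2) * (r ^ j * c) = r ^ (2 ^ (d - 2) + j) * c := by
      rw [F.zz, ← mul_assoc, ← zpow_add]
    refine key _ (D.mul_mem F.z_mem (F.refl_mem j)) ?_
    rw [e]
    exact F.refl_sq _

theorem norm_EE (h : F.Fld f) {j : ℤ} {g : G} (hx : g * x * g⁻¹ ∈ F.EE j)
    (hf : g * f * g⁻¹ ∈ F.EE j) (hz : g * r ^ 2 ^ (d - 2) * g⁻¹ ∈ F.EE j)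
    (hv : g * (r ^ j * c) * g⁻¹ ∈ F.EE j) : ∀ m ∈ F.EE j, g * m * g⁻¹ ∈ F.EE j := by
  intro m hm
  obtain ⟨ζ, hζ, h3⟩ := h.EE_form hm
  have pζ : g * ζ * g⁻¹ ∈ F.EE j := by
    rcases hζ with h4 | h4 | h4 | h4 <;> rw [h4]
    · have : g * 1 * g⁻¹ = 1 := by group
      rw [this]; exact (F.EE j).one_mem
    · exact hx
    · exact hf
    · rw [conj_mul3]; exact (F.EE j).mul_mem hx hf
  rcases h3 with h4 | h4 | h4 | h4 <;> rw [h4]
  · exact pζ
  · rw [conj_mul3]; exact (F.EE j).mul_mem pζ hz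
  · rw [conj_mul3]; exact (F.EE j).mul_mem pζ hv
  · rw [conj_mul3, conj_mul3 g (r ^ 2 ^ (d - 2))]
    exact (F.EE j).mul_mem pζ ((F.EE j).mul_mem hz hv)

/-- (K1) -/
theorem K1 [Finite G] (h : F.Fld f) (hd : 3 ≤ d) {j : ℤ} {κ u : G} (κx : Commute κ x)
    (κz : Commute κ (r ^ 2 ^ (d - 2))) (κv : Commute κ (r ^ j * c)) (hu : κ * f * κ⁻¹ = f * u)
    (κu : Commute κ u) (uu : u * u = 1) (uE : u ∈ F.EE j) : u = 1 := by
  have hN : 0 < orderOf κ := orderOf_pos κ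
  obtain ⟨a, m, hm, hN'⟩ := Nat.exists_eq_two_pow_mul_odd hN.ne'
  have hpow : ∀ n : ℕ, κ ^ n * f * (κ ^ n)⁻¹ = f * u ^ n := by
    intro n
    induction n with
    | zero => simp
    | succ n ih =>
      calc κ ^ (n + 1) * f * (κ ^ (n + 1))⁻¹ = κ * (κ ^ n * f * (κ ^ n)⁻¹) * κ⁻¹ := by
            rw [pow_succ']; group
        _ = (κ * f * κ⁻¹) * (κ * u ^ n * κ⁻¹) := by rw [ih]; group
        _ = f * u ^ (n + 1) := by
            rw [hu, (κu.pow_right n).eq, mul_inv_cancel_right, pow_succ', mul_assoc]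
  have hum : u ^ m = u := by
    obtain ⟨q, hq⟩ := hm
    rw [hq, pow_succ, pow_mul, pow_two, uu, one_pow, one_mul]
  set κ' := κ ^ m with hκ'
  have hf' : κ' * f * κ'⁻¹ = f * u := by rw [hκ', hpow, hum]
  have k2 : κ' ^ 2 ^ a = 1 := by
    rw [hκ', ← pow_mul, mul_comm, ← hN', pow_orderOf_eq_one]
  have κ'x : Commute κ' x := κx.pow_left m
  have κ'z : Commute κ' (r ^ 2 ^ (d - 2)) := κz.pow_left m
  have κ'v : Commute κ' (r ^ j * c) := κv.pow_left m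
  have xE : x ∈ F.EE j := h.zeta_EE j (Or.inr (Or.inl rfl))
  have fE : f ∈ F.EE j := h.zeta_EE j (Or.inr (Or.inr (Or.inl rfl)))
  have hnorm : ∀ y ∈ F.EE j, κ' * y * κ'⁻¹ ∈ F.EE j := by
    refine norm_EE h ?_ ?_ ?_ ?_
    · rw [conj_eq_of_comm κ'x]; exact xE
    · rw [hf']; exact (F.EE j).mul_mem fE uE
    · rw [conj_eq_of_comm κ'z]; exact F.z_EE j
    · rw [conj_eq_of_comm κ'v]; exact F.v_EE j
  have hEE2 : IsPGroup 2 (F.EE j) := F.T_two.to_le fun y hy => (F.mem_EE.1 hy).1.1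
  have hP2 : IsPGroup 2 ↥(zpowers κ' ⊔ F.EE j) := by
    refine IsPGroup.to_sup_of_normal_right' ?_ hEE2 (by rw [zpowers_le]; exact mem_norm_of hnorm)
    rintro ⟨b, hb⟩
    obtain ⟨i, rfl⟩ := mem_zpowers_iff.1 hb
    refine ⟨a, Subtype.ext ?_⟩
    change (κ' ^ i) ^ 2 ^ a = 1
    rw [← zpow_natCast, ← zpow_mul, mul_comm, zpow_mul, zpow_natCast, k2, one_zpow]
  have hPx : ∀ p ∈ zpowers κ' ⊔ F.EE j, x * p = p * x := by
    have h1 : zpowers κ' ⊔ F.EE j ≤ centralizer ({x} : Set G) := by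
      rw [sup_le_iff, zpowers_le]
      refine ⟨mem_centralizer_singleton_iff.2 κ'x, fun e he => ?_⟩
      exact mem_centralizer_singleton_iff.2 (F.T_comm e (F.mem_EE.1 he).1.1).symm
    intro p hp
    exact (mem_centralizer_singleton_iff.1 (h1 hp)).symm
  obtain ⟨l, hl, hlP⟩ := F.T_syl _ hP2 hPx
  -- the image of `E`
  have hM0 : ∀ y ∈ F.EE j, l * y * l⁻¹ ∈ F.M0 := by
    let E' : Subgroup G := (F.EE j).map (MulAut.conj l).toMonoidHom
    have hE'T : E' ≤ T := by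
      rintro _ ⟨a, ha, rfl⟩
      exact hlP a (mem_sup_right ha)
    have hE'sq : ∀ y ∈ E', y * y = 1 := by
      rintro _ ⟨a, ha, rfl⟩
      change l * a * l⁻¹ * (l * a * l⁻¹) = 1
      rw [conj_mul_conj, EE_sq h ha]; group
    have hE'c : Nat.card E' = Nat.card (F.EE j) :=
      (Nat.card_congr ((F.EE j).equivMapOfInjective _ (MulAut.conj l).injective).toEquiv).symm
    intro y hy
    exact F.le_M0' (F.good_of_ge hd) hE'T hE'sq (by rw [hE'c, h.card_EE j]; norm_num) ⟨y, hy, rfl⟩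
  set t := l * κ' * l⁻¹ with ht
  have tT : t ∈ T := hlP κ' (mem_sup_left (mem_zpowers κ'))
  have tcomm : ∀ y, Commute κ' y → Commute t (l * y * l⁻¹) := by
    intro y hy
    show l * κ' * l⁻¹ * (l * y * l⁻¹) = l * y * l⁻¹ * (l * κ' * l⁻¹)
    rw [conj_mul_conj, conj_mul_conj, hy.eq]
  -- a reflection in the image of `V`
  have hinD : ∀ y ∈ D, y ∈ F.EE j → l * y * l⁻¹ ∈ D := fun y hy hy' =>
    (F.mem_D _).2 ⟨hlP y (mem_sup_right hy'), F.K_norm l hl y (F.D_le_K hy)⟩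
  obtain ⟨y, i, hyE, hyκ, hyi⟩ : ∃ (y : G) (i : ℤ), y ∈ F.EE j ∧ Commute κ' y ∧ l * y * l⁻¹ = r ^ i * c := by
    have z1 := hinD _ F.z_mem (F.z_EE j)
    have v1 := hinD _ (F.refl_mem j) (F.v_EE j)
    rcases F.inv_form z1 (by rw [conj_mul_conj, F.z_sq]; group) with h1 | h1 | ⟨i, h1⟩
    · exact absurd h1 (conj_ne_one F.z_ne)
    · rcases F.inv_form v1 (by rw [conj_mul_conj, F.refl_sq]; group) with h2 | h2 | ⟨i, h2⟩
      · exact absurd h2 (conj_ne_one (F.refl_ne_one j))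
      · exfalso
        have h3 : r ^ 2 ^ (d - 2) = r ^ j * c := mul_left_cancel (mul_right_cancel (h1.trans h2.symm))
        rw [F.zz] at h3
        exact F.refl_ne _ _ h3.symm
      · exact ⟨_, i, F.v_EE j, κ'v, h2⟩
    · exact ⟨_, i, F.z_EE j, κ'z, h1⟩
  have tv : Commute t (r ^ i * c) := by rw [← hyi]; exact tcomm y hyκ
  have tf : Commute t f := comm_fld h hd tT tv
  have tx : Commute t x := (F.T_comm t tT).symm
  have tz : Commute t (r ^ 2 ^ (d - 2)) := F.z_comm_T hd tT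
  have hfy : f * y = y * f := by
    obtain ⟨ζ, hζ, h3⟩ := h.EE_form hyE
    have c1 : Commute f ζ := ((h.zeta hζ).2.2.2.1).symm
    have c2 : Commute f (r ^ 2 ^ (d - 2)) := h.cent _ F.z_mem
    have c3 : Commute f (r ^ j * c) := h.cent _ (F.refl_mem j)
    rcases h3 with h4 | h4 | h4 | h4 <;> rw [h4]
    · exact c1
    · exact c1.mul_right c2
    · exact c1.mul_right c3
    · exact c1.mul_right (c2.mul_right c3)
  have hfE : l * f * l⁻¹ ∈ F.EE i := by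
    refine F.mem_EE.2 ⟨hM0 f fE, ?_⟩
    rw [← hyi, conj_mul_conj, conj_mul_conj, hfy]
  have tf' : Commute t (l * f * l⁻¹) := by
    obtain ⟨ζ, hζ, h3⟩ := h.EE_form hfE
    have c1 : Commute t ζ := by
      rcases hζ with h4 | h4 | h4 | h4 <;> rw [h4]
      · exact Commute.one_right t
      · exact tx
      · exact tf
      · exact tx.mul_right tf
    rcases h3 with h4 | h4 | h4 | h4 <;> rw [h4]
    · exact c1
    · exact c1.mul_right tz
    · exact c1.mul_right tv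
    · exact c1.mul_right (tz.mul_right tv)
  have h7 : κ' * f = f * κ' := by
    have h8 : l * κ' * l⁻¹ * (l * f * l⁻¹) = l * f * l⁻¹ * (l * κ' * l⁻¹) := tf'
    rw [conj_mul_conj, conj_mul_conj] at h8
    exact mul_left_cancel (mul_right_cancel h8)
  rw [conj_eq_of_comm h7] at hf'
  exact (mul_eq_left.1 hf'.symm)

/-- the four-groups of `f` and `f z` are in different classes -/
theorem odd_of [Finite G] (h : F.Fld f) (hd : 3 ≤ d) {j1 j2 : ℤ} {ρ1 ρ2 : G}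
    (x1 : ρ1 * x * ρ1⁻¹ = x) (f1 : ρ1 * f * ρ1⁻¹ = f) (z1 : ρ1 * r ^ 2 ^ (d - 2) * ρ1⁻¹ = r ^ j1 * c)
    (v1 : ρ1 * (r ^ j1 * c) * ρ1⁻¹ = r ^ 2 ^ (d - 2) * (r ^ j1 * c)) (x2 : ρ2 * x * ρ2⁻¹ = x)
    (f2 : ρ2 * (f * r ^ 2 ^ (d - 2)) * ρ2⁻¹ = f * r ^ 2 ^ (d - 2))
    (z2 : ρ2 * r ^ 2 ^ (d - 2) * ρ2⁻¹ = r ^ j2 * c)
    (v2 : ρ2 * (r ^ j2 * c) * ρ2⁻¹ = r ^ 2 ^ (d - 2) * (r ^ j2 * c)) : Odd (j2 - j1) := by
  by_contra hodd
  rw [Int.not_odd_iff_even] at hodd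
  obtain ⟨a, ha⟩ := hodd
  have zv : r ^ 2 ^ (d - 2) * (r ^ j1 * c) = (r ^ j1 * c) * r ^ 2 ^ (d - 2) := F.z_comm (F.refl_mem j1)
  have hrx : ∀ b : ℤ, r ^ b * x * (r ^ b)⁻¹ = x := fun b => conj_eq_of_comm (F.x_comm_D (F.r_rk b)).symm
  have hrf : ∀ b : ℤ, r ^ b * f * (r ^ b)⁻¹ = f := fun b => conj_eq_of_comm (h.cent _ (F.r_rk b)).symm
  have hrz : ∀ b : ℤ, r ^ b * r ^ 2 ^ (d - 2) * (r ^ b)⁻¹ = r ^ 2 ^ (d - 2) := fun b =>
    conj_eq_of_comm (F.z_comm (F.r_rk b)).symm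
  have e1 : r ^ a * (r ^ j1 * c) * (r ^ a)⁻¹ = r ^ j2 * c := by
    have : j1 + 2 * a = j2 := by linarith
    rw [Frame.MF.rot_conj F, this]
  have e2 : r ^ (-a) * (r ^ j2 * c) * (r ^ (-a))⁻¹ = r ^ j1 * c := by
    have : j2 + 2 * (-a) = j1 := by linarith
    rw [Frame.MF.rot_conj F, this]
  have e3 : ρ1⁻¹ * (r ^ 2 ^ (d - 2) * (r ^ j1 * c)) * ρ1⁻¹⁻¹ = r ^ j1 * c := ci v1
  have e4 : ρ1⁻¹ * (r ^ j1 * c) * ρ1⁻¹⁻¹ = r ^ 2 ^ (d - 2) := ci z1
  have e5 : ρ1⁻¹ * x * ρ1⁻¹⁻¹ = x := ci x1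
  have e6 : ρ1⁻¹ * f * ρ1⁻¹⁻¹ = f := ci f1
  have e7 : ρ2 * f * ρ2⁻¹ = f * r ^ 2 ^ (d - 2) * (r ^ j2 * c) := by
    have e : f = f * r ^ 2 ^ (d - 2) * r ^ 2 ^ (d - 2) := by rw [mul_assoc, F.z_sq, mul_one]
    calc ρ2 * f * ρ2⁻¹ = ρ2 * (f * r ^ 2 ^ (d - 2) * r ^ 2 ^ (d - 2)) * ρ2⁻¹ := by rw [← e]
      _ = _ := by rw [conj_mul3, f2, z2]
  set z := r ^ 2 ^ (d - 2) with hz
  set v := r ^ j1 * c with hv
  set v' := r ^ j2 * c with hv'
  set κ := ρ1⁻¹ * r ^ (-a) * ρ2 * r ^ a with hκ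
  have hexp : ∀ y, κ * y * κ⁻¹ = ρ1⁻¹ * (r ^ (-a) * (ρ2 * (r ^ a * y * (r ^ a)⁻¹) * ρ2⁻¹) *
      (r ^ (-a))⁻¹) * ρ1⁻¹⁻¹ := by
    intro y
    simp only [hκ, mul_inv_rev, mul_assoc]
  have kx : κ * x * κ⁻¹ = x := by rw [hexp, hrx, x2, hrx, e5]
  have kz : κ * z * κ⁻¹ = z := by rw [hexp, hrz, z2, e2, e4]
  have kv : κ * v * κ⁻¹ = v := by
    rw [hexp, e1, v2, conj_mul3 (r ^ (-a)), hrz, e2, e3]
  have kf : κ * f * κ⁻¹ = f * v := by
    rw [hexp, hrf, e7, conj_mul3 (r ^ (-a)), conj_mul3 (r ^ (-a)), hrz, hrf, e2, mul_assoc f z v,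
      conj_mul3 ρ1⁻¹, e6, e3]
  have h1 := K1 h hd (j := j1) (comm_of_conj_eq kx) (comm_of_conj_eq kz) (comm_of_conj_eq kv) kf
    (comm_of_conj_eq kv) (F.refl_sq j1) (F.v_EE j1)
  exact F.refl_ne_one j1 h1

theorem zeta_K (h : F.Fld f) {ζ : G} (hζ : ζ = 1 ∨ ζ = x ∨ ζ = f ∨ ζ = x * f) (hK : ζ ∈ K) : ζ = 1 := by
  have h4 := F.o2_K ζ hK
  rcases hζ with h5 | h5 | h5 | h5
  · exact h5
  · exfalso
    apply F.x_not
    rw [F.mem_D]
    exact ⟨F.x_mem, h5 ▸ hK⟩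
  · rw [h5] at h4
    exact absurd h4 h.ne
  · rw [h5, F.o2_mul' F.x_mem h.mem, F.o2_x, one_mul] at h4
    exact absurd h4 h.ne

/-- `x ~ xz` is realised by an element of `N(T)` -/
theorem exists_out [Finite G] (F : Frame x K T D d r c o1 o2) (hd : 3 ≤ d)
    (hc : IsConj x (x * r ^ 2 ^ (d - 2))) : ∃ s, F.Out s ∧ s * x * s⁻¹ = x * r ^ 2 ^ (d - 2) := by
  obtain ⟨g, hg⟩ := isConj_iff.1 hc
  set z := r ^ 2 ^ (d - 2) with hz
  have xz : x * z = z * x := F.x_comm_D F.z_mem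
  have hP : IsPGroup 2 (T.map (MulAut.conj g⁻¹).toMonoidHom) := F.T_two.map _
  have hPx : ∀ p ∈ T.map (MulAut.conj g⁻¹).toMonoidHom, x * p = p * x := by
    rintro _ ⟨a, ha, rfl⟩
    change x * (g⁻¹ * a * g⁻¹⁻¹) = g⁻¹ * a * g⁻¹⁻¹ * x
    have h1 : a * (x * z) = x * z * a := by
      have c1 : Commute a x := (F.T_comm a ha).symm
      have c2 : Commute a z := F.z_comm_T hd ha
      exact c1.mul_right c2
    rw [← hg] at h1
    calc x * (g⁻¹ * a * g⁻¹⁻¹) = g⁻¹ * (g * x * g⁻¹ * a) * g := by group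
      _ = g⁻¹ * (a * (g * x * g⁻¹)) * g := by rw [h1]
      _ = g⁻¹ * a * g⁻¹⁻¹ * x := by group
  obtain ⟨k, hk, hkP⟩ := F.T_syl _ hP hPx
  have hnT : ∀ t ∈ T, (k * g⁻¹) * t * (k * g⁻¹)⁻¹ ∈ T := by
    intro t ht
    have := hkP _ ⟨t, ht, rfl⟩
    have e : k * g⁻¹ * t * (k * g⁻¹)⁻¹ = k * (g⁻¹ * t * g⁻¹⁻¹) * k⁻¹ := by group
    rw [e]; exact this
  have hn0 : (k * g⁻¹)⁻¹ ∈ normalizer (T : Set G) := inv_mem (mem_norm_of hnT)
  set n := (k * g⁻¹)⁻¹ with hn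
  have nx : n * x * n⁻¹ = x * z := by
    have e : n * x * n⁻¹ = g * (k⁻¹ * x * k) * g⁻¹ := by rw [hn]; group
    have e2 : k⁻¹ * x * k = x := by
      rw [mul_assoc, hk]; group
    rw [e, e2, hg]
  have hg' := F.good_of_ge hd
  have nz : n * z = z * n := hg'.zN n hn0
  have nnx : n * n * x = x * (n * n) := by
    apply comm_of_conj_eq
    calc n * n * x * (n * n)⁻¹ = n * (n * x * n⁻¹) * n⁻¹ := by group
      _ = x := by rw [nx, conj_mul3, nx, conj_eq_of_comm nz, mul_assoc, F.z_sq, mul_one]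
  -- the 2-part
  obtain ⟨a, m, hm, hN⟩ := Nat.exists_eq_two_pow_mul_odd (orderOf_pos n).ne'
  set s := n ^ m with hs
  have hsN : s ∈ normalizer (T : Set G) := pow_mem hn0 m
  have s2 : s ^ 2 ^ a = 1 := by
    rw [hs, ← pow_mul, mul_comm, ← hN, pow_orderOf_eq_one]
  have sx : s * x * s⁻¹ = x * z := by
    obtain ⟨q, hq⟩ := hm
    have c1 : Commute ((n * n) ^ q) x := Commute.pow_left nnx q
    have e : s = n * (n * n) ^ q := by
      rw [hs, hq, pow_succ', pow_mul, pow_two]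
    calc s * x * s⁻¹ = n * ((n * n) ^ q * x * ((n * n) ^ q)⁻¹) * n⁻¹ := by rw [e]; group
      _ = x * z := by rw [conj_eq_of_comm c1, nx]
  have sz : s * z = z * s := hg'.zN s hsN
  have ssx : s * s * x = x * (s * s) := by
    apply comm_of_conj_eq
    calc s * s * x * (s * s)⁻¹ = s * (s * x * s⁻¹) * s⁻¹ := by group
      _ = x := by rw [sx, conj_mul3, sx, conj_eq_of_comm sz, mul_assoc, F.z_sq, mul_one]
  have ssN : s * s ∈ normalizer (T : Set G) := mul_mem hsN hsN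
  refine ⟨s, ⟨?_, fun t ht => (mem_normalizer_iff.1 hsN t).1 ht, ?_⟩, sx⟩
  · intro hsT
    have h1 := F.T_comm s hsT
    rw [← h1, mul_inv_cancel_right] at sx
    exact F.z_ne (mul_eq_left.1 sx.symm)
  · -- `s² ∈ T`
    have hP2 : IsPGroup 2 ↥(zpowers (s * s) ⊔ T) := by
      refine IsPGroup.to_sup_of_normal_right' ?_ F.T_two (by rw [zpowers_le]; exact ssN)
      rintro ⟨b, hb⟩
      obtain ⟨i, rfl⟩ := mem_zpowers_iff.1 hb
      refine ⟨a, Subtype.ext ?_⟩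
      change ((s * s) ^ i) ^ 2 ^ a = 1
      have e : (s * s) ^ 2 ^ a = 1 := by rw [← pow_two, ← pow_mul, mul_comm, pow_mul, s2, one_pow]
      rw [← zpow_natCast, ← zpow_mul, mul_comm, zpow_mul, zpow_natCast, e, one_zpow]
    have hPx : ∀ p ∈ zpowers (s * s) ⊔ T, p * x = x * p := by
      have h1 : zpowers (s * s) ⊔ T ≤ centralizer ({x} : Set G) := by
        rw [sup_le_iff, zpowers_le]
        exact ⟨mem_centralizer_singleton_iff.2 ssx, fun e he =>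
          mem_centralizer_singleton_iff.2 (F.T_comm e he).symm⟩
      intro p hp
      exact mem_centralizer_singleton_iff.1 (h1 hp)
    have h2 := F.card_le (IsConj.refl x) hP2 hPx
    have h3 : T = zpowers (s * s) ⊔ T := Subgroup.eq_of_le_of_card_ge le_sup_right h2
    rw [h3]
    exact mem_sup_left (mem_zpowers _)

/-- the action of `s` on `f` -/
theorem f_cases [Finite G] (h : F.Fld f) (hd : 3 ≤ d) (hs : F.Out s)
    (sx : s * x * s⁻¹ = x * r ^ 2 ^ (d - 2)) :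
    s * f * s⁻¹ = f ∨ s * f * s⁻¹ = f * r ^ 2 ^ (d - 2) := by
  have hg := F.good_of_ge hd
  have hn : s ∈ normalizer (F.M0 : Set G) :=
    mem_norm_of (h.norm_of hg fun m hm => hs.norm m hm.1)
  have hz := h.norm_z hd hn
  have hsT := hs.sq
  -- `s²` centralises `f`
  have hssf : s * s * f = f * (s * s) := by
    apply comm_fld' h hd hsT
    obtain ⟨ζ, hζ, i, hi, hi'⟩ := h.norm_sq_refl hd hn 0
    obtain ⟨i', hi1, hi2⟩ := Frame.MF.conj_refl hg F hsT 0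
    rw [hi2]
    rw [hi1] at hi
    have h1 : ζ ∈ K := by
      have : ζ = r ^ i' * c * (r ^ i * c)⁻¹ := by rw [hi, mul_inv_cancel_right]
      rw [this]
      exact K.mul_mem (F.D_le_K (F.refl_mem _)) (K.inv_mem (F.D_le_K (F.refl_mem _)))
    rw [zeta_K h hζ h1, one_mul] at hi
    have h2 := mul_right_cancel hi
    rw [F.rk_eq] at h2
    have h3 : (2 : ℤ) ∣ i' - i := (dvd_pow_self 2 (by omega)).trans h2
    obtain ⟨a, ha⟩ := hi'
    obtain ⟨b, hb⟩ := h3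
    exact ⟨a + b, by linarith⟩
  set z := r ^ 2 ^ (d - 2) with hz'
  have xz : x * z = z * x := F.x_comm_D F.z_mem
  have fz : f * z = z * f := h.cent _ F.z_mem
  have hD : ∀ y : G, y ∈ D → s * f * s⁻¹ ≠ s * y * s⁻¹ := by
    intro y hy h1
    have h2 : f = y := mul_left_cancel (mul_right_cancel h1)
    exact h.ne (by rw [h2]; exact F.o2_D hy)
  have hxD : ∀ y : G, y ∈ D → s * f * s⁻¹ ≠ s * (x * y) * s⁻¹ := by
    intro y hy h1
    have h2 : f = x * y := mul_left_cancel (mul_right_cancel h1)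
    exact h.ne (by rw [h2, F.o2_mul' F.x_mem (F.D_le hy), F.o2_x, F.o2_D hy, one_mul])
  have sxz : s * (x * z) * s⁻¹ = x := by
    rw [conj_mul3, sx, hz, mul_assoc, F.z_sq, mul_one]
  have last : s * f * s⁻¹ = x * f ∨ s * f * s⁻¹ = x * f * z → False := by
    intro h1
    have h2 : s * s * f * (s * s)⁻¹ = z * f := by
      have e : s * s * f * (s * s)⁻¹ = s * (s * f * s⁻¹) * s⁻¹ := by group
      rw [e]
      rcases h1 with h1 | h1
      · rw [h1, conj_mul3, sx, h1]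
        calc x * z * (x * f) = z * (x * x) * f := by rw [xz]; group
          _ = z * f := by rw [F.xx, mul_one]
      · rw [h1, conj_mul3, conj_mul3, sx, h1, hz]
        calc x * z * (x * f * z) * z = z * (x * x) * f * (z * z) := by rw [xz]; group
          _ = z * f := by rw [F.xx, F.z_sq, mul_one, mul_one]
    rw [conj_eq_of_comm hssf] at h2
    have : z = 1 := by
      have h3 : 1 * f = z * f := by rw [one_mul]; exact h2
      exact (mul_right_cancel h3).symm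
    exact F.z_ne this
  obtain ⟨ζ, hζ, h1 | h1⟩ := h.norm_cen hd hn (ζ := f) (Or.inr (Or.inr (Or.inl rfl)))
  · rcases hζ with h2 | h2 | h2 | h2
    · exfalso
      apply hD 1 D.one_mem
      rw [h1, h2]; group
    · exfalso
      apply hxD z F.z_mem
      rw [h1, h2, sxz]
    · left; rw [h1, h2]
    · exact (last (Or.inl (by rw [h1, h2]))).elim
  · rcases hζ with h2 | h2 | h2 | h2
    · exfalso
      apply hD z F.z_mem
      rw [h1, h2, hz, one_mul]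
    · exfalso
      apply hxD 1 D.one_mem
      rw [h1, h2, mul_one, sx]
    · right; rw [h1, h2]
    · exact (last (Or.inr (by rw [h1, h2]))).elim

/-- the output -/
structure Trans (F : Frame x K T D d r c o1 o2) (f : G) (j : ℤ) (ρ h g w : G) : Prop where
  fld : F.Fld f
  rx : ρ * x * ρ⁻¹ = x
  rf : ρ * f * ρ⁻¹ = f
  rz : ρ * r ^ 2 ^ (d - 2) * ρ⁻¹ = r ^ j * c
  rv : ρ * (r ^ j * c) * ρ⁻¹ = r ^ 2 ^ (d - 2) * (r ^ j * c)
  hh : h = f ∨ h = x * f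
  hw : w = 1 ∨ w = h
  gx : g * x * g⁻¹ = x * r ^ 2 ^ (d - 2)
  gh : g * h * g⁻¹ = h
  gz : g * r ^ 2 ^ (d - 2) * g⁻¹ = r ^ 2 ^ (d - 2)
  gv : g * (r ^ j * c) * g⁻¹ = w * (r ^ j * c)

/-- `h` and `Four4` -/
theorem four4 (hf : F.Fld f) {h : G} (hh : h = f ∨ h = x * f) (j : ℤ) :
    Four4 x h (r ^ 2 ^ (d - 2)) (r ^ j * c) := by
  have hζ : h = 1 ∨ h = x ∨ h = f ∨ h = x * f := by tauto
  obtain ⟨-, z1, zx, zf, zz⟩ := hf.zeta hζ
  exact
    { xx := F.xx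
      ff := zz
      zz := F.z_sq
      vv := F.refl_sq j
      fx := zx
      zx := (F.x_comm_D F.z_mem).symm
      zf := (z1 _ F.z_mem).symm
      vx := (F.x_comm_D (F.refl_mem j)).symm
      vf := (z1 _ (F.refl_mem j)).symm
      vz := (F.z_comm (F.refl_mem j)).symm }

/-- `⟨x, f⟩ = ⟨x, h⟩` -/
theorem zeta_h (hf : F.Fld f) {h : G} (hh : h = f ∨ h = x * f) {ζ : G}
    (hζ : ζ = 1 ∨ ζ = x ∨ ζ = f ∨ ζ = x * f) : ζ = 1 ∨ ζ = x ∨ ζ = h ∨ ζ = x * h := by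
  rcases hh with rfl | rfl
  · exact hζ
  · have : x * (x * f) = f := by rw [← mul_assoc, F.xx, one_mul]
    rw [this]; tauto

/-- an element of `C(x)` does not map `z` to `ζ z`, `ζ ∈ {x, x h}` -/
theorem not_word (hf : F.Fld f) {h : G} (hh : h = f ∨ h = x * f) {ζ : G} (hζ : ζ = x ∨ ζ = x * h)
    (hw : ∃ w, w * x * w⁻¹ = x ∧ w * r ^ 2 ^ (d - 2) * w⁻¹ = ζ * r ^ 2 ^ (d - 2)) : False := by
  obtain ⟨w, w1, w2⟩ := hw
  have hζ' : ζ = 1 ∨ ζ = x ∨ ζ = f ∨ ζ = x * f := by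
    rcases hζ with h1 | h1
    · tauto
    · rcases hh with h2 | h2
      · rw [h1, h2]; tauto
      · have : x * (x * f) = f := by rw [← mul_assoc, F.xx, one_mul]
        rw [h1, h2, this]; tauto
  have hK1 : ζ * r ^ 2 ^ (d - 2) ∈ K := by
    rw [← w2]
    exact F.K_norm w (comm_of_conj_eq w1).symm _ (F.D_le_K F.z_mem)
  have hK : ζ ∈ K := by
    have : ζ = ζ * r ^ 2 ^ (d - 2) * (r ^ 2 ^ (d - 2))⁻¹ := by rw [mul_inv_cancel_right]
    rw [this]
    exact K.mul_mem hK1 (K.inv_mem (F.D_le_K F.z_mem))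
  have h1 := zeta_K hf hζ' hK
  rcases hζ with h2 | h2
  · exact F.x_ne (by rw [← h2, h1])
  · rcases hh with h3 | h3
    · apply hf.ne
      have h4 : x * f = 1 := by rw [← h3, ← h2, h1]
      have h5 : o2 (x * f) = 1 := by rw [h4, F.o2_one]
      rwa [F.o2_mul' F.x_mem hf.mem, F.o2_x, one_mul] at h5
    · apply hf.ne
      have h4 : f = 1 := by
        have : x * (x * f) = f := by rw [← mul_assoc, F.xx, one_mul]
        rw [← this, ← h3, ← h2, h1]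
      rw [h4, F.o2_one]

/-- `s` preserves the two classes -/
theorem exists_of_even [Finite G] (hf : F.Fld f) (hd : 3 ≤ d) (hs : F.Out s)
    (sx : s * x * s⁻¹ = x * r ^ 2 ^ (d - 2))
    (hev : ∀ j : ℤ, ∃ ζ ∈ Frame.Zf hf, ∃ i : ℤ, s * (r ^ j * c) * s⁻¹ = ζ * (r ^ i * c) ∧ Even (i - j)) :
    ∃ (j : ℤ) (ρ h g w : G), Trans F f j ρ h g w := by
  obtain ⟨j, ρ, rx, rf, rz, rv⟩ := Frame.MF.exists_field_rho hf
  have hg := F.good_of_ge hd
  have hn : s ∈ normalizer (F.M0 : Set G) :=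
    mem_norm_of (hf.norm_of hg fun m hm => hs.norm m hm.1)
  have sz := hf.norm_z hd hn
  obtain ⟨ζ, hζ, i, hi, a, ha⟩ := hev j
  -- `h`
  obtain ⟨h, hh, sh⟩ : ∃ h, (h = f ∨ h = x * f) ∧ s * h * s⁻¹ = h := by
    rcases f_cases hf hd hs sx with h1 | h1
    · exact ⟨f, Or.inl rfl, h1⟩
    · refine ⟨x * f, Or.inr rfl, ?_⟩
      rw [conj_mul3, sx, h1]
      have fz : f * r ^ 2 ^ (d - 2) = r ^ 2 ^ (d - 2) * f := hf.cent _ F.z_mem
      rw [fz]
      calc x * r ^ 2 ^ (d - 2) * (r ^ 2 ^ (d - 2) * f) = x * (r ^ 2 ^ (d - 2) * r ^ 2 ^ (d - 2)) * f := by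
            simp only [mul_assoc]
        _ = x * f := by rw [F.z_sq, mul_one]
  have hhζ : h = 1 ∨ h = x ∨ h = f ∨ h = x * f := by tauto
  have rh : ρ * h * ρ⁻¹ = h := by
    rcases hh with h1 | h1 <;> rw [h1]
    · exact rf
    · rw [conj_mul3, rx, rf]
  set g := r ^ (-a) * s with hgdef
  have hexp : ∀ y, g * y * g⁻¹ = r ^ (-a) * (s * y * s⁻¹) * (r ^ (-a))⁻¹ := by
    intro y
    simp only [hgdef, mul_inv_rev, mul_assoc]
  have hrz : r ^ (-a) * r ^ 2 ^ (d - 2) * (r ^ (-a))⁻¹ = r ^ 2 ^ (d - 2) :=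
    conj_eq_of_comm (F.z_comm (F.r_rk _)).symm
  have hrx : r ^ (-a) * x * (r ^ (-a))⁻¹ = x := conj_eq_of_comm (F.x_comm_D (F.r_rk _)).symm
  have gx : g * x * g⁻¹ = x * r ^ 2 ^ (d - 2) := by rw [hexp, sx, conj_mul3, hrx, hrz]
  have gz : g * r ^ 2 ^ (d - 2) * g⁻¹ = r ^ 2 ^ (d - 2) := by rw [hexp, sz, hrz]
  have gh : g * h * g⁻¹ = h := by rw [hexp, sh, Frame.MF.rot_zeta hf hhζ]
  have gv : g * (r ^ j * c) * g⁻¹ = ζ * (r ^ j * c) := by
    have e : i + 2 * -a = j := by linarith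
    rw [hexp, hi, conj_mul3, Frame.MF.rot_zeta hf hζ, Frame.MF.rot_conj F, e]
  have hζ' := zeta_h hf hh hζ
  have E := four4 hf hh j
  by_cases hc : ζ = x ∨ ζ = x * h
  · exact (not_word hf hh hc (word_even E gx gh gz gv rx rh rz rv hc)).elim
  · exact ⟨j, ρ, h, g, ζ,
      { fld := hf
        rx := rx
        rf := rf
        rz := rz
        rv := rv
        hh := hh
        hw := by tauto
        gx := gx
        gh := gh
        gz := gz
        gv := gv }⟩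

/-- `s` swaps the two classes, no element of `T` does -/
theorem exists_of_odd [Finite G] (hf : F.Fld f) (hd : 3 ≤ d) (hs : F.Out s)
    (sx : s * x * s⁻¹ = x * r ^ 2 ^ (d - 2)) (hT : ∀ t ∈ T, o1 t = 1)
    (hodd : ∀ j : ℤ, ∃ ζ ∈ Frame.Zf hf, ∃ i : ℤ, s * (r ^ j * c) * s⁻¹ = ζ * (r ^ i * c) ∧ Odd (i - j)) :
    ∃ (j : ℤ) (ρ h g w : G), Trans F f j ρ h g w := by
  obtain ⟨j1, ρ1, x1, f1, z1, v1⟩ := Frame.MF.exists_field_rho hf
  obtain ⟨j2, ρ2, x2, f2, z2, v2⟩ := Frame.MF.exists_field_rho (hf.mul_z hd)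
  have ho := odd_of hf hd x1 f1 z1 v1 x2 f2 z2 v2
  have hg := F.good_of_ge hd
  have hn : s ∈ normalizer (F.M0 : Set G) :=
    mem_norm_of (hf.norm_of hg fun m hm => hs.norm m hm.1)
  have sz := hf.norm_z hd hn
  obtain ⟨ζ, hζ, i, hi, hi'⟩ := hodd j2
  obtain ⟨a, ha⟩ : Even (i - j1) := by
    have : i - j1 = (i - j2) + (j2 - j1) := by ring
    rw [this]; exact hi'.add_odd ho
  have fz : f * r ^ 2 ^ (d - 2) = r ^ 2 ^ (d - 2) * f := hf.cent _ F.z_mem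
  have xz : x * r ^ 2 ^ (d - 2) = r ^ 2 ^ (d - 2) * x := F.x_comm_D F.z_mem
  set s' := r ^ (-a) * s with hs'
  have hexp : ∀ y, s' * y * s'⁻¹ = r ^ (-a) * (s * y * s⁻¹) * (r ^ (-a))⁻¹ := by
    intro y
    simp only [hs', mul_inv_rev, mul_assoc]
  have hrz : r ^ (-a) * r ^ 2 ^ (d - 2) * (r ^ (-a))⁻¹ = r ^ 2 ^ (d - 2) :=
    conj_eq_of_comm (F.z_comm (F.r_rk _)).symm
  have hrx : r ^ (-a) * x * (r ^ (-a))⁻¹ = x := conj_eq_of_comm (F.x_comm_D (F.r_rk _)).symm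
  have hrf : r ^ (-a) * f * (r ^ (-a))⁻¹ = f := conj_eq_of_comm (hf.cent _ (F.r_rk _)).symm
  have s'x : s' * x * s'⁻¹ = x * r ^ 2 ^ (d - 2) := by rw [hexp, sx, conj_mul3, hrx, hrz]
  have s'z : s' * r ^ 2 ^ (d - 2) * s'⁻¹ = r ^ 2 ^ (d - 2) := by rw [hexp, sz, hrz]
  have s'v : s' * (r ^ j2 * c) * s'⁻¹ = ζ * (r ^ j1 * c) := by
    have e : i + 2 * -a = j1 := by linarith
    rw [hexp, hi, conj_mul3, Frame.MF.rot_zeta hf hζ, Frame.MF.rot_conj F, e]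
  -- `τ = s' ρ₂ s'⁻¹`
  set τ := s' * ρ2 * s'⁻¹ with hτ
  have hτc : ∀ y, τ * (s' * y * s'⁻¹) * τ⁻¹ = s' * (ρ2 * y * ρ2⁻¹) * s'⁻¹ := by
    intro y
    rw [hτ]; group
  have τx : τ * (x * r ^ 2 ^ (d - 2)) * τ⁻¹ = x * r ^ 2 ^ (d - 2) := by
    rw [← s'x, hτc, x2]
  have τz : τ * r ^ 2 ^ (d - 2) * τ⁻¹ = ζ * (r ^ j1 * c) := by
    have := hτc (r ^ 2 ^ (d - 2))
    rwa [s'z, z2, s'v] at this
  have τv : τ * (ζ * (r ^ j1 * c)) * τ⁻¹ = r ^ 2 ^ (d - 2) * (ζ * (r ^ j1 * c)) := by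
    have := hτc (r ^ j2 * c)
    rwa [s'v, v2, conj_mul3 s', s'z, s'v] at this
  -- `h`, and the element `x h z` centralised by `T⟨s⟩`
  obtain ⟨h, hh, τh, sh⟩ : ∃ h, (h = f ∨ h = x * f) ∧ τ * h * τ⁻¹ = h ∧
      s * (x * (h * r ^ 2 ^ (d - 2))) * s⁻¹ = x * (h * r ^ 2 ^ (d - 2)) := by
    have f2' : τ * (s' * (f * r ^ 2 ^ (d - 2)) * s'⁻¹) * τ⁻¹ = s' * (f * r ^ 2 ^ (d - 2)) * s'⁻¹ := by
      rw [hτc, f2]
    rcases f_cases hf hd hs sx with h1 | h1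
    · -- `f ^ s = f`, `h = x f`
      have e1 : s' * (f * r ^ 2 ^ (d - 2)) * s'⁻¹ = f * r ^ 2 ^ (d - 2) := by
        rw [conj_mul3 s', s'z, hexp, h1, hrf]
      rw [e1] at f2'
      refine ⟨x * f, Or.inr rfl, ?_, ?_⟩
      · have e2 : x * f = (x * r ^ 2 ^ (d - 2)) * (f * r ^ 2 ^ (d - 2)) := by
          rw [fz]
          calc x * f = x * (r ^ 2 ^ (d - 2) * r ^ 2 ^ (d - 2)) * f := by rw [F.z_sq, mul_one]
            _ = _ := by simp only [mul_assoc]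
        rw [e2, conj_mul3 τ, τx, f2']
      · have e2 : x * (x * f * r ^ 2 ^ (d - 2)) = f * r ^ 2 ^ (d - 2) := by
          rw [← mul_assoc, ← mul_assoc, F.xx, one_mul]
        rw [e2, conj_mul3 s, h1, sz]
    · have e1 : s' * (f * r ^ 2 ^ (d - 2)) * s'⁻¹ = f := by
        rw [conj_mul3 s', s'z, hexp, h1, conj_mul3 (r ^ (-a)), hrf, hrz, mul_assoc, F.z_sq, mul_one]
      rw [e1] at f2'
      refine ⟨f, Or.inl rfl, f2', ?_⟩
      rw [conj_mul3 s, conj_mul3 s, sx, h1, sz, mul_assoc f, F.z_sq, mul_one, mul_assoc, ← fz]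
  have hhζ : h = 1 ∨ h = x ∨ h = f ∨ h = x * f := by tauto
  have rh : ρ1 * h * ρ1⁻¹ = h := by
    rcases hh with h1 | h1 <;> rw [h1]
    · exact f1
    · rw [conj_mul3, x1, f1]
  have hζ' := zeta_h hf hh hζ
  have E := four4 hf hh j1
  obtain ⟨w1, w2, w3⟩ := word_odd E τx τh τz τv x1 rh z1 v1
  rcases hζ' with h1 | h1 | h1 | h1
  · obtain ⟨g, gx, gh, gz, gv⟩ := w3 h1
    exact ⟨j1, ρ1, h, g, 1,
      { fld := hf
        rx := x1
        rf := f1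
        rz := z1
        rv := v1
        hh := hh
        hw := Or.inl rfl
        gx := gx
        gh := gh
        gz := gz
        gv := by rw [one_mul]; exact gv }⟩
  · exact (not_word hf hh (Or.inl h1) (w1 (Or.inl h1))).elim
  · exfalso
    obtain ⟨w, hw⟩ := w2 h1
    refine hs.not_conj (y := x * (h * r ^ 2 ^ (d - 2))) (fun t ht => ?_) (comm_of_conj_eq sh)
      (isConj_iff.2 ⟨w, hw⟩)
    have c1 : Commute t x := (F.T_comm t ht).symm
    have c2 : Commute t f := comm_fld' hf hd ht (hT t ht)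
    have c3 : Commute t (r ^ 2 ^ (d - 2)) := F.z_comm_T hd ht
    have c4 : Commute t h := by
      rcases hh with h1 | h1 <;> rw [h1]
      · exact c2
      · exact c1.mul_right c2
    exact c1.mul_right (c4.mul_right c3)
  · exact (not_word hf hh (Or.inr h1) (w1 (Or.inr h1))).elim

/-- **(S0) and (S1): existence of the translation** -/
theorem exists_trans [Finite G] (F : Frame x K T D d r c o1 o2) (hd : 3 ≤ d) (hf : F.Fld f)
    (hc : IsConj x (x * r ^ 2 ^ (d - 2))) : ∃ (j : ℤ) (ρ h g w : G), Trans F f j ρ h g w := by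
  obtain ⟨s, hs, sx⟩ := exists_out F hd hc
  have hg := F.good_of_ge hd
  have hnorm : ∀ s, F.Out s → s ∈ normalizer (F.M0 : Set G) := fun s hs =>
    mem_norm_of (hf.norm_of hg fun m hm => hs.norm m hm.1)
  obtain ⟨p, hp⟩ := hf.norm_refl hd (hnorm s hs)
  rcases Int.even_or_odd p with hev | hodd
  · refine exists_of_even hf hd hs sx fun j => ?_
    obtain ⟨ζ, hζ, i, hi, hi'⟩ := hp j
    refine ⟨ζ, hζ, i, hi, ?_⟩
    have : i - j = (i - j - p) + p := by ring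
    rw [this]; exact hi'.add hev
  · by_cases hT : ∀ t ∈ T, o1 t = 1
    · refine exists_of_odd hf hd hs sx hT fun j => ?_
      obtain ⟨ζ, hζ, i, hi, hi'⟩ := hp j
      refine ⟨ζ, hζ, i, hi, ?_⟩
      have : i - j = (i - j - p) + p := by ring
      rw [this]; exact hi'.add_odd hodd
    · push Not at hT
      obtain ⟨t, ht, ht1⟩ := hT
      have hst : F.Out (s * t) :=
        { not_mem := by
            intro h1
            apply hs.not_mem
            have := T.mul_mem h1 (T.inv_mem ht)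
            rwa [mul_inv_cancel_right] at this
          norm := by
            intro u hu
            have e : s * t * u * (s * t)⁻¹ = s * (t * u * t⁻¹) * s⁻¹ := by group
            rw [e]
            exact hs.norm _ (T.mul_mem (T.mul_mem ht hu) (T.inv_mem ht))
          sq := by
            have e : s * t * (s * t) = (s * t * s⁻¹) * (s * s) * t := by group
            rw [e]
            exact T.mul_mem (T.mul_mem (hs.norm t ht) hs.sq) ht }
      have stx : s * t * x * (s * t)⁻¹ = x * r ^ 2 ^ (d - 2) := by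
        have e : s * t * x * (s * t)⁻¹ = s * (t * x * t⁻¹) * s⁻¹ := by group
        rw [e, conj_eq_of_comm (F.T_comm t ht).symm, sx]
      refine exists_of_even hf hd hst stx fun j => ?_
      obtain ⟨i1, hi1, hi1'⟩ := Frame.MF.conj_refl hg F ht j
      obtain ⟨ζ, hζ, i, hi, hi'⟩ := hp i1
      refine ⟨ζ, hζ, i, ?_, ?_⟩
      · have e : s * t * (r ^ j * c) * (s * t)⁻¹ = s * (t * (r ^ j * c) * t⁻¹) * s⁻¹ := by group
        rw [e, hi1, hi]
      · have h2 : ¬ Even (i1 - j) := fun h3 => ht1 (hi1'.2 h3)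
        rw [Int.not_even_iff_odd] at h2
        have : i - j = (i - i1 - p) + (p + (i1 - j)) := by ring
        rw [this]
        exact hi'.add (hodd.add_odd h2)

end frame

end Cfsg.Agent.GH.L2QTwo.MInFExist
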