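import Cfsg.Agent.GH.L2QTwo.MInFCore

/-!
# GH-L2, `|Q| = 2`, configuration (M-in-f): `k ≥ 2`, and `k = 1`, `v^g = v`
-/

set_option autoImplicit false
set_option linter.unusedVariables false
set_option linter.unusedSimpArgs false

open Subgroup Cfsg.Agent.TwoFusion.SectionalRank Cfsg.Agent.GH.C2Five Cfsg.Agent.GH.C2Syl

namespace Cfsg.Agent.GH.L2QTwo.MInF

variable {L : Type*} [Group L]

namespace Act

variable {x h z v d ρ φ g y : L} {C : Subgroup L} {k : ℕ} {α β γ : ℤ}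

/-- `[d, y²]` -/
theorem comm_sq (D : Data x h z v d ρ φ C k) (A : Act φ x h z v k y α β γ) {n i j m' i' j' l' : ℤ}
    (hc : d * y * d⁻¹ = y * e φ x z v (2 ^ (k - 1) * n) i j 0)
    (hyy : y * y = e φ x z v m' i' j' l') :
    (2 : ℤ) ^ k ∣ 2 ^ (k - 1) * (2 * n + β * i) ∧ 2 ∣ α * i + 2 * j - l' := by
  have htt := sq_mem D A
  have e2 : d * (y * y) * d⁻¹ = y * y * e φ x z v 0 0 l' 0 := by
    rw [hyy, D.d_e, D.e_mul]; congr 1 <;> ring
  have e3 : d * (y * y) * d⁻¹ = y * y * ((y * e φ x z v (2 ^ (k - 1) * n) i j 0 * y⁻¹) *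
      e φ x z v (2 ^ (k - 1) * n) i j 0) := by
    have cc : Commute (y * e φ x z v (2 ^ (k - 1) * n) i j 0 * y⁻¹) (y * y) :=
      D.comm _ (mem_C D A (D.e_mem _ _ _ _)) _ htt
    calc d * (y * y) * d⁻¹ = (d * y * d⁻¹) * (d * y * d⁻¹) := by group
      _ = (y * e φ x z v (2 ^ (k - 1) * n) i j 0 * y⁻¹) * (y * y) *
            e φ x z v (2 ^ (k - 1) * n) i j 0 := by rw [hc]; group
      _ = _ := by rw [cc.eq]; group
  have e4 := mul_left_cancel (e3.symm.trans e2)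
  rw [act_q D A, D.e_mul, D.e_eq] at e4
  obtain ⟨h1, -, h2, -⟩ := e4
  constructor
  · have : (2 : ℤ) ^ (k - 1) * (2 * n + β * i) =
        2 ^ (k - 1) * (n + β * i + γ * 0) + 2 ^ (k - 1) * n - 0 := by ring
    rw [this]; exact h1
  · have : α * i + 2 * j - l' = α * i + j + j - l' := by ring
    rw [this]; exact h2

/-- **`k ≥ 2`** -/
theorem false_two [Finite L] (hr : R4 L) (D : Data x h z v d ρ φ C k) (hk : 2 ≤ k)
    (A : Act φ x h z v k g 1 0 γ) (hγ : γ = 0 ∨ γ = 1) : False := by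
  have hk2 : (2 : ℤ) ∣ 2 ^ (k - 1) := two_pow_even hk
  have hγ' : γ = 0 ∨ γ = 1 ∧ 2 ≤ k := by
    rcases hγ with h | h
    · exact Or.inl h
    · exact Or.inr ⟨h, hk⟩
  obtain ⟨n, i, j, hc⟩ := comm_d D A
  obtain ⟨t1, t2⟩ := core_U D A hγ' (D.e_mem _ _ _ _) hc
  have B := act_b D A
  set b := (ρ * g * ρ⁻¹) * (ρ⁻¹ * g * ρ) with hb
  obtain ⟨m', i', j', l', hbb⟩ := D.exists_e (sq_mem D B)
  obtain ⟨n2, i2, j2, hcb⟩ := comm_d D B
  obtain ⟨m0, i0, j0, l0, h0, hm0, hl0, hi0⟩ := conj_φ D B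
  rw [hbb, D.e_inv, D.e_mul, D.mem_U] at t1
  obtain ⟨t1m, t1i⟩ := t1
  have hm' : 2 ∣ m' := by
    have : m' = 2 ^ (k - 1) * n - (-m' + 2 ^ (k - 1) * n) := by ring
    rw [this]; exact dvd_sub (Dvd.dvd.mul_right hk2 n) t1m
  -- `b` fixes `b²`
  have hi' : 2 ∣ i' := by
    have e1 : b * (b * b) * b⁻¹ = b * b := by group
    rw [hbb, act_e D B h0, D.e_eq] at e1
    obtain ⟨-, -, h1, -⟩ := e1
    have : i' = (j0 * m' + 1 * i' + j' - j') - j0 * m' := by ring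
    rw [this]; exact dvd_sub h1 (Dvd.dvd.mul_left hm' j0)
  have hi : 2 ∣ i := by
    have : i = (-i' + i) + i' := by ring
    rw [this]; exact dvd_add t1i hi'
  have hi2 : 2 ∣ i2 := by
    have e1 : (d * b * d⁻¹)⁻¹ * (b * e φ x z v (2 ^ (k - 1) * n) i j 0) =
        e φ x z v (-(2 ^ (k - 1) * n2) + 2 ^ (k - 1) * n) (-i2 + i) (-j2 + j) (-0 + 0) := by
      rw [hcb, mul_inv_rev, mul_assoc, inv_mul_cancel_left, D.e_inv, D.e_mul]
    rw [e1, D.mem_U] at t2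
    have : i2 = i - (-i2 + i) := by ring
    rw [this]; exact dvd_sub hi t2.2
  have hl' : 2 ∣ l' := by
    obtain ⟨-, h1⟩ := comm_sq D B hcb hbb
    have : l' = i2 + 2 * j2 - (1 * i2 + 2 * j2 - l') := by ring
    rw [this]
    exact dvd_sub (dvd_add hi2 (Dvd.intro _ rfl)) h1
  refine rank_five hr D B (by norm_num) (Dvd.dvd.mul_right hk2 γ) (Dvd.dvd.mul_right hk2 γ) ?_ hcb
    (Dvd.dvd.mul_right hk2 n2) hi2
  rw [hbb, D.mem_N]
  exact ⟨hm', hi', hl'⟩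

/-- **`k = 1`, `v^g = v`: `[g, d] ∈ h⟨z⟩`** -/
theorem exists_of_one [Finite L] (hr : R4 L) (D : Data x h z v d ρ φ C 1)
    (A : Act φ x h z v 1 g 1 0 0) : ∃ j : ℤ, d * g * d⁻¹ = g * (h * z ^ j) := by
  obtain ⟨n, i, j, hc⟩ := comm_d D A
  obtain ⟨t1, -⟩ := core_U D A (Or.inl rfl) (D.e_mem _ _ _ _) hc
  have B := act_b D A
  set b := (ρ * g * ρ⁻¹) * (ρ⁻¹ * g * ρ) with hb
  -- `t = g b ∈ C`
  have htC : g * b ∈ C := by
    have T := Act.mul D A B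
    apply mem_of_triv D
    · rw [T.yx]
      refine Eq.trans ?_ (Data.x_eq φ x z v).symm
      rw [D.e_eq]
      exact ⟨⟨0, by ring⟩, ⟨0, by ring⟩, ⟨1, by ring⟩, ⟨0, by ring⟩⟩
    · exact T.yh
    · exact T.yz
    · rw [T.yv]
      refine Eq.trans ?_ (Data.v_eq φ x z v).symm
      rw [D.e_eq]
      exact ⟨⟨0, by ring⟩, ⟨0, by ring⟩, ⟨0, by ring⟩, ⟨0, by ring⟩⟩
  obtain ⟨m, i1, j1, l1, ht⟩ := D.exists_e htC
  obtain ⟨m', i', j', l', hgg⟩ := D.exists_e (sq_mem D A)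
  have hq : ∀ a i j l : ℤ, g * e φ x z v a i j l * g⁻¹ = e φ x z v a i (i + j) l := by
    intro a i j l
    have h1 := act_q D A a i j l
    have e1 : (2 : ℤ) ^ (1 - 1) * a = a := by simp
    have e2 : (2 : ℤ) ^ (1 - 1) * (a + 0 * i + 0 * l) = a := by simp
    have e3 : (1 : ℤ) * i + j = i + j := by ring
    rw [e1, e2, e3] at h1
    exact h1
  have hbb : b * b = (g * g)⁻¹ * ((g * (g * b) * g⁻¹) * (g * b)) := by group
  rw [hbb, ht, hq, hgg, D.e_mul, D.e_inv, D.e_mul, D.e_inv, D.e_mul, D.mem_U] at t1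
  have e0 : (2 : ℤ) ^ (1 - 1) * n = n := by simp
  rw [e0] at t1 hc
  obtain ⟨⟨a1, ha1⟩, ⟨a2, ha2⟩⟩ := t1
  have hi' : 2 ∣ i' := by
    have e1 : g * (g * g) * g⁻¹ = g * g := by group
    rw [hgg, hq, D.e_eq] at e1
    obtain ⟨-, -, h1, -⟩ := e1
    have : i' = i' + j' - j' := by ring
    rw [this]; exact h1
  have hi : 2 ∣ i := by
    obtain ⟨a, ha⟩ := hi'
    exact ⟨a2 + i1 - a, by linarith⟩
  by_cases hn : 2 ∣ n
  · exfalso
    have hc' : d * g * d⁻¹ = g * e φ x z v (2 ^ (1 - 1) * n) i j 0 := by rw [e0]; exact hc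
    have hm' : 2 ∣ m' := by
      obtain ⟨a, ha⟩ := hn
      exact ⟨a1 + m - a, by linarith⟩
    have hl' : 2 ∣ l' := by
      obtain ⟨-, h1⟩ := comm_sq D A hc' hgg
      have : l' = i + 2 * j - (1 * i + 2 * j - l') := by ring
      rw [this]
      exact dvd_sub (dvd_add hi (Dvd.intro _ rfl)) h1
    refine rank_five hr D A (by norm_num) (by simp) (by simp) ?_ hc' (by rw [e0]; exact hn) hi
    rw [hgg, D.mem_N]
    exact ⟨hm', hi', hl'⟩
  · refine ⟨j, ?_⟩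
    rw [hc]
    congr 1
    have e1 : h * z ^ j = e φ x z v 1 0 j 0 := by
      rw [D.h_eq]
      have : z ^ j = e φ x z v 0 0 j 0 := by simp [e]
      rw [this, D.e_mul]; simp
    rw [e1, D.e_eq]
    have h1 : Odd n := by
      rw [← Int.not_even_iff_odd, even_iff_two_dvd]; exact hn
    obtain ⟨a, ha⟩ := h1
    refine ⟨⟨a, by rw [ha]; ring⟩, ?_, ⟨0, by ring⟩, ⟨0, by ring⟩⟩
    rw [sub_zero]; exact hi

end Act

end Cfsg.Agent.GH.L2QTwo.MInF
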