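import Mathlib

/-!
# GH-L2, `|Q| = 2`, configuration (M-in-f): the structure of `L = N_G(F)/O(C_G(F))`

`F = ⟨x, f⟩ × ⟨z, v⟩`, `C = C_L(F)`, `d` a reflection with `v^d = zv`, `ρ` of odd order centralising `x, f`,
`ρ : z → v → zv`.
-/

set_option autoImplicit false

open Subgroup

namespace Cfsg.Agent.GH.L2QTwo.MInF

/-- The structure of `L = N_G(F)/O(C_G(F))`. -/
structure Pre {L : Type*} [Group L] (x f z v d ρ φ : L) (C : Subgroup L) : Prop where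
  xx : x * x = 1
  ff : f * f = 1
  zz : z * z = 1
  vv : v * v = 1
  dd : d * d = 1
  xC : x ∈ C
  fC : f ∈ C
  zC : z ∈ C
  vC : v ∈ C
  φC : φ ∈ C
  comm : ∀ a ∈ C, ∀ b ∈ C, a * b = b * a
  cent : ∀ y, y * x = x * y → y * f = f * y → y * z = z * y → y * v = v * y → y ∈ C
  gen : ∀ a ∈ C, ∃ m i j l : ℕ, a = φ ^ m * (x ^ i * (z ^ j * v ^ l))
  two : ∃ n : ℕ, φ ^ 2 ^ n = 1
  indep : ∀ i j l m : ℕ, x ^ i * (z ^ j * (v ^ l * f ^ m)) = 1 → Even i ∧ Even j ∧ Even l ∧ Even m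
  dx : d * x = x * d
  df : d * f = f * d
  dz : d * z = z * d
  dv : d * v * d⁻¹ = z * v
  dC : ∀ a ∈ C, ∃ i j : ℕ, d * a * d⁻¹ = a * (z ^ i * v ^ j)
  rx : ρ * x = x * ρ
  rf : ρ * f = f * ρ
  rz : ρ * z * ρ⁻¹ = v
  rv : ρ * v * ρ⁻¹ = z * v
  rodd : ∃ n : ℕ, Odd n ∧ ρ ^ n = 1

end Cfsg.Agent.GH.L2QTwo.MInF
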