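import Cfsg.Agent.GH.L2QTwo.MInFData

/-!
# GH-L2, `|Q| = 2`, configuration (M-in-f): from `Pre` to `Data`
-/

set_option autoImplicit false
set_option linter.unusedVariables false
set_option linter.unusedSimpArgs false

open Subgroup

namespace Cfsg.Agent.GH.L2QTwo.MInF

variable {L : Type*} [Group L]

namespace Pre

variable {x f z v d ρ φ : L} {C : Subgroup L}

theorem conj_C (P : Pre x f z v d ρ φ C) {y : L} (h1 : y⁻¹ * x * y ∈ C) (h2 : y⁻¹ * f * y ∈ C)
    (h3 : y⁻¹ * z * y ∈ C) (h4 : y⁻¹ * v * y ∈ C) {c : L} (hc : c ∈ C) : y * c * y⁻¹ ∈ C := by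
  have key : ∀ u : L, y⁻¹ * u * y ∈ C → y * c * y⁻¹ * u = u * (y * c * y⁻¹) := by
    intro u hu
    have := P.comm _ hc _ hu
    calc y * c * y⁻¹ * u = y * (c * (y⁻¹ * u * y)) * y⁻¹ := by group
      _ = y * ((y⁻¹ * u * y) * c) * y⁻¹ := by rw [this]
      _ = u * (y * c * y⁻¹) := by group
  exact P.cent _ (key x h1) (key f h2) (key z h3) (key v h4)

theorem zv (P : Pre x f z v d ρ φ C) : z * v = v * z := P.comm _ P.zC _ P.vC

/-- the four-group `⟨z, v⟩` -/
def V (P : Pre x f z v d ρ φ C) : Subgroup L where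
  carrier := {u | u = 1 ∨ u = z ∨ u = v ∨ u = z * v}
  one_mem' := Or.inl rfl
  mul_mem' := by
    have e0 : v * z = z * v := P.zv.symm
    have e1 : z * (z * v) = v := by rw [← mul_assoc, P.zz, one_mul]
    have e2 : v * (z * v) = z := by rw [← mul_assoc, e0, mul_assoc, P.vv, mul_one]
    have e3 : z * v * z = v := by rw [mul_assoc, e0, e1]
    have e4 : z * v * v = z := by rw [mul_assoc, P.vv, mul_one]
    have e5 : z * v * (z * v) = 1 := by rw [mul_assoc, e2, P.zz]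
    rintro a b (ha | ha | ha | ha) (hb | hb | hb | hb) <;> subst ha <;> subst hb <;>
      simp [P.zz, P.vv, e0, e1, e2, e3, e4, e5]
  inv_mem' := by
    have hz : z⁻¹ = z := inv_eq_of_mul_eq_one_right P.zz
    have hv : v⁻¹ = v := inv_eq_of_mul_eq_one_right P.vv
    rintro a (ha | ha | ha | ha) <;> subst ha
    · simp
    · right; left; exact hz
    · right; right; left; exact hv
    · right; right; right
      rw [mul_inv_rev, hz, hv, P.zv]

theorem mem_V (P : Pre x f z v d ρ φ C) {u : L} : u ∈ P.V ↔ u = 1 ∨ u = z ∨ u = v ∨ u = z * v := Iff.rfl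

theorem V_le (P : Pre x f z v d ρ φ C) : P.V ≤ C := by
  rintro a (ha | ha | ha | ha) <;> subst ha
  · exact C.one_mem
  · exact P.zC
  · exact P.vC
  · exact C.mul_mem P.zC P.vC

theorem pow_mem_V (P : Pre x f z v d ρ φ C) (i j : ℕ) : z ^ i * v ^ j ∈ P.V :=
  P.V.mul_mem (P.V.pow_mem (Or.inr (Or.inl rfl)) _) (P.V.pow_mem (Or.inr (Or.inr (Or.inl rfl))) _)

theorem rzv (P : Pre x f z v d ρ φ C) : ρ * (z * v) * ρ⁻¹ = z := by
  have : ρ * (z * v) * ρ⁻¹ = (ρ * z * ρ⁻¹) * (ρ * v * ρ⁻¹) := by group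
  rw [this, P.rz, P.rv, P.zv, ← mul_assoc, P.vv, one_mul]

theorem conj_V (P : Pre x f z v d ρ φ C) {u : L} (hu : u ∈ P.V) : ρ * u * ρ⁻¹ ∈ P.V := by
  rcases hu with h | h | h | h <;> subst h
  · rw [mul_one, mul_inv_cancel]; exact Or.inl rfl
  · rw [P.rz]; exact Or.inr (Or.inr (Or.inl rfl))
  · rw [P.rv]; exact Or.inr (Or.inr (Or.inr rfl))
  · rw [P.rzv]; exact Or.inr (Or.inl rfl)

theorem rx' (P : Pre x f z v d ρ φ C) : ρ⁻¹ * x * ρ = x := by
  rw [mul_assoc, ← P.rx, inv_mul_cancel_left]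

theorem rf' (P : Pre x f z v d ρ φ C) : ρ⁻¹ * f * ρ = f := by
  rw [mul_assoc, ← P.rf, inv_mul_cancel_left]

theorem rz' (P : Pre x f z v d ρ φ C) : ρ⁻¹ * z * ρ = z * v := by
  nth_rewrite 1 [← P.rzv]; group

theorem rv' (P : Pre x f z v d ρ φ C) : ρ⁻¹ * v * ρ = z := by
  nth_rewrite 1 [← P.rz]; group

theorem r_C (P : Pre x f z v d ρ φ C) {c : L} (hc : c ∈ C) : ρ * c * ρ⁻¹ ∈ C := by
  apply P.conj_C _ _ _ _ hc
  · rw [P.rx']; exact P.xC
  · rw [P.rf']; exact P.fC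
  · rw [P.rz']; exact C.mul_mem P.zC P.vC
  · rw [P.rv']; exact P.zC

theorem r_C' (P : Pre x f z v d ρ φ C) {c : L} (hc : c ∈ C) : ρ⁻¹ * c * ρ ∈ C := by
  have h1 := P.conj_C (y := ρ⁻¹) (c := c) (by
      rw [inv_inv, P.rx, mul_inv_cancel_right]; exact P.xC) (by
      rw [inv_inv, P.rf, mul_inv_cancel_right]; exact P.fC) (by
      rw [inv_inv, P.rz]; exact P.vC) (by
      rw [inv_inv, P.rv]; exact C.mul_mem P.zC P.vC) hc
  rwa [inv_inv] at h1

theorem dinv (P : Pre x f z v d ρ φ C) : d⁻¹ = d := inv_eq_of_mul_eq_one_right P.dd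

theorem dzv (P : Pre x f z v d ρ φ C) : d * (z * v) * d⁻¹ = v := by
  have : d * (z * v) * d⁻¹ = (d * z * d⁻¹) * (d * v * d⁻¹) := by group
  rw [this, P.dz, P.dv, mul_inv_cancel_right, ← mul_assoc, P.zz, one_mul]

/-- `ρ d ρ d⁻¹ ∈ C` -/
theorem rdrd (P : Pre x f z v d ρ φ C) : ρ * (d * ρ * d⁻¹) ∈ C := by
  have key : ∀ u w : L, d * u * d⁻¹ = w → ∀ a, ρ * u * ρ⁻¹ = a → ∀ b, d * a * d⁻¹ = b →
      ρ * b * ρ⁻¹ = w → ρ * (d * ρ * d⁻¹) * w = w * (ρ * (d * ρ * d⁻¹)) := by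
    intro u w h1 a h2 b h3 h4
    have h5 : ρ * (d * ρ * d⁻¹) * w * (ρ * (d * ρ * d⁻¹))⁻¹ = w := by
      calc ρ * (d * ρ * d⁻¹) * w * (ρ * (d * ρ * d⁻¹))⁻¹ =
          ρ * (d * (ρ * (d⁻¹ * w * d) * ρ⁻¹) * d⁻¹) * ρ⁻¹ := by group
        _ = ρ * (d * (ρ * u * ρ⁻¹) * d⁻¹) * ρ⁻¹ := by
            have : d⁻¹ * w * d = u := by rw [← h1]; group
            rw [this]
        _ = w := by rw [h2, h3, h4]
    calc ρ * (d * ρ * d⁻¹) * w = (ρ * (d * ρ * d⁻¹) * w * (ρ * (d * ρ * d⁻¹))⁻¹) *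
          (ρ * (d * ρ * d⁻¹)) := by group
      _ = w * (ρ * (d * ρ * d⁻¹)) := by rw [h5]
  have cx : d * x * d⁻¹ = x := by rw [P.dx, mul_inv_cancel_right]
  have cf : d * f * d⁻¹ = f := by rw [P.df, mul_inv_cancel_right]
  have cz : d * z * d⁻¹ = z := by rw [P.dz, mul_inv_cancel_right]
  have rx : ρ * x * ρ⁻¹ = x := by rw [P.rx, mul_inv_cancel_right]
  have rf : ρ * f * ρ⁻¹ = f := by rw [P.rf, mul_inv_cancel_right]
  apply P.cent
  · exact key x x cx x rx x cx rx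
  · exact key f f cf f rf f cf rf
  · exact key z z cz v P.rz (z * v) P.dv P.rzv
  · exact key (z * v) v P.dzv z P.rzv z cz P.rz

/-- `ρ` acts trivially on `C/V` -/
theorem r_triv (P : Pre x f z v d ρ φ C) {a : L} (ha : a ∈ C) : a⁻¹ * (ρ * a * ρ⁻¹) ∈ P.V := by
  -- `ρ²` acts trivially
  have h2 : ∀ b ∈ C, b⁻¹ * (ρ * (ρ * b * ρ⁻¹) * ρ⁻¹) ∈ P.V := by
    intro b hb
    obtain ⟨i, j, hij⟩ := P.dC b hb
    obtain ⟨i', j', hij'⟩ := P.dC _ (P.r_C hb)
    set c' := ρ * (d * ρ * d⁻¹) with hc'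
    have hc'C : c' ∈ C := P.rdrd
    have e1 : d * (ρ * b * ρ⁻¹) * d⁻¹ = ρ⁻¹ * (d * b * d⁻¹) * ρ := by
      have h3 : c' * (d * b * d⁻¹) = (d * b * d⁻¹) * c' := by
        apply P.comm _ hc'C
        rw [hij]; exact C.mul_mem hb (P.V_le (P.pow_mem_V i j))
      calc d * (ρ * b * ρ⁻¹) * d⁻¹ = ρ⁻¹ * (c' * (d * b * d⁻¹)) * c'⁻¹ * ρ := by rw [hc']; group
        _ = ρ⁻¹ * (d * b * d⁻¹) * ρ := by rw [h3]; group
    have e2 : ρ * b * ρ⁻¹ * (z ^ i' * v ^ j') = ρ⁻¹ * b * ρ * (ρ⁻¹ * (z ^ i * v ^ j) * ρ) := by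
      rw [← hij', e1, hij]; group
    have e3 : (ρ⁻¹ * b * ρ)⁻¹ * (ρ * b * ρ⁻¹) = ρ⁻¹ * (z ^ i * v ^ j) * ρ * (z ^ i' * v ^ j')⁻¹ := by
      rw [eq_mul_inv_iff_mul_eq, mul_assoc, e2]; group
    have e4 : b⁻¹ * (ρ * (ρ * b * ρ⁻¹) * ρ⁻¹) = ρ * ((ρ⁻¹ * b * ρ)⁻¹ * (ρ * b * ρ⁻¹)) * ρ⁻¹ := by
      group
    rw [e4, e3]
    have e5 : ρ * (ρ⁻¹ * (z ^ i * v ^ j) * ρ * (z ^ i' * v ^ j')⁻¹) * ρ⁻¹ =
        (z ^ i * v ^ j) * (ρ * (z ^ i' * v ^ j')⁻¹ * ρ⁻¹) := by group
    rw [e5]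
    exact P.V.mul_mem (P.pow_mem_V _ _) (P.conj_V (P.V.inv_mem (P.pow_mem_V _ _)))
  have hpow : ∀ m : ℕ, ρ ^ m * a * (ρ ^ m)⁻¹ ∈ C := by
    intro m
    induction m with
    | zero => simpa using ha
    | succ m ih =>
      have : ρ ^ (m + 1) * a * (ρ ^ (m + 1))⁻¹ = ρ * (ρ ^ m * a * (ρ ^ m)⁻¹) * ρ⁻¹ := by
        rw [pow_succ']; group
      rw [this]; exact P.r_C ih
  have h3 : ∀ m : ℕ, a⁻¹ * (ρ ^ (2 * m) * a * (ρ ^ (2 * m))⁻¹) ∈ P.V := by
    intro m
    induction m with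
    | zero => simp only [mul_zero, pow_zero, one_mul, inv_one, mul_one, inv_mul_cancel]; exact P.V.one_mem
    | succ m ih =>
      have h4 := h2 _ (hpow (2 * m))
      have e1 : a⁻¹ * (ρ ^ (2 * (m + 1)) * a * (ρ ^ (2 * (m + 1)))⁻¹) =
          a⁻¹ * (ρ ^ (2 * m) * a * (ρ ^ (2 * m))⁻¹) * ((ρ ^ (2 * m) * a * (ρ ^ (2 * m))⁻¹)⁻¹ *
            (ρ * (ρ * (ρ ^ (2 * m) * a * (ρ ^ (2 * m))⁻¹) * ρ⁻¹) * ρ⁻¹)) := by
        rw [mul_add, mul_one, add_comm, pow_add, pow_two]; group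
      rw [e1]
      exact P.V.mul_mem ih h4
  obtain ⟨n, ⟨m, hm⟩, hn⟩ := P.rodd
  have h4 := h3 m
  have h5 : ρ ^ (2 * m) = ρ⁻¹ := by
    apply eq_inv_of_mul_eq_one_left
    rw [← pow_succ, ← hm, hn]
  rw [h5, inv_inv] at h4
  have h6 := P.V.inv_mem (P.conj_V h4)
  have e1 : (ρ * (a⁻¹ * (ρ⁻¹ * a * ρ)) * ρ⁻¹)⁻¹ = a⁻¹ * (ρ * a * ρ⁻¹) := by group
  rwa [e1] at h6

/-- a generator of `C` modulo `⟨x⟩V` centralised by `ρ` and `d` -/
theorem exists_phi (P : Pre x f z v d ρ φ C) : ∃ φ', Pre x f z v d ρ φ' C ∧ ρ * φ' = φ' * ρ ∧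
    d * φ' = φ' * d := by
  have h1 : ∃ w ∈ P.V, ρ * (φ * w) * ρ⁻¹ = φ * w := by
    have key : ∀ u w : L, φ⁻¹ * (ρ * φ * ρ⁻¹) = u → u * (ρ * w * ρ⁻¹) = w →
        ρ * (φ * w) * ρ⁻¹ = φ * w := by
      intro u w h1 h2
      calc ρ * (φ * w) * ρ⁻¹ = φ * (φ⁻¹ * (ρ * φ * ρ⁻¹) * (ρ * w * ρ⁻¹)) := by group
        _ = φ * w := by rw [h1, h2]
    rcases P.r_triv P.φC with h | h | h | h
    · exact ⟨1, Or.inl rfl, key _ _ h (by group)⟩
    · exact ⟨v, Or.inr (Or.inr (Or.inl rfl)), key _ _ h (by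
        rw [P.rv, ← mul_assoc, P.zz, one_mul])⟩
    · exact ⟨z * v, Or.inr (Or.inr (Or.inr rfl)), key _ _ h (by rw [P.rzv, P.zv])⟩
    · exact ⟨z, Or.inr (Or.inl rfl), key _ _ h (by rw [P.rz, mul_assoc, P.vv, mul_one])⟩
  obtain ⟨w, hw, h1⟩ := h1
  have hwC := P.V_le hw
  have hww : w * w = 1 := by
    rcases hw with h | h | h | h <;> subst h
    · exact one_mul 1
    · exact P.zz
    · exact P.vv
    · calc z * v * (z * v) = z * (v * z) * v := by group
        _ = (z * z) * (v * v) := by rw [← P.zv]; group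
        _ = 1 := by rw [P.zz, P.vv, one_mul]
  have hφw : φ * w = w * φ := P.comm _ P.φC _ hwC
  have cφ : Commute φ w := hφw
  have h2 : ρ * (φ * w) = φ * w * ρ := by
    calc ρ * (φ * w) = (ρ * (φ * w) * ρ⁻¹) * ρ := by group
      _ = φ * w * ρ := by rw [h1]
  have hP : Pre x f z v d ρ (φ * w) C :=
    { P with
      φC := C.mul_mem P.φC hwC
      gen := by
        intro a ha
        obtain ⟨m, i, j, l, hm⟩ := P.gen a ha
        have e1 : φ ^ m = (φ * w) ^ m * w ^ m := by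
          rw [cφ.mul_pow, mul_assoc, ← (Commute.refl w).mul_pow, hww, one_pow, mul_one]
        have hwm : w ^ m ∈ P.V := P.V.pow_mem hw m
        have e2 : ∃ i' j' : ℕ, w ^ m = z ^ i' * v ^ j' := by
          rcases hwm with h | h | h | h
          · exact ⟨0, 0, by rw [h]; simp⟩
          · exact ⟨1, 0, by rw [h]; simp⟩
          · exact ⟨0, 1, by rw [h]; simp⟩
          · exact ⟨1, 1, by rw [h]; simp⟩
        obtain ⟨i', j', e2⟩ := e2
        refine ⟨m, i, i' + j, j' + l, ?_⟩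
        rw [hm, e1, e2]
        have c1 : Commute x z := P.comm _ P.xC _ P.zC
        have c2 : Commute x v := P.comm _ P.xC _ P.vC
        have c3 : Commute z v := P.zv
        have e3 : z ^ i' * v ^ j' * (x ^ i * (z ^ j * v ^ l)) = x ^ i * (z ^ (i' + j) * v ^ (j' + l)) := by
          have d1 : Commute (z ^ i' * v ^ j') (x ^ i) :=
            ((c1.pow_pow i i').symm).mul_left ((c2.pow_pow i j').symm)
          rw [← mul_assoc, d1.eq, mul_assoc]
          congr 1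
          rw [((c3.pow_pow j j').symm : Commute (v ^ j') (z ^ j)).mul_mul_mul_comm, pow_add, pow_add]
        rw [mul_assoc, e3]
      two := by
        obtain ⟨n, hn⟩ := P.two
        refine ⟨n + 1, ?_⟩
        rw [cφ.mul_pow, pow_succ, pow_mul, hn, one_pow, one_mul, mul_comm, pow_mul, pow_two, hww, one_pow] }
  refine ⟨φ * w, hP, h2, ?_⟩
  -- `d`
  obtain ⟨i, j, hij⟩ := P.dC _ hP.φC
  set u := z ^ i * v ^ j with hu
  have huV : u ∈ P.V := P.pow_mem_V i j
  set c' := ρ * (d * ρ * d⁻¹) with hc'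
  have hc'C : c' ∈ C := P.rdrd
  have hdC : d * (φ * w) * d⁻¹ ∈ C := by rw [hij]; exact C.mul_mem hP.φC (P.V_le huV)
  have e1 : ρ⁻¹ * (d * (φ * w) * d⁻¹) * ρ = d * (φ * w) * d⁻¹ := by
    have h3 : c' * (d * (φ * w) * d⁻¹) = (d * (φ * w) * d⁻¹) * c' := P.comm _ hc'C _ hdC
    calc ρ⁻¹ * (d * (φ * w) * d⁻¹) * ρ = ρ⁻¹ * ((d * (φ * w) * d⁻¹) * c') * c'⁻¹ * ρ := by group
      _ = ρ⁻¹ * (c' * (d * (φ * w) * d⁻¹)) * c'⁻¹ * ρ := by rw [h3]
      _ = d * (ρ * (φ * w) * ρ⁻¹) * d⁻¹ := by rw [hc']; group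
      _ = d * (φ * w) * d⁻¹ := by rw [h1]
  rw [hij] at e1
  have e2 : ρ⁻¹ * (φ * w * u) * ρ = (φ * w) * (ρ⁻¹ * u * ρ) := by
    have : ρ⁻¹ * (φ * w * u) * ρ = (ρ⁻¹ * (φ * w * ρ)) * (ρ⁻¹ * u * ρ) := by group
    rw [this, ← h2, inv_mul_cancel_left]
  rw [e2] at e1
  have e3 : ρ⁻¹ * u * ρ = u := mul_left_cancel e1
  have hz1 : z ≠ 1 := by
    intro h
    have := (P.indep 0 1 0 0 (by rw [h]; simp)).2.1
    exact absurd this (by decide)
  have hv1 : v ≠ 1 := by
    intro h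
    have := (P.indep 0 0 1 0 (by rw [h]; simp)).2.2.1
    exact absurd this (by decide)
  have hu1 : u = 1 := by
    rcases huV with h | h | h | h
    · exact h
    · rw [h, P.rz'] at e3
      exact absurd (mul_left_cancel (a := z) (by rw [e3, mul_one])) hv1
    · rw [h, P.rv'] at e3
      exfalso
      have := (P.indep 0 1 1 0 (by rw [e3]; simp [P.vv])).2.1
      exact absurd this (by decide)
    · rw [h] at e3
      have e4 : ρ⁻¹ * (z * v) * ρ = v := by
        have : ρ⁻¹ * (z * v) * ρ = (ρ⁻¹ * z * ρ) * (ρ⁻¹ * v * ρ) := by group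
        rw [this, P.rz', P.rv', P.zv, mul_assoc, P.zz, mul_one]
      rw [e4] at e3
      exact absurd (mul_right_cancel (b := v) (by rw [one_mul, ← e3])) hz1
  rw [hu1, mul_one] at hij
  calc d * (φ * w) = (d * (φ * w) * d⁻¹) * d := by group
    _ = φ * w * d := by rw [hij]

theorem zpow_natAbs {y : L} (hy : y * y = 1) (i : ℤ) : y ^ i = y ^ i.natAbs := by
  have hi : y⁻¹ = y := inv_eq_of_mul_eq_one_right hy
  rcases Int.natAbs_eq i with h | h
  · nth_rewrite 1 [h]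
    rw [zpow_natCast]
  · nth_rewrite 1 [h]
    rw [zpow_neg, zpow_natCast, ← inv_pow, hi]

theorem fix_V (P : Pre x f z v d ρ φ C) {u : L} (hu : u ∈ P.V) (h : ρ * u * ρ⁻¹ = u) : u = 1 := by
  rcases hu with h1 | h1 | h1 | h1
  · exact h1
  · exfalso
    rw [h1, P.rz] at h
    have := (P.indep 0 1 1 0 (by rw [h]; simp [P.zz])).2.1
    exact absurd this (by decide)
  · exfalso
    rw [h1, P.rv] at h
    have := (P.indep 0 1 0 0 (by
      have : z = 1 := mul_right_cancel (b := v) (by rw [h, one_mul])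
      rw [this]; simp)).2.1
    exact absurd this (by decide)
  · exfalso
    rw [h1, P.rzv] at h
    have := (P.indep 0 0 1 0 (by
      have : v = 1 := (mul_left_cancel (a := z) (by rw [mul_one]; exact h)).symm
      rw [this]; simp)).2.2.1
    exact absurd this (by decide)

theorem exists_data0 (P : Pre x f z v d ρ φ C) (hr : ρ * φ = φ * ρ) (hd : d * φ = φ * d) :
    ∃ k, 1 ≤ k ∧ (φ ^ 2 ^ (k - 1) = f ∨ φ ^ 2 ^ (k - 1) = x * f) ∧
      Data x (φ ^ 2 ^ (k - 1)) z v d ρ φ C k := by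
  obtain ⟨m, i, j, l, hf⟩ := P.gen f P.fC
  have cxz : Commute x z := P.comm _ P.xC _ P.zC
  have cxv : Commute x v := P.comm _ P.xC _ P.vC
  have cxf : Commute x f := P.comm _ P.xC _ P.fC
  have cφx : Commute φ x := P.comm _ P.φC _ P.xC
  have hu : z ^ j * v ^ l = 1 := by
    apply P.fix_V (P.pow_mem_V j l)
    have e1 : z ^ j * v ^ l = (φ ^ m * x ^ i)⁻¹ * f := by
      rw [eq_inv_mul_iff_mul_eq, mul_assoc]; exact hf.symm
    have e2 : ρ * (φ ^ m * x ^ i) * ρ⁻¹ = φ ^ m * x ^ i := by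
      have c1 : Commute ρ φ := hr
      have c2 : Commute ρ x := P.rx
      have c3 : Commute ρ (φ ^ m * x ^ i) := (c1.pow_right m).mul_right (c2.pow_right i)
      rw [c3.eq, mul_inv_cancel_right]
    calc ρ * (z ^ j * v ^ l) * ρ⁻¹ = (ρ * (φ ^ m * x ^ i) * ρ⁻¹)⁻¹ * (ρ * f * ρ⁻¹) := by rw [e1]; group
      _ = z ^ j * v ^ l := by rw [e2, P.rf, mul_inv_cancel_right, e1]
  rw [hu, mul_one] at hf
  -- `a = φ^m` is `f` or `x f`
  have ha : φ ^ m = f ∨ φ ^ m = x * f := by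
    rcases Nat.even_or_odd i with ⟨n, hn⟩ | ⟨n, hn⟩
    · left
      rw [hf, hn, ← two_mul, pow_mul, pow_two, P.xx, one_pow, mul_one]
    · right
      rw [hf, hn, pow_succ, pow_mul, pow_two, P.xx, one_pow, one_mul, (cφx.pow_left m).eq, ← mul_assoc,
        P.xx, one_mul]
  have f1 : f ≠ 1 := by
    intro h
    have := (P.indep 0 0 0 1 (by rw [h]; simp)).2.2.2
    exact absurd this (by decide)
  have xf1 : x * f ≠ 1 := by
    intro h
    have := (P.indep 1 0 0 1 (by simpa using h)).1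
    exact absurd this (by decide)
  have ha2 : φ ^ (2 * m) = 1 := by
    rw [two_mul, pow_add]
    rcases ha with h | h <;> rw [h]
    · exact P.ff
    · rw [cxf.symm.mul_mul_mul_comm, P.xx, P.ff, one_mul]
  have ha1 : φ ^ m ≠ 1 := by
    rcases ha with h | h <;> rw [h]
    · exact f1
    · exact xf1
  obtain ⟨n, hn⟩ := P.two
  obtain ⟨k, -, hk⟩ := (Nat.dvd_prime_pow Nat.prime_two).1 (orderOf_dvd_of_pow_eq_one hn)
  have hk1 : 1 ≤ k := by
    by_contra hk0
    have : k = 0 := by omega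
    rw [this, pow_zero, orderOf_eq_one_iff] at hk
    exact ha1 (by rw [hk, one_pow])
  obtain ⟨t, ht⟩ : 2 ^ k ∣ 2 * m := by rw [← hk]; exact orderOf_dvd_of_pow_eq_one ha2
  have hkk : (2 : ℕ) ^ k = 2 * 2 ^ (k - 1) := by
    rw [← pow_succ']; congr 1; omega
  have hm : m = 2 ^ (k - 1) * t := by
    rw [hkk, mul_assoc] at ht
    exact Nat.eq_of_mul_eq_mul_left (by norm_num) ht
  have hφk : φ ^ 2 ^ k = 1 := by rw [← hk]; exact pow_orderOf_eq_one φ
  have hodd : Odd t := by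
    by_contra h
    rw [Nat.not_odd_iff_even] at h
    obtain ⟨s, hs⟩ := h
    apply ha1
    rw [hm, hs, ← two_mul, ← mul_assoc, mul_comm (2 ^ (k - 1)) 2, ← hkk, pow_mul, hφk, one_pow]
  have hsq : φ ^ 2 ^ (k - 1) * φ ^ 2 ^ (k - 1) = 1 := by
    rw [← pow_add, ← two_mul, ← hkk, hφk]
  have hφm : φ ^ m = φ ^ 2 ^ (k - 1) := by
    obtain ⟨s, hs⟩ := hodd
    rw [hm, pow_mul, hs, pow_succ, pow_mul, pow_two, hsq, one_pow, one_mul]
  rw [hφm] at ha
  refine ⟨k, hk1, ha, ?_⟩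
  set h := φ ^ 2 ^ (k - 1) with hh
  have hkkz : (2 : ℤ) ^ k = 2 * 2 ^ (k - 1) := by exact_mod_cast hkk
  exact
    { hk := hk1
      xx := P.xx
      zz := P.zz
      vv := P.vv
      dd := P.dd
      hφ := rfl
      φk := hφk
      xC := P.xC
      zC := P.zC
      vC := P.vC
      φC := P.φC
      comm := P.comm
      cent := by
        intro y hx hh' hz hv
        refine P.cent y hx ?_ hz hv
        rcases ha with h1 | h1
        · rw [← h1]; exact hh'
        · have e1 : f = x * h := by rw [h1, ← mul_assoc, P.xx, one_mul]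
          rw [e1, ← mul_assoc, hx, mul_assoc, hh', mul_assoc]
      gen := by
        intro a ha
        obtain ⟨m, i, j, l, h1⟩ := P.gen a ha
        exact ⟨m, i, j, l, by rw [h1]; simp only [zpow_natCast]⟩
      inj := by
        intro m i j l h1
        have cC : ∀ n p q r : ℤ, φ ^ n * (x ^ p * (z ^ q * v ^ r)) ∈ C := fun n p q r =>
          C.mul_mem (C.zpow_mem P.φC _) (C.mul_mem (C.zpow_mem P.xC _)
            (C.mul_mem (C.zpow_mem P.zC _) (C.zpow_mem P.vC _)))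
        have hwC : x ^ i * (z ^ j * v ^ l) ∈ C := by
          have := cC 0 i j l
          rwa [zpow_zero, one_mul] at this
        have sq : ∀ y : L, y * y = 1 → ∀ n : ℤ, y ^ n * y ^ n = 1 := by
          intro y hy n
          rw [← (Commute.refl y).mul_zpow, hy, one_zpow]
        have czv : Commute z v := P.zv
        have hw2 : x ^ i * (z ^ j * v ^ l) * (x ^ i * (z ^ j * v ^ l)) = 1 := by
          have c1 : Commute (z ^ j * v ^ l) (x ^ i) :=
            ((cxz.zpow_zpow i j).symm).mul_left ((cxv.zpow_zpow i l).symm)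
          rw [c1.mul_mul_mul_comm, ((czv.zpow_zpow j l).symm).mul_mul_mul_comm, sq x P.xx, sq z P.zz,
            sq v P.vv, one_mul, one_mul]
        have hφ2 : φ ^ (m + m) = 1 := by
          have c1 : Commute (φ ^ m) (x ^ i * (z ^ j * v ^ l)) := P.comm _ (C.zpow_mem P.φC _) _ hwC
          have h2 : φ ^ m * (x ^ i * (z ^ j * v ^ l)) * (φ ^ m * (x ^ i * (z ^ j * v ^ l))) = 1 := by
            rw [h1, one_mul]
          rw [c1.symm.mul_mul_mul_comm, hw2, mul_one] at h2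
          rw [zpow_add, h2]
        obtain ⟨t, ht⟩ : (2 : ℤ) ^ k ∣ m + m := by
          have := orderOf_dvd_iff_zpow_eq_one.2 hφ2
          rw [hk] at this
          exact_mod_cast this
        have hm : m = 2 ^ (k - 1) * t := by rw [hkkz] at ht; linarith
        have hh1 : φ ^ m = h ^ t := by
          rw [hm, zpow_mul]
          congr 1
          have : ((2 : ℤ) ^ (k - 1)) = ((2 ^ (k - 1) : ℕ) : ℤ) := by push_cast; rfl
          rw [this, zpow_natCast]
        rw [hh1] at h1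
        -- parity
        have key : ∃ i' : ℤ, (i' = i ∨ i' = i + t) ∧ x ^ i' * (z ^ j * (v ^ l * f ^ t)) = 1 := by
          have cfx : Commute f x := cxf.symm
          have cfz : Commute f z := P.comm _ P.fC _ P.zC
          have cfv : Commute f v := P.comm _ P.fC _ P.vC
          have e1 : f ^ t * (x ^ i * (z ^ j * v ^ l)) = x ^ i * (z ^ j * (v ^ l * f ^ t)) := by
            rw [← mul_assoc, (cfx.zpow_zpow t i).eq, mul_assoc, ← mul_assoc (f ^ t),
              (cfz.zpow_zpow t j).eq, mul_assoc, (cfv.zpow_zpow t l).eq]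
          rcases ha with h2 | h2
          · exact ⟨i, Or.inl rfl, by rw [← e1, ← h2]; exact h1⟩
          · refine ⟨i + t, Or.inr rfl, ?_⟩
            rw [h2, cxf.mul_zpow, mul_assoc, e1, ← mul_assoc, ← zpow_add, add_comm] at h1
            exact h1
        obtain ⟨i', hi', h2⟩ := key
        rw [zpow_natAbs P.xx, zpow_natAbs P.zz, zpow_natAbs P.vv, zpow_natAbs P.ff] at h2
        obtain ⟨a1, a2, a3, a4⟩ := P.indep _ _ _ _ h2
        rw [Int.natAbs_even, even_iff_two_dvd] at a1 a2 a3 a4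
        refine ⟨?_, ?_, a2, a3⟩
        · obtain ⟨s, hs⟩ := a4
          exact ⟨s, by rw [hm, hs, hkkz]; ring⟩
        · rcases hi' with h3 | h3
          · rw [← h3]; exact a1
          · have : i = i' - t := by rw [h3]; ring
            rw [this]; exact dvd_sub a1 a4
      dx := P.dx
      dz := P.dz
      dφ := hd
      dv := P.dv
      rx := P.rx
      rφ := hr
      rz := P.rz
      rv := P.rv }

end Pre

theorem two_pow_even {k : ℕ} (hk : 2 ≤ k) : (2 : ℤ) ∣ 2 ^ (k - 1) := dvd_pow_self 2 (by omega)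

/-- **`Data` for the `h` fixed by `g`.** -/
theorem Pre.exists_data {x f z v d ρ φ : L} {C : Subgroup L} (P : Pre x f z v d ρ φ C) {h w g : L}
    (hh : h = f ∨ h = x * f) (hw : w = 1 ∨ w = h) (gx : g * x * g⁻¹ = x * z) (gh : g * h * g⁻¹ = h)
    (gz : g * z * g⁻¹ = z) (gv : g * v * g⁻¹ = w * v) :
    ∃ (φ' : L) (k : ℕ), Data x h z v d ρ φ' C k := by
  obtain ⟨φ1, P1, hr, hd⟩ := P.exists_phi
  obtain ⟨k, hk, hf, D⟩ := P1.exists_data0 hr hd
  set h0 := φ1 ^ 2 ^ (k - 1) with hh0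
  have cxf : x * f = f * x := P.comm _ P.xC _ P.fC
  by_cases hhh : h0 = h
  · rw [hhh] at D
    exact ⟨φ1, k, D⟩
  have h1 : h0 = x * h := by
    rcases hh with a | a <;> rcases hf with b | b
    · exact absurd (b.trans a.symm) hhh
    · rw [b, a]
    · rw [b, a, ← mul_assoc, P.xx, one_mul]
    · exact absurd (b.trans a.symm) hhh
  have h2 : h = x * h0 := by rw [h1, ← mul_assoc, P.xx, one_mul]
  have cxz : x * z = z * x := P.comm _ P.xC _ P.zC
  have hhC : h ∈ C := by rw [h2]; exact C.mul_mem P.xC D.hC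
  have hhh1 : h * h = 1 := by
    rcases hh with a | a
    · rw [a]; exact P.ff
    · rw [a]
      calc x * f * (x * f) = x * (f * x) * f := by group
        _ = (x * x) * (f * f) := by rw [← cxf]; group
        _ = 1 := by rw [P.xx, P.ff, one_mul]
  by_cases hk2 : 2 ≤ k
  · exfalso
    have hgC : g * φ1 * g⁻¹ ∈ C := by
      have i1 : g⁻¹ * x * g = x * z := by
        have : g * (x * z) * g⁻¹ = x := by
          calc g * (x * z) * g⁻¹ = (g * x * g⁻¹) * (g * z * g⁻¹) := by group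
            _ = x := by rw [gx, gz, mul_assoc, P.zz, mul_one]
        nth_rewrite 1 [← this]; group
      have i2 : g⁻¹ * h * g = h := by nth_rewrite 1 [← gh]; group
      have i3 : g⁻¹ * z * g = z := by nth_rewrite 1 [← gz]; group
      have i4 : g⁻¹ * v * g = w * v := by
        have hww : w * w = 1 := by
          rcases hw with a | a
          · rw [a, one_mul]
          · rw [a]; exact hhh1
        have gw : g * w * g⁻¹ = w := by
          rcases hw with a | a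
          · rw [a]; group
          · rw [a]; exact gh
        have : g * (w * v) * g⁻¹ = v := by
          calc g * (w * v) * g⁻¹ = (g * w * g⁻¹) * (g * v * g⁻¹) := by group
            _ = v := by rw [gw, gv, ← mul_assoc, hww, one_mul]
        nth_rewrite 1 [← this]; group
      apply D.conj_C _ _ _ _ D.φC
      · rw [i1]; exact C.mul_mem P.xC P.zC
      · rw [h1]
        have : g⁻¹ * (x * h) * g = (g⁻¹ * x * g) * (g⁻¹ * h * g) := by group
        rw [this, i1, i2]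
        exact C.mul_mem (C.mul_mem P.xC P.zC) hhC
      · rw [i3]; exact P.zC
      · rw [i4]
        refine C.mul_mem ?_ P.vC
        rcases hw with a | a
        · rw [a]; exact C.one_mem
        · rw [a]; exact hhC
    obtain ⟨m, i, j, l, hm⟩ := D.exists_e hgC
    have e1 : g * h0 * g⁻¹ = e φ1 x z v (m * 2 ^ (k - 1)) (i * 2 ^ (k - 1)) (j * 2 ^ (k - 1))
        (l * 2 ^ (k - 1)) := by
      rw [← D.e_zpow, ← hm, hh0]
      have : ((2 : ℤ) ^ (k - 1)) = ((2 ^ (k - 1) : ℕ) : ℤ) := by push_cast; rfl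
      rw [this, zpow_natCast, conj_pow]
    have e2 : g * h0 * g⁻¹ = e φ1 x z v (2 ^ (k - 1)) 0 1 0 := by
      have : g * h0 * g⁻¹ = h0 * z := by
        rw [h1]
        calc g * (x * h) * g⁻¹ = (g * x * g⁻¹) * (g * h * g⁻¹) := by group
          _ = x * (z * h) := by rw [gx, gh, mul_assoc]
          _ = x * h * z := by rw [P.comm _ P.zC _ hhC, mul_assoc]
      have e3 : h0 = e φ1 x z v (2 ^ (k - 1)) 0 0 0 := D.h_eq
      have e4 : z = e φ1 x z v 0 0 1 0 := Data.z_eq φ1 x z v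
      rw [this]
      nth_rewrite 1 [e3]
      nth_rewrite 2 [e4]
      rw [D.e_mul]
      simp
    rw [e1, D.e_eq] at e2
    obtain ⟨-, -, h3, -⟩ := e2
    have h4 := two_pow_even hk2
    have h5 : (2 : ℤ) ∣ 1 := by
      have : (1 : ℤ) = j * 2 ^ (k - 1) - (j * 2 ^ (k - 1) - 1) := by ring
      rw [this]
      exact dvd_sub (Dvd.dvd.mul_left h4 j) h3
    norm_num at h5
  · have hk1 : k = 1 := by omega
    subst hk1
    have hφ1 : φ1 = x * h := by
      rw [← h1, hh0]; simp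
    have hh2 : h = x * φ1 := by rw [hφ1, ← mul_assoc, P.xx, one_mul]
    have cxφ : Commute x φ1 := D.comm _ D.xC _ D.φC
    have cxh : Commute x h := D.comm _ D.xC _ hhC
    have chz : Commute h z := D.comm _ hhC _ D.zC
    have chv : Commute h v := D.comm _ hhC _ D.vC
    have cxz' : Commute x z := cxz
    have cxv : Commute x v := D.comm _ D.xC _ D.vC
    refine ⟨h, 1, ?_⟩
    exact
      { hk := le_rfl
        xx := D.xx
        zz := D.zz
        vv := D.vv
        dd := D.dd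
        hφ := by simp
        φk := by rw [pow_one, pow_two]; exact hhh1
        xC := D.xC
        zC := D.zC
        vC := D.vC
        φC := hhC
        comm := D.comm
        cent := by
          intro y hx hh' hz hv
          refine D.cent y hx ?_ hz hv
          rw [h1, ← mul_assoc, hx, mul_assoc, hh', mul_assoc]
        gen := by
          intro a ha
          obtain ⟨m, i, j, l, h3⟩ := D.gen a ha
          refine ⟨m, m + i, j, l, ?_⟩
          rw [h3, hφ1, cxh.mul_zpow, zpow_add]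
          rw [(cxh.zpow_zpow m m).eq]
          group
        inj := by
          intro m i j l h3
          have h4 : φ1 ^ m * (x ^ (m + i) * (z ^ j * v ^ l)) = 1 := by
            rw [← h3, hφ1, cxh.mul_zpow, zpow_add]
            have e1 : x ^ m * x ^ m = 1 := by
              rw [← (Commute.refl x).mul_zpow, P.xx, one_zpow]
            calc x ^ m * h ^ m * (x ^ m * x ^ i * (z ^ j * v ^ l)) =
                x ^ m * (h ^ m * x ^ m) * x ^ i * (z ^ j * v ^ l) := by group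
              _ = (x ^ m * x ^ m) * h ^ m * x ^ i * (z ^ j * v ^ l) := by
                  rw [(cxh.symm.zpow_zpow m m).eq]; group
              _ = h ^ m * (x ^ i * (z ^ j * v ^ l)) := by rw [e1]; group
          obtain ⟨a1, a2, a3, a4⟩ := D.inj _ _ _ _ h4
          refine ⟨a1, ?_, a3, a4⟩
          rw [pow_one] at a1
          have : i = (m + i) - m := by ring
          rw [this]
          exact dvd_sub a2 a1
        dx := D.dx
        dz := D.dz
        dφ := by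
          rw [hh2, ← mul_assoc, D.dx, mul_assoc, D.dφ, mul_assoc]
        dv := D.dv
        rx := D.rx
        rφ := by
          rw [hh2, ← mul_assoc, D.rx, mul_assoc, D.rφ, mul_assoc]
        rz := D.rz
        rv := D.rv }

end Cfsg.Agent.GH.L2QTwo.MInF
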