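import Cfsg.Agent.GH.L2QTwo.MQSyl
import Cfsg.Agent.GH.L2QTwo.MFTau
import Cfsg.Agent.GH.L2QTwo.MInFPre

/-!
# GH-L2, `|Q| = 2`, configuration (M-in-f): the quotient `N_G(E)/O`, `O = O(C_G(E))`

`QData F f j O φ ρ`: `O` odd, normalised by `N_G(E)`, `C_G(E) = O C_T(v)`, `φ` generates `C_T(v)` modulo
`⟨x, z, v⟩`, `ρ` of odd order acting on `E` as in `exists_field_rho`.
`exists_QData`; `QData.pre` : `MInF.Pre` for `N_G(E)/O`; `QData.frattini`.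
-/

set_option autoImplicit false
set_option linter.unusedVariables false
set_option linter.unusedSimpArgs false

open Subgroup

namespace Cfsg.Agent.GH.L2QTwo

variable {G A : Type*} [Group G] [Group A]

/-- `H ∪ qH`, `q` an involution normalising `H` -/
def ext2 (H : Subgroup G) (q : G) (hq : q * q = 1) (hn : ∀ h ∈ H, q * h * q⁻¹ ∈ H) : Subgroup G where
  carrier := {y | y ∈ H ∨ q * y ∈ H}
  one_mem' := Or.inl H.one_mem
  mul_mem' := by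
    have qi : q⁻¹ = q := inv_eq_of_mul_eq_one_right hq
    rintro a b (ha | ha) (hb | hb)
    · exact Or.inl (H.mul_mem ha hb)
    · right
      have : q * (a * b) = (q * a * q⁻¹) * (q * b) := by group
      rw [this]; exact H.mul_mem (hn a ha) hb
    · right
      rw [← mul_assoc]; exact H.mul_mem ha hb
    · left
      have h1 := hn _ ha
      have : a * b = (q * (q * a) * q⁻¹) * (q * b) := by
        calc a * b = (q * q) * a * b := by rw [hq, one_mul]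
          _ = (q * (q * a) * q⁻¹) * (q * b) := by group
      rw [this]; exact H.mul_mem h1 hb
  inv_mem' := by
    have qi : q⁻¹ = q := inv_eq_of_mul_eq_one_right hq
    rintro a (ha | ha)
    · exact Or.inl (H.inv_mem ha)
    · right
      have h1 := hn _ (H.inv_mem ha)
      have : q * a⁻¹ = q * (q * a)⁻¹ * q⁻¹ := by
        rw [mul_inv_rev, qi]
        calc q * a⁻¹ = q * a⁻¹ * (q * q) := by rw [hq, mul_one]
          _ = q * (a⁻¹ * q) * q := by group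
      rw [this]; exact h1

theorem mem_ext2 {H : Subgroup G} {q : G} {hq : q * q = 1} {hn : ∀ h ∈ H, q * h * q⁻¹ ∈ H} {y : G} :
    y ∈ ext2 H q hq hn ↔ y ∈ H ∨ q * y ∈ H := Iff.rfl

namespace Frame

variable {x : G} {K T D : Subgroup G} {d : ℕ} {r c : G} {o1 : G → ℤˣ} {o2 : G → A} {f s : G}

/-- The data for the quotient `N_G(E)/O`. -/
structure QData (F : Frame x K T D d r c o1 o2) (f : G) (j : ℤ) (O : Subgroup G) (φ ρ : G) : Prop where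
  odd : Odd (Nat.card O)
  le : ∀ y ∈ O, ∀ m ∈ F.EE j, y * m = m * y
  norm : ∀ g, (∀ m ∈ F.EE j, g * m * g⁻¹ ∈ F.EE j) → ∀ y ∈ O, g * y * g⁻¹ ∈ O
  cover : ∀ y, (∀ m ∈ F.EE j, y * m = m * y) → ∃ o ∈ O, ∃ p ∈ F.CT j, y = o * p
  φ_mem : φ ∈ F.CT j
  φ_gen : ∀ u ∈ F.CT j, ∃ m : ℕ, o2 u = o2 φ ^ m
  ρx : ρ * x * ρ⁻¹ = x
  ρf : ρ * f * ρ⁻¹ = f
  ρz : ρ * r ^ 2 ^ (d - 2) * ρ⁻¹ = r ^ j * c
  ρv : ρ * (r ^ j * c) * ρ⁻¹ = r ^ 2 ^ (d - 2) * (r ^ j * c)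
  ρodd : ∃ n : ℕ, Odd n ∧ ρ ^ n = 1

variable {F : Frame x K T D d r c o1 o2} {j : ℤ} {O : Subgroup G} {φ ρ : G}

theorem cube_of {a b : G} (h1 : ρ * a * ρ⁻¹ = b) (h2 : ρ * b * ρ⁻¹ = a * b) (haa : a * a = 1)
    (hab : a * b = b * a) : ρ ^ 3 * a * (ρ ^ 3)⁻¹ = a ∧ ρ ^ 3 * b * (ρ ^ 3)⁻¹ = b := by
  have hbb : b * b = 1 := by rw [← h1, conj_mul_conj, haa]; group
  have e : ∀ y, ρ ^ 3 * y * (ρ ^ 3)⁻¹ = ρ * (ρ * (ρ * y * ρ⁻¹) * ρ⁻¹) * ρ⁻¹ := by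
    intro y
    have e3 : ρ ^ 3 = ρ * ρ * ρ := by rw [pow_succ, pow_two]
    rw [e3]; group
  have h3 : ρ * (a * b) * ρ⁻¹ = a := by
    rw [conj_mul3, h1, h2, ← mul_assoc, ← hab, mul_assoc, hbb, mul_one]
  refine ⟨?_, ?_⟩
  · rw [e, h1, h2, h3]
  · rw [e, h2, h3, h1]

/-- an odd power with the same action -/
theorem exists_odd_pow_rho [Finite G] {a b : G} (h1 : ρ * a * ρ⁻¹ = b) (h2 : ρ * b * ρ⁻¹ = a * b)
    (haa : a * a = 1) (hab : a * b = b * a) : ∃ k : ℕ, (ρ ^ k) * a * (ρ ^ k)⁻¹ = b ∧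
      (ρ ^ k) * b * (ρ ^ k)⁻¹ = a * b ∧ ∃ n : ℕ, Odd n ∧ (ρ ^ k) ^ n = 1 := by
  obtain ⟨e, m, hm, hem⟩ := Nat.exists_eq_two_pow_mul_odd (n := orderOf ρ) (orderOf_pos ρ).ne'
  obtain ⟨c1, c2⟩ := cube_of h1 h2 haa hab
  have c1' : Commute (ρ ^ 3) a := comm_of_conj_eq c1
  have c2' : Commute (ρ ^ 3) b := comm_of_conj_eq c2
  -- `4^e = 3 l + 1`
  obtain ⟨l, hl⟩ : ∃ l, 4 ^ e = 3 * l + 1 := by
    have h43 : ∀ e : ℕ, 4 ^ e % 3 = 1 := by
      intro e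
      induction e with
      | zero => rfl
      | succ e ih => rw [pow_succ]; omega
    have := h43 e
    exact ⟨4 ^ e / 3, by omega⟩
  have hk : ρ ^ (4 ^ e) = ρ * (ρ ^ 3) ^ l := by
    rw [hl, pow_succ, pow_mul]
    exact ((Commute.refl ρ).pow_left 3).pow_left l |>.eq
  refine ⟨4 ^ e, ?_, ?_, m, hm, ?_⟩
  · rw [hk]
    have h3 : (ρ ^ 3) ^ l * a = a * (ρ ^ 3) ^ l := (c1'.pow_left l).eq
    calc ρ * (ρ ^ 3) ^ l * a * (ρ * (ρ ^ 3) ^ l)⁻¹ = ρ * ((ρ ^ 3) ^ l * a * ((ρ ^ 3) ^ l)⁻¹) * ρ⁻¹ := by group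
      _ = b := by rw [conj_eq_of_comm h3, h1]
  · rw [hk]
    have h3 : (ρ ^ 3) ^ l * b = b * (ρ ^ 3) ^ l := (c2'.pow_left l).eq
    calc ρ * (ρ ^ 3) ^ l * b * (ρ * (ρ ^ 3) ^ l)⁻¹ = ρ * ((ρ ^ 3) ^ l * b * ((ρ ^ 3) ^ l)⁻¹) * ρ⁻¹ := by group
      _ = a * b := by rw [conj_eq_of_comm h3, h2]
  · rw [← pow_mul]
    have : 4 ^ e * m = orderOf ρ * 2 ^ e := by
      rw [hem]
      have : (4 : ℕ) ^ e = 2 ^ e * 2 ^ e := by rw [← mul_pow]; norm_num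
      rw [this]; ring
    rw [this, pow_mul, pow_orderOf_eq_one, one_pow]

theorem exists_QData [Finite G] (h : F.Fld f) (hd : 3 ≤ d)
    (hA : ∀ a ∈ T, ∀ b ∈ T, o2 a * o2 b = o2 b * o2 a) {j : ℤ} {ρ : G} (ρx : ρ * x * ρ⁻¹ = x)
    (ρf : ρ * f * ρ⁻¹ = f) (ρz : ρ * r ^ 2 ^ (d - 2) * ρ⁻¹ = r ^ j * c)
    (ρv : ρ * (r ^ j * c) * ρ⁻¹ = r ^ 2 ^ (d - 2) * (r ^ j * c)) :
    ∃ (O : Subgroup G) (φ : G) (k : ℕ), F.QData f j O φ (ρ ^ k) := by
  obtain ⟨O, h1, h2, h3⟩ := MQ.exists_core h hd hA j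
  obtain ⟨φ, hφ, hg⟩ := MQ.exists_gen F hA j
  obtain ⟨k, k1, k2, k3⟩ := exists_odd_pow_rho ρz ρv F.z_sq (F.z_comm (F.refl_mem j))
  have cx : Commute ρ x := comm_of_conj_eq ρx
  have cf : Commute ρ f := comm_of_conj_eq ρf
  refine ⟨O, φ, k, ⟨h1, fun y hy => ((h2 y).1 hy).1, fun g hg y hy => ?_, h3, hφ, hg,
    conj_eq_of_comm (cx.pow_left k).eq, conj_eq_of_comm (cf.pow_left k).eq, k1, k2, k3⟩⟩
  obtain ⟨y1, y2⟩ := (h2 y).1 hy
  rw [h2]
  refine ⟨fun m hm => ?_, ?_⟩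
  · obtain ⟨m', hm', rfl⟩ := conj_surj hg m hm
    rw [conj_mul_conj, conj_mul_conj, y1 m' hm']
  · have : orderOf (g * y * g⁻¹) = orderOf y :=
      orderOf_injective (MulAut.conj g).toMonoidHom (MulAut.conj g).injective y
    rw [this]; exact y2

namespace QData

/-- elements of `O` of `E C_T(v)`: trivial -/
theorem eq_one_of [Finite G] (Q : F.QData f j O φ ρ) {t : G} (ht : t ∈ T) (hO : t ∈ O) : t = 1 := by
  obtain ⟨k, hk⟩ := F.T_two ⟨t, ht⟩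
  have hk' : t ^ 2 ^ k = 1 := congrArg Subtype.val hk
  have h1 : orderOf t ∣ 2 ^ k := orderOf_dvd_of_pow_eq_one hk'
  have h2 : orderOf t ∣ Nat.card O := by
    have h2 := orderOf_dvd_natCard (⟨t, hO⟩ : O)
    rwa [Subgroup.orderOf_mk] at h2
  have h5 : Nat.Coprime (orderOf t) (orderOf t) :=
    Nat.Coprime.of_dvd h1 h2 (Nat.Coprime.pow_left _ (Nat.coprime_two_left.2 Q.odd))
  rwa [Nat.coprime_self, orderOf_eq_one_iff] at h5

theorem mem_N [Finite G] {g : G} : g ∈ normalizer (F.EE j : Set G) ↔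
    ∀ m ∈ F.EE j, g * m * g⁻¹ ∈ F.EE j :=
  ⟨fun hg m hm => (mem_normalizer_iff.1 hg m).1 hm, mem_norm_of⟩

theorem CT_N [Finite G] (hd : 3 ≤ d) (hA : ∀ a ∈ T, ∀ b ∈ T, o2 a * o2 b = o2 b * o2 a) {u : G}
    (hu : u ∈ F.CT j) : u ∈ normalizer (F.EE j : Set G) :=
  mem_N.2 fun m hm => by rw [conj_eq_of_comm (MQ.ct_EE F hd hA hu hm)]; exact hm

/-- an element acting on the generators acts on `E` -/
theorem norm_EE_of (h : F.Fld f) {j : ℤ} {g : G} (hx : g * x * g⁻¹ ∈ F.EE j)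
    (hf : g * f * g⁻¹ ∈ F.EE j) (hz : g * r ^ 2 ^ (d - 2) * g⁻¹ ∈ F.EE j)
    (hv : g * (r ^ j * c) * g⁻¹ ∈ F.EE j) : ∀ m ∈ F.EE j, g * m * g⁻¹ ∈ F.EE j := by
  intro m hm
  obtain ⟨ζ, hζ, h3⟩ := h.EE_form hm
  have pζ : g * ζ * g⁻¹ ∈ F.EE j := by
    rcases hζ with h4 | h4 | h4 | h4 <;> rw [h4]
    · have : g * 1 * g⁻¹ = 1 := by group
      rw [this]; exact (F.EE j).one_mem
    · exact hx
    · exact hf
    · rw [conj_mul3]; exact (F.EE j).mul_mem hx hf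
  rcases h3 with h4 | h4 | h4 | h4 <;> rw [h4]
  · exact pζ
  · rw [conj_mul3]; exact (F.EE j).mul_mem pζ hz
  · rw [conj_mul3]; exact (F.EE j).mul_mem pζ hv
  · rw [conj_mul3, conj_mul3 g (r ^ 2 ^ (d - 2))]
    exact (F.EE j).mul_mem pζ ((F.EE j).mul_mem hz hv)

/-- an element fixing the generators centralises `E` -/
theorem comm_EE_of (h : F.Fld f) {j : ℤ} {g : G} (hx : g * x = x * g) (hf : g * f = f * g)
    (hz : g * r ^ 2 ^ (d - 2) = r ^ 2 ^ (d - 2) * g) (hv : g * (r ^ j * c) = r ^ j * c * g) :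
    ∀ m ∈ F.EE j, g * m = m * g := by
  intro m hm
  obtain ⟨ζ, hζ, h3⟩ := h.EE_form hm
  have cx : Commute g x := hx
  have cf : Commute g f := hf
  have cz : Commute g (r ^ 2 ^ (d - 2)) := hz
  have cv : Commute g (r ^ j * c) := hv
  have pζ : Commute g ζ := by
    rcases hζ with h4 | h4 | h4 | h4 <;> rw [h4]
    · exact Commute.one_right g
    · exact cx
    · exact cf
    · exact cx.mul_right cf
  rcases h3 with h4 | h4 | h4 | h4 <;> rw [h4]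
  · exact pζ
  · exact pζ.mul_right cz
  · exact pζ.mul_right cv
  · exact pζ.mul_right (cz.mul_right cv)

theorem q_f (h : F.Fld f) (j : ℤ) :
    (r ^ (j + 2 ^ (d - 3)) * c) * f * (r ^ (j + 2 ^ (d - 3)) * c)⁻¹ = f :=
  conj_eq_of_comm (h.cent _ (F.refl_mem _)).symm

theorem q_EE (h : F.Fld f) (hd : 3 ≤ d) (j : ℤ) :
    ∀ m ∈ F.EE j, (r ^ (j + 2 ^ (d - 3)) * c) * m * (r ^ (j + 2 ^ (d - 3)) * c)⁻¹ ∈ F.EE j := by
  apply norm_EE_of h
  · rw [MF.q_x F]; exact MQ.x_EE h j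
  · rw [q_f h]; exact MQ.f_EE h j
  · rw [MF.q_z F]; exact F.z_EE j
  · rw [MF.d_conj F hd]; exact (F.EE j).mul_mem (F.z_EE j) (F.v_EE j)

theorem ρ_EE (h : F.Fld f) (Q : F.QData f j O φ ρ) : ∀ m ∈ F.EE j, ρ * m * ρ⁻¹ ∈ F.EE j := by
  apply norm_EE_of h
  · rw [Q.ρx]; exact MQ.x_EE h j
  · rw [Q.ρf]; exact MQ.f_EE h j
  · rw [Q.ρz]; exact F.v_EE j
  · rw [Q.ρv]; exact (F.EE j).mul_mem (F.z_EE j) (F.v_EE j)

theorem x_N [Finite G] (h : F.Fld f) (hd : 3 ≤ d) (hA : ∀ a ∈ T, ∀ b ∈ T, o2 a * o2 b = o2 b * o2 a)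
    (j : ℤ) : x ∈ normalizer (F.EE j : Set G) := CT_N hd hA (MQ.EE_le_CT F j (MQ.x_EE h j))

theorem f_N [Finite G] (h : F.Fld f) (hd : 3 ≤ d) (hA : ∀ a ∈ T, ∀ b ∈ T, o2 a * o2 b = o2 b * o2 a)
    (j : ℤ) : f ∈ normalizer (F.EE j : Set G) := CT_N hd hA (MQ.EE_le_CT F j (MQ.f_EE h j))

theorem z_N [Finite G] (F : Frame x K T D d r c o1 o2) (hd : 3 ≤ d)
    (hA : ∀ a ∈ T, ∀ b ∈ T, o2 a * o2 b = o2 b * o2 a)
    (j : ℤ) : r ^ 2 ^ (d - 2) ∈ normalizer (F.EE j : Set G) := CT_N hd hA (MQ.EE_le_CT F j (F.z_EE j))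

theorem v_N [Finite G] (F : Frame x K T D d r c o1 o2) (hd : 3 ≤ d)
    (hA : ∀ a ∈ T, ∀ b ∈ T, o2 a * o2 b = o2 b * o2 a)
    (j : ℤ) : r ^ j * c ∈ normalizer (F.EE j : Set G) := CT_N hd hA (MQ.EE_le_CT F j (F.v_EE j))

theorem q_N [Finite G] (h : F.Fld f) (hd : 3 ≤ d) (j : ℤ) :
    r ^ (j + 2 ^ (d - 3)) * c ∈ normalizer (F.EE j : Set G) := mem_N.2 (q_EE h hd j)

theorem φ_N [Finite G] (hd : 3 ≤ d) (hA : ∀ a ∈ T, ∀ b ∈ T, o2 a * o2 b = o2 b * o2 a)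
    (Q : F.QData f j O φ ρ) : φ ∈ normalizer (F.EE j : Set G) := CT_N hd hA Q.φ_mem

theorem ρ_N [Finite G] (h : F.Fld f) (Q : F.QData f j O φ ρ) : ρ ∈ normalizer (F.EE j : Set G) :=
  mem_N.2 (Q.ρ_EE h)

/-- relations between the generators of `E` -/
theorem indep (h : F.Fld f) (hd : 3 ≤ d) {j : ℤ} (i k l m : ℕ)
    (h1 : x ^ i * ((r ^ 2 ^ (d - 2)) ^ k * ((r ^ j * c) ^ l * f ^ m)) = 1) :
    Even i ∧ Even k ∧ Even l ∧ Even m := by
  have pw : ∀ {y : G}, y * y = 1 → ∀ n : ℕ, (Even n → y ^ n = 1) ∧ (¬ Even n → y ^ n = y) := by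
    intro y hy n
    refine ⟨?_, ?_⟩
    · rintro ⟨a, rfl⟩
      rw [pow_add, ← (Commute.refl y).mul_pow, hy, one_pow]
    · intro hn
      obtain ⟨a, rfl⟩ := Nat.not_even_iff_odd.1 hn
      rw [pow_add, pow_mul, pow_two, hy, one_pow, one_mul, pow_one]
  have px := pw F.xx i
  have pz := pw F.z_sq k
  have pv := pw (F.refl_sq j) l
  have pf := pw h.sq m
  have hvD := F.refl_mem j
  have heD : (r ^ 2 ^ (d - 2)) ^ k * (r ^ j * c) ^ l ∈ D :=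
    D.mul_mem (D.pow_mem F.z_mem k) (D.pow_mem hvD l)
  have hxi : x ^ i ∈ T := T.pow_mem F.x_mem i
  -- `m` even
  have hm : Even m := by
    by_contra hm
    apply h.ne
    have h2 : o2 (x ^ i * ((r ^ 2 ^ (d - 2)) ^ k * ((r ^ j * c) ^ l * f ^ m))) = o2 f := by
      rw [pf.2 hm, ← mul_assoc ((r ^ 2 ^ (d - 2)) ^ k), F.o2_mul' hxi (T.mul_mem (F.D_le heD) h.mem),
        F.o2_mul' (F.D_le heD) h.mem, F.o2_D heD, F.o2_pow F.x_mem, F.o2_x, one_pow, one_mul, one_mul]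
    rw [← h2, h1, F.o2_one]
  rw [pf.1 hm, mul_one] at h1
  -- `i` even
  have hi : Even i := by
    by_contra hi
    rw [px.2 hi] at h1
    apply F.xD_ne heD D.one_mem h1
  rw [px.1 hi, one_mul] at h1
  -- `l` even
  have hl : Even l := by
    by_contra hl
    rw [pv.2 hl, F.zz, ← zpow_natCast, ← zpow_mul, ← mul_assoc, ← zpow_add] at h1
    exact F.refl_ne_one _ h1
  rw [pv.1 hl, mul_one] at h1
  refine ⟨hi, ?_, hl, hm⟩
  by_contra hk
  rw [pz.2 hk] at h1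
  exact F.z_ne h1

/-- **`MInF.Pre` for `N_G(E)/O`** -/
theorem pre [Finite G] (Q : F.QData f j O φ ρ) (h : F.Fld f) (hd : 3 ≤ d)
    (hA : ∀ a ∈ T, ∀ b ∈ T, o2 a * o2 b = o2 b * o2 a) {L : Type*} [Group L]
    (π : ↥(normalizer (F.EE j : Set G)) →* L) (hsurj : Function.Surjective π)
    (hker : ∀ n, π n = 1 ↔ (n : G) ∈ O) :
    MInF.Pre (π ⟨x, x_N h hd hA j⟩) (π ⟨f, f_N h hd hA j⟩) (π ⟨r ^ 2 ^ (d - 2), z_N F hd hA j⟩)
      (π ⟨r ^ j * c, v_N F hd hA j⟩) (π ⟨r ^ (j + 2 ^ (d - 3)) * c, q_N h hd j⟩) (π ⟨ρ, Q.ρ_N h⟩)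
      (π ⟨φ, φ_N hd hA Q⟩) (((F.CT j).subgroupOf (normalizer (F.EE j : Set G))).map π) := by
  have eqG : ∀ {a b : ↥(normalizer (F.EE j : Set G))}, (a : G) = b → π a = π b := by
    intro a b hab
    rw [Subtype.ext hab]
  have mC : ∀ {u : G} (hu : u ∈ F.CT j) (hN : u ∈ normalizer (F.EE j : Set G)),
      π ⟨u, hN⟩ ∈ ((F.CT j).subgroupOf (normalizer (F.EE j : Set G))).map π := by
    intro u hu hN
    exact ⟨⟨u, hN⟩, hu, rfl⟩
  have hxE := MQ.x_EE h j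
  have hfE := MQ.f_EE h j
  have hzE := F.z_EE j
  have hvE := F.v_EE j
  have le := MQ.EE_le_CT F j
  have inv2 : ∀ {a : ↥(normalizer (F.EE j : Set G))}, (a : G) * a = 1 → π a * π a = 1 := by
    intro a ha
    rw [← map_mul, ← map_one π]
    exact eqG ha
  have com : ∀ {a b : ↥(normalizer (F.EE j : Set G))}, (a : G) * b = b * a → π a * π b = π b * π a := by
    intro a b hab
    rw [← map_mul, ← map_mul]
    exact eqG hab
  -- commutation modulo `O` with elements of `E`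
  have com' : ∀ {n : ↥(normalizer (F.EE j : Set G))} {m : G} (hm : m ∈ F.EE j)
      (hmN : m ∈ normalizer (F.EE j : Set G)), π n * π ⟨m, hmN⟩ = π ⟨m, hmN⟩ * π n →
      (n : G) * m = m * n := by
    intro n m hm hmN h1
    have h2 : π (n * ⟨m, hmN⟩ * n⁻¹ * ⟨m, hmN⟩⁻¹) = 1 := by
      rw [map_mul, map_mul, map_mul, map_inv, map_inv, h1]; group
    rw [hker] at h2
    have h3 : (n : G) * m * (n : G)⁻¹ * m⁻¹ ∈ O := h2
    have h4 : (n : G) * m * (n : G)⁻¹ * m⁻¹ ∈ F.EE j :=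
      (F.EE j).mul_mem (mem_N.1 n.2 m hm) ((F.EE j).inv_mem hm)
    have h5 := Q.eq_one_of (F.mem_EE.1 h4).1.1 h3
    have h6 : (n : G) * m * (n : G)⁻¹ = m := by
      calc (n : G) * m * (n : G)⁻¹ = ((n : G) * m * (n : G)⁻¹ * m⁻¹) * m := by group
        _ = m := by rw [h5, one_mul]
    exact comm_of_conj_eq h6
  refine
    { xx := inv2 F.xx
      ff := inv2 h.sq
      zz := inv2 F.z_sq
      vv := inv2 (F.refl_sq j)
      dd := inv2 (F.refl_sq _)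
      xC := mC (le hxE) _
      fC := mC (le hfE) _
      zC := mC (le hzE) _
      vC := mC (le hvE) _
      φC := mC Q.φ_mem _
      comm := ?_
      cent := ?_
      gen := ?_
      two := ?_
      indep := ?_
      dx := com (F.x_comm_D (F.refl_mem _)).symm
      df := com (h.cent _ (F.refl_mem _)).symm
      dz := com (F.z_comm (F.refl_mem _)).symm
      dv := ?_
      dC := ?_
      rx := com (comm_of_conj_eq Q.ρx)
      rf := com (comm_of_conj_eq Q.ρf)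
      rz := ?_
      rv := ?_
      rodd := ?_ }
  · rintro _ ⟨a, ha, rfl⟩ _ ⟨b, hb, rfl⟩
    exact com (MQ.ct_comm F hd hA ha hb)
  · intro y yx yf yz yv
    obtain ⟨n, rfl⟩ := hsurj y
    have c1 := com' hxE (x_N h hd hA j) yx
    have c2 := com' hfE (f_N h hd hA j) yf
    have c3 := com' hzE (z_N F hd hA j) yz
    have c4 := com' hvE (v_N F hd hA j) yv
    obtain ⟨o, ho, p, hp, h1⟩ := Q.cover n (comm_EE_of h c1 c2 c3 c4)
    have hoN : o ∈ normalizer (F.EE j : Set G) :=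
      mem_N.2 fun m hm => by rw [conj_eq_of_comm (Q.le o ho m hm)]; exact hm
    have hpN := CT_N hd hA hp
    have h2 : π n = π ⟨o, hoN⟩ * π ⟨p, hpN⟩ := by
      rw [← map_mul]
      exact eqG h1
    rw [h2, (hker ⟨o, hoN⟩).2 ho, one_mul]
    exact mC hp hpN
  · rintro _ ⟨a, ha, rfl⟩
    obtain ⟨m, i, l, n, h1⟩ := MQ.ct_gen F hd Q.φ_mem Q.φ_gen ha
    refine ⟨m, i, l, n, ?_⟩
    rw [← map_pow, ← map_pow, ← map_pow, ← map_pow, ← map_mul, ← map_mul, ← map_mul]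
    exact eqG h1
  · obtain ⟨n, hn⟩ := F.T_two ⟨φ, (F.mem_CT.1 Q.φ_mem).1⟩
    have hn' : φ ^ 2 ^ n = 1 := congrArg Subtype.val hn
    refine ⟨n, ?_⟩
    rw [← map_pow, ← map_one π]
    exact eqG hn'
  · intro i k l m h1
    rw [← map_pow, ← map_pow, ← map_pow, ← map_pow, ← map_mul, ← map_mul, ← map_mul, hker] at h1
    apply indep h hd (j := j)
    refine Q.eq_one_of ?_ h1
    exact T.mul_mem (T.pow_mem F.x_mem i) (T.mul_mem (T.pow_mem (F.D_le F.z_mem) k)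
      (T.mul_mem (T.pow_mem (F.D_le (F.refl_mem j)) l) (T.pow_mem h.mem m)))
  · rw [← map_inv, ← map_mul, ← map_mul, ← map_mul]
    exact eqG (MF.d_conj F hd j)
  · rintro _ ⟨a, ha, rfl⟩
    have e0 : ∀ y : G, (r ^ (j + 2 ^ (d - 3)) * c) * (a : G) * (r ^ (j + 2 ^ (d - 3)) * c)⁻¹ * (a : G)⁻¹ = y →
        (r ^ (j + 2 ^ (d - 3)) * c) * (a : G) * (r ^ (j + 2 ^ (d - 3)) * c)⁻¹ = y * a := by
      intro y hy
      rw [← hy]; group
    rcases MQ.q_comm F hd (u := (a : G)) ha with h1 | h1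
    · refine ⟨0, 0, ?_⟩
      rw [pow_zero, pow_zero, one_mul, mul_one, ← map_inv, ← map_mul, ← map_mul]
      have h2 := e0 _ h1
      rw [one_mul] at h2
      exact eqG h2
    · refine ⟨1, 0, ?_⟩
      rw [pow_zero, pow_one, mul_one, ← map_inv, ← map_mul, ← map_mul, ← map_mul]
      have h2 := e0 _ h1
      have h3 : (a : G) * r ^ 2 ^ (d - 2) = r ^ 2 ^ (d - 2) * (a : G) := F.z_comm_T hd (F.mem_CT.1 ha).1
      rw [← h3] at h2
      exact eqG h2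
  · rw [← map_inv, ← map_mul, ← map_mul]
    exact eqG Q.ρz
  · rw [← map_inv, ← map_mul, ← map_mul, ← map_mul]
    exact eqG Q.ρv
  · obtain ⟨n, hn, hn'⟩ := Q.ρodd
    refine ⟨n, hn, ?_⟩
    rw [← map_pow, ← map_one π]
    exact eqG hn'

theorem normal (Q : F.QData f j O φ ρ) : (O.subgroupOf (normalizer (F.EE j : Set G))).Normal where
  conj_mem := by
    intro n hn g
    exact Q.norm g (fun m hm => (mem_normalizer_iff.1 g.2 m).1 hm) n hn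

/-- **Frattini**: `g ∈ N(E)` commuting with `q` on `E` -/
theorem frattini [Finite G] (Q : F.QData f j O φ ρ) (h : F.Fld f) (hd : 3 ≤ d)
    (hA : ∀ a ∈ T, ∀ b ∈ T, o2 a * o2 b = o2 b * o2 a) {g : G}
    (hg : ∀ m ∈ F.EE j, g * m * g⁻¹ ∈ F.EE j)
    (hgq : ∀ m ∈ F.EE j, g * (r ^ (j + 2 ^ (d - 3)) * c) * g⁻¹ * (r ^ (j + 2 ^ (d - 3)) * c)⁻¹ * m =
      m * (g * (r ^ (j + 2 ^ (d - 3)) * c) * g⁻¹ * (r ^ (j + 2 ^ (d - 3)) * c)⁻¹)) :
    ∃ o ∈ O, (∀ u ∈ F.CT j, (o * g) * u * (o * g)⁻¹ ∈ F.CT j) ∧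
      ∃ p ∈ F.CT j, (o * g) * (r ^ (j + 2 ^ (d - 3)) * c) * (o * g)⁻¹ =
        (r ^ (j + 2 ^ (d - 3)) * c) * p := by
  set q := r ^ (j + 2 ^ (d - 3)) * c with hq
  have qq : q * q = 1 := F.refl_sq _
  have qi : q⁻¹ = q := inv_eq_of_mul_eq_one_right qq
  have qE := q_EE h hd j
  rw [← hq] at qE
  let C : Subgroup G := centralizer (F.EE j : Set G)
  have hC : ∀ l, l ∈ C ↔ ∀ m ∈ F.EE j, l * m = m * l := by
    intro l
    constructor
    · intro hl m hm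
      exact (mem_centralizer_iff.1 hl m hm).symm
    · intro hl
      exact mem_centralizer_iff.2 fun m hm => (hl m hm).symm
  have norm_C : ∀ n, (∀ m ∈ F.EE j, n * m * n⁻¹ ∈ F.EE j) → ∀ y ∈ C, n * y * n⁻¹ ∈ C := by
    intro n hn y hy
    rw [hC] at hy ⊢
    intro m hm
    obtain ⟨m', hm', rfl⟩ := conj_surj hn m hm
    rw [conj_mul_conj, conj_mul_conj, hy m' hm']
  have qCT : ∀ u ∈ F.CT j, q * u * q⁻¹ ∈ F.CT j := by
    intro u hu
    have e : q * u * q⁻¹ = (q * u * q⁻¹ * u⁻¹) * u := by group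
    rw [e]
    rcases MQ.q_comm F hd hu with h1 | h1 <;> rw [← hq] at h1 <;> rw [h1]
    · rw [one_mul]; exact hu
    · exact (F.CT j).mul_mem (MQ.EE_le_CT F j (F.z_EE j)) hu
  have hCT : F.CT j ≤ C := fun u hu => (hC u).2 fun m hm => MQ.ct_EE F hd hA hu hm
  have hqC : q ∉ C := by
    intro h1
    have h2 := conj_eq_of_comm ((hC q).1 h1 _ (F.v_EE j))
    rw [hq, MF.d_conj F hd j] at h2
    apply F.z_ne
    exact (mul_eq_right (b := r ^ j * c)).1 h2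
  let P1 := ext2 (F.CT j) q qq qCT
  let L1 := ext2 C q qq (norm_C q qE)
  have hP1 : P1 ≤ L1 := by
    rintro y (hy | hy)
    · exact Or.inl (hCT hy)
    · exact Or.inr (hCT hy)
  have hP1T : P1 ≤ T := by
    rintro y (hy | hy)
    · exact (F.mem_CT.1 hy).1
    · have : y = q * (q * y) := by rw [← mul_assoc, qq, one_mul]
      rw [this]
      exact T.mul_mem (F.D_le (F.refl_mem _)) (F.mem_CT.1 hy).1
  have hmax : ∀ R ≤ L1, IsPGroup 2 R → Nat.card R ≤ Nat.card P1 := by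
    intro R hR hR2
    have i1 : Nat.card R ≤ 2 * Nat.card ↥(R ⊓ C) := by
      refine card_le_two_mul inf_le_left fun a ha ha' b hb hb' => ⟨R.mul_mem ha hb, ?_⟩
      have ha1 : q * a ∈ C := (hR ha).resolve_left fun h1 => ha' ⟨ha, h1⟩
      have hb1 : q * b ∈ C := (hR hb).resolve_left fun h1 => hb' ⟨hb, h1⟩
      have : a * b = (q * (q * a) * q⁻¹) * (q * b) := by
        calc a * b = (q * q) * a * b := by rw [qq, one_mul]
          _ = (q * (q * a) * q⁻¹) * (q * b) := by group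
      rw [this]
      exact C.mul_mem (norm_C q qE _ ha1) hb1
    have i2 : Nat.card ↥(R ⊓ C) ≤ Nat.card (F.CT j) :=
      MQ.card_le_CT h hd (hR2.to_le inf_le_left) fun p hp m hm => (hC p).1 hp.2 m hm
    have i3 : 2 * Nat.card (F.CT j) ≤ Nat.card P1 :=
      two_mul_card_le (fun y hy => Or.inl hy) (a := q) (Or.inr (by rw [qq]; exact one_mem _))
        fun h1 => hqC (hCT h1)
    omega
  have hgC : ∀ y ∈ C, g * y * g⁻¹ ∈ C := norm_C g hg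
  have hgL : P1.map (MulAut.conj g).toMonoidHom ≤ L1 := by
    rintro _ ⟨y, hy | hy, rfl⟩
    · exact Or.inl (hgC y (hCT hy))
    · right
      change q * (g * y * g⁻¹) ∈ C
      have e0 : g * q * g⁻¹ * q⁻¹ ∈ C := (hC _).2 hgq
      have e : q * (g * y * g⁻¹) = (q * (g * q * g⁻¹ * q⁻¹) * q⁻¹) * (g * (q * y) * g⁻¹) := by
        calc q * (g * y * g⁻¹) = q * (g * ((q * q) * y) * g⁻¹) := by rw [qq, one_mul]
          _ = q * (g * q * g⁻¹) * (g * (q * y) * g⁻¹) := by group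
          _ = q * (g * q * g⁻¹) * (q⁻¹ * q⁻¹) * (g * (q * y) * g⁻¹) := by
              rw [show q⁻¹ * q⁻¹ = 1 by rw [qi, qq], mul_one]
          _ = _ := by group
      rw [e]
      exact C.mul_mem (norm_C q qE _ e0) (hgC _ (hCT hy))
  obtain ⟨l, hl, hl2⟩ := exists_conj_le hP1 (F.T_two.to_le hP1T) hmax hgL ((F.T_two.to_le hP1T).map _)
  -- `l = p o`
  obtain ⟨p1, hp1, o, ho, hlo⟩ : ∃ p1 ∈ P1, ∃ o ∈ O, l = p1 * o := by
    have key : ∀ y ∈ C, ∃ p ∈ F.CT j, ∃ o ∈ O, y = p * o := by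
      intro y hy
      obtain ⟨o, ho, p, hp, h1⟩ := Q.cover y ((hC y).1 hy)
      refine ⟨p, hp, p⁻¹ * o * p⁻¹⁻¹, Q.norm p⁻¹ (fun m hm => ?_) o ho, by rw [h1]; group⟩
      have hpN := mem_N.1 (inv_mem (CT_N hd hA hp)) m hm
      exact hpN
    rcases hl with hl | hl
    · obtain ⟨p, hp, o, ho, h1⟩ := key l hl
      exact ⟨p, Or.inl hp, o, ho, h1⟩
    · obtain ⟨p, hp, o, ho, h1⟩ := key _ hl
      refine ⟨q * p, Or.inr (by rw [← mul_assoc, qq, one_mul]; exact hp), o, ho, ?_⟩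
      calc l = q * (q * l) := by rw [← mul_assoc, qq, one_mul]
        _ = q * p * o := by rw [h1]; exact (mul_assoc q p o).symm
  have main : ∀ y ∈ P1, (o * g) * y * (o * g)⁻¹ ∈ P1 := by
    intro y hy
    have h1 : l * (g * y * g⁻¹) * l⁻¹ ∈ P1 := hl2 _ ⟨y, hy, rfl⟩
    have e : (o * g) * y * (o * g)⁻¹ = p1⁻¹ * (l * (g * y * g⁻¹) * l⁻¹) * p1 := by
      rw [hlo]; group
    rw [e]
    exact P1.mul_mem (P1.mul_mem (P1.inv_mem hp1) h1) hp1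
  have oC : o ∈ C := (hC o).2 (Q.le o ho)
  have hogC : ∀ y ∈ C, (o * g) * y * (o * g)⁻¹ ∈ C := by
    intro y hy
    have e : (o * g) * y * (o * g)⁻¹ = o * (g * y * g⁻¹) * o⁻¹ := by group
    rw [e]
    exact C.mul_mem (C.mul_mem oC (hgC y hy)) (C.inv_mem oC)
  have P1C : ∀ y ∈ P1, y ∈ C → y ∈ F.CT j := by
    rintro y (hy | hy) hyC
    · exact hy
    · exfalso
      apply hqC
      have : q = (q * y) * y⁻¹ := by group
      rw [this]
      exact C.mul_mem (hCT hy) (C.inv_mem hyC)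
  refine ⟨o, ho, fun u hu => P1C _ (main u (Or.inl hu)) (hogC u (hCT hu)), ?_⟩
  have hqP : q ∈ P1 := Or.inr (by rw [qq]; exact one_mem _)
  rcases main q hqP with h1 | h1
  · exfalso
    apply hqC
    have h2 := hCT h1
    -- `q = (og)⁻¹ y (og)`
    have h3 : ∀ m ∈ F.EE j, (o * g) * m * (o * g)⁻¹ ∈ F.EE j := by
      intro m hm
      have e : (o * g) * m * (o * g)⁻¹ = o * (g * m * g⁻¹) * o⁻¹ := by group
      rw [e, conj_eq_of_comm (Q.le o ho _ (hg m hm))]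
      exact hg m hm
    rw [hC]
    intro m hm
    have h4 := (hC _).1 h2 _ (h3 m hm)
    rw [conj_mul_conj, conj_mul_conj] at h4
    exact mul_left_cancel (mul_right_cancel h4)
  · refine ⟨q * ((o * g) * q * (o * g)⁻¹), h1, ?_⟩
    rw [← mul_assoc q q, qq, one_mul]

end QData

/-- `N_G(E)/O`, as a surjective homomorphism with kernel `O` -/
theorem exists_quot.{u} {G : Type u} [Group G] {x : G} {K T D : Subgroup G} {d : ℕ} {r c : G}
    {o1 : G → ℤˣ} {o2 : G → A} {f : G} {F : Frame x K T D d r c o1 o2} {j : ℤ} {O : Subgroup G}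
    {φ ρ : G} (Q : F.QData f j O φ ρ) :
    ∃ (L : Type u) (_ : Group L) (π : ↥(normalizer (F.EE j : Set G)) →* L), Function.Surjective π ∧
      ∀ n, π n = 1 ↔ (n : G) ∈ O := by
  have := Q.normal
  refine ⟨↥(normalizer (F.EE j : Set G)) ⧸ O.subgroupOf (normalizer (F.EE j : Set G)), inferInstance,
    QuotientGroup.mk' _, QuotientGroup.mk'_surjective _, fun n => ?_⟩
  rw [QuotientGroup.mk'_apply, QuotientGroup.eq_one_iff, mem_subgroupOf]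

end Frame

end Cfsg.Agent.GH.L2QTwo
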