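import Cfsg.Agent.GH.L2QTwo.Frame

/-!
# GH-L2, `|Q| = 2`, `T < S`: an element `s ∈ N(T)` with `x ^ s = x z` which moves `D` to the other dihedral subgroup of `D*`

Then `D* = ⟨D, D^s⟩` is normal in `S = T⟨s⟩` and `S/D*` is abelian, so `x` is not in `S'`.
-/

set_option autoImplicit false

open Subgroup

namespace Cfsg.Agent.GH.L2QTwo.TwistD

section Calc

variable {G : Type*} [Group G]

theorem cz {ρ g : G} {a : ℤ} (h : g * ρ * g⁻¹ = ρ ^ a) (k : ℤ) : g * ρ ^ k * g⁻¹ = ρ ^ (a * k) := by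
  rw [← conj_zpow, h, zpow_mul]

theorem c_rho {ρ c : G} (h : c * ρ * c⁻¹ = ρ⁻¹) (k : ℤ) : c * ρ ^ k = ρ ^ (-k) * c := by
  have : c * ρ ^ k * c⁻¹ = ρ ^ (-k) := by rw [← conj_zpow, h, inv_zpow, zpow_neg]
  rw [← this, inv_mul_cancel_right]

theorem rho_c {ρ c : G} (h : c * ρ * c⁻¹ = ρ⁻¹) (l : ℤ) :
    ρ ^ l * c * (ρ ^ l)⁻¹ = ρ ^ (2 * l) * c := by
  rw [← zpow_neg, mul_assoc, c_rho h, neg_neg, ← mul_assoc, ← zpow_add, two_mul]

theorem tau_rho {ρ τ : G} {j : ℤ} (h : τ * ρ * τ⁻¹ = ρ ^ j) (n : ℕ) :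
    τ ^ n * ρ * (τ ^ n)⁻¹ = ρ ^ (j ^ n) := by
  induction n with
  | zero => simp
  | succ n ih =>
    calc τ ^ (n + 1) * ρ * (τ ^ (n + 1))⁻¹ = τ * (τ ^ n * ρ * (τ ^ n)⁻¹) * τ⁻¹ := by
          rw [pow_succ']; group
      _ = ρ ^ (j ^ (n + 1)) := by rw [ih, cz h, ← pow_succ']

theorem tau_c {ρ τ c : G} {j M : ℤ} (h : τ * ρ * τ⁻¹ = ρ ^ j) (hc : τ * c * τ⁻¹ = ρ ^ M * c)
    (n : ℕ) : τ ^ n * c * (τ ^ n)⁻¹ = ρ ^ (M * ∑ k ∈ Finset.range n, j ^ k) * c := by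
  induction n with
  | zero => simp
  | succ n ih =>
    calc τ ^ (n + 1) * c * (τ ^ (n + 1))⁻¹ = τ * (τ ^ n * c * (τ ^ n)⁻¹) * τ⁻¹ := by
          rw [pow_succ']; group
      _ = (τ * ρ ^ (M * ∑ k ∈ Finset.range n, j ^ k) * τ⁻¹) * (τ * c * τ⁻¹) := by
          rw [ih]; group
      _ = ρ ^ (M * ∑ k ∈ Finset.range (n + 1), j ^ k) * c := by
          rw [cz h, hc, ← mul_assoc, ← zpow_add, geom_sum_succ]
          congr 2
          ring

/-- conjugation by an element commuting with `ρ`, `c` (times something) -/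
theorem conj_of_comm {y g h : G} (hy : y * h = h * y) : y * g * h * (y * g)⁻¹ = y * (g * h * g⁻¹) * y⁻¹ := by
  group

/-- The computation. -/
theorem core {d : ℕ} {ρ c x s τ y : G} {i j m l l' : ℤ} {n : ℕ} (hd : 1 ≤ d)
    (hord : ∀ k : ℤ, ρ ^ k = 1 ↔ (2 : ℤ) ^ d ∣ k) (hc : c * ρ * c⁻¹ = ρ⁻¹)
    (xρ : Commute x ρ) (xc : Commute x c)
    (yρ : Commute y ρ) (yc : Commute y c) (yτ : Commute y τ) (xx : x * x = 1)
    (hi : Odd i) (hj : Odd j)
    (sρ : s * ρ * s⁻¹ = ρ ^ i) (sc : s * c * s⁻¹ = ρ * c)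
    (sx : s * x * s⁻¹ = x * ρ ^ ((2 : ℤ) ^ (d - 1)))
    (τρ : τ * ρ * τ⁻¹ = ρ ^ j) (τc : τ * c * τ⁻¹ = ρ ^ (2 * m) * c)
    (hw : s * τ * s⁻¹ = x * ρ ^ l * τ) (hv : s * s = y * ρ ^ l' * τ ^ n) : False := by
  have xz : ∀ k : ℤ, Commute x (ρ ^ k) := fun k => xρ.zpow_right k
  have yz : ∀ k : ℤ, Commute y (ρ ^ k) := fun k => yρ.zpow_right k
  have canc : ∀ a b : ℤ, ρ ^ a * c = ρ ^ b * c → (2 : ℤ) ^ d ∣ a - b := by
    intro a b h
    have h1 := mul_right_cancel h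
    rw [← hord, zpow_sub, h1, mul_inv_cancel]
  -- (E1)
  have E1 : (2 : ℤ) ^ d ∣ (i * (2 * m) + 1) - (2 * l + (j + 2 * m)) := by
    apply canc
    have e1 : s * (τ * c * τ⁻¹) * s⁻¹ = ρ ^ (i * (2 * m) + 1) * c := by
      rw [τc]
      calc s * (ρ ^ (2 * m) * c) * s⁻¹ = (s * ρ ^ (2 * m) * s⁻¹) * (s * c * s⁻¹) := by group
        _ = _ := by rw [cz sρ, sc, ← mul_assoc, zpow_add_one]
    have e2 : s * (τ * c * τ⁻¹) * s⁻¹ = ρ ^ (2 * l + (j + 2 * m)) * c := by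
      calc s * (τ * c * τ⁻¹) * s⁻¹ = (s * τ * s⁻¹) * (s * c * s⁻¹) * (s * τ * s⁻¹)⁻¹ := by group
        _ = x * (ρ ^ l * ((τ * ρ * τ⁻¹) * (τ * c * τ⁻¹)) * (ρ ^ l)⁻¹) * x⁻¹ := by
            rw [hw, sc]; group
        _ = x * (ρ ^ (j + 2 * m) * (ρ ^ l * c * (ρ ^ l)⁻¹)) * x⁻¹ := by
            rw [τρ, τc]; congr 2
            rw [← mul_assoc (ρ ^ j), ← zpow_add]
            simp only [← mul_assoc, ← zpow_add]
            rw [add_comm l]
        _ = x * (ρ ^ (2 * l + (j + 2 * m)) * c) * x⁻¹ := by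
            rw [rho_c hc, ← mul_assoc (ρ ^ _), ← zpow_add, add_comm (j + 2 * m)]
        _ = _ := by rw [((xz _).mul_right xc).eq, mul_inv_cancel_right]
    rw [← e1, e2]
  -- (E2)
  have E2 : (2 : ℤ) ^ d ∣ (i + 1) - (2 * l' + 2 * m * ∑ k ∈ Finset.range n, j ^ k) := by
    apply canc
    have e1 : s * s * c * (s * s)⁻¹ = ρ ^ (i + 1) * c := by
      calc s * s * c * (s * s)⁻¹ = s * (s * c * s⁻¹) * s⁻¹ := by group
        _ = s * (ρ * c) * s⁻¹ := by rw [sc]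
        _ = (s * ρ * s⁻¹) * (s * c * s⁻¹) := by group
        _ = _ := by rw [sρ, sc, ← mul_assoc, zpow_add_one]
    have e2 : s * s * c * (s * s)⁻¹ =
        ρ ^ (2 * l' + 2 * m * ∑ k ∈ Finset.range n, j ^ k) * c := by
      rw [hv]
      calc y * ρ ^ l' * τ ^ n * c * (y * ρ ^ l' * τ ^ n)⁻¹
          = y * (ρ ^ l' * (τ ^ n * c * (τ ^ n)⁻¹) * (ρ ^ l')⁻¹) * y⁻¹ := by group
        _ = y * (ρ ^ (2 * m * ∑ k ∈ Finset.range n, j ^ k) * (ρ ^ l' * c * (ρ ^ l')⁻¹)) * y⁻¹ := by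
            rw [tau_c τρ τc]; congr 2
            simp only [← mul_assoc, ← zpow_add]
            rw [add_comm l']
        _ = y * (ρ ^ (2 * l' + 2 * m * ∑ k ∈ Finset.range n, j ^ k) * c) * y⁻¹ := by
            rw [rho_c hc, ← mul_assoc (ρ ^ _), ← zpow_add, add_comm (2 * l')]
        _ = _ := by rw [((yz _).mul_right yc).eq, mul_inv_cancel_right]
    rw [← e1, e2]
  -- (E3)
  have E3 : (2 : ℤ) ^ d ∣ i * i - j ^ n := by
    have e1 : s * s * ρ * (s * s)⁻¹ = ρ ^ (i * i) := by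
      calc s * s * ρ * (s * s)⁻¹ = s * (s * ρ * s⁻¹) * s⁻¹ := by group
        _ = _ := by rw [sρ, cz sρ]
    have e2 : s * s * ρ * (s * s)⁻¹ = ρ ^ (j ^ n) := by
      rw [hv]
      calc y * ρ ^ l' * τ ^ n * ρ * (y * ρ ^ l' * τ ^ n)⁻¹
          = y * (ρ ^ l' * (τ ^ n * ρ * (τ ^ n)⁻¹) * (ρ ^ l')⁻¹) * y⁻¹ := by group
        _ = y * (ρ ^ (j ^ n)) * y⁻¹ := by
            rw [tau_rho τρ]; congr 2
            rw [← zpow_add, ← zpow_neg, ← zpow_add]; congr 1; ring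
        _ = _ := by rw [(yz _).eq, mul_inv_cancel_right]
    rw [← hord, zpow_sub, ← e1, e2, mul_inv_cancel]
  -- (E4)
  have E4 : (2 : ℤ) ^ d ∣ ((2 : ℤ) ^ (d - 1) + (i + 1) * l) - (l' - j * l') := by
    have e1 : s * s * τ * (s * s)⁻¹ = ρ ^ ((2 : ℤ) ^ (d - 1) + (i + 1) * l) * τ := by
      calc s * s * τ * (s * s)⁻¹ = s * (s * τ * s⁻¹) * s⁻¹ := by group
        _ = s * (x * ρ ^ l * τ) * s⁻¹ := by rw [hw]
        _ = (s * x * s⁻¹) * (s * ρ ^ l * s⁻¹) * (s * τ * s⁻¹) := by group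
        _ = x * (ρ ^ ((2 : ℤ) ^ (d - 1) + i * l) * x) * ρ ^ l * τ := by
            rw [sx, cz sρ, hw, zpow_add]; simp only [mul_assoc]
        _ = (x * x) * ρ ^ ((2 : ℤ) ^ (d - 1) + i * l) * ρ ^ l * τ := by
            rw [← (xz _).eq]; simp only [mul_assoc]
        _ = _ := by
            rw [xx, one_mul, ← zpow_add]; congr 2; ring
    have e2 : s * s * τ * (s * s)⁻¹ = ρ ^ (l' - j * l') * τ := by
      rw [hv]
      have h3 : τ * ρ ^ (-l') = ρ ^ (-(j * l')) * τ := by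
        have := cz τρ (-l')
        rw [mul_neg] at this
        rw [← this, inv_mul_cancel_right]
      calc y * ρ ^ l' * τ ^ n * τ * (y * ρ ^ l' * τ ^ n)⁻¹
          = y * (ρ ^ l' * (τ * ρ ^ (-l'))) * y⁻¹ := by
            rw [zpow_neg]
            have : τ ^ n * τ * (τ ^ n)⁻¹ = τ := by
              rw [← pow_succ, pow_succ', mul_inv_cancel_right]
            calc y * ρ ^ l' * τ ^ n * τ * (y * ρ ^ l' * τ ^ n)⁻¹
                = y * ρ ^ l' * (τ ^ n * τ * (τ ^ n)⁻¹) * (ρ ^ l')⁻¹ * y⁻¹ := by group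
              _ = _ := by rw [this]; group
        _ = y * (ρ ^ (l' - j * l') * τ) * y⁻¹ := by
            rw [h3, ← mul_assoc (ρ ^ l'), ← zpow_add, sub_eq_add_neg]
        _ = _ := by rw [((yz _).mul_right yτ).eq, mul_inv_cancel_right]
    rw [← hord, zpow_sub]
    have := e1.symm.trans e2
    rw [mul_right_cancel this, mul_inv_cancel]
  obtain ⟨u, hu⟩ := E1
  obtain ⟨u', hu'⟩ := E2
  obtain ⟨u3, hu3⟩ := E3
  obtain ⟨i', hi'⟩ := hi
  obtain ⟨j', hj'⟩ := hj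
  have hg := geom_sum_mul j n
  have E5 : (2 : ℤ) ^ d ∣ (i + 1) * l - (l' - j * l') := by
    refine ⟨m * u3 - j' * u' - (i' + 1) * u, ?_⟩
    have h2 : 2 * ((i + 1) * l - (l' - j * l')) =
        2 * ((2 : ℤ) ^ d * (m * u3 - j' * u' - (i' + 1) * u)) := by
      subst hi' hj'
      set g := ∑ k ∈ Finset.range n, (2 * j' + 1) ^ k
      linear_combination (-(2 * i' + 2)) * hu + (-(2 * j')) * hu' + 2 * m * hu3 - 2 * m * hg
    exact mul_left_cancel₀ two_ne_zero h2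
  have E6 : (2 : ℤ) ^ d ∣ 2 ^ (d - 1) := by
    have := dvd_sub E4 E5
    have e : (2 : ℤ) ^ (d - 1) + (i + 1) * l - (l' - j * l') - ((i + 1) * l - (l' - j * l')) =
      2 ^ (d - 1) := by ring
    rwa [e] at this
  have h7 := Int.le_of_dvd (by positivity) E6
  have h8 : (2 : ℤ) ^ d = 2 ^ (d - 1) * 2 := by
    rw [← pow_succ]; congr 1; omega
  have h9 : (0 : ℤ) < 2 ^ (d - 1) := by positivity
  omega

end Calc

section Cm

variable {G : Type*} [Group G]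

/-- `a` and `b` commute modulo `N` -/
def Cm (N : Subgroup G) (a b : G) : Prop := a * b * a⁻¹ * b⁻¹ ∈ N

theorem Cm.symm {N : Subgroup G} {a b : G} (h : Cm N a b) : Cm N b a := by
  have := N.inv_mem h
  have e : (a * b * a⁻¹ * b⁻¹)⁻¹ = b * a * b⁻¹ * a⁻¹ := by group
  rwa [e] at this

theorem Cm.mul {N : Subgroup G} {a b g : G} (ha : ∀ n ∈ N, a * n * a⁻¹ ∈ N) (h : Cm N a g)
    (h' : Cm N b g) : Cm N (a * b) g := by
  have e : a * b * g * (a * b)⁻¹ * g⁻¹ = (a * (b * g * b⁻¹ * g⁻¹) * a⁻¹) * (a * g * a⁻¹ * g⁻¹) := by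
    group
  have := N.mul_mem (ha _ h') h
  rw [← e] at this
  exact this

theorem Cm.of_comm {N : Subgroup G} {a b : G} (h : a * b = b * a) : Cm N a b := by
  unfold Cm
  rw [h, mul_inv_cancel_right, mul_inv_cancel]
  exact N.one_mem

theorem Cm.of_mem {N : Subgroup G} {a b : G} (ha : a ∈ N) (hb : ∀ n ∈ N, b * n * b⁻¹ ∈ N) :
    Cm N a b := by
  have e : a * b * a⁻¹ * b⁻¹ = a * (b * a⁻¹ * b⁻¹) := by group
  unfold Cm
  rw [e]
  exact N.mul_mem ha (hb _ (N.inv_mem ha))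

theorem norm_pow {N : Subgroup G} {a : G} (ha : ∀ n ∈ N, a * n * a⁻¹ ∈ N) (k : ℕ) :
    ∀ n ∈ N, a ^ k * n * (a ^ k)⁻¹ ∈ N := by
  induction k with
  | zero => intro n hn; simpa using hn
  | succ k ih =>
    intro n hn
    have e : a ^ (k + 1) * n * (a ^ (k + 1))⁻¹ = a * (a ^ k * n * (a ^ k)⁻¹) * a⁻¹ := by
      rw [pow_succ']; group
    rw [e]
    exact ha _ (ih n hn)

theorem Cm.pow {N : Subgroup G} {a g : G} (ha : ∀ n ∈ N, a * n * a⁻¹ ∈ N) (h : Cm N a g) (k : ℕ) :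
    Cm N (a ^ k) g := by
  induction k with
  | zero => rw [pow_zero]; exact Cm.of_comm (by simp)
  | succ k ih => rw [pow_succ']; exact Cm.mul ha h ih

end Cm

section Rho

variable {G A : Type*} [Group G] [Group A]
variable {x : G} {K T D : Subgroup G} {d : ℕ} {r c : G} {o1 : G → ℤˣ} {o2 : G → A}

theorem units_mul {u v : ℤˣ} (hu : u ≠ 1) (hv : v ≠ 1) : u * v = 1 := by
  rcases Int.units_eq_one_or u with h | h
  · exact absurd h hu
  · rcases Int.units_eq_one_or v with h' | h'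
    · exact absurd h' hv
    · rw [h, h']; rfl

/-- the dihedral group `D* = ⟨ρ, c⟩`, `ρ = t c`, `t` an involution of `PGL`-type -/
structure Rho (x : G) (T : Subgroup G) (d : ℕ) (r c : G) (o1 : G → ℤˣ) (o2 : G → A) (ρ : G) :
    Prop where
  mem : ρ ∈ T
  crc : c * ρ * c⁻¹ = ρ⁻¹
  tt : ρ * c * (ρ * c) = 1
  ord : ∀ k : ℤ, ρ ^ k = 1 ↔ (2 : ℤ) ^ d ∣ k
  r_eq : ∃ k : ℤ, r = ρ ^ (2 * k)
  z_eq : r ^ 2 ^ (d - 2) = ρ ^ ((2 : ℤ) ^ (d - 1))
  o1_ne : o1 ρ ≠ 1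
  o2_eq : o2 ρ = 1
  even : ∀ k : ℤ, o1 (ρ ^ k) = 1 ↔ Even k

theorem rho (F : Frame x K T D d r c o1 o2) (hd : 3 ≤ d) {t : G} (ht : t ∈ T) (tt : t * t = 1)
    (h1 : o1 t ≠ 1) : Rho x T d r c o1 o2 (t * c) := by
  have hti : t⁻¹ = t := inv_eq_of_mul_eq_one_right tt
  have hmem : t * c ∈ T := T.mul_mem ht F.c_T
  obtain ⟨k, hk⟩ := F.conj_c hd ht
  have hko : Odd k := by
    rw [← Int.not_even_iff_odd]
    intro he
    exact h1 ((F.swap hd t ht k hk).2 he)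
  have hsq : (t * c) ^ (2 : ℤ) = r ^ k := by
    rw [zpow_two]
    calc t * c * (t * c) = (t * c * t⁻¹) * c := by rw [hti]; group
      _ = r ^ k := by rw [hk, mul_assoc, F.cc, mul_one]
  have h2m : ∀ m : ℤ, (t * c) ^ (2 * m) = r ^ (k * m) := by
    intro m
    rw [zpow_mul, hsq, zpow_mul]
  have ho1 : o1 (t * c) ≠ 1 := by
    rw [F.o1_mul' ht F.c_T, F.o1_D F.c_mem, mul_one]
    exact h1
  have ho2 : o2 (t * c) = 1 := by
    rw [F.o2_mul' ht F.c_T, F.o2_D F.c_mem, mul_one]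
    exact (F.no_mixed t ht tt).resolve_left h1
  have hcop : IsCoprime k ((2 : ℤ) ^ (d - 1)) := by
    apply IsCoprime.pow_right
    obtain ⟨j, hj⟩ := hko
    exact ⟨1, -j, by rw [hj]; ring⟩
  have heven : ∀ m : ℤ, Even m → o1 ((t * c) ^ m) = 1 := by
    intro m hm
    obtain ⟨a, ha⟩ := hm
    rw [ha, ← two_mul, h2m]
    exact F.o1_D (F.r_rk _)
  have hodd : ∀ m : ℤ, Odd m → o1 ((t * c) ^ m) ≠ 1 := by
    intro m hm
    obtain ⟨a, ha⟩ := hm
    rw [ha, zpow_add_one, F.o1_mul' (T.zpow_mem hmem _) hmem, heven _ (even_two_mul a), one_mul]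
    exact ho1
  refine ⟨hmem, ?_, ?_, ?_, ?_, ?_, ho1, ho2, ?_⟩
  · rw [mul_inv_rev, hti, F.c_inv]
    simp only [mul_assoc, F.cc, mul_one]
  · rw [mul_assoc t, F.cc, mul_one, tt]
  · intro m
    constructor
    · intro h
      rcases Int.even_or_odd m with ⟨a, ha⟩ | ho
      · rw [ha, ← two_mul, h2m, F.rk_one] at h
        have h2 := hcop.symm.dvd_of_dvd_mul_left h
        obtain ⟨b, hb⟩ := h2
        refine ⟨b, ?_⟩
        have e : d = (d - 1) + 1 := by omega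
        rw [ha, hb, e, pow_succ]
        simp only [Nat.add_sub_cancel]
        ring
      · exfalso
        have := hodd m ho
        rw [h] at this
        exact this F.o1_one
    · rintro ⟨b, hb⟩
      have e : d = (d - 1) + 1 := by omega
      have e2 : m = 2 * (2 ^ (d - 1) * b) := by
        rw [hb, e, pow_succ]
        simp only [Nat.add_sub_cancel]
        ring
      rw [e2, h2m, F.rk_one]
      exact ⟨k * b, by ring⟩
  · obtain ⟨a, b, hab⟩ := hcop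
    refine ⟨a, ?_⟩
    rw [h2m]
    have e : r ^ (1 : ℤ) = r ^ (k * a) := by
      rw [F.rk_eq]
      exact ⟨b, by linear_combination -hab⟩
    rw [← e, zpow_one]
  · have e : (2 : ℤ) ^ (d - 1) = 2 * 2 ^ (d - 2) := by
      rw [← pow_succ']; congr 1; omega
    have e' : (2 : ℤ) ^ (d - 1) = 2 ^ (d - 2) * 2 := by rw [e]; ring
    rw [e, h2m, F.zz, F.rk_eq, e']
    obtain ⟨j, hj⟩ := hko
    exact ⟨-j, by rw [hj]; ring⟩
  · intro m
    constructor
    · intro h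
      by_contra hne
      exact hodd m (Int.not_even_iff_odd.1 hne) h
    · exact heven m

/-- `C_T(ρ)` acts by inner-diagonal automorphisms -/
theorem o2_of_comm (F : Frame x K T D d r c o1 o2) (hd : 3 ≤ d)
    (mixed : ∀ y ∈ T, y * y = x → o1 y = 1 ∨ o2 y = 1) {ρ : G} (R : Rho x T d r c o1 o2 ρ)
    {g : G} (hg : g ∈ T) (hρ : g * ρ = ρ * g) : o2 g = 1 := by
  by_contra hne
  -- a power with `o2` of order two
  obtain ⟨k, hk⟩ := F.T_two ⟨g, hg⟩
  have hk' : g ^ 2 ^ k = 1 := by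
    have := congrArg (fun u : T => (u : G)) hk
    simpa using this
  have hex : ∃ n : ℕ, o2 (g ^ 2 ^ n) = 1 := ⟨k, by rw [hk', F.o2_one]⟩
  classical
  set n := Nat.find hex with hn
  have hn1 : o2 (g ^ 2 ^ n) = 1 := Nat.find_spec hex
  have hn0 : n ≠ 0 := by
    intro h0
    rw [h0, pow_zero, pow_one] at hn1
    exact hne hn1
  obtain ⟨m, hm⟩ := Nat.exists_eq_succ_of_ne_zero hn0
  have hm1 : o2 (g ^ 2 ^ m) ≠ 1 := Nat.find_min hex (by rw [← hn, hm]; exact Nat.lt_succ_self m)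
  set g1 := g ^ 2 ^ m with hg1
  have hg1T : g1 ∈ T := T.pow_mem hg _
  have hg1ρ : Commute g1 ρ := Commute.pow_left hρ _
  obtain ⟨a, ha⟩ := F.conj_c hd hg1T
  obtain ⟨b, hb⟩ := R.r_eq
  -- make it commute with `c`
  set g2 := ρ ^ (-(b * a)) * g1 with hg2
  have hg2T : g2 ∈ T := T.mul_mem (T.zpow_mem R.mem _) hg1T
  have hg2ρ : Commute g2 ρ := ((Commute.refl ρ).zpow_left _).mul_left hg1ρ
  have hg2c : g2 * c * g2⁻¹ = c := by
    calc g2 * c * g2⁻¹ = ρ ^ (-(b * a)) * (g1 * c * g1⁻¹) * (ρ ^ (-(b * a)))⁻¹ := by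
          rw [hg2]; group
      _ = ρ ^ (2 * b * a) * (ρ ^ (-(b * a)) * c * (ρ ^ (-(b * a)))⁻¹) := by
          rw [ha, hb, ← zpow_mul]
          simp only [← mul_assoc, ← zpow_add]
          rw [add_comm (-(b * a))]
      _ = c := by
          rw [rho_c R.crc, ← mul_assoc, ← zpow_add]
          have : 2 * b * a + 2 * -(b * a) = 0 := by ring
          rw [this, zpow_zero, one_mul]
  have hg2c' : Commute g2 c := by
    have : g2 * c = c * g2 := by rw [← mul_inv_eq_iff_eq_mul]; exact hg2c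
    exact this
  have hg2r : Commute g2 r := by rw [hb]; exact hg2ρ.zpow_right _
  have hg2D : ∀ e ∈ D, g2 * e = e * g2 := by
    intro e he
    obtain ⟨k, hk | hk⟩ := F.D_form e he
    · rw [hk]; exact hg2r.zpow_right _
    · rw [hk]; exact (hg2r.zpow_right _).mul_right hg2c'
  have ho2ρ : ∀ k : ℤ, o2 (ρ ^ k) = 1 := by
    have hnat : ∀ k : ℕ, o2 (ρ ^ k) = 1 := by
      intro k
      induction k with
      | zero => rw [pow_zero, F.o2_one]
      | succ k ih => rw [pow_succ, F.o2_mul' (T.pow_mem R.mem _) R.mem, ih, R.o2_eq, one_mul]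
    intro k
    obtain ⟨j, hj | hj⟩ := Int.eq_nat_or_neg k
    · rw [hj, zpow_natCast, hnat]
    · rw [hj, zpow_neg, F.o2_inv (T.zpow_mem R.mem _), zpow_natCast, hnat, inv_one]
  have hg2o2 : o2 g2 ≠ 1 := by
    rw [hg2, F.o2_mul' (T.zpow_mem R.mem _) hg1T, ho2ρ, one_mul]
    exact hm1
  have hg2o1 : o1 g2 = 1 := by
    apply (F.swap hd g2 hg2T 0 _).2 Even.zero
    rw [zpow_zero, one_mul]
    exact hg2c
  have hy1 : o1 (g2 * (ρ * c)) ≠ 1 := by
    rw [F.o1_mul' hg2T (T.mul_mem R.mem F.c_T), hg2o1, one_mul, F.o1_mul' R.mem F.c_T,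
      F.o1_D F.c_mem, mul_one]
    exact R.o1_ne
  have hy2 : o2 (g2 * (ρ * c)) ≠ 1 := by
    rw [F.o2_mul' hg2T (T.mul_mem R.mem F.c_T), F.o2_mul' R.mem F.c_T, F.o2_D F.c_mem, mul_one,
      R.o2_eq, mul_one]
    exact hg2o2
  have hyy : (g2 * (ρ * c)) * (g2 * (ρ * c)) = g2 * g2 := by
    have h1 : Commute g2 (ρ * c) := hg2ρ.mul_right hg2c'
    calc (g2 * (ρ * c)) * (g2 * (ρ * c)) = g2 * ((ρ * c) * g2) * (ρ * c) := by group
      _ = g2 * (g2 * (ρ * c)) * (ρ * c) := by rw [← h1.eq]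
      _ = (g2 * g2) * ((ρ * c) * (ρ * c)) := by group
      _ = _ := by rw [R.tt, mul_one]
  have hyT : g2 * (ρ * c) ∈ T := T.mul_mem hg2T (T.mul_mem R.mem F.c_T)
  rcases F.sq_mem g2 hg2T hg2D with h | h
  · rcases F.no_mixed _ hyT (hyy.trans h) with h' | h'
    · exact hy1 h'
    · exact hy2 h'
  · rcases mixed _ hyT (hyy.trans h) with h' | h'
    · exact hy1 h'
    · exact hy2 h'

theorem rho_ne_inv (F : Frame x K T D d r c o1 o2) (hd : 3 ≤ d) {ρ : G}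
    (R : Rho x T d r c o1 o2 ρ) : ρ⁻¹ ≠ ρ := by
  intro h
  have h1 : ρ ^ (2 : ℤ) = 1 := by
    rw [zpow_two]
    nth_rewrite 1 [← h]
    exact inv_mul_cancel ρ
  rw [R.ord] at h1
  have h2 := Int.le_of_dvd (by norm_num) h1
  have h3 : (2 : ℤ) ^ 3 ≤ 2 ^ d := pow_le_pow_right₀ (by norm_num) hd
  norm_num at h3
  omega

/-- inner-diagonal elements -/
theorem form_of_o2 (F : Frame x K T D d r c o1 o2) {ρ : G}
    (R : Rho x T d r c o1 o2 ρ) {g : G} (hg : g ∈ T) (h2 : o2 g = 1) :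
    ∃ y, (y = 1 ∨ y = x) ∧ ∃ a : ℤ, g = y * ρ ^ a ∨ g = y * (ρ ^ a * c) := by
  obtain ⟨b, hb⟩ := R.r_eq
  have key : ∀ g ∈ T, o2 g = 1 → o1 g = 1 →
      ∃ y, (y = 1 ∨ y = x) ∧ ∃ a : ℤ, g = y * ρ ^ a ∨ g = y * (ρ ^ a * c) := by
    intro g hg h2 h1
    obtain ⟨e, he, h⟩ := F.ker g hg h1 h2
    have hD : ∃ a : ℤ, e = ρ ^ a ∨ e = ρ ^ a * c := by
      obtain ⟨k, hk | hk⟩ := F.D_form e he
      · exact ⟨2 * b * k, Or.inl (by rw [hk, hb, ← zpow_mul])⟩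
      · refine ⟨2 * b * k, Or.inr ?_⟩
        rw [hk]
        congr 1
        rw [hb, ← zpow_mul]
    obtain ⟨a, ha⟩ := hD
    rcases h with h | h
    · refine ⟨1, Or.inl rfl, a, ?_⟩
      rw [one_mul, one_mul, h]
      exact ha
    · refine ⟨x, Or.inr rfl, a, ?_⟩
      rcases ha with ha | ha
      · exact Or.inl (by rw [h, ha])
      · exact Or.inr (by rw [h, ha])
  by_cases h1 : o1 g = 1
  · exact key g hg h2 h1
  · obtain ⟨y, hy, a, ha⟩ := key (ρ⁻¹ * g) (T.mul_mem (T.inv_mem R.mem) hg)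
      (by rw [F.o2_mul' (T.inv_mem R.mem) hg, F.o2_inv R.mem, R.o2_eq, h2, inv_one, one_mul])
      (by
        rw [F.o1_mul' (T.inv_mem R.mem) hg, F.o1_inv R.mem]
        apply units_mul _ h1
        intro h
        exact R.o1_ne (inv_eq_one.1 h))
    have hyρ : Commute y ρ := by
      rcases hy with rfl | rfl
      · exact Commute.one_left _
      · exact F.T_comm ρ R.mem
    refine ⟨y, hy, 1 + a, ?_⟩
    rcases ha with ha | ha
    · left
      rw [zpow_add, zpow_one, ← mul_assoc, hyρ.eq, mul_assoc, ← ha, mul_inv_cancel_left]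
    · right
      rw [zpow_add, zpow_one, mul_assoc ρ, ← mul_assoc y, hyρ.eq, mul_assoc, ← ha,
        mul_inv_cancel_left]

/-- `C_T(ρ) = ⟨x⟩ × ⟨ρ⟩` -/
theorem form_of_comm (F : Frame x K T D d r c o1 o2) (hd : 3 ≤ d)
    (mixed : ∀ y ∈ T, y * y = x → o1 y = 1 ∨ o2 y = 1) {ρ : G} (R : Rho x T d r c o1 o2 ρ)
    {g : G} (hg : g ∈ T) (hρ : g * ρ = ρ * g) : ∃ a : ℤ, g = ρ ^ a ∨ g = x * ρ ^ a := by
  obtain ⟨y, hy, a, ha⟩ := form_of_o2 F R hg (o2_of_comm F hd mixed R hg hρ)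
  rcases ha with ha | ha
  · rcases hy with rfl | rfl
    · exact ⟨a, Or.inl (by rw [ha, one_mul])⟩
    · exact ⟨a, Or.inr ha⟩
  · exfalso
    have hyρ : Commute y ρ := by
      rcases hy with rfl | rfl
      · exact Commute.one_left _
      · exact F.T_comm ρ R.mem
    have h1 : Commute (ρ ^ a * c) ρ := by
      have h2 : Commute (y⁻¹ * g) ρ := hyρ.inv_left.mul_left hρ
      rwa [ha, inv_mul_cancel_left] at h2
    have h3 : Commute c ρ := by
      have h4 : Commute ((ρ ^ a)⁻¹ * (ρ ^ a * c)) ρ :=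
        ((Commute.refl ρ).zpow_left a).inv_left.mul_left h1
      rwa [inv_mul_cancel_left] at h4
    apply rho_ne_inv F hd R
    rw [← R.crc, h3.eq, mul_inv_cancel_right]

/-- `D* = ⟨ρ, c⟩` -/
def dstar (ρ c : G) (h : c * ρ * c⁻¹ = ρ⁻¹) (cc : c * c = 1) : Subgroup G where
  carrier := {g | ∃ a : ℤ, g = ρ ^ a ∨ g = ρ ^ a * c}
  one_mem' := ⟨0, Or.inl (zpow_zero _).symm⟩
  mul_mem' := by
    rintro u v ⟨a, ha⟩ ⟨b, hb⟩
    have hm : ∀ k l : ℤ, ρ ^ k * c * ρ ^ l = ρ ^ (k - l) * c := by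
      intro k l
      rw [mul_assoc, c_rho h, ← mul_assoc, ← zpow_add, sub_eq_add_neg]
    rcases ha with rfl | rfl <;> rcases hb with rfl | rfl
    · exact ⟨a + b, Or.inl (zpow_add _ _ _).symm⟩
    · exact ⟨a + b, Or.inr (by rw [← mul_assoc, zpow_add])⟩
    · exact ⟨a - b, Or.inr (hm a b)⟩
    · exact ⟨a - b, Or.inl (by rw [← mul_assoc, hm, mul_assoc, cc, mul_one])⟩
  inv_mem' := by
    rintro u ⟨a, ha⟩
    rcases ha with rfl | rfl
    · exact ⟨-a, Or.inl (zpow_neg _ _).symm⟩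
    · refine ⟨a, Or.inr ?_⟩
      rw [mul_inv_rev, inv_eq_of_mul_eq_one_right cc, ← zpow_neg, c_rho h, neg_neg]

theorem mem_dstar {ρ c : G} {h : c * ρ * c⁻¹ = ρ⁻¹} {cc : c * c = 1} {g : G} :
    g ∈ dstar ρ c h cc ↔ ∃ a : ℤ, g = ρ ^ a ∨ g = ρ ^ a * c := Iff.rfl

theorem dstar_norm {ρ c : G} (h : c * ρ * c⁻¹ = ρ⁻¹) (cc : c * c = 1) {g : G} {i m : ℤ}
    (hρ : g * ρ * g⁻¹ = ρ ^ i) (hc : g * c * g⁻¹ = ρ ^ m * c) :
    ∀ n ∈ dstar ρ c h cc, g * n * g⁻¹ ∈ dstar ρ c h cc := by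
  rintro n ⟨a, rfl | rfl⟩
  · exact ⟨i * a, Or.inl (cz hρ a)⟩
  · refine ⟨i * a + m, Or.inr ?_⟩
    calc g * (ρ ^ a * c) * g⁻¹ = (g * ρ ^ a * g⁻¹) * (g * c * g⁻¹) := by group
      _ = _ := by rw [cz hρ, hc, ← mul_assoc, ← zpow_add]

/-- The main statement. -/
theorem main (F : Frame x K T D d r c o1 o2) (hd : 3 ≤ d)
    (mixed : ∀ y ∈ T, y * y = x → o1 y = 1 ∨ o2 y = 1) {s : G}
    (sT : ∀ u ∈ T, s * u * s⁻¹ ∈ T) (ss : s * s ∈ T) (sx : s * x * s⁻¹ = x * r ^ 2 ^ (d - 2))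
    (ht : o1 (s * c * s⁻¹) ≠ 1) :
    ∃ N : Subgroup G, N ≤ T ∧ x ∉ N ∧ (∀ g, g ∈ T ∨ s⁻¹ * g ∈ T → ∀ n ∈ N, g * n * g⁻¹ ∈ N) ∧
      ∀ g h, (g ∈ T ∨ s⁻¹ * g ∈ T) → (h ∈ T ∨ s⁻¹ * h ∈ T) → Cm N g h := by
  have htT : s * c * s⁻¹ ∈ T := sT c F.c_T
  have htt : s * c * s⁻¹ * (s * c * s⁻¹) = 1 := by
    calc s * c * s⁻¹ * (s * c * s⁻¹) = s * (c * c) * s⁻¹ := by group
      _ = 1 := by rw [F.cc, mul_one, mul_inv_cancel]
  have R := rho F hd htT htt ht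
  set ρ := s * c * s⁻¹ * c with hρ
  have sc : s * c * s⁻¹ = ρ * c := by rw [hρ, mul_assoc (s * c * s⁻¹), F.cc, mul_one]
  obtain ⟨b, hb⟩ := R.r_eq
  -- elements of `T` on `c`
  have conj_c : ∀ u ∈ T, ∃ m : ℤ, u * c * u⁻¹ = ρ ^ (2 * m) * c := by
    intro u hu
    obtain ⟨k, hk⟩ := F.conj_c hd hu
    exact ⟨b * k, by rw [hk, hb, ← zpow_mul, mul_assoc]⟩
  -- `s` on `ρ`
  obtain ⟨k2, hk2⟩ := conj_c _ ss
  have sρ : s * ρ * s⁻¹ = ρ ^ (2 * k2 - 1) := by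
    have e1 : s * (s * c * s⁻¹) * s⁻¹ = ρ ^ (2 * k2) * c := by rw [← hk2]; group
    calc s * ρ * s⁻¹ = (s * (s * c * s⁻¹) * s⁻¹) * (s * c * s⁻¹) := by rw [hρ]; group
      _ = ρ ^ (2 * k2) * (c * ρ * c) := by rw [e1, sc]; group
      _ = ρ ^ (2 * k2) * ρ⁻¹ := by
          rw [← R.crc]
          rw [F.c_inv]
      _ = _ := by rw [zpow_sub_one]
  have hi : Odd (2 * k2 - 1) := ⟨k2 - 1, by ring⟩
  -- elements of `T` on `ρ`
  have conj_ρ : ∀ u ∈ T, ∃ j : ℤ, Odd j ∧ u * ρ * u⁻¹ = ρ ^ j := by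
    intro u hu
    have hu' : s⁻¹ * u * s ∈ T := by
      have e : s⁻¹ * u * s = (s * s)⁻¹ * (s * u * s⁻¹) * (s * s) := by group
      rw [e]
      exact T.mul_mem (T.mul_mem (T.inv_mem ss) (sT u hu)) ss
    obtain ⟨m, hm⟩ := conj_c _ hu'
    obtain ⟨m', hm'⟩ := conj_c _ hu
    have e1 : u * (ρ * c) * u⁻¹ = ρ ^ ((2 * k2 - 1) * (2 * m)) * (ρ * c) := by
      calc u * (ρ * c) * u⁻¹ = s * ((s⁻¹ * u * s) * c * (s⁻¹ * u * s)⁻¹) * s⁻¹ := by
            rw [← sc]; group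
        _ = (s * ρ ^ (2 * m) * s⁻¹) * (s * c * s⁻¹) := by rw [hm]; group
        _ = _ := by rw [cz sρ, sc]
    have e2 : u * ρ * u⁻¹ = ρ ^ ((2 * k2 - 1) * (2 * m) + 1 - 2 * m') := by
      calc u * ρ * u⁻¹ = (u * (ρ * c) * u⁻¹) * (u * c * u⁻¹)⁻¹ := by group
        _ = ρ ^ ((2 * k2 - 1) * (2 * m)) * (ρ * c) * (c⁻¹ * ρ ^ (-(2 * m'))) := by
            rw [e1, hm', mul_inv_rev, zpow_neg]
        _ = ρ ^ ((2 * k2 - 1) * (2 * m)) * ρ * ρ ^ (-(2 * m')) := by group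
        _ = _ := by rw [← zpow_add_one, ← zpow_add]; congr 1
    exact ⟨_, ⟨(2 * k2 - 1) * m - m', by ring⟩, e2⟩
  -- the field generator
  obtain ⟨τ, hτT, hτ1, hτg, -⟩ := F.field_lift _ htT htt ht
  obtain ⟨j, hj, τρ⟩ := conj_ρ τ hτT
  obtain ⟨m, τc⟩ := conj_c τ hτT
  let N := dstar ρ c R.crc F.cc
  have hNdef : N = dstar ρ c R.crc F.cc := rfl
  have hNT : N ≤ T := by
    rintro u ⟨a, rfl | rfl⟩
    · exact T.zpow_mem R.mem _
    · exact T.mul_mem (T.zpow_mem R.mem _) F.c_T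
  have xρ : Commute x ρ := F.T_comm ρ R.mem
  have xc : Commute x c := F.T_comm c F.c_T
  have xN : x ∉ N := by
    rintro ⟨a, ha | ha⟩
    · -- `x = ρ ^ a`
      have h1 : Commute (ρ ^ a) c := by rw [← ha]; exact xc
      have h2 : ρ ^ a * c * (ρ ^ a)⁻¹ = c := by rw [h1.eq, mul_inv_cancel_right]
      rw [rho_c R.crc] at h2
      have h3 : ρ ^ (2 * a) = 1 := mul_eq_right.1 h2
      rw [R.ord] at h3
      obtain ⟨u, hu⟩ := h3
      have e : (2 : ℤ) ^ d = 2 * 2 ^ (d - 1) := by rw [← pow_succ']; congr 1; omega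
      have h4 : a = 2 ^ (d - 1) * u := by
        rw [e] at hu
        have : 2 * a = 2 * (2 ^ (d - 1) * u) := by rw [hu]; ring
        exact mul_left_cancel₀ two_ne_zero this
      apply F.x_not
      rw [ha, h4, zpow_mul, ← R.z_eq]
      exact D.zpow_mem F.z_mem _
    · apply rho_ne_inv F hd R
      have h1 : Commute (ρ ^ a * c) ρ := by rw [← ha]; exact xρ
      have h3 : Commute c ρ := by
        have h4 : Commute ((ρ ^ a)⁻¹ * (ρ ^ a * c)) ρ :=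
          ((Commute.refl ρ).zpow_left a).inv_left.mul_left h1
        rwa [inv_mul_cancel_left] at h4
      rw [← R.crc, h3.eq, mul_inv_cancel_right]
  -- normalisers
  have nT : ∀ u ∈ T, ∀ n ∈ N, u * n * u⁻¹ ∈ N := by
    intro u hu
    obtain ⟨j', -, hj'⟩ := conj_ρ u hu
    obtain ⟨m', hm'⟩ := conj_c u hu
    exact dstar_norm R.crc F.cc hj' hm'
  have ns : ∀ n ∈ N, s * n * s⁻¹ ∈ N :=
    dstar_norm (m := 1) R.crc F.cc sρ (by rw [zpow_one]; exact sc)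
  have n2 : ∀ {a b : G}, (∀ n ∈ N, a * n * a⁻¹ ∈ N) → (∀ n ∈ N, b * n * b⁻¹ ∈ N) →
      ∀ n ∈ N, a * b * n * (a * b)⁻¹ ∈ N := by
    intro a b ha hb n hn
    have e : a * b * n * (a * b)⁻¹ = a * (b * n * b⁻¹) * a⁻¹ := by group
    rw [e]
    exact ha _ (hb _ hn)
  have nS : ∀ g, g ∈ T ∨ s⁻¹ * g ∈ T → ∀ n ∈ N, g * n * g⁻¹ ∈ N := by
    rintro g (hg | hg)
    · exact nT g hg
    · have e : g = s * (s⁻¹ * g) := by group
      rw [e]
      exact n2 ns (nT _ hg)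
  -- the form of the elements of `T`
  have hform : ∀ u ∈ T, ∃ y, (y = 1 ∨ y = x) ∧ ∃ n : ℕ, ∃ a : ℤ,
      u = y * ρ ^ a * τ ^ n ∨ u = y * (ρ ^ a * c) * τ ^ n := by
    intro u hu
    obtain ⟨n, hn⟩ := hτg u hu
    have hτn : o2 (τ ^ n) = o2 τ ^ n := by
      clear hn
      induction n with
      | zero => rw [pow_zero, pow_zero, F.o2_one]
      | succ n ih => rw [pow_succ, pow_succ, F.o2_mul' (T.pow_mem hτT _) hτT, ih]
    have h2 : o2 (u * (τ ^ n)⁻¹) = 1 := by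
      rw [F.o2_mul' hu (T.inv_mem (T.pow_mem hτT _)), F.o2_inv (T.pow_mem hτT _), hτn, hn,
        mul_inv_cancel]
    obtain ⟨y, hy, a, ha⟩ := form_of_o2 F R (T.mul_mem hu (T.inv_mem (T.pow_mem hτT _))) h2
    refine ⟨y, hy, n, a, ?_⟩
    rcases ha with ha | ha
    · left
      rw [← ha, inv_mul_cancel_right]
    · right
      rw [← ha, inv_mul_cancel_right]
  -- commuting modulo `N`
  have gen : ∀ g, (∀ n ∈ N, g * n * g⁻¹ ∈ N) → Cm N x g → Cm N τ g → ∀ u ∈ T, Cm N u g := by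
    intro g hg hx hτ u hu
    have hN : ∀ e ∈ N, Cm N e g := fun e he => Cm.of_mem he hg
    obtain ⟨y, hy, n, a, ha⟩ := hform u hu
    have hyg : Cm N y g := by
      rcases hy with rfl | rfl
      · exact Cm.of_comm (by rw [one_mul, mul_one])
      · exact hx
    have hyT : y ∈ T := by
      rcases hy with rfl | rfl
      · exact T.one_mem
      · exact F.x_mem
    have hτn := Cm.pow (nT τ hτT) hτ n
    rcases ha with rfl | rfl
    · have h1 := Cm.mul (nT y hyT) hyg (hN (ρ ^ a) ⟨a, Or.inl rfl⟩)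
      exact Cm.mul (nT _ (T.mul_mem hyT (T.zpow_mem R.mem a))) h1 hτn
    · have h1 := Cm.mul (nT y hyT) hyg (hN (ρ ^ a * c) ⟨a, Or.inr rfl⟩)
      exact Cm.mul (nT _ (T.mul_mem hyT (hNT ⟨a, Or.inr rfl⟩))) h1 hτn
  have xs : Cm N x s := by
    apply Cm.symm
    unfold Cm
    rw [sx, F.x_inv]
    have e : x * r ^ 2 ^ (d - 2) * x = r ^ 2 ^ (d - 2) := by
      have h1 : Commute x (r ^ 2 ^ (d - 2)) := F.T_comm _ (T.pow_mem F.r_T _)
      rw [h1.eq, mul_assoc, F.xx, mul_one]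
    rw [e, R.z_eq]
    exact ⟨_, Or.inl rfl⟩
  have hxτ : Cm N x τ := Cm.of_comm (F.T_comm τ hτT)
  -- the key: `[s, τ] ∈ N`
  have hsτ : Cm N s τ := by
    have hwT : s * τ * s⁻¹ * τ⁻¹ ∈ T := T.mul_mem (sT τ hτT) (T.inv_mem hτT)
    have hwρ : s * τ * s⁻¹ * τ⁻¹ * ρ = ρ * (s * τ * s⁻¹ * τ⁻¹) := by
      set i := 2 * k2 - 1 with hi0
      have hA : s * τ * ρ * (s * τ)⁻¹ = ρ ^ (i * j) := by
        calc s * τ * ρ * (s * τ)⁻¹ = s * (τ * ρ * τ⁻¹) * s⁻¹ := by group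
          _ = _ := by rw [τρ, cz sρ]
      have hB : τ * s * ρ * (τ * s)⁻¹ = ρ ^ (i * j) := by
        calc τ * s * ρ * (τ * s)⁻¹ = τ * (s * ρ * s⁻¹) * τ⁻¹ := by group
          _ = _ := by rw [sρ, cz τρ, mul_comm]
      have hC : Commute (s * τ * s⁻¹ * τ⁻¹) (ρ ^ (i * j)) := by
        have e : s * τ * s⁻¹ * τ⁻¹ * ρ ^ (i * j) * (s * τ * s⁻¹ * τ⁻¹)⁻¹ = ρ ^ (i * j) := by
          calc s * τ * s⁻¹ * τ⁻¹ * ρ ^ (i * j) * (s * τ * s⁻¹ * τ⁻¹)⁻¹
              = s * τ * ((τ * s)⁻¹ * (ρ ^ (i * j)) * (τ * s)) * (s * τ)⁻¹ := by group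
            _ = s * τ * ρ * (s * τ)⁻¹ := by
                rw [← hB]; group
            _ = _ := hA
        have e2 := mul_inv_eq_iff_eq_mul.1 e
        exact e2
      have hij : Odd (i * j) := hi.mul hj
      have hcop : IsCoprime (i * j) ((2 : ℤ) ^ d) := by
        apply IsCoprime.pow_right
        obtain ⟨u, hu⟩ := hij
        exact ⟨1, -u, by rw [hu]; ring⟩
      obtain ⟨a, b', hab⟩ := hcop
      have hρ1 : ρ = (ρ ^ (i * j)) ^ a := by
        have h1 : ρ ^ (i * j * a - 1) = 1 := by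
          rw [R.ord]
          exact ⟨-b', by linear_combination hab⟩
        rw [← zpow_mul]
        rw [zpow_sub_one, mul_inv_eq_one] at h1
        exact h1.symm
      have := hC.zpow_right a
      rw [← hρ1] at this
      exact this
    obtain ⟨l, hl⟩ := form_of_comm F hd mixed R hwT hwρ
    rcases hl with hl | hl
    · unfold Cm
      rw [hl]
      exact ⟨l, Or.inl rfl⟩
    · -- impossible
      exfalso
      have hw : s * τ * s⁻¹ = x * ρ ^ l * τ := by rw [← hl, inv_mul_cancel_right]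
      obtain ⟨y, hy, n, a, ha⟩ := hform _ ss
      have hyT : y ∈ T := by
        rcases hy with rfl | rfl
        · exact T.one_mem
        · exact F.x_mem
      have hyc : ∀ u ∈ T, Commute y u := by
        intro u hu
        rcases hy with rfl | rfl
        · exact Commute.one_left _
        · exact F.T_comm u hu
      rcases ha with ha | ha
      · exact core (by omega) R.ord R.crc xρ xc (hyc ρ R.mem) (hyc c F.c_T) (hyc τ hτT) F.xx hi hj
          sρ sc (by rw [sx, R.z_eq]) τρ τc hw ha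
      · -- `n` odd
        have hn : Odd n := by
          rw [← Nat.not_even_iff_odd]
          intro hev
          obtain ⟨n', hn'⟩ := hev
          have e1 : s * s * ρ * (s * s)⁻¹ = ρ ^ ((2 * k2 - 1) * (2 * k2 - 1)) := by
            calc s * s * ρ * (s * s)⁻¹ = s * (s * ρ * s⁻¹) * s⁻¹ := by group
              _ = _ := by rw [sρ, cz sρ]
          have e2 : s * s * ρ * (s * s)⁻¹ = ρ ^ (-(j ^ n)) := by
            rw [ha]
            calc y * (ρ ^ a * c) * τ ^ n * ρ * (y * (ρ ^ a * c) * τ ^ n)⁻¹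
                = y * (ρ ^ a * (c * (τ ^ n * ρ * (τ ^ n)⁻¹) * c⁻¹) * (ρ ^ a)⁻¹) * y⁻¹ := by group
              _ = y * (ρ ^ (-(j ^ n))) * y⁻¹ := by
                  rw [tau_rho τρ, c_rho R.crc, mul_inv_cancel_right]; congr 2
                  rw [← zpow_add, ← zpow_neg, ← zpow_add]; congr 1; ring
              _ = _ := by rw [((hyc ρ R.mem).zpow_right _).eq, mul_inv_cancel_right]
          have e3 : (2 : ℤ) ^ d ∣ (2 * k2 - 1) * (2 * k2 - 1) + j ^ n := by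
            rw [← R.ord, zpow_add, ← e1, e2, ← zpow_add, neg_add_cancel, zpow_zero]
          have e4 : (4 : ℤ) ∣ (2 * k2 - 1) * (2 * k2 - 1) + j ^ n := by
            refine dvd_trans ?_ e3
            have : (4 : ℤ) = 2 ^ 2 := by norm_num
            rw [this]
            exact pow_dvd_pow 2 (by omega)
          obtain ⟨j', hj'⟩ := hj.pow (n := n')
          rw [hn', pow_add, hj'] at e4
          obtain ⟨q, hq⟩ := e4
          have : (2 * k2 - 1) * (2 * k2 - 1) + (2 * j' + 1) * (2 * j' + 1) =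
            4 * (k2 * k2 - k2 + j' * j' + j') + 2 := by ring
          omega
        -- `τ ^ n` commutes with `s` modulo `N`
        have h1 : Cm N (s * s) s := Cm.of_comm (by group)
        have h2 : Cm N (τ ^ n) s := by
          have e : τ ^ n = (y * (ρ ^ a * c))⁻¹ * (s * s) := by rw [ha]; group
          have hyN : Cm N (y * (ρ ^ a * c))⁻¹ s := by
            have hys : Cm N y⁻¹ s := by
              rcases hy with rfl | rfl
              · rw [inv_one]; exact Cm.of_comm (by rw [one_mul, mul_one])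
              · rw [F.x_inv]; exact xs
            rw [mul_inv_rev]
            have hmem : (ρ ^ a * c)⁻¹ ∈ N := N.inv_mem ⟨a, Or.inr rfl⟩
            exact Cm.mul (nT _ (hNT hmem)) (Cm.of_mem hmem ns) hys
          rw [e]
          exact Cm.mul (nT _ (T.inv_mem (T.mul_mem hyT (hNT ⟨a, Or.inr rfl⟩)))) hyN h1
        obtain ⟨k, hk⟩ := F.T_two ⟨τ, hτT⟩
        have hk' : τ ^ 2 ^ k = 1 := by
          have := congrArg (fun u : T => (u : G)) hk
          simpa using this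
        have hcop : Nat.Coprime n (2 ^ k) := by
          apply Nat.Coprime.pow_right
          exact Nat.coprime_two_right.2 hn
        -- `τ` is a power of `τ ^ n`
        have h3 : ∃ q : ℕ, τ = (τ ^ n) ^ q := by
          rcases Nat.eq_zero_or_pos k with h0 | h0
          · refine ⟨0, ?_⟩
            rw [h0] at hk'
            simpa using hk'
          · obtain ⟨q, -, hq⟩ := Nat.exists_mul_mod_eq_one_of_coprime hcop (Nat.one_lt_two_pow (by omega))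
            refine ⟨q, ?_⟩
            rw [← pow_mul]
            conv_rhs => rw [← Nat.div_add_mod (n * q) (2 ^ k), hq, pow_add, pow_mul, hk', one_pow,
              one_mul, pow_one]
        obtain ⟨q, hq⟩ := h3
        have h4 : Cm N τ s := by
          rw [hq]
          exact Cm.pow (norm_pow (nT τ hτT) n) h2 q
        have h5 := h4.symm
        unfold Cm at h5
        rw [hl] at h5
        apply xN
        have h6 := N.mul_mem h5 (N.inv_mem (show ρ ^ l ∈ N from ⟨l, Or.inl rfl⟩))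
        rwa [mul_inv_cancel_right] at h6
  have hTτ : ∀ u ∈ T, Cm N u τ := gen τ (nT τ hτT) hxτ (Cm.of_comm rfl)
  have hTs : ∀ u ∈ T, Cm N u s := gen s ns xs hsτ.symm
  have hTT : ∀ u' ∈ T, ∀ u ∈ T, Cm N u u' := fun u' hu' =>
    gen u' (nT u' hu') (Cm.of_comm (F.T_comm u' hu')) (hTτ u' hu').symm
  refine ⟨N, hNT, xN, nS, ?_⟩
  have hST : ∀ g, g ∈ T ∨ s⁻¹ * g ∈ T → ∀ u ∈ T, Cm N g u := by
    rintro g (hg | hg) u hu
    · exact hTT u hu g hg
    · have e : g = s * (s⁻¹ * g) := by group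
      rw [e]
      exact Cm.mul ns (hTs u hu).symm (hTT u hu _ hg)
  have hSs : ∀ g, g ∈ T ∨ s⁻¹ * g ∈ T → Cm N g s := by
    rintro g (hg | hg)
    · exact hTs g hg
    · have e : g = s * (s⁻¹ * g) := by group
      rw [e]
      exact Cm.mul ns (Cm.of_comm rfl) (hTs _ hg)
  rintro g h hg (hh | hh)
  · exact hST g hg h hh
  · have e : h = s * (s⁻¹ * h) := by group
    rw [e]
    exact (Cm.mul ns (hSs g hg).symm (hST g hg _ hh).symm).symm

/-- `x ∉ S'` -/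
theorem not_mem_comm (F : Frame x K T D d r c o1 o2) (hd : 3 ≤ d)
    (mixed : ∀ y ∈ T, y * y = x → o1 y = 1 ∨ o2 y = 1) {s : G}
    (sT : ∀ u ∈ T, s * u * s⁻¹ ∈ T) (ss : s * s ∈ T) (sx : s * x * s⁻¹ = x * r ^ 2 ^ (d - 2))
    (ht : o1 (s * c * s⁻¹) ≠ 1) {S : Subgroup G} (hS : ∀ g ∈ S, g ∈ T ∨ s⁻¹ * g ∈ T) :
    x ∉ ⁅S, S⁆ := by
  obtain ⟨N, -, hx, -, h⟩ := main F hd mixed sT ss sx ht
  intro hmem
  apply hx
  have : ⁅S, S⁆ ≤ N := by
    rw [Subgroup.commutator_le]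
    intro a ha b hb
    exact h a b (hS a ha) (hS b hb)
  exact this hmem

end Rho

end Cfsg.Agent.GH.L2QTwo.TwistD
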