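import Cfsg.Agent.GH.TOne.LemP
import Cfsg.Agent.GH.L2QTwo.TwistD

/-!
# GH-L2, `|Q| = 2`, field involution in `T`: LEMMA R (helper311's text, (M-in-f) (2))

`T_F = ⟨x⟩ × ⟨v, d⟩ × ⟨φ⟩`, `F = ⟨x, z, v, h⟩` with `h` the involution of `⟨φ⟩`, `C_F = C_{T_F}(F)` Sylow in `C(F)`,
`ρ` centralizes `x`, `φ` and permutes `z → v → z v`.  There is no `g` normalizing `T_F` with `g² ∈ T_F`, `x ^ g = x z`,
`v ^ g = v`, `h ^ g = h`, `d ^ g ∈ d ⟨z⟩` if the sectional 2-rank is at most 4.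
-/

set_option autoImplicit false

open Subgroup

namespace Cfsg.Agent.GH.L2QTwo.MInFR

open Cfsg.Agent.TwoFusion.SectionalRank Cfsg.Agent.GH.TOne Cfsg.Agent.GH.L2QTwo.TwistD

/-! ### an abstract computation -/

theorem final {Q : Type*} [Group Q] {g r d c0 c1 e s : Q} (hgd : Commute g d) (dd : d * d = 1)
    (hc0 : d * r * (d * r) = c0) (c0g : Commute c0 g) (c0r : Commute c0 r)
    (hc1 : r * r * r = c1) (c1g : Commute c1 g)
    (he : g * (r * g * r⁻¹) * (r⁻¹ * g * r) = e) (ed : Commute e d) (ee : e * e = 1)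
    (hs : g * g = s) (sr : Commute s r) (ss : s * s = 1) : s = 1 := by
  set g1 := r * g * r⁻¹ with hg1
  set g2 := r⁻¹ * g * r with hg2
  have hdi : d⁻¹ = d := inv_eq_of_mul_eq_one_right dd
  have c0ri : Commute c0 r⁻¹ := c0r.inv_right
  have hdr : d * r = c0 * (r⁻¹ * d⁻¹) := by
    rw [← hc0]; group
  have h1 : d * g1 * d⁻¹ = g2 := by
    have h3 : Commute c0 (r⁻¹ * g * r) := (c0ri.mul_right c0g).mul_right c0r
    calc d * g1 * d⁻¹ = (d * r) * g * (d * r)⁻¹ := by rw [hg1]; group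
      _ = c0 * (r⁻¹ * (d⁻¹ * g * d) * r) * c0⁻¹ := by rw [hdr]; group
      _ = c0 * (r⁻¹ * g * r) * c0⁻¹ := by
          rw [mul_assoc d⁻¹, hgd.eq, inv_mul_cancel_left]
      _ = g2 := by rw [h3.eq, mul_inv_cancel_right]
  have h2 : d * g2 * d⁻¹ = g1 := by
    rw [← h1, hdi]
    calc d * (d * g1 * d) * d = (d * d) * g1 * (d * d) := by group
      _ = g1 := by rw [dd, one_mul, mul_one]
  have h3 : g1 * g2 = g2 * g1 := by
    have e1 : d * e * d⁻¹ = g * g2 * g1 := by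
      calc d * e * d⁻¹ = (d * g * d⁻¹) * (d * g1 * d⁻¹) * (d * g2 * d⁻¹) := by rw [← he]; group
        _ = g * g2 * g1 := by rw [h1, h2, hgd.symm.eq, mul_inv_cancel_right]
    have e2 : d * e * d⁻¹ = e := by rw [ed.symm.eq, mul_inv_cancel_right]
    rw [e2, ← he, mul_assoc g g1 g2, mul_assoc g g2 g1] at e1
    exact mul_left_cancel e1
  have hr1 : r * g1 * r⁻¹ = g2 := by
    have hrr : r * r = c1 * r⁻¹ := by rw [← hc1]; group
    have h4 : Commute c1 r := by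
      rw [← hc1]
      exact ((Commute.refl r).mul_left (Commute.refl r)).mul_left (Commute.refl r)
    have h5 : Commute c1 (r⁻¹ * g * r) := (h4.inv_right.mul_right c1g).mul_right h4
    calc r * g1 * r⁻¹ = (r * r) * g * (r * r)⁻¹ := by rw [hg1]; group
      _ = c1 * (r⁻¹ * g * r) * c1⁻¹ := by rw [hrr]; group
      _ = g2 := by rw [h5.eq, mul_inv_cancel_right]
  have hr2 : r * g2 * r⁻¹ = g := by rw [hg2]; group
  have h6 : g2 * g = g * g2 := by
    calc g2 * g = r * (g1 * g2) * r⁻¹ := by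
          calc g2 * g = (r * g1 * r⁻¹) * (r * g2 * r⁻¹) := by rw [hr1, hr2]
            _ = _ := by group
      _ = r * (g2 * g1) * r⁻¹ := by rw [h3]
      _ = (r * g2 * r⁻¹) * (r * g1 * r⁻¹) := by group
      _ = g * g2 := by rw [hr1, hr2]
  have h7 : g * g1 = g1 * g := by
    calc g * g1 = r * (g2 * g) * r⁻¹ := by
          calc g * g1 = (r * g2 * r⁻¹) * (r * g * r⁻¹) := by rw [hr2]
            _ = _ := by group
      _ = r * (g * g2) * r⁻¹ := by rw [h6]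
      _ = (r * g * r⁻¹) * (r * g2 * r⁻¹) := by group
      _ = g1 * g := by rw [hr2]
  have s1 : g1 * g1 = s := by
    calc g1 * g1 = r * (g * g) * r⁻¹ := by rw [hg1]; group
      _ = s := by rw [hs, ← sr.eq, mul_inv_cancel_right]
  have s2 : g2 * g2 = s := by
    calc g2 * g2 = r⁻¹ * (g * g) * r := by rw [hg2]; group
      _ = s := by rw [hs, mul_assoc, sr.eq, inv_mul_cancel_left]
  have c1' : Commute g g1 := h7
  have c2' : Commute g g2 := h6.symm
  have c3' : Commute g1 g2 := h3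
  have h8 : e * e = s * s * s := by
    rw [← he]
    calc g * g1 * g2 * (g * g1 * g2) = g * g1 * (g2 * g) * (g1 * g2) := by group
      _ = g * g1 * (g * g2) * (g1 * g2) := by rw [h6]
      _ = g * (g1 * g) * (g2 * g1) * g2 := by group
      _ = g * (g * g1) * (g1 * g2) * g2 := by rw [h7, h3]
      _ = (g * g) * (g1 * g1) * (g2 * g2) := by group
      _ = s * s * s := by rw [hs, s1, s2]
  rw [ee, ss, one_mul] at h8
  exact h8.symm

/-! ### powers modulo a central subgroup -/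

open scoped IsMulCommutative in
/-- `c ↦ c ^ [C : A]` is a homomorphism if `A` is central -/
theorem mul_pow_index {C : Type*} [Group C] [Finite C] (A : Subgroup C) (hA : A ≤ center C) (a b : C) :
    (a * b) ^ A.index = a ^ A.index * b ^ A.index := by
  have key : ∀ (g : C) (k : ℕ) (g₀ : C), g₀⁻¹ * g ^ k * g₀ ∈ A → g₀⁻¹ * g ^ k * g₀ = g ^ k := by
    intro g k g₀ h
    have h1 := Subgroup.mem_center_iff.1 (hA h) g₀
    have e : g ^ k = g₀ * (g₀⁻¹ * g ^ k * g₀) * g₀⁻¹ := by group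
    conv_rhs => rw [e, h1]
    group
  let ϕ : A →* ↥(center C) := Subgroup.inclusion hA
  have h : ∀ g : C, MonoidHom.transfer (A := ↥(center C)) ϕ g =
      ϕ ⟨g ^ A.index, MonoidHom.transfer_eq_pow_aux g (key g)⟩ :=
    fun g => MonoidHom.transfer_eq_pow (A := ↥(center C)) ϕ g (key g)
  have h1 := map_mul (MonoidHom.transfer (A := ↥(center C)) ϕ) a b
  rw [h, h, h] at h1
  exact congrArg Subtype.val h1

theorem sq_one {G : Type*} [Group G] {x : G} (h : x * x = 1) (i : ℤ) : x ^ i * x ^ i = 1 := by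
  rw [← zpow_add, ← two_mul, zpow_mul, zpow_two, h, one_zpow]

/-! ### the data -/

variable {G : Type*} [Group G]

/-- the data of Lemma R -/
structure RData (x z v d φ ρ : G) (k : ℕ) : Prop where
  hk : 1 ≤ k
  xx : x * x = 1
  zz : z * z = 1
  vv : v * v = 1
  dd : d * d = 1
  xz : Commute x z
  xv : Commute x v
  xd : Commute x d
  xφ : Commute x φ
  xρ : Commute x ρ
  zv : Commute z v
  zd : Commute z d
  zφ : Commute z φ
  vφ : Commute v φ
  dφ : Commute d φ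
  ρφ : Commute ρ φ
  dv : d * v * d⁻¹ = z * v
  ρz : ρ * z * ρ⁻¹ = v
  ρv : ρ * v * ρ⁻¹ = z * v
  ord : ∀ j : ℤ, φ ^ j = 1 ↔ (2 : ℤ) ^ k ∣ j
  ind : ∀ a b c e : ℤ, x ^ a * z ^ b * v ^ c * d ^ e ∈ zpowers φ → Even a ∧ Even b ∧ Even c ∧ Even e
  syl : ∀ c : G, (∃ n : ℕ, c ^ 2 ^ n = 1) → Commute c x → Commute c z → Commute c v →
    Commute c (φ ^ 2 ^ (k - 1)) → (∃ a b e j : ℤ, c * φ * c⁻¹ = x ^ a * z ^ b * v ^ e * φ ^ j) →
    ∃ a b e j : ℤ, c = x ^ a * z ^ b * v ^ e * φ ^ j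

variable {x z v d φ ρ : G} {k : ℕ}

/-- four pairwise commuting elements -/
def gen4 (a b c e : G) (ab : Commute a b) (ac : Commute a c) (ae : Commute a e) (bc : Commute b c)
    (be : Commute b e) (ce : Commute c e) : Subgroup G where
  carrier := {g | ∃ i j l m : ℤ, g = a ^ i * b ^ j * c ^ l * e ^ m}
  one_mem' := ⟨0, 0, 0, 0, by simp⟩
  mul_mem' := by
    rintro _ _ ⟨i, j, l, m, rfl⟩ ⟨i', j', l', m', rfl⟩
    refine ⟨i + i', j + j', l + l', m + m', ?_⟩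
    have h1 : Commute (b ^ j * c ^ l * e ^ m) (a ^ i') :=
      (((ab.zpow_zpow i' j).mul_right (ac.zpow_zpow i' l)).mul_right (ae.zpow_zpow i' m)).symm
    have h2 : Commute (c ^ l * e ^ m) (b ^ j') :=
      ((bc.zpow_zpow j' l).mul_right (be.zpow_zpow j' m)).symm
    have h3 : Commute (e ^ m) (c ^ l') := (ce.zpow_zpow l' m).symm
    calc a ^ i * b ^ j * c ^ l * e ^ m * (a ^ i' * b ^ j' * c ^ l' * e ^ m')
        = a ^ i * ((b ^ j * c ^ l * e ^ m) * a ^ i') * b ^ j' * c ^ l' * e ^ m' := by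
          simp only [mul_assoc]
      _ = a ^ i * a ^ i' * b ^ j * ((c ^ l * e ^ m) * b ^ j') * c ^ l' * e ^ m' := by
          rw [h1.eq]; simp only [mul_assoc]
      _ = a ^ i * a ^ i' * b ^ j * b ^ j' * c ^ l * (e ^ m * c ^ l') * e ^ m' := by
          rw [h2.eq]; simp only [mul_assoc]
      _ = (a ^ i * a ^ i') * (b ^ j * b ^ j') * (c ^ l * c ^ l') * (e ^ m * e ^ m') := by
          rw [h3.eq]; simp only [mul_assoc]
      _ = _ := by simp only [← zpow_add]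
  inv_mem' := by
    rintro _ ⟨i, j, l, m, rfl⟩
    refine ⟨-i, -j, -l, -m, ?_⟩
    have h1 : Commute (a ^ i) (b ^ j * c ^ l * e ^ m) :=
      ((ab.zpow_zpow i j).mul_right (ac.zpow_zpow i l)).mul_right (ae.zpow_zpow i m)
    have h2 : Commute (b ^ j) (c ^ l * e ^ m) := (bc.zpow_zpow j l).mul_right (be.zpow_zpow j m)
    have h3 : Commute (c ^ l) (e ^ m) := ce.zpow_zpow l m
    have e0 : a ^ i * b ^ j * c ^ l * e ^ m = e ^ m * c ^ l * b ^ j * a ^ i := by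
      calc a ^ i * b ^ j * c ^ l * e ^ m = a ^ i * (b ^ j * c ^ l * e ^ m) := by
            simp only [mul_assoc]
        _ = b ^ j * (c ^ l * e ^ m) * a ^ i := by rw [h1.eq]; simp only [mul_assoc]
        _ = c ^ l * e ^ m * b ^ j * a ^ i := by rw [h2.eq]
        _ = _ := by rw [h3.eq]
    rw [e0]
    simp only [mul_inv_rev, zpow_neg, mul_assoc]

theorem mem_gen4 {a b c e : G} {ab : Commute a b} {ac : Commute a c} {ae : Commute a e}
    {bc : Commute b c} {be : Commute b e} {ce : Commute c e} {g : G} :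
    g ∈ gen4 a b c e ab ac ae bc be ce ↔ ∃ i j l m : ℤ, g = a ^ i * b ^ j * c ^ l * e ^ m := Iff.rfl

theorem gen4_comm {a b c e : G} {ab : Commute a b} {ac : Commute a c} {ae : Commute a e}
    {bc : Commute b c} {be : Commute b e} {ce : Commute c e} {g y : G}
    (hg : g ∈ gen4 a b c e ab ac ae bc be ce) (h1 : Commute y a) (h2 : Commute y b)
    (h3 : Commute y c) (h4 : Commute y e) : Commute y g := by
  obtain ⟨i, j, l, m, rfl⟩ := hg
  exact (((h1.zpow_right i).mul_right (h2.zpow_right j)).mul_right (h3.zpow_right l)).mul_right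
    (h4.zpow_right m)

namespace RData

/-- `C_F` -/
def CF (R : RData x z v d φ ρ k) : Subgroup G := gen4 x z v φ R.xz R.xv R.xφ R.zv R.zφ R.vφ

theorem mem_CF (R : RData x z v d φ ρ k) {g : G} :
    g ∈ R.CF ↔ ∃ a b c j : ℤ, g = x ^ a * z ^ b * v ^ c * φ ^ j := Iff.rfl

/-- `Φ' = V ⟨φ²⟩` -/
def CV (R : RData x z v d φ ρ k) : Subgroup G := gen4 1 z v (φ ^ 2) (Commute.one_left _)
  (Commute.one_left _) (Commute.one_left _) R.zv (R.zφ.pow_right 2) (R.vφ.pow_right 2)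

theorem x_CF (R : RData x z v d φ ρ k) : x ∈ R.CF := ⟨1, 0, 0, 0, by simp⟩
theorem z_CF (R : RData x z v d φ ρ k) : z ∈ R.CF := ⟨0, 1, 0, 0, by simp⟩
theorem v_CF (R : RData x z v d φ ρ k) : v ∈ R.CF := ⟨0, 0, 1, 0, by simp⟩
theorem φ_CF (R : RData x z v d φ ρ k) : φ ∈ R.CF := ⟨0, 0, 0, 1, by simp⟩

theorem z_CV (R : RData x z v d φ ρ k) : z ∈ R.CV := ⟨0, 1, 0, 0, by simp⟩
theorem v_CV (R : RData x z v d φ ρ k) : v ∈ R.CV := ⟨0, 0, 1, 0, by simp⟩
theorem φ_CV (R : RData x z v d φ ρ k) : φ ^ 2 ∈ R.CV := ⟨0, 0, 0, 1, by simp⟩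

theorem CV_le (R : RData x z v d φ ρ k) : R.CV ≤ R.CF := by
  rintro _ ⟨i, j, l, m, rfl⟩
  rw [one_zpow, one_mul]
  exact R.CF.mul_mem (R.CF.mul_mem (R.CF.zpow_mem R.z_CF _) (R.CF.zpow_mem R.v_CF _))
    (R.CF.zpow_mem (R.CF.pow_mem R.φ_CF 2) _)

/-- elements commuting with the generators commute with `C_F` -/
theorem comm_CF (R : RData x z v d φ ρ k) {y g : G} (hg : g ∈ R.CF) (h1 : Commute y x)
    (h2 : Commute y z) (h3 : Commute y v) (h4 : Commute y φ) : Commute y g :=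
  gen4_comm hg h1 h2 h3 h4

theorem CF_comm (R : RData x z v d φ ρ k) {a b : G} (ha : a ∈ R.CF) (hb : b ∈ R.CF) : Commute a b := by
  refine R.comm_CF hb ?_ ?_ ?_ ?_
  · exact (R.comm_CF ha (Commute.refl x) R.xz R.xv R.xφ).symm
  · exact (R.comm_CF ha R.xz.symm (Commute.refl z) R.zv R.zφ).symm
  · exact (R.comm_CF ha R.xv.symm R.zv.symm (Commute.refl v) R.vφ).symm
  · exact (R.comm_CF ha R.xφ.symm R.zφ.symm R.vφ.symm (Commute.refl φ)).symm

theorem sq_form (R : RData x z v d φ ρ k) (i j l m : ℤ) :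
    x ^ i * z ^ j * v ^ l * φ ^ m * (x ^ i * z ^ j * v ^ l * φ ^ m) = φ ^ (2 * m) := by
  have hx : x ^ i * x ^ i = 1 := sq_one R.xx i
  have hz : z ^ j * z ^ j = 1 := sq_one R.zz j
  have hv : v ^ l * v ^ l = 1 := sq_one R.vv l
  have e : x ^ i * z ^ j * v ^ l * φ ^ m * (x ^ i * z ^ j * v ^ l * φ ^ m) =
      (x ^ i * x ^ i) * (z ^ j * z ^ j) * (v ^ l * v ^ l) * (φ ^ m * φ ^ m) := by
    have h1 : Commute (z ^ j * v ^ l * φ ^ m) (x ^ i) :=
      (((R.xz.zpow_zpow i j).mul_right (R.xv.zpow_zpow i l)).mul_right (R.xφ.zpow_zpow i m)).symm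
    have h2 : Commute (v ^ l * φ ^ m) (z ^ j) :=
      ((R.zv.zpow_zpow j l).mul_right (R.zφ.zpow_zpow j m)).symm
    have h3 : Commute (φ ^ m) (v ^ l) := (R.vφ.zpow_zpow l m).symm
    calc x ^ i * z ^ j * v ^ l * φ ^ m * (x ^ i * z ^ j * v ^ l * φ ^ m)
        = x ^ i * ((z ^ j * v ^ l * φ ^ m) * x ^ i) * z ^ j * v ^ l * φ ^ m := by
          simp only [mul_assoc]
      _ = x ^ i * x ^ i * z ^ j * ((v ^ l * φ ^ m) * z ^ j) * v ^ l * φ ^ m := by
          rw [h1.eq]; simp only [mul_assoc]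
      _ = x ^ i * x ^ i * z ^ j * z ^ j * v ^ l * (φ ^ m * v ^ l) * φ ^ m := by
          rw [h2.eq]; simp only [mul_assoc]
      _ = _ := by rw [h3.eq]; simp only [mul_assoc]
  rw [e, hx, hz, hv]
  simp only [one_mul]
  rw [← zpow_add, two_mul]

/-- squares of elements of `C_F` are in `Φ'` -/
theorem sq_CF (R : RData x z v d φ ρ k) {a : G} (ha : a ∈ R.CF) : a * a ∈ R.CV := by
  obtain ⟨i, j, l, m, rfl⟩ := ha
  rw [R.sq_form]
  refine ⟨0, 0, 0, m, ?_⟩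
  rw [← zpow_natCast, ← zpow_mul]
  simp

theorem pow_CF (R : RData x z v d φ ρ k) {a : G} (ha : a ∈ R.CF) : a ^ 2 ^ k = 1 := by
  obtain ⟨i, j, l, m, rfl⟩ := ha
  have e : 2 ^ k = 2 * 2 ^ (k - 1) := by
    rw [← pow_succ']
    congr 1
    have := R.hk
    omega
  rw [e, pow_mul, pow_two, R.sq_form, ← zpow_natCast, ← zpow_mul, R.ord]
  refine ⟨m, ?_⟩
  have e2 : (2 : ℤ) ^ k = 2 * 2 ^ (k - 1) := by
    rw [← pow_succ']
    congr 1
    have := R.hk
    omega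
  push_cast
  rw [e2]; ring

/-- involutions of `C_F` commute with whatever centralizes `F` -/
theorem comm_of_sq (R : RData x z v d φ ρ k) {c e : G} (he : e ∈ R.CF) (hee : e * e = 1)
    (h1 : Commute c x) (h2 : Commute c z) (h3 : Commute c v) (h4 : Commute c (φ ^ 2 ^ (k - 1))) :
    Commute c e := by
  obtain ⟨i, j, l, m, rfl⟩ := he
  rw [R.sq_form, R.ord] at hee
  obtain ⟨u, hu⟩ := hee
  have e2 : (2 : ℤ) ^ k = 2 * 2 ^ (k - 1) := by
    rw [← pow_succ']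
    congr 1
    have := R.hk
    omega
  have hm : m = 2 ^ (k - 1) * u := by
    rw [e2] at hu
    have : 2 * m = 2 * (2 ^ (k - 1) * u) := by rw [hu]; ring
    exact mul_left_cancel₀ two_ne_zero this
  have h5 : Commute c (φ ^ m) := by
    have e3 : φ ^ m = (φ ^ 2 ^ (k - 1)) ^ u := by
      rw [hm, zpow_mul, ← zpow_natCast]
      push_cast
      rfl
    rw [e3]
    exact h4.zpow_right u
  exact (((h1.zpow_right i).mul_right (h2.zpow_right j)).mul_right (h3.zpow_right l)).mul_right h5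

/-- an element centralizing `F` and normalizing `C_F` centralizes `C_F` -/
theorem comm_φ [Finite G] (R : RData x z v d φ ρ k) {c : G} (h1 : Commute c x) (h2 : Commute c z)
    (h3 : Commute c v) (h4 : Commute c (φ ^ 2 ^ (k - 1))) (h5 : c * φ * c⁻¹ ∈ R.CF) :
    Commute c φ := by
  -- `c ^ n ∈ C_F`, `n` odd
  obtain ⟨a, n, hn, hord⟩ : ∃ a n : ℕ, ¬ 2 ∣ n ∧ orderOf c = 2 ^ a * n :=
    Nat.exists_eq_pow_mul_and_not_dvd (orderOf_pos c).ne' 2 (by norm_num)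
  have hcc : ∀ i : ℕ, c ^ i * φ * (c ^ i)⁻¹ ∈ R.CF := by
    intro i
    induction i with
    | zero => simpa using R.φ_CF
    | succ i ih =>
      have e : c ^ (i + 1) * φ * (c ^ (i + 1))⁻¹ = c * (c ^ i * φ * (c ^ i)⁻¹) * c⁻¹ := by
        rw [pow_succ']; group
      rw [e]
      obtain ⟨i', j', l', m', h⟩ := ih
      rw [h]
      have e2 : c * (x ^ i' * z ^ j' * v ^ l' * φ ^ m') * c⁻¹ =
          x ^ i' * z ^ j' * v ^ l' * (c * φ * c⁻¹) ^ m' := by
        have h6 : Commute c (x ^ i' * z ^ j' * v ^ l') :=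
          ((h1.zpow_right i').mul_right (h2.zpow_right j')).mul_right (h3.zpow_right l')
        rw [conj_zpow, ← mul_assoc, h6.eq]
        group
      rw [e2]
      exact R.CF.mul_mem (R.CF.mul_mem (R.CF.mul_mem (R.CF.zpow_mem R.x_CF _)
        (R.CF.zpow_mem R.z_CF _)) (R.CF.zpow_mem R.v_CF _)) (R.CF.zpow_mem h5 _)
  have hcn : c ^ n ∈ R.CF := by
    refine R.syl (c ^ n) ⟨a, ?_⟩ (h1.pow_left n) (h2.pow_left n) (h3.pow_left n) (h4.pow_left n)
      (hcc n)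
    rw [← pow_mul, mul_comm, ← hord, pow_orderOf_eq_one]
  have hnodd : Odd n := Nat.not_even_iff_odd.1 (fun h => hn h.two_dvd)
  by_contra hne
  set e0 := c * φ * c⁻¹ * φ⁻¹ with he0
  have he0' : e0 ∈ R.CF := R.CF.mul_mem h5 (R.CF.inv_mem R.φ_CF)
  have he0ne : e0 ≠ 1 := by
    intro h
    apply hne
    have : c * φ * c⁻¹ = φ := by rwa [he0, mul_inv_eq_one] at h
    exact mul_inv_eq_iff_eq_mul.1 this
  -- powers
  have hpow : ∀ i : ℕ, e0 ^ i = c * φ ^ i * c⁻¹ * (φ ^ i)⁻¹ := by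
    intro i
    have h6 : Commute (c * φ * c⁻¹) φ⁻¹ := R.CF_comm h5 (R.CF.inv_mem R.φ_CF)
    rw [he0, h6.mul_pow, conj_pow, inv_pow]
  have hex : ∃ i : ℕ, e0 ^ 2 ^ i = 1 := ⟨k, R.pow_CF he0'⟩
  classical
  set r := Nat.find hex with hr
  have hr1 : e0 ^ 2 ^ r = 1 := Nat.find_spec hex
  have hr0 : r ≠ 0 := by
    intro h0
    rw [h0, pow_zero, pow_one] at hr1
    exact he0ne hr1
  obtain ⟨m, hm⟩ := Nat.exists_eq_succ_of_ne_zero hr0
  have hm1 : e0 ^ 2 ^ m ≠ 1 := Nat.find_min hex (by rw [← hr, hm]; exact Nat.lt_succ_self m)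
  set e1 := e0 ^ 2 ^ m with he1
  have he1' : e1 ∈ R.CF := R.CF.pow_mem he0' _
  have he1sq : e1 * e1 = 1 := by
    rw [he1, ← pow_add, ← two_mul, ← pow_succ']
    rw [hm] at hr1
    exact hr1
  have hc1 : Commute c e1 := R.comm_of_sq he1' he1sq h1 h2 h3 h4
  have hψ : c * φ ^ 2 ^ m * c⁻¹ = e1 * φ ^ 2 ^ m := by
    rw [he1, hpow, inv_mul_cancel_right]
  have hit : ∀ i : ℕ, c ^ i * φ ^ 2 ^ m * (c ^ i)⁻¹ = e1 ^ i * φ ^ 2 ^ m := by
    intro i
    induction i with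
    | zero => simp
    | succ i ih =>
      calc c ^ (i + 1) * φ ^ 2 ^ m * (c ^ (i + 1))⁻¹
          = c * (c ^ i * φ ^ 2 ^ m * (c ^ i)⁻¹) * c⁻¹ := by rw [pow_succ']; group
        _ = (c * e1 ^ i) * φ ^ 2 ^ m * c⁻¹ := by rw [ih]; group
        _ = e1 ^ i * (c * φ ^ 2 ^ m * c⁻¹) := by rw [(hc1.pow_right i).eq]; group
        _ = e1 ^ (i + 1) * φ ^ 2 ^ m := by rw [hψ, pow_succ]; group
  have h7 : c ^ n * φ ^ 2 ^ m * (c ^ n)⁻¹ = φ ^ 2 ^ m := by
    have := R.CF_comm hcn (R.CF.pow_mem R.φ_CF (2 ^ m))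
    rw [this.eq, mul_inv_cancel_right]
  rw [hit] at h7
  have h8 : e1 ^ n = 1 := mul_eq_right.1 h7
  obtain ⟨n', hn'⟩ := hnodd
  rw [hn', pow_succ, pow_mul, pow_two, he1sq, one_pow, one_mul] at h8
  exact hm1 h8

/-- an element centralizing `F` and normalizing `C_F` centralizes `C_F` -/
theorem mem_cent [Finite G] (R : RData x z v d φ ρ k) {c : G} (h1 : Commute c x) (h2 : Commute c z)
    (h3 : Commute c v) (h4 : Commute c (φ ^ 2 ^ (k - 1))) (h5 : c * φ * c⁻¹ ∈ R.CF) :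
    c ∈ centralizer (R.CF : Set G) := by
  rw [mem_centralizer_iff]
  intro a ha
  exact (R.comm_CF ha h1 h2 h3 (R.comm_φ h1 h2 h3 h4 h5)).symm

theorem CF_le (R : RData x z v d φ ρ k) : R.CF ≤ centralizer (R.CF : Set G) := by
  intro a ha
  rw [mem_centralizer_iff]
  intro b hb
  exact (R.CF_comm ha hb).symm

/-- the index of `C_F` in its centralizer is odd -/
theorem odd_index [Finite G] (R : RData x z v d φ ρ k) :
    ¬ 2 ∣ (R.CF.subgroupOf (centralizer (R.CF : Set G))).index := by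
  intro hdvd
  set C := centralizer (R.CF : Set G) with hC
  have hnorm : (R.CF.subgroupOf C).Normal := by
    refine ⟨fun a ha c => ?_⟩
    rw [mem_subgroupOf] at ha ⊢
    have h1 := mem_centralizer_iff.1 c.2 _ ha
    have e : ((c * a * c⁻¹ : C) : G) = a := by
      push_cast
      rw [← h1, mul_inv_cancel_right]
    rw [e]
    exact ha
  have hfact : Fact (Nat.Prime 2) := ⟨Nat.prime_two⟩
  have hcard : 2 ∣ Nat.card (C ⧸ R.CF.subgroupOf C) := hdvd
  obtain ⟨q, hq⟩ := exists_prime_orderOf_dvd_card' (G := C ⧸ R.CF.subgroupOf C) 2 hcard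
  obtain ⟨c, rfl⟩ := QuotientGroup.mk_surjective q
  have hc1 : c ∉ R.CF.subgroupOf C := by
    intro h
    rw [(QuotientGroup.eq_one_iff c).2 h, orderOf_one] at hq
    norm_num at hq
  have hc2 : (c : G) * c ∈ R.CF := by
    have h1 : (QuotientGroup.mk c : C ⧸ R.CF.subgroupOf C) ^ 2 = 1 := by
      rw [← hq]; exact pow_orderOf_eq_one _
    rw [← QuotientGroup.mk_pow, QuotientGroup.eq_one_iff, mem_subgroupOf] at h1
    rw [← pow_two]
    exact h1
  apply hc1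
  rw [mem_subgroupOf]
  have hcc : ∀ a ∈ R.CF, Commute (c : G) a := fun a ha => ((mem_centralizer_iff.1 c.2) a ha).symm
  refine R.syl c ⟨k + 1, ?_⟩ (hcc _ R.x_CF) (hcc _ R.z_CF) (hcc _ R.v_CF)
    (hcc _ (R.CF.pow_mem R.φ_CF _)) ?_
  · rw [pow_succ', pow_mul, pow_two]
    exact R.pow_CF hc2
  · have := hcc _ R.φ_CF
    rw [this.eq, mul_inv_cancel_right]
    exact R.φ_CF

/-- `[C(C_F) : C_F]` -/
noncomputable def idx (R : RData x z v d φ ρ k) : ℕ :=
  (R.CF.subgroupOf (centralizer (R.CF : Set G))).index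

theorem idx_odd [Finite G] (R : RData x z v d φ ρ k) : Odd R.idx :=
  Nat.not_even_iff_odd.1 (fun h => R.odd_index h.two_dvd)

theorem mul_pow_idx [Finite G] (R : RData x z v d φ ρ k) {a b : G}
    (ha : a ∈ centralizer (R.CF : Set G)) (hb : b ∈ centralizer (R.CF : Set G)) :
    (a * b) ^ R.idx = a ^ R.idx * b ^ R.idx := by
  have hle : R.CF.subgroupOf (centralizer (R.CF : Set G)) ≤
      center (centralizer (R.CF : Set G)) := by
    intro a ha
    rw [mem_subgroupOf] at ha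
    rw [mem_center_iff]
    intro c
    exact Subtype.ext ((mem_centralizer_iff.1 c.2) _ ha).symm
  have := mul_pow_index _ hle ⟨a, ha⟩ ⟨b, hb⟩
  exact congrArg Subtype.val this

theorem pow_idx_mem [Finite G] (R : RData x z v d φ ρ k) {a : G}
    (ha : a ∈ centralizer (R.CF : Set G)) : a ^ R.idx ∈ R.CF := by
  set C := centralizer (R.CF : Set G) with hC
  have hnorm : (R.CF.subgroupOf C).Normal := by
    refine ⟨fun a ha c => ?_⟩
    rw [mem_subgroupOf] at ha ⊢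
    have h1 := mem_centralizer_iff.1 c.2 _ ha
    have e : ((c * a * c⁻¹ : C) : G) = a := by
      push_cast
      rw [← h1, mul_inv_cancel_right]
    rw [e]
    exact ha
  have := (R.CF.subgroupOf C).pow_index_mem ⟨a, ha⟩
  rw [mem_subgroupOf] at this
  exact this

/-- `W = Φ' O(C(C_F))` -/
def W [Finite G] (R : RData x z v d φ ρ k) : Subgroup G where
  carrier := {w | w ∈ centralizer (R.CF : Set G) ∧ w ^ R.idx ∈ R.CV}
  one_mem' := ⟨one_mem _, by rw [one_pow]; exact one_mem _⟩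
  mul_mem' := by
    rintro a b ⟨ha, ha'⟩ ⟨hb, hb'⟩
    exact ⟨mul_mem ha hb, by rw [R.mul_pow_idx ha hb]; exact mul_mem ha' hb'⟩
  inv_mem' := by
    rintro a ⟨ha, ha'⟩
    exact ⟨inv_mem ha, by rw [inv_pow]; exact inv_mem ha'⟩

theorem mem_W [Finite G] (R : RData x z v d φ ρ k) {w : G} :
    w ∈ R.W ↔ w ∈ centralizer (R.CF : Set G) ∧ w ^ R.idx ∈ R.CV := Iff.rfl

theorem CV_le_W [Finite G] (R : RData x z v d φ ρ k) : R.CV ≤ R.W := fun _ ha =>
  ⟨R.CF_le (R.CV_le ha), R.CV.pow_mem ha _⟩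

/-- elements acting trivially on `C_F/Φ'` -/
structure Act (R : RData x z v d φ ρ k) (n : G) : Prop where
  triv : ∀ a ∈ R.CF, n * a * n⁻¹ * a⁻¹ ∈ R.CV

theorem Act.mk' [Finite G] (R : RData x z v d φ ρ k) {n : G} (hx : n * x * n⁻¹ * x⁻¹ ∈ R.CV)
    (hz : n * z * n⁻¹ * z⁻¹ ∈ R.CV) (hv : n * v * n⁻¹ * v⁻¹ ∈ R.CV)
    (hφ : n * φ * n⁻¹ * φ⁻¹ ∈ R.CV) : R.Act n := by
  -- the set of good elements is a subgroup
  let B : Subgroup G :=
    { carrier := {a | a ∈ R.CF ∧ n * a * n⁻¹ * a⁻¹ ∈ R.CV}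
      one_mem' := ⟨one_mem _, by simp⟩
      mul_mem' := by
        rintro a b ⟨ha, ha'⟩ ⟨hb, hb'⟩
        refine ⟨mul_mem ha hb, ?_⟩
        have e : n * (a * b) * n⁻¹ * (a * b)⁻¹ =
            (n * a * n⁻¹ * a⁻¹) * (a * (n * b * n⁻¹ * b⁻¹) * a⁻¹) := by group
        have h1 : Commute a (n * b * n⁻¹ * b⁻¹) := R.CF_comm ha (R.CV_le hb')
        rw [e, h1.eq, mul_inv_cancel_right]
        exact mul_mem ha' hb'
      inv_mem' := by
        rintro a ⟨ha, ha'⟩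
        refine ⟨inv_mem ha, ?_⟩
        have e : n * a⁻¹ * n⁻¹ * a⁻¹⁻¹ = a⁻¹ * (a * (n * a⁻¹ * n⁻¹)) * a := by group
        have e2 : a * (n * a⁻¹ * n⁻¹) = (n * a * n⁻¹ * a⁻¹)⁻¹ := by group
        have h1 : Commute a⁻¹ (n * a * n⁻¹ * a⁻¹)⁻¹ :=
          R.CF_comm (inv_mem ha) (inv_mem (R.CV_le ha'))
        rw [e, e2, h1.eq, inv_mul_cancel_right]
        exact inv_mem ha' }
  refine ⟨fun a ha => ?_⟩
  obtain ⟨i, j, l, m, rfl⟩ := ha
  have bx : x ∈ B := ⟨R.x_CF, hx⟩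
  have bz : z ∈ B := ⟨R.z_CF, hz⟩
  have bv : v ∈ B := ⟨R.v_CF, hv⟩
  have bφ : φ ∈ B := ⟨R.φ_CF, hφ⟩
  exact (B.mul_mem (B.mul_mem (B.mul_mem (B.zpow_mem bx i) (B.zpow_mem bz j)) (B.zpow_mem bv l))
    (B.zpow_mem bφ m)).2

variable {R : RData x z v d φ ρ k} {n : G}

theorem Act.mem_CF (h : R.Act n) {a : G} (ha : a ∈ R.CF) : n * a * n⁻¹ ∈ R.CF := by
  have := R.CF.mul_mem (R.CV_le (h.triv a ha)) ha
  rwa [inv_mul_cancel_right] at this

theorem Act.mem_CV (h : R.Act n) {a : G} (ha : a ∈ R.CV) : n * a * n⁻¹ ∈ R.CV := by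
  have := R.CV.mul_mem (h.triv a (R.CV_le ha)) ha
  rwa [inv_mul_cancel_right] at this

/-- the elements normalizing `C_F` and `Φ'` -/
def NN (R : RData x z v d φ ρ k) : Subgroup G := normalizer (R.CF : Set G) ⊓ normalizer (R.CV : Set G)

theorem Act.mem_NN [Finite G] (h : R.Act n) : n ∈ R.NN :=
  ⟨Subgroup.mem_normalizer_fintype fun _ ha => h.mem_CF ha,
    Subgroup.mem_normalizer_fintype fun _ ha => h.mem_CV ha⟩

theorem cent_conj (R : RData x z v d φ ρ k) (hn : n ∈ R.NN) {c : G}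
    (hc : c ∈ centralizer (R.CF : Set G)) : n * c * n⁻¹ ∈ centralizer (R.CF : Set G) := by
  rw [mem_centralizer_iff] at hc ⊢
  intro a ha
  have h1 : n⁻¹ * a * n ∈ R.CF := by
    have := (Subgroup.mem_normalizer_iff.1 (inv_mem hn.1) a).1 ha
    rwa [inv_inv] at this
  have h2 := hc _ h1
  calc a * (n * c * n⁻¹) = n * ((n⁻¹ * a * n) * c) * n⁻¹ := by group
    _ = n * (c * (n⁻¹ * a * n)) * n⁻¹ := by rw [h2]
    _ = n * c * n⁻¹ * a := by group

theorem cent_NN (R : RData x z v d φ ρ k) : centralizer (R.CF : Set G) ≤ R.NN := by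
  intro c hc
  have key : ∀ A : Subgroup G, A ≤ R.CF → c ∈ normalizer (A : Set G) := by
    intro A hA
    rw [Subgroup.mem_normalizer_iff]
    intro a
    constructor
    · intro ha
      have h1 := mem_centralizer_iff.1 hc a (hA ha)
      rwa [← h1, mul_inv_cancel_right]
    · intro ha
      have h1 := mem_centralizer_iff.1 hc _ (hA ha)
      have h2 : c * a * c⁻¹ = a := by
        calc c * a * c⁻¹ = c⁻¹ * ((c * a * c⁻¹ * c) * c⁻¹) * c := by
              have : c * a * c⁻¹ * c = c * (c * a * c⁻¹) := h1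
              rw [this]; group
          _ = a := by group
      rwa [h2] at ha
  exact ⟨key _ le_rfl, key _ R.CV_le⟩

theorem W_normal [Finite G] (R : RData x z v d φ ρ k) : (R.W.subgroupOf R.NN).Normal := by
  refine ⟨fun w hw n => ?_⟩
  rw [mem_subgroupOf] at hw ⊢
  refine ⟨R.cent_conj n.2 hw.1, ?_⟩
  have e : ((n * w * n⁻¹ : R.NN) : G) ^ R.idx = n * (w : G) ^ R.idx * n⁻¹ := by
    push_cast
    rw [conj_pow]
  rw [e]
  exact (Subgroup.mem_normalizer_iff.1 n.2.2 _).1 hw.2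

/-- an element acting trivially on `C_F/Φ'` commutes with the centralizer of `C_F` modulo `W` -/
theorem Act.comm [Finite G] (h : R.Act n) {c : G} (hc : c ∈ centralizer (R.CF : Set G)) :
    n * c * n⁻¹ * c⁻¹ ∈ R.W := by
  have h1 := R.cent_conj h.mem_NN hc
  refine ⟨mul_mem h1 (inv_mem hc), ?_⟩
  rw [R.mul_pow_idx h1 (inv_mem hc), conj_pow, inv_pow]
  exact h.triv _ (R.pow_idx_mem hc)

theorem sq_W [Finite G] (R : RData x z v d φ ρ k) {c : G} (hc : c ∈ centralizer (R.CF : Set G)) :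
    c * c ∈ R.W := by
  refine ⟨mul_mem hc hc, ?_⟩
  rw [R.mul_pow_idx hc hc]
  exact R.sq_CF (R.pow_idx_mem hc)

end RData

/-! ### parity -/

theorem zpow_even {a : G} (h : a * a = 1) {e : ℤ} (he : Even e) : a ^ e = 1 := by
  obtain ⟨m, hm⟩ := he
  rw [hm, zpow_add, sq_one h]

theorem zpow_odd {a : G} (h : a * a = 1) {e : ℤ} (he : Odd e) : a ^ e = a := by
  obtain ⟨m, hm⟩ := he
  rw [hm, zpow_add_one, two_mul, zpow_add, sq_one h, one_mul]

namespace RData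

theorem z_ne (R : RData x z v d φ ρ k) : z ≠ 1 := by
  intro h
  have h1 := (R.ind 0 1 0 0 (by
    rw [h]
    simp only [zpow_zero, one_zpow, one_mul]
    exact one_mem _)).2.1
  exact (by decide : ¬ Even (1 : ℤ)) h1

theorem dv_ne (R : RData x z v d φ ρ k) : d * v ≠ v * d := by
  intro h
  apply R.z_ne
  have h1 := R.dv
  rw [h, mul_inv_cancel_right] at h1
  exact mul_eq_right.1 h1.symm

/-- elements of `T_F` commuting with `v` and `d` -/
theorem form_of_comm (R : RData x z v d φ ρ k) {a b c e j : ℤ} {u : G}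
    (hu : u = x ^ a * z ^ b * v ^ c * d ^ e * φ ^ j) (huv : Commute u v) (hud : Commute u d) :
    u = x ^ a * z ^ b * φ ^ j := by
  have he : Even e := by
    by_contra h
    rw [Int.not_even_iff_odd] at h
    rw [zpow_odd R.dd h] at hu
    have h1 : Commute (x ^ a * z ^ b * v ^ c) v :=
      ((R.xv.zpow_left a).mul_left (R.zv.zpow_left b)).mul_left ((Commute.refl v).zpow_left c)
    have h2 : Commute (φ ^ j) v := R.vφ.symm.zpow_left j
    have h3 : Commute ((x ^ a * z ^ b * v ^ c)⁻¹ * u * (φ ^ j)⁻¹) v :=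
      (h1.inv_left.mul_left huv).mul_left h2.inv_left
    rw [hu] at h3
    have e1 : (x ^ a * z ^ b * v ^ c)⁻¹ * (x ^ a * z ^ b * v ^ c * d * φ ^ j) * (φ ^ j)⁻¹ = d := by
      group
    rw [e1] at h3
    exact R.dv_ne h3.eq
  rw [zpow_even R.dd he, mul_one] at hu
  have hc : Even c := by
    by_contra h
    rw [Int.not_even_iff_odd] at h
    rw [zpow_odd R.vv h] at hu
    have h1 : Commute (x ^ a * z ^ b) d := (R.xd.zpow_left a).mul_left (R.zd.zpow_left b)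
    have h2 : Commute (φ ^ j) d := R.dφ.symm.zpow_left j
    have h3 : Commute ((x ^ a * z ^ b)⁻¹ * u * (φ ^ j)⁻¹) d :=
      (h1.inv_left.mul_left hud).mul_left h2.inv_left
    rw [hu] at h3
    have e1 : (x ^ a * z ^ b)⁻¹ * (x ^ a * z ^ b * v * φ ^ j) * (φ ^ j)⁻¹ = v := by group
    rw [e1] at h3
    exact R.dv_ne h3.eq.symm
  rwa [zpow_even R.vv hc, mul_one] at hu

/-- `d ρ d ρ` and `ρ³` -/
theorem conj_ρ (R : RData x z v d φ ρ k) : ρ⁻¹ * z * ρ = z * v ∧ ρ⁻¹ * v * ρ = z ∧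
    ρ * (z * v) * ρ⁻¹ = z := by
  have h1 : ρ * (z * v) * ρ⁻¹ = z := by
    calc ρ * (z * v) * ρ⁻¹ = (ρ * z * ρ⁻¹) * (ρ * v * ρ⁻¹) := by group
      _ = v * z * v := by rw [R.ρz, R.ρv, mul_assoc]
      _ = z := by rw [← R.zv.eq, mul_assoc, R.vv, mul_one]
  refine ⟨?_, ?_, h1⟩
  · nth_rewrite 1 [← h1]; group
  · nth_rewrite 1 [← R.ρz]; group

end RData

/-! ### the lemma -/

/-- a section generated by elements commuting modulo `N` -/
theorem elemSection_of [Finite G] {N : Subgroup G} {S : Set G} (hN : ∀ s ∈ S, ∀ n ∈ N, s * n * s⁻¹ ∈ N)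
    (hc : ∀ s ∈ S, ∀ t ∈ S, Cm N s t) (hs : ∀ s ∈ S, s * s ∈ N) :
    ElemSection 2 (N ⊔ closure S) N := by
  have hM : N ⊔ closure S ≤ normalizer (N : Set G) := by
    rw [sup_le_iff, closure_le]
    exact ⟨le_normalizer, fun s hs => Subgroup.mem_normalizer_fintype fun n hn => hN s hs n hn⟩
  have hM' : ∀ a ∈ N ⊔ closure S, ∀ n ∈ N, a * n * a⁻¹ ∈ N := fun a ha n hn =>
    (Subgroup.mem_normalizer_iff.1 (hM ha) n).1 hn
  -- `{y ∈ N_G(N) | [y, g] ∈ N}`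
  let B : G → Subgroup G := fun g =>
    { carrier := {y | y ∈ normalizer (N : Set G) ∧ Cm N y g}
      one_mem' := ⟨one_mem _, Cm.of_comm (by rw [one_mul, mul_one])⟩
      mul_mem' := by
        rintro a b ⟨ha, ha'⟩ ⟨hb, hb'⟩
        exact ⟨mul_mem ha hb, Cm.mul (fun n hn => (Subgroup.mem_normalizer_iff.1 ha n).1 hn) ha' hb'⟩
      inv_mem' := by
        rintro a ⟨ha, ha'⟩
        refine ⟨inv_mem ha, ?_⟩
        have h1 := (Subgroup.mem_normalizer_iff.1 (inv_mem ha) _).1 (N.inv_mem ha')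
        have e : a⁻¹ * (a * g * a⁻¹ * g⁻¹)⁻¹ * a⁻¹⁻¹ = a⁻¹ * g * a⁻¹⁻¹ * g⁻¹ := by group
        rw [e] at h1
        exact h1 }
  have h1 : ∀ t ∈ S, ∀ y ∈ N ⊔ closure S, Cm N y t := by
    intro t ht y hy
    have hle : N ⊔ closure S ≤ B t := by
      rw [sup_le_iff, closure_le]
      refine ⟨fun n hn => ⟨le_normalizer hn, Cm.of_mem hn (hN t ht)⟩, fun s hs => ?_⟩
      exact ⟨hM (mem_sup_right (subset_closure hs)), hc s hs t ht⟩
    exact (hle hy).2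
  have h2 : ∀ a ∈ N ⊔ closure S, ∀ y ∈ N ⊔ closure S, Cm N y a := by
    intro a ha y hy
    have hle : N ⊔ closure S ≤ B y := by
      rw [sup_le_iff, closure_le]
      refine ⟨fun n hn => ⟨le_normalizer hn, Cm.of_mem hn (hM' y hy)⟩, fun s hs => ?_⟩
      exact ⟨hM (mem_sup_right (subset_closure hs)), (h1 s hs y hy).symm⟩
    exact (hle ha).2.symm
  refine ⟨le_sup_left, fun a ha b hb => h2 b hb a ha, ?_⟩
  -- squares
  let Q : Subgroup G :=
    { carrier := {y | y ∈ N ⊔ closure S ∧ y * y ∈ N}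
      one_mem' := ⟨one_mem _, by rw [one_mul]; exact one_mem _⟩
      mul_mem' := by
        rintro a b ⟨ha, ha'⟩ ⟨hb, hb'⟩
        refine ⟨mul_mem ha hb, ?_⟩
        have e : a * b * (a * b) = (a * (b * a * b⁻¹ * a⁻¹) * a⁻¹) * (a * a) * (b * b) := by group
        rw [e]
        exact mul_mem (mul_mem (hM' a ha _ (h2 a ha b hb)) ha') hb'
      inv_mem' := by
        rintro a ⟨ha, ha'⟩
        refine ⟨inv_mem ha, ?_⟩
        have e : a⁻¹ * a⁻¹ = (a * a)⁻¹ := by group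
        rw [e]
        exact inv_mem ha' }
  have h3 : N ⊔ closure S ≤ Q := by
    rw [sup_le_iff, closure_le]
    exact ⟨fun n hn => ⟨mem_sup_left hn, mul_mem hn hn⟩,
      fun s hs' => ⟨mem_sup_right (subset_closure hs'), hs s hs'⟩⟩
  intro a ha
  rw [pow_two]
  exact (h3 ha).2

/-- five independent elements modulo `N` -/
theorem kill [Finite G] (hr : RankFour G) {N : Subgroup G} {x₁ x₂ x₃ x₄ x₅ : G}
    (hN : ∀ s ∈ ({x₁, x₂, x₃, x₄, x₅} : Set G), ∀ n ∈ N, s * n * s⁻¹ ∈ N)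
    (hc : ∀ s ∈ ({x₁, x₂, x₃, x₄, x₅} : Set G), ∀ t ∈ ({x₁, x₂, x₃, x₄, x₅} : Set G), Cm N s t)
    (hs : ∀ s ∈ ({x₁, x₂, x₃, x₄, x₅} : Set G), s * s ∈ N)
    {H₁ H₂ H₃ H₄ : Subgroup G} (h₀₁ : N ≤ H₁) (h₁ : x₁ ∈ H₁) (h₁₂ : H₁ ≤ H₂)
    (h₂ : x₂ ∈ H₂) (h₂₃ : H₂ ≤ H₃) (h₃ : x₃ ∈ H₃) (h₃₄ : H₃ ≤ H₄) (h₄ : x₄ ∈ H₄)
    (n₁ : x₁ ∉ N) (n₂ : x₂ ∉ H₁) (n₃ : x₃ ∉ H₂) (n₄ : x₄ ∉ H₃) (n₅ : x₅ ∉ H₄) : False := by
  have key := elemSection_of hN hc hs
  have h5 := hr _ _ key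
  set E := N ⊔ closure ({x₁, x₂, x₃, x₄, x₅} : Set G) with hE
  have hle : closure ({x₁, x₂, x₃, x₄, x₅} : Set G) ≤ E := le_sup_right
  have m1 : x₁ ∈ E := hle (subset_closure (by simp))
  have m2 : x₂ ∈ E := hle (subset_closure (by simp))
  have m3 : x₃ ∈ E := hle (subset_closure (by simp))
  have m4 : x₄ ∈ E := hle (subset_closure (by simp))
  have m5 : x₅ ∈ E := hle (subset_closure (by simp))
  have c0 : N ⊓ E = N := inf_eq_left.2 le_sup_left
  have c1 := LemP.two_mul_card_le (inf_le_inf_right E h₀₁) (x := x₁) ⟨h₁, m1⟩ (fun h => n₁ h.1)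
  have c2 := LemP.two_mul_card_le (inf_le_inf_right E h₁₂) (x := x₂) ⟨h₂, m2⟩ (fun h => n₂ h.1)
  have c3 := LemP.two_mul_card_le (inf_le_inf_right E h₂₃) (x := x₃) ⟨h₃, m3⟩ (fun h => n₃ h.1)
  have c4 := LemP.two_mul_card_le (inf_le_inf_right E h₃₄) (x := x₄) ⟨h₄, m4⟩ (fun h => n₄ h.1)
  have c5 := LemP.two_mul_card_le (inf_le_right : H₄ ⊓ E ≤ E) (x := x₅) m5 (fun h => n₅ h.1)
  rw [c0] at c1
  have cp : 0 < Nat.card N := Nat.card_pos
  omega

namespace RData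

/-- `⟨z, φ²⟩` -/
def PH (R : RData x z v d φ ρ k) : Subgroup G := gen4 1 1 z (φ ^ 2) (Commute.one_left _)
  (Commute.one_left _) (Commute.one_left _) (Commute.one_left _) (Commute.one_left _)
  (R.zφ.pow_right 2)

theorem mem_PH (R : RData x z v d φ ρ k) {u : G} : u ∈ R.PH ↔ ∃ i j : ℤ, u = z ^ i * φ ^ (2 * j) := by
  have e : ∀ j : ℤ, (φ ^ 2) ^ j = φ ^ (2 * j) := by
    intro j
    rw [← zpow_natCast, ← zpow_mul]
    norm_num
  constructor
  · rintro ⟨-, -, i, j, rfl⟩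
    exact ⟨i, j, by rw [one_zpow, one_zpow, one_mul, one_mul, e]⟩
  · rintro ⟨i, j, rfl⟩
    exact ⟨0, 0, i, j, by rw [zpow_zero, one_mul, one_mul, e]⟩

/-- the final rank argument -/
theorem false_of_sq [Finite G] (hr : RankFour G) (R : RData x z v d φ ρ k) {g : G}
    (gx : g * x * g⁻¹ = x * z) (gz : Commute g z) (gv : Commute g v)
    (gd : g * d * g⁻¹ = d ∨ g * d * g⁻¹ = d * z)
    {b j : ℤ} (hj : Odd j) (gφ : g * φ * g⁻¹ = z ^ b * φ ^ j) (gg : g * g ∈ R.PH) : False := by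
  have zPH : z ∈ R.PH := R.mem_PH.2 ⟨1, 0, by simp⟩
  have φPH : φ * φ ∈ R.PH := R.mem_PH.2 ⟨0, 1, by
    rw [zpow_zero, one_mul, mul_one, zpow_two]⟩
  have cz : ∀ s ∈ ({φ, x, v, d, g} : Set G), s * z = z * s := by
    rintro s (rfl | rfl | rfl | rfl | rfl)
    · exact R.zφ.symm
    · exact R.xz
    · exact R.zv.symm
    · exact R.zd.symm
    · exact gz
  have hN : ∀ s ∈ ({φ, x, v, d, g} : Set G), ∀ n ∈ R.PH, s * n * s⁻¹ ∈ R.PH := by
    intro s hs n hn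
    obtain ⟨i, l, rfl⟩ := R.mem_PH.1 hn
    have h1 : ∃ i' l' : ℤ, s * φ * s⁻¹ = z ^ i' * φ ^ l' := by
      rcases hs with rfl | rfl | rfl | rfl | rfl
      · exact ⟨0, 1, by simp⟩
      · exact ⟨0, 1, by rw [R.xφ.eq]; simp⟩
      · exact ⟨0, 1, by rw [R.vφ.eq]; simp⟩
      · exact ⟨0, 1, by rw [R.dφ.eq]; simp⟩
      · exact ⟨b, j, gφ⟩
    obtain ⟨i', l', h1⟩ := h1
    have h2 : s * z ^ i * s⁻¹ = z ^ i := by
      have : Commute s z := cz s hs
      rw [(this.zpow_right i).eq, mul_inv_cancel_right]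
    have h3 : s * φ ^ (2 * l) * s⁻¹ = φ ^ (2 * (l' * l)) := by
      rw [← conj_zpow, h1, zpow_mul, zpow_two]
      have h4 : z ^ i' * φ ^ l' * (z ^ i' * φ ^ l') = φ ^ (2 * l') := by
        have h5 : Commute (φ ^ l') (z ^ i') := R.zφ.symm.zpow_zpow l' i'
        calc z ^ i' * φ ^ l' * (z ^ i' * φ ^ l') = z ^ i' * (φ ^ l' * z ^ i') * φ ^ l' := by group
          _ = (z ^ i' * z ^ i') * (φ ^ l' * φ ^ l') := by rw [h5.eq]; group
          _ = _ := by rw [sq_one R.zz, one_mul, ← zpow_add, two_mul]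
      rw [h4, ← zpow_mul]
      congr 1
      ring
    refine R.mem_PH.2 ⟨i, l' * l, ?_⟩
    calc s * (z ^ i * φ ^ (2 * l)) * s⁻¹ = (s * z ^ i * s⁻¹) * (s * φ ^ (2 * l) * s⁻¹) := by group
      _ = _ := by rw [h2, h3]
  have gφ' : Cm R.PH g φ := by
    unfold Cm
    obtain ⟨j', hj'⟩ := hj
    rw [gφ, hj', zpow_add_one, ← mul_assoc, mul_inv_cancel_right]
    exact R.mem_PH.2 ⟨b, j', rfl⟩
  have gx' : Cm R.PH g x := by
    unfold Cm
    rw [gx, R.xz.eq, mul_inv_cancel_right]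
    exact zPH
  have gd' : Cm R.PH g d := by
    unfold Cm
    rcases gd with h | h
    · rw [h, mul_inv_cancel]; exact one_mem _
    · rw [h, ← R.zd.eq, mul_inv_cancel_right]; exact zPH
  have dv' : Cm R.PH d v := by
    unfold Cm
    rw [R.dv, mul_inv_cancel_right]; exact zPH
  have hc : ∀ s ∈ ({φ, x, v, d, g} : Set G), ∀ t ∈ ({φ, x, v, d, g} : Set G), Cm R.PH s t := by
    rintro s (rfl | rfl | rfl | rfl | rfl) t (rfl | rfl | rfl | rfl | rfl)
    · exact Cm.of_comm rfl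
    · exact Cm.of_comm R.xφ.symm
    · exact Cm.of_comm R.vφ.symm
    · exact Cm.of_comm R.dφ.symm
    · exact gφ'.symm
    · exact Cm.of_comm R.xφ
    · exact Cm.of_comm rfl
    · exact Cm.of_comm R.xv
    · exact Cm.of_comm R.xd
    · exact gx'.symm
    · exact Cm.of_comm R.vφ
    · exact Cm.of_comm R.xv.symm
    · exact Cm.of_comm rfl
    · exact dv'.symm
    · exact Cm.of_comm gv.symm
    · exact Cm.of_comm R.dφ
    · exact Cm.of_comm R.xd.symm
    · exact dv'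
    · exact Cm.of_comm rfl
    · exact gd'.symm
    · exact gφ'
    · exact gx'
    · exact Cm.of_comm gv
    · exact gd'
    · exact Cm.of_comm rfl
  have hs : ∀ s ∈ ({φ, x, v, d, g} : Set G), s * s ∈ R.PH := by
    rintro s (rfl | rfl | rfl | rfl | rfl)
    · exact φPH
    · rw [R.xx]; exact one_mem _
    · rw [R.vv]; exact one_mem _
    · rw [R.dd]; exact one_mem _
    · exact gg
  -- the chain
  let H1 : Subgroup G := gen4 1 1 z φ (Commute.one_left _) (Commute.one_left _) (Commute.one_left _)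
    (Commute.one_left _) (Commute.one_left _) R.zφ
  let H2 : Subgroup G := gen4 1 x z φ (Commute.one_left _) (Commute.one_left _) (Commute.one_left _)
    R.xz R.xφ R.zφ
  have hmem1 : ∀ u, u ∈ H1 ↔ ∃ i j : ℤ, u = z ^ i * φ ^ j := by
    intro u
    constructor
    · rintro ⟨-, -, i, j, rfl⟩; exact ⟨i, j, by simp⟩
    · rintro ⟨i, j, rfl⟩; exact ⟨0, 0, i, j, by simp⟩
  have hmem2 : ∀ u, u ∈ H2 ↔ ∃ a i j : ℤ, u = x ^ a * z ^ i * φ ^ j := by
    intro u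
    constructor
    · rintro ⟨-, a, i, j, rfl⟩; exact ⟨a, i, j, by simp⟩
    · rintro ⟨a, i, j, rfl⟩; exact ⟨0, a, i, j, by simp⟩
  refine kill hr (x₁ := φ) (x₂ := x) (x₃ := v) (x₄ := d) (x₅ := g) hN hc hs (H₁ := H1) (H₂ := H2)
    (H₃ := R.CF) (H₄ := centralizer {x}) ?_ ?_ ?_ ?_ ?_ ?_ ?_ ?_ ?_ ?_ ?_ ?_ ?_
  · intro u hu
    obtain ⟨i, j, rfl⟩ := R.mem_PH.1 hu
    exact (hmem1 _).2 ⟨i, 2 * j, rfl⟩
  · exact (hmem1 _).2 ⟨0, 1, by simp⟩
  · intro u hu
    obtain ⟨i, j, rfl⟩ := (hmem1 u).1 hu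
    exact (hmem2 _).2 ⟨0, i, j, by simp⟩
  · exact (hmem2 _).2 ⟨1, 0, 0, by simp⟩
  · intro u hu
    obtain ⟨a, i, j, rfl⟩ := (hmem2 u).1 hu
    exact ⟨a, i, 0, j, by simp⟩
  · exact R.v_CF
  · intro u hu
    rw [mem_centralizer_singleton_iff]
    exact (R.CF_comm R.x_CF hu).eq.symm
  · rw [mem_centralizer_singleton_iff]
    exact R.xd.eq.symm
  · intro h
    obtain ⟨i, l, h⟩ := R.mem_PH.1 h
    have h1 : z ^ i = φ ^ (1 - 2 * l) := by
      rw [zpow_sub, zpow_one, eq_mul_inv_iff_mul_eq]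
      exact h.symm
    have h2 := (R.ind 0 i 0 0 (by
      simp only [zpow_zero, one_mul, mul_one]
      rw [h1]
      exact zpow_mem (mem_zpowers φ) _)).2.1
    rw [zpow_even R.zz h2] at h1
    have h3 := (R.ord _).1 h1.symm
    have h4 : (2 : ℤ) ∣ 1 - 2 * l := (dvd_pow_self 2 (by have := R.hk; omega)).trans h3
    omega
  · intro h
    obtain ⟨i, l, h⟩ := (hmem1 _).1 h
    have h2 := (R.ind 1 (-i) 0 0 (by
      simp only [zpow_zero, mul_one, zpow_one]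
      rw [R.xz.zpow_right (-i) |>.eq, zpow_neg]
      rw [inv_mul_eq_iff_eq_mul.2 h]
      exact zpow_mem (mem_zpowers φ) _)).1
    exact (by decide : ¬ Even (1 : ℤ)) h2
  · intro h
    obtain ⟨a, i, l, h⟩ := (hmem2 _).1 h
    have h2 := (R.ind (-a) (-i) 1 0 (by
      have e : x ^ (-a) * z ^ (-i) * v ^ (1 : ℤ) * d ^ (0 : ℤ) = φ ^ l := by
        rw [zpow_zero, mul_one, zpow_one]
        nth_rewrite 1 [h]
        have h3 : Commute (z ^ (-i)) (x ^ a) := R.xz.symm.zpow_zpow (-i) a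
        calc x ^ (-a) * z ^ (-i) * (x ^ a * z ^ i * φ ^ l)
            = x ^ (-a) * (z ^ (-i) * x ^ a) * z ^ i * φ ^ l := by group
          _ = φ ^ l := by rw [h3.eq]; group
      rw [e]
      exact zpow_mem (mem_zpowers φ) _)).2.2.1
    exact (by decide : ¬ Even (1 : ℤ)) h2
  · rintro ⟨a, i, l, m, h⟩
    have h2 := (R.ind (-a) (-i) (-l) 1 (by
      have e : x ^ (-a) * z ^ (-i) * v ^ (-l) * d ^ (1 : ℤ) = φ ^ m := by
        rw [zpow_one]
        nth_rewrite 1 [h]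
        have h3 : Commute (z ^ (-i) * v ^ (-l)) (x ^ a) :=
          (R.xz.symm.zpow_zpow (-i) a).mul_left (R.xv.symm.zpow_zpow (-l) a)
        have h4 : Commute (v ^ (-l)) (z ^ i) := R.zv.symm.zpow_zpow (-l) i
        calc x ^ (-a) * z ^ (-i) * v ^ (-l) * (x ^ a * z ^ i * v ^ l * φ ^ m)
            = x ^ (-a) * ((z ^ (-i) * v ^ (-l)) * x ^ a) * z ^ i * v ^ l * φ ^ m := by group
          _ = z ^ (-i) * (v ^ (-l) * z ^ i) * v ^ l * φ ^ m := by rw [h3.eq]; group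
          _ = φ ^ m := by rw [h4.eq]; group
      rw [e]
      exact zpow_mem (mem_zpowers φ) _)).2.2.2
    exact (by decide : ¬ Even (1 : ℤ)) h2
  · intro h
    rw [mem_centralizer_singleton_iff] at h
    rw [h, mul_inv_cancel_right] at gx
    exact R.z_ne (mul_eq_left.1 gx.symm)

/-- the parity of `g² ∈ C_F` from the extension by `S₄` -/
theorem sq_mem_PH [Finite G] (R : RData x z v d φ ρ k) {g : G}
    (gx : g * x * g⁻¹ = x * z) (gz : Commute g z) (gv : Commute g v)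
    (gh : Commute g (φ ^ 2 ^ (k - 1)))
    (gd : g * d * g⁻¹ = d ∨ g * d * g⁻¹ = d * z)
    {b j : ℤ} (hj : Odd j) (gφ : g * φ * g⁻¹ = z ^ b * φ ^ j)
    {a' b' j' : ℤ} (gg : g * g = x ^ a' * z ^ b' * φ ^ j') : g * g ∈ R.PH := by
  have hCV : ∀ a b : ℤ, z ^ a * φ ^ (2 * b) ∈ R.CV := fun a b => ⟨0, a, 0, b, by
    rw [zpow_zero, zpow_zero, one_mul, mul_one]
    congr 1
    rw [← zpow_natCast, ← zpow_mul]
    norm_num⟩
  -- the actions
  have Ag : R.Act g := by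
    refine Act.mk' R ?_ ?_ ?_ ?_
    · rw [gx, R.xz.eq, mul_inv_cancel_right]; exact R.z_CV
    · rw [gz.eq, mul_inv_cancel_right, mul_inv_cancel]; exact one_mem _
    · rw [gv.eq, mul_inv_cancel_right, mul_inv_cancel]; exact one_mem _
    · obtain ⟨m, hm⟩ := hj
      rw [gφ, hm, zpow_add_one, ← mul_assoc, mul_inv_cancel_right]
      exact hCV _ _
  have Aρ : R.Act ρ := by
    refine Act.mk' R ?_ ?_ ?_ ?_
    · rw [R.xρ.symm.eq, mul_inv_cancel_right, mul_inv_cancel]; exact one_mem _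
    · rw [R.ρz]; exact mul_mem R.v_CV (inv_mem R.z_CV)
    · rw [R.ρv, mul_inv_cancel_right]; exact R.z_CV
    · rw [R.ρφ.eq, mul_inv_cancel_right, mul_inv_cancel]; exact one_mem _
  have Ad : R.Act d := by
    refine Act.mk' R ?_ ?_ ?_ ?_
    · rw [R.xd.symm.eq, mul_inv_cancel_right, mul_inv_cancel]; exact one_mem _
    · rw [R.zd.symm.eq, mul_inv_cancel_right, mul_inv_cancel]; exact one_mem _
    · rw [R.dv, mul_inv_cancel_right]; exact R.z_CV
    · rw [R.dφ.eq, mul_inv_cancel_right, mul_inv_cancel]; exact one_mem _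
  obtain ⟨iz, iv, izv⟩ := R.conj_ρ
  -- membership in the centralizer of `C_F` for elements of `N`
  have cent : ∀ c ∈ R.NN, Commute c x → Commute c z → Commute c v →
      Commute c (φ ^ 2 ^ (k - 1)) → c ∈ centralizer (R.CF : Set G) := by
    intro c hc h1 h2 h3 h4
    exact R.mem_cent h1 h2 h3 h4 ((Subgroup.mem_normalizer_iff.1 hc.1 _).1 R.φ_CF)
  have gN := Ag.mem_NN
  have ρN := Aρ.mem_NN
  have dN := Ad.mem_NN
  have ρh : Commute ρ (φ ^ 2 ^ (k - 1)) := R.ρφ.pow_right _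
  have dh : Commute d (φ ^ 2 ^ (k - 1)) := R.dφ.pow_right _
  -- conjugates of `g`
  set g1 := ρ * g * ρ⁻¹ with hg1
  set g2 := ρ⁻¹ * g * ρ with hg2
  have g1N : g1 ∈ R.NN := mul_mem (mul_mem ρN gN) (inv_mem ρN)
  have g2N : g2 ∈ R.NN := mul_mem (mul_mem (inv_mem ρN) gN) ρN
  have g1x : g1 * x * g1⁻¹ = x * v := by
    calc g1 * x * g1⁻¹ = ρ * (g * (ρ⁻¹ * x * ρ) * g⁻¹) * ρ⁻¹ := by rw [hg1]; group
      _ = ρ * (x * z) * ρ⁻¹ := by
          rw [R.xρ.inv_right.symm.eq, inv_mul_cancel_right, gx]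
      _ = (ρ * x * ρ⁻¹) * (ρ * z * ρ⁻¹) := by group
      _ = x * v := by rw [R.ρz, R.xρ.symm.eq, mul_inv_cancel_right]
  have g2x : g2 * x * g2⁻¹ = x * (z * v) := by
    calc g2 * x * g2⁻¹ = ρ⁻¹ * (g * (ρ * x * ρ⁻¹) * g⁻¹) * ρ := by rw [hg2]; group
      _ = ρ⁻¹ * (x * z) * ρ := by
          rw [R.xρ.symm.eq, mul_inv_cancel_right, gx]
      _ = (ρ⁻¹ * x * ρ) * (ρ⁻¹ * z * ρ) := by group
      _ = x * (z * v) := by rw [iz, R.xρ.inv_right.symm.eq, inv_mul_cancel_right]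
  have cj : ∀ {a c : G}, Commute g (ρ⁻¹ * a * ρ) → Commute g1 a := by
    intro a c h
    have e : a = ρ * (ρ⁻¹ * a * ρ) * ρ⁻¹ := by group
    have h2 : Commute (ρ * g * ρ⁻¹) (ρ * (ρ⁻¹ * a * ρ) * ρ⁻¹) := by
      show ρ * g * ρ⁻¹ * (ρ * (ρ⁻¹ * a * ρ) * ρ⁻¹) = ρ * (ρ⁻¹ * a * ρ) * ρ⁻¹ * (ρ * g * ρ⁻¹)
      calc ρ * g * ρ⁻¹ * (ρ * (ρ⁻¹ * a * ρ) * ρ⁻¹) = ρ * (g * (ρ⁻¹ * a * ρ)) * ρ⁻¹ := by group
        _ = ρ * ((ρ⁻¹ * a * ρ) * g) * ρ⁻¹ := by rw [h.eq]
        _ = _ := by group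
    rwa [← e] at h2
  have cj2 : ∀ {a c : G}, Commute g (ρ * a * ρ⁻¹) → Commute g2 a := by
    intro a c h
    have e : a = ρ⁻¹ * (ρ * a * ρ⁻¹) * ρ := by group
    have h2 : Commute (ρ⁻¹ * g * ρ) (ρ⁻¹ * (ρ * a * ρ⁻¹) * ρ) := by
      show ρ⁻¹ * g * ρ * (ρ⁻¹ * (ρ * a * ρ⁻¹) * ρ) = ρ⁻¹ * (ρ * a * ρ⁻¹) * ρ * (ρ⁻¹ * g * ρ)
      calc ρ⁻¹ * g * ρ * (ρ⁻¹ * (ρ * a * ρ⁻¹) * ρ) = ρ⁻¹ * (g * (ρ * a * ρ⁻¹)) * ρ := by group
        _ = ρ⁻¹ * ((ρ * a * ρ⁻¹) * g) * ρ := by rw [h.eq]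
        _ = _ := by group
    rwa [← e] at h2
  have g1z : Commute g1 z := cj (c := 1) (by rw [iz]; exact gz.mul_right gv)
  have g1v : Commute g1 v := cj (c := 1) (by rw [iv]; exact gz)
  have g1h : Commute g1 (φ ^ 2 ^ (k - 1)) := cj (c := 1) (by
    rw [ρh.inv_left.eq, inv_mul_cancel_right]; exact gh)
  have g2z : Commute g2 z := cj2 (c := 1) (by rw [R.ρz]; exact gv)
  have g2v : Commute g2 v := cj2 (c := 1) (by rw [R.ρv]; exact gz.mul_right gv)
  have g2h : Commute g2 (φ ^ 2 ^ (k - 1)) := cj2 (c := 1) (by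
    rw [ρh.eq, mul_inv_cancel_right]; exact gh)
  -- `η`
  have hη : g * g1 * g2 ∈ centralizer (R.CF : Set G) := by
    refine cent _ (mul_mem (mul_mem gN g1N) g2N) ?_ ((gz.mul_left g1z).mul_left g2z)
      ((gv.mul_left g1v).mul_left g2v) ((gh.mul_left g1h).mul_left g2h)
    have h1 : g * g1 * g2 * x * (g * g1 * g2)⁻¹ = x := by
      calc g * g1 * g2 * x * (g * g1 * g2)⁻¹ = g * (g1 * (g2 * x * g2⁻¹) * g1⁻¹) * g⁻¹ := by group
        _ = g * ((g1 * x * g1⁻¹) * (g1 * (z * v) * g1⁻¹)) * g⁻¹ := by rw [g2x]; group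
        _ = g * (x * v * (z * v)) * g⁻¹ := by
            rw [g1x, (g1z.mul_right g1v).eq, mul_inv_cancel_right]
        _ = g * (x * z) * g⁻¹ := by
            have : x * v * (z * v) = x * z := by
              rw [mul_assoc, ← mul_assoc v z v, R.zv.symm.eq, mul_assoc z, R.vv, mul_one]
            rw [this]
        _ = (g * x * g⁻¹) * (g * z * g⁻¹) := by group
        _ = x := by rw [gx, gz.eq, mul_inv_cancel_right, mul_assoc, R.zz, mul_one]
    exact mul_inv_eq_iff_eq_mul.1 h1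
  -- `ρ³`, `(d ρ)²`
  have hρ3 : ρ * ρ * ρ ∈ centralizer (R.CF : Set G) := by
    refine cent _ (mul_mem (mul_mem ρN ρN) ρN)
      ((R.xρ.symm.mul_left R.xρ.symm).mul_left R.xρ.symm) ?_ ?_
      ((ρh.mul_left ρh).mul_left ρh)
    · have h1 : ρ * ρ * ρ * z * (ρ * ρ * ρ)⁻¹ = z := by
        calc ρ * ρ * ρ * z * (ρ * ρ * ρ)⁻¹ = ρ * (ρ * (ρ * z * ρ⁻¹) * ρ⁻¹) * ρ⁻¹ := by group
          _ = z := by rw [R.ρz, R.ρv, izv]
      exact mul_inv_eq_iff_eq_mul.1 h1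
    · have h1 : ρ * ρ * ρ * v * (ρ * ρ * ρ)⁻¹ = v := by
        calc ρ * ρ * ρ * v * (ρ * ρ * ρ)⁻¹ = ρ * (ρ * (ρ * v * ρ⁻¹) * ρ⁻¹) * ρ⁻¹ := by group
          _ = v := by rw [R.ρv, izv, R.ρz]
      exact mul_inv_eq_iff_eq_mul.1 h1
  have dz' : d * z * d⁻¹ = z := by rw [R.zd.symm.eq, mul_inv_cancel_right]
  have dzv : d * (z * v) * d⁻¹ = v := by
    calc d * (z * v) * d⁻¹ = (d * z * d⁻¹) * (d * v * d⁻¹) := by group
      _ = v := by rw [dz', R.dv, ← mul_assoc, R.zz, one_mul]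
  have hdρ : d * ρ * (d * ρ) ∈ centralizer (R.CF : Set G) := by
    refine cent _ (mul_mem (mul_mem dN ρN) (mul_mem dN ρN))
      ((R.xd.symm.mul_left R.xρ.symm).mul_left (R.xd.symm.mul_left R.xρ.symm)) ?_ ?_
      ((dh.mul_left ρh).mul_left (dh.mul_left ρh))
    · have h1 : d * ρ * (d * ρ) * z * (d * ρ * (d * ρ))⁻¹ = z := by
        calc d * ρ * (d * ρ) * z * (d * ρ * (d * ρ))⁻¹
            = d * (ρ * (d * (ρ * z * ρ⁻¹) * d⁻¹) * ρ⁻¹) * d⁻¹ := by group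
          _ = z := by rw [R.ρz, R.dv, izv, dz']
      exact mul_inv_eq_iff_eq_mul.1 h1
    · have h1 : d * ρ * (d * ρ) * v * (d * ρ * (d * ρ))⁻¹ = v := by
        calc d * ρ * (d * ρ) * v * (d * ρ * (d * ρ))⁻¹
            = d * (ρ * (d * (ρ * v * ρ⁻¹) * d⁻¹) * ρ⁻¹) * d⁻¹ := by group
          _ = v := by rw [R.ρv, dzv, R.ρv, dzv]
      exact mul_inv_eq_iff_eq_mul.1 h1
  have hgg : g * g ∈ R.CF := by
    rw [gg]
    exact ⟨a', b', 0, j', by simp⟩
  have hggC := R.CF_le hgg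
  -- the quotient
  have hWn := R.W_normal
  let π : R.NN → R.NN ⧸ R.W.subgroupOf R.NN := fun n => QuotientGroup.mk n
  have πmul : ∀ a b, π (a * b) = π a * π b := fun a b => QuotientGroup.mk_mul _ a b
  have πcomm : ∀ a b : R.NN, (a : G) * b * (a : G)⁻¹ * (b : G)⁻¹ ∈ R.W → Commute (π a) (π b) := by
    intro a b h
    have h1 : π (a * b * a⁻¹ * b⁻¹) = 1 := by
      rw [QuotientGroup.eq_one_iff, mem_subgroupOf]
      exact h
    have h2 : π a * π b * (π a)⁻¹ * (π b)⁻¹ = 1 := h1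
    show π a * π b = π b * π a
    rwa [mul_inv_eq_one, mul_inv_eq_iff_eq_mul] at h2
  have πone : ∀ a : R.NN, (a : G) ∈ R.W → π a = 1 := by
    intro a h
    rw [QuotientGroup.eq_one_iff, mem_subgroupOf]
    exact h
  let G0 : R.NN := ⟨g, gN⟩
  let P : R.NN := ⟨ρ, ρN⟩
  let D : R.NN := ⟨d, dN⟩
  have CN := R.cent_NN
  have key := final (g := π G0) (r := π P) (d := π D) (c0 := π (D * P * (D * P)))
    (c1 := π (P * P * P)) (e := π (G0 * (P * G0 * P⁻¹) * (P⁻¹ * G0 * P))) (s := π (G0 * G0))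
    (by
      refine πcomm _ _ (R.CV_le_W ?_)
      show g * d * g⁻¹ * d⁻¹ ∈ R.CV
      rcases gd with h | h
      · rw [h, mul_inv_cancel]; exact one_mem _
      · rw [h, ← R.zd.eq, mul_inv_cancel_right]; exact R.z_CV)
    (by
      rw [← πmul]
      have : D * D = 1 := Subtype.ext R.dd
      rw [this]; rfl)
    rfl
    ((πcomm G0 (D * P * (D * P)) (Ag.comm hdρ)).symm)
    ((πcomm P (D * P * (D * P)) (Aρ.comm hdρ)).symm)
    rfl
    ((πcomm G0 (P * P * P) (Ag.comm hρ3)).symm)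
    rfl
    ((πcomm D (G0 * (P * G0 * P⁻¹) * (P⁻¹ * G0 * P)) (Ad.comm hη)).symm)
    (by
      rw [← πmul]
      exact πone _ (R.sq_W hη))
    rfl
    ((πcomm P (G0 * G0) (Aρ.comm hggC)).symm)
    (by
      rw [← πmul]
      exact πone _ (R.sq_W hggC))
  -- `g² ∈ W`
  have hW : g * g ∈ R.W := by
    have h1 : π (G0 * G0) = 1 := key
    rw [QuotientGroup.eq_one_iff, mem_subgroupOf] at h1
    exact h1
  obtain ⟨i0, i, l, m, h2⟩ := hW.2
  have hodd := R.idx_odd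
  set n := R.idx with hn
  have h3 : (g * g) ^ n = x ^ (a' * n) * z ^ (b' * n) * φ ^ (j' * n) := by
    rw [gg]
    have c1 : Commute (x ^ a' * z ^ b') (φ ^ j') :=
      (R.xφ.zpow_zpow a' j').mul_left (R.zφ.zpow_zpow b' j')
    have c2 : Commute (x ^ a') (z ^ b') := R.xz.zpow_zpow a' b'
    rw [c1.mul_pow, c2.mul_pow]
    simp only [← zpow_natCast, ← zpow_mul]
  have h4 : x ^ (a' * n) * z ^ (b' * n - i) * v ^ (-l) * d ^ (0 : ℤ) = φ ^ (2 * m - j' * n) := by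
    rw [h3, one_zpow, one_mul] at h2
    have e2 : (φ ^ 2) ^ m = φ ^ (2 * m) := by
      rw [← zpow_natCast, ← zpow_mul]
      norm_num
    rw [e2] at h2
    rw [zpow_zero, mul_one]
    have c1 : Commute (v ^ (-l)) (z ^ (b' * n)) := R.zv.symm.zpow_zpow _ _
    have c2 : Commute (v ^ (-l)) (φ ^ (j' * n)) := R.vφ.zpow_zpow _ _
    have c3 : Commute (z ^ (-i)) (v ^ (-l) * φ ^ (j' * (n : ℤ))) :=
      (R.zv.zpow_zpow _ _).mul_right (R.zφ.zpow_zpow _ _)
    have c4 : Commute (z ^ (-i)) (φ ^ (j' * (n : ℤ))) := R.zφ.zpow_zpow _ _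
    have c5 : Commute (φ ^ (j' * (n : ℤ))) (φ ^ (2 * m)) := (Commute.refl φ).zpow_zpow _ _
    have c6 : Commute (z ^ (-i) * v ^ (-l)) (φ ^ (j' * (n : ℤ))) :=
      (R.zφ.zpow_zpow _ _).mul_left (R.vφ.zpow_zpow _ _)
    have c7 : Commute (z ^ (-i) * v ^ (-l)) (z ^ i * v ^ l) :=
      (((Commute.refl z).zpow_zpow _ _).mul_right (R.zv.zpow_zpow _ _)).mul_left
        ((R.zv.symm.zpow_zpow _ _).mul_right ((Commute.refl v).zpow_zpow _ _))
    have c8 : Commute (v ^ (-l)) (z ^ i) := R.zv.symm.zpow_zpow _ _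
    calc x ^ (a' * (n : ℤ)) * z ^ (b' * n - i) * v ^ (-l)
        = (x ^ (a' * (n : ℤ)) * z ^ (b' * (n : ℤ)) * φ ^ (j' * (n : ℤ))) *
            (φ ^ (-(j' * (n : ℤ)))) * (z ^ (-i) * v ^ (-l)) := by
          rw [sub_eq_add_neg, zpow_add]; group
      _ = (z ^ i * v ^ l * φ ^ (2 * m)) * (φ ^ (-(j' * (n : ℤ)))) * (z ^ (-i) * v ^ (-l)) := by
          rw [h2]
      _ = (z ^ i * v ^ l) * (φ ^ (2 * m - j' * n) * (z ^ (-i) * v ^ (-l))) := by
          rw [sub_eq_add_neg, zpow_add]; group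
      _ = (z ^ i * v ^ l) * ((z ^ (-i) * v ^ (-l)) * φ ^ (2 * m - j' * n)) := by
          have c9 : Commute (z ^ (-i) * v ^ (-l)) (φ ^ (2 * m - j' * (n : ℤ))) :=
            (R.zφ.zpow_zpow _ _).mul_left (R.vφ.zpow_zpow _ _)
          rw [c9.eq]
      _ = (z ^ i * (v ^ l * z ^ (-i)) * v ^ (-l)) * φ ^ (2 * m - j' * n) := by group
      _ = φ ^ (2 * m - j' * n) := by
          have c9 : Commute (v ^ l) (z ^ (-i)) := R.zv.symm.zpow_zpow _ _
          rw [c9.eq]; group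
  obtain ⟨p1, p2, p3, -⟩ := R.ind (a' * n) (b' * n - i) (-l) 0 (by
    rw [h4]; exact zpow_mem (mem_zpowers φ) _)
  rw [zpow_even R.xx p1, zpow_even R.zz p2, zpow_even R.vv p3, zpow_zero] at h4
  simp only [one_mul] at h4
  have h5 := (R.ord _).1 h4.symm
  have h6 : (2 : ℤ) ∣ 2 * m - j' * n := (dvd_pow_self 2 (by have := R.hk; omega)).trans h5
  have hoddZ : Odd (n : ℤ) := by exact_mod_cast hodd
  have ha' : Even a' := by
    rcases Int.even_mul.1 p1 with h | h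
    · exact h
    · exact absurd h (Int.not_even_iff_odd.2 hoddZ)
  have hj' : Even j' := by
    have : Even (j' * (n : ℤ)) := by
      rw [even_iff_two_dvd]
      obtain ⟨w, hw⟩ := h6
      exact ⟨m - w, by linarith⟩
    rcases Int.even_mul.1 this with h | h
    · exact h
    · exact absurd h (Int.not_even_iff_odd.2 hoddZ)
  rw [gg, zpow_even R.xx ha', one_mul]
  obtain ⟨j'', hj''⟩ := hj'
  exact R.mem_PH.2 ⟨b', j'', by rw [hj'', two_mul]⟩

/-- **LEMMA R.** -/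
theorem false_of [Finite G] (hr : RankFour G) (R : RData x z v d φ ρ k) {g : G}
    (gx : g * x * g⁻¹ = x * z) (gv : Commute g v) (gh : Commute g (φ ^ 2 ^ (k - 1)))
    (gd : g * d * g⁻¹ = d ∨ g * d * g⁻¹ = d * z)
    (gφ : ∃ a b c e j : ℤ, g * φ * g⁻¹ = x ^ a * z ^ b * v ^ c * d ^ e * φ ^ j)
    (gg : ∃ a b c e j : ℤ, g * g = x ^ a * z ^ b * v ^ c * d ^ e * φ ^ j) : False := by
  -- `z ^ g = z`
  have gz : Commute g z := by
    have hz : z = d * v * d⁻¹ * v⁻¹ := by rw [R.dv, mul_inv_cancel_right]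
    have h1 : g * z * g⁻¹ = z := by
      calc g * z * g⁻¹ = (g * d * g⁻¹) * (g * v * g⁻¹) * (g * d * g⁻¹)⁻¹ * (g * v * g⁻¹)⁻¹ := by
            nth_rewrite 1 [hz]; group
        _ = z := by
            rw [gv.eq, mul_inv_cancel_right]
            rcases gd with h | h
            · rw [h]; exact hz.symm
            · rw [h]
              calc d * z * v * (d * z)⁻¹ * v⁻¹ = d * (z * v) * z⁻¹ * d⁻¹ * v⁻¹ := by group
                _ = d * v * d⁻¹ * v⁻¹ := by rw [R.zv.eq]; group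
                _ = z := hz.symm
    exact mul_inv_eq_iff_eq_mul.1 h1
  have TFz : ∀ a b c e j : ℤ, Commute (x ^ a * z ^ b * v ^ c * d ^ e * φ ^ j) z := fun a b c e j =>
    ((((R.xz.zpow_left a).mul_left ((Commute.refl z).zpow_left b)).mul_left
      (R.zv.symm.zpow_left c)).mul_left (R.zd.symm.zpow_left e)).mul_left (R.zφ.symm.zpow_left j)
  -- `φ ^ g`
  obtain ⟨a, b, c, e, j, gφ⟩ := gφ
  have h1 : Commute (g * φ * g⁻¹) v := by
    have h2 : Commute (g * φ * g⁻¹) (g * v * g⁻¹) := by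
      show g * φ * g⁻¹ * (g * v * g⁻¹) = g * v * g⁻¹ * (g * φ * g⁻¹)
      calc g * φ * g⁻¹ * (g * v * g⁻¹) = g * (φ * v) * g⁻¹ := by group
        _ = g * (v * φ) * g⁻¹ := by rw [R.vφ.eq]
        _ = _ := by group
    rwa [gv.eq, mul_inv_cancel_right] at h2
  have h2 : Commute (g * φ * g⁻¹) d := by
    have h3 : Commute (g * φ * g⁻¹) (g * d * g⁻¹) := by
      show g * φ * g⁻¹ * (g * d * g⁻¹) = g * d * g⁻¹ * (g * φ * g⁻¹)
      calc g * φ * g⁻¹ * (g * d * g⁻¹) = g * (φ * d) * g⁻¹ := by group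
        _ = g * (d * φ) * g⁻¹ := by rw [R.dφ.eq]
        _ = _ := by group
    rcases gd with h | h
    · rwa [h] at h3
    · rw [h] at h3
      have h4 : Commute (g * φ * g⁻¹) z := by rw [gφ]; exact TFz a b c e j
      have h5 := h3.mul_right h4.inv_right
      rwa [mul_inv_cancel_right] at h5
  have h3 := R.form_of_comm gφ h1 h2
  -- `g²`
  obtain ⟨a', b', c', e', j', gg⟩ := gg
  have h4 : Commute (g * g) v := gv.mul_left gv
  have h5 : Commute (g * g) d := by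
    have h6 : g * g * d * (g * g)⁻¹ = d := by
      have e1 : g * g * d * (g * g)⁻¹ = g * (g * d * g⁻¹) * g⁻¹ := by group
      rw [e1]
      rcases gd with h | h
      · rw [h, h]
      · rw [h]
        calc g * (d * z) * g⁻¹ = (g * d * g⁻¹) * (g * z * g⁻¹) := by group
          _ = d := by rw [h, gz.eq, mul_inv_cancel_right, mul_assoc, R.zz, mul_one]
    exact mul_inv_eq_iff_eq_mul.1 h6
  have h6 := R.form_of_comm gg h4 h5
  -- parities
  have hggCF : g * g ∈ R.CF := ⟨a', b', 0, j', by rw [zpow_zero, mul_one]; exact h6⟩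
  have h7 : Commute (g * g) φ := R.CF_comm hggCF R.φ_CF
  have h8 : g * g * φ * (g * g)⁻¹ = (x * z) ^ a * z ^ b * (x ^ a * z ^ b * φ ^ j) ^ j := by
    calc g * g * φ * (g * g)⁻¹ = g * (g * φ * g⁻¹) * g⁻¹ := by group
      _ = g * (x ^ a * z ^ b * φ ^ j) * g⁻¹ := by rw [h3]
      _ = (g * x ^ a * g⁻¹) * (g * z ^ b * g⁻¹) * (g * φ ^ j * g⁻¹) := by group
      _ = _ := by
          rw [← conj_zpow, gx, (gz.zpow_right b).eq, mul_inv_cancel_right, ← conj_zpow, h3]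
  rw [h7.eq, mul_inv_cancel_right] at h8
  have cxz : ∀ i l : ℤ, Commute (x ^ i) (z ^ l) := fun i l => R.xz.zpow_zpow i l
  have cxφ : ∀ i l : ℤ, Commute (x ^ i) (φ ^ l) := fun i l => R.xφ.zpow_zpow i l
  have czφ : ∀ i l : ℤ, Commute (z ^ i) (φ ^ l) := fun i l => R.zφ.zpow_zpow i l
  have h9 : φ = x ^ (a + a * j) * z ^ (a + b + b * j) * φ ^ (j * j) := by
    have e1 : (x * z) ^ a = x ^ a * z ^ a := R.xz.mul_zpow a
    have e2 : (x ^ a * z ^ b * φ ^ j) ^ j = x ^ (a * j) * z ^ (b * j) * φ ^ (j * j) := by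
      have c1 : Commute (x ^ a * z ^ b) (φ ^ j) := (cxφ a j).mul_left (czφ b j)
      rw [c1.mul_zpow, (cxz a b).mul_zpow, ← zpow_mul, ← zpow_mul, ← zpow_mul]
    rw [e1, e2] at h8
    nth_rewrite 1 [h8]
    calc x ^ a * z ^ a * z ^ b * (x ^ (a * j) * z ^ (b * j) * φ ^ (j * j))
        = x ^ a * ((z ^ a * z ^ b) * x ^ (a * j)) * z ^ (b * j) * φ ^ (j * j) := by group
      _ = x ^ a * (x ^ (a * j) * (z ^ a * z ^ b)) * z ^ (b * j) * φ ^ (j * j) := by
          have : Commute (z ^ a * z ^ b) (x ^ (a * j)) :=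
            ((cxz (a * j) a).symm).mul_left ((cxz (a * j) b).symm)
          rw [this.eq]
      _ = (x ^ a * x ^ (a * j)) * (z ^ a * z ^ b * z ^ (b * j)) * φ ^ (j * j) := by group
      _ = _ := by rw [← zpow_add, ← zpow_add, ← zpow_add]
  have h10 : x ^ (a + a * j) * z ^ (a + b + b * j) * v ^ (0 : ℤ) * d ^ (0 : ℤ) = φ ^ (1 - j * j) := by
    rw [zpow_zero, zpow_zero, mul_one, mul_one, zpow_sub, zpow_one]
    exact (mul_inv_eq_of_eq_mul h9).symm
  obtain ⟨p1, p2, -, -⟩ := R.ind _ _ 0 0 (by rw [h10]; exact zpow_mem (mem_zpowers φ) _)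
  rw [zpow_even R.xx p1, zpow_even R.zz p2, zpow_zero, zpow_zero] at h10
  simp only [one_mul] at h10
  have h11 := (R.ord _).1 h10.symm
  have h12 : (2 : ℤ) ∣ 1 - j * j := (dvd_pow_self 2 (by have := R.hk; omega)).trans h11
  have hj : Odd j := by
    by_contra h
    rw [Int.not_odd_iff_even] at h
    obtain ⟨w, hw⟩ := h
    rw [hw] at h12
    obtain ⟨y, hy⟩ := h12
    have : (1 : ℤ) = 2 * (y + w * (w + w)) := by linarith
    omega
  have ha : Even a := by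
    obtain ⟨j0, hj0⟩ := hj
    rw [hj0] at p2
    obtain ⟨w, hw⟩ := p2
    exact ⟨w - b - b * j0, by linarith⟩
  rw [zpow_even R.xx ha, one_mul] at h3
  have h13 := R.sq_mem_PH gx gz gv gh gd hj h3 h6
  exact R.false_of_sq hr gx gz gv gd hj h3 h13

end RData

end Cfsg.Agent.GH.L2QTwo.MInFR
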