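import Cfsg.Agent.GH.L2QTwo.MInFAct
import Cfsg.Agent.GH.L2QTwo.FieldMain

/-!
# GH-L2, `|Q| = 2`, configuration (M-in-f): sections of rank 5
-/

set_option autoImplicit false
set_option linter.unusedVariables false
set_option linter.unusedSimpArgs false

open Subgroup Cfsg.Agent.TwoFusion.SectionalRank Cfsg.Agent.GH.C2Five Cfsg.Agent.GH.C2Syl

namespace Cfsg.Agent.GH.L2QTwo.MInF

variable {L : Type*} [Group L]

/-- two more elements -/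
theorem two_more [Finite L] (hr : R4 L) {C N : Subgroup L} (h : ElemSection 2 C N)
    (hc : 8 * Nat.card N ≤ Nat.card C) {d b : L} (dd : d * d ∈ N)
    (dC : ∀ c ∈ C, d * c * d⁻¹ * c⁻¹ ∈ N) (hdC : d ∉ C) (bb : b * b ∈ N)
    (bC : ∀ c ∈ C, b * c * b⁻¹ * c⁻¹ ∈ N) (bd : b * d * b⁻¹ * d⁻¹ ∈ N)
    (hb : b ∉ C) (hdb : d⁻¹ * b ∉ C) : False := by
  obtain ⟨Z, h1, h2, h3, h4, h5⟩ := exists_ext' h dd dC hdC
  have hN : ∀ n ∈ N, d * n * d⁻¹ ∈ N := fun n hn => h1.conj_mem h3 hn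
  have h6 := cm_ext h5 hN bd bC
  have h7 : b ∉ Z := by
    intro hbZ
    rcases h5 b hbZ with h8 | h8
    · exact hb h8
    · exact hdb h8
  obtain ⟨Z', k1, k2, k3, k4, -⟩ := exists_ext' h1 bb h6 h7
  have h8 := hr Z' N k1
  have h9 : 0 < Nat.card N := Nat.card_pos
  omega

/-- three more elements -/
theorem three_more [Finite L] (hr : R4 L) {C N : Subgroup L} (h : ElemSection 2 C N)
    (hc : 4 * Nat.card N ≤ Nat.card C) {d g b : L} (dd : d * d ∈ N)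
    (dC : ∀ c ∈ C, d * c * d⁻¹ * c⁻¹ ∈ N) (hdC : d ∉ C) (gg : g * g ∈ N)
    (gC : ∀ c ∈ C, g * c * g⁻¹ * c⁻¹ ∈ N) (gd : g * d * g⁻¹ * d⁻¹ ∈ N)
    (hg : g ∉ C) (hdg : d⁻¹ * g ∉ C)
    (bb : b * b ∈ N) (bC : ∀ c ∈ C, b * c * b⁻¹ * c⁻¹ ∈ N) (bd : b * d * b⁻¹ * d⁻¹ ∈ N)
    (bg : b * g * b⁻¹ * g⁻¹ ∈ N)
    (hb : b ∉ C) (hdb : d⁻¹ * b ∉ C) (hgb : g⁻¹ * b ∉ C) (hdgb : d⁻¹ * (g⁻¹ * b) ∉ C) : False := by
  obtain ⟨Z, h1, h2, h3, h4, h5⟩ := exists_ext' h dd dC hdC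
  have hN : ∀ n ∈ N, d * n * d⁻¹ ∈ N := fun n hn => h1.conj_mem h3 hn
  have h6 := cm_ext h5 hN gd gC
  have h6' := cm_ext h5 hN bd bC
  have h7 : g ∉ Z := by
    intro hbZ
    rcases h5 g hbZ with h8 | h8
    · exact hg h8
    · exact hdg h8
  obtain ⟨Z', k1, k2, k3, k4, k5⟩ := exists_ext' h1 gg h6 h7
  have hN' : ∀ n ∈ N, g * n * g⁻¹ ∈ N := fun n hn => k1.conj_mem k3 hn
  have k6 := cm_ext k5 hN' bg h6'
  have k7 : b ∉ Z' := by
    intro hbZ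
    rcases k5 b hbZ with h8 | h8
    · rcases h5 b h8 with h9 | h9
      · exact hb h9
      · exact hdb h9
    · rcases h5 _ h8 with h9 | h9
      · exact hgb h9
      · exact hdgb h9
  obtain ⟨Z'', l1, l2, l3, l4, -⟩ := exists_ext' k1 bb k6 k7
  have h8 := hr Z'' N l1
  have h9 : 0 < Nat.card N := Nat.card_pos
  omega

namespace Data

variable {x h z v d ρ φ : L} {C : Subgroup L} {k : ℕ}

/-- the subgroup `⟨φᵃ, xᵇ, zᶜ, vⁿ⟩` -/
def S (D : Data x h z v d ρ φ C k) (a b c n : ℤ) : Subgroup L where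
  carrier := {y | ∃ m i j l : ℤ, y = e φ x z v (a * m) (b * i) (c * j) (n * l)}
  one_mem' := ⟨0, 0, 0, 0, by simp only [mul_zero]; exact (e_zero φ x z v).symm⟩
  mul_mem' := by
    rintro _ _ ⟨m, i, j, l, rfl⟩ ⟨m', i', j', l', rfl⟩
    exact ⟨m + m', i + i', j + j', l + l', by rw [D.e_mul]; congr 1 <;> ring⟩
  inv_mem' := by
    rintro _ ⟨m, i, j, l, rfl⟩
    exact ⟨-m, -i, -j, -l, by rw [D.e_inv]; congr 1 <;> ring⟩

theorem mem_S (D : Data x h z v d ρ φ C k) {a b c n : ℤ} {y : L} :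
    y ∈ D.S a b c n ↔ ∃ m i j l : ℤ, y = e φ x z v (a * m) (b * i) (c * j) (n * l) := Iff.rfl

theorem two_dvd (D : Data x h z v d ρ φ C k) : (2 : ℤ) ∣ 2 ^ k := dvd_pow_self 2 (by have := D.hk; omega)

/-- `e m i j l ∈ ⟨φ², z, v⟩` iff `m`, `i` are even -/
theorem mem_U (D : Data x h z v d ρ φ C k) {m i j l : ℤ} :
    e φ x z v m i j l ∈ D.S 2 2 1 1 ↔ 2 ∣ m ∧ 2 ∣ i := by
  rw [mem_S]
  constructor
  · rintro ⟨m', i', j', l', h1⟩
    rw [D.e_eq] at h1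
    obtain ⟨h2, h3, -, -⟩ := h1
    have h4 := D.two_dvd.trans h2
    constructor
    · have : m = (m - 2 * m') + 2 * m' := by ring
      rw [this]; exact dvd_add h4 (Dvd.intro _ rfl)
    · have : i = (i - 2 * i') + 2 * i' := by ring
      rw [this]; exact dvd_add h3 (Dvd.intro _ rfl)
  · rintro ⟨⟨a, ha⟩, ⟨b, hb⟩⟩
    exact ⟨a, b, j, l, by rw [ha, hb, one_mul, one_mul]⟩

theorem mem_N (D : Data x h z v d ρ φ C k) {m i j l : ℤ} :
    e φ x z v m i j l ∈ D.S 2 2 1 2 ↔ 2 ∣ m ∧ 2 ∣ i ∧ 2 ∣ l := by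
  rw [mem_S]
  constructor
  · rintro ⟨m', i', j', l', h1⟩
    rw [D.e_eq] at h1
    obtain ⟨h2, h3, -, h5⟩ := h1
    have h4 := D.two_dvd.trans h2
    refine ⟨?_, ?_, ?_⟩
    · have : m = (m - 2 * m') + 2 * m' := by ring
      rw [this]; exact dvd_add h4 (Dvd.intro _ rfl)
    · have : i = (i - 2 * i') + 2 * i' := by ring
      rw [this]; exact dvd_add h3 (Dvd.intro _ rfl)
    · have : l = (l - 2 * l') + 2 * l' := by ring
      rw [this]; exact dvd_add h5 (Dvd.intro _ rfl)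
  · rintro ⟨⟨a, ha⟩, ⟨b, hb⟩, ⟨c, hc⟩⟩
    exact ⟨a, b, j, c, by rw [ha, hb, hc, one_mul]⟩

theorem mem_N' (D : Data x h z v d ρ φ C k) {m i j l : ℤ} :
    e φ x z v m i j l ∈ D.S 1 2 1 2 ↔ 2 ∣ i ∧ 2 ∣ l := by
  rw [mem_S]
  constructor
  · rintro ⟨m', i', j', l', h1⟩
    rw [D.e_eq] at h1
    obtain ⟨-, h3, -, h5⟩ := h1
    refine ⟨?_, ?_⟩
    · have : i = (i - 2 * i') + 2 * i' := by ring
      rw [this]; exact dvd_add h3 (Dvd.intro _ rfl)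
    · have : l = (l - 2 * l') + 2 * l' := by ring
      rw [this]; exact dvd_add h5 (Dvd.intro _ rfl)
  · rintro ⟨⟨b, hb⟩, ⟨c, hc⟩⟩
    exact ⟨m, b, j, c, by rw [hb, hc, one_mul, one_mul]⟩

theorem S_le (D : Data x h z v d ρ φ C k) (a b c n : ℤ) : D.S a b c n ≤ C := by
  rintro _ ⟨m, i, j, l, rfl⟩
  exact D.e_mem _ _ _ _

/-- cards -/
theorem card_N' [Finite L] (D : Data x h z v d ρ φ C k) : 4 * Nat.card (D.S 1 2 1 2) ≤ Nat.card C := by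
  have h1 : 2 * Nat.card (D.S 1 2 1 2) ≤ Nat.card (D.S 1 1 1 2) := by
    apply two_mul_card_le (a := x)
    · rintro _ ⟨m, i, j, l, rfl⟩
      exact ⟨m, 2 * i, j, l, by rw [one_mul (2 * i)]⟩
    · exact ⟨0, 1, 0, 0, by simp [e]⟩
    · intro h2
      have h3 : e φ x z v 0 1 0 0 ∈ D.S 1 2 1 2 := by rw [← x_eq φ x z v]; exact h2
      rw [D.mem_N'] at h3
      have := h3.1
      norm_num at this
  have h2 : 2 * Nat.card (D.S 1 1 1 2) ≤ Nat.card C := by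
    apply two_mul_card_le (a := v) (D.S_le _ _ _ _) D.vC
    rintro ⟨m, i, j, l, h3⟩
    have h4 := (v_eq φ x z v).symm.trans h3
    rw [D.e_eq] at h4
    obtain ⟨-, -, -, h5⟩ := h4
    have : (2 : ℤ) ∣ 1 := by
      have e1 : (1 : ℤ) = (1 - 2 * l) + 2 * l := by ring
      rw [e1]; exact dvd_add h5 (Dvd.intro _ rfl)
    norm_num at this
  omega

theorem card_N [Finite L] (D : Data x h z v d ρ φ C k) : 8 * Nat.card (D.S 2 2 1 2) ≤ Nat.card C := by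
  have h1 : 2 * Nat.card (D.S 2 2 1 2) ≤ Nat.card (D.S 1 2 1 2) := by
    apply two_mul_card_le (a := φ)
    · rintro _ ⟨m, i, j, l, rfl⟩
      exact ⟨2 * m, i, j, l, by rw [one_mul (2 * m)]⟩
    · exact ⟨1, 0, 0, 0, by simp [e]⟩
    · intro h2
      have h3 : e φ x z v 1 0 0 0 ∈ D.S 2 2 1 2 := by rw [← φ_eq φ x z v]; exact h2
      rw [D.mem_N] at h3
      have := h3.1
      norm_num at this
  have := D.card_N'
  omega

theorem sec_N (D : Data x h z v d ρ φ C k) : ElemSection 2 C (D.S 2 2 1 2) where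
  le := D.S_le _ _ _ _
  comm a ha b hb := by
    have : a * b * a⁻¹ * b⁻¹ = 1 := by rw [D.comm a ha b hb]; group
    rw [this]; exact one_mem _
  pow a ha := by
    obtain ⟨m, i, j, l, rfl⟩ := D.exists_e ha
    rw [pow_two, D.e_mul, D.mem_N]
    exact ⟨⟨m, by ring⟩, ⟨i, by ring⟩, ⟨l, by ring⟩⟩

theorem sec_N' (D : Data x h z v d ρ φ C k) : ElemSection 2 C (D.S 1 2 1 2) where
  le := D.S_le _ _ _ _
  comm a ha b hb := by
    have : a * b * a⁻¹ * b⁻¹ = 1 := by rw [D.comm a ha b hb]; group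
    rw [this]; exact one_mem _
  pow a ha := by
    obtain ⟨m, i, j, l, rfl⟩ := D.exists_e ha
    rw [pow_two, D.e_mul, D.mem_N']
    exact ⟨⟨i, by ring⟩, ⟨l, by ring⟩⟩

theorem d_not (D : Data x h z v d ρ φ C k) : d ∉ C := by
  intro hd
  have h1 := D.d_e 0 0 0 1
  have h2 : d * e φ x z v 0 0 0 1 = e φ x z v 0 0 0 1 * d := D.comm _ hd _ (D.e_mem _ _ _ _)
  rw [h2, mul_inv_cancel_right, D.e_eq] at h1
  have := h1.2.2.1
  norm_num at this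

end Data

namespace Act

variable {x h z v d ρ φ : L} {C : Subgroup L} {k : ℕ} {y : L} {α β γ : ℤ}

/-- an element moving `x` is not in `C` or `dC` -/
theorem not_mem (D : Data x h z v d ρ φ C k) {y : L} (hy : y * x * y⁻¹ ≠ x) : y ∉ C ∧ d⁻¹ * y ∉ C := by
  constructor
  · intro h1
    apply hy
    rw [D.comm _ h1 _ D.xC]; group
  · intro h1
    apply hy
    have h2 := D.comm _ h1 _ D.xC
    calc y * x * y⁻¹ = d * ((d⁻¹ * y) * x) * (d⁻¹ * y)⁻¹ * d⁻¹ := by group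
      _ = d * x * d⁻¹ := by rw [h2]; group
      _ = x := D.cx

theorem moves (D : Data x h z v d ρ φ C k) (A : Act φ x h z v k y α β γ) (hα : ¬ (2 : ℤ) ∣ α) :
    y * x * y⁻¹ ≠ x := by
  intro h1
  rw [A.yx] at h1
  have h2 := h1.trans (Data.x_eq φ x z v)
  rw [D.e_eq] at h2
  apply hα
  have := h2.2.2.1
  rwa [sub_zero] at this

/-- **the rank 5 section `⟨C, d, y⟩/⟨z, φ²⟩`** -/
theorem rank_five [Finite L] (hr : R4 L) (D : Data x h z v d ρ φ C k) (A : Act φ x h z v k y α β γ)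
    (hα : ¬ (2 : ℤ) ∣ α) (hβ : (2 : ℤ) ∣ 2 ^ (k - 1) * β) (hγ : (2 : ℤ) ∣ 2 ^ (k - 1) * γ)
    (hyy : y * y ∈ D.S 2 2 1 2) {n i j : ℤ}
    (hyd : d * y * d⁻¹ = y * e φ x z v (2 ^ (k - 1) * n) i j 0) (hn : (2 : ℤ) ∣ 2 ^ (k - 1) * n)
    (hi : 2 ∣ i) : False := by
  obtain ⟨m0, i0, j0, l0, h0, hm0, hl0, hi0⟩ := conj_φ D A
  have hi0' : 2 ∣ i0 := (Int.prime_two.dvd_mul.1 hi0).resolve_left hα
  obtain ⟨n1, n2⟩ := not_mem D (moves D A hα)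
  refine two_more hr D.sec_N D.card_N (d := d) (b := y) ?_ ?_ D.d_not hyy ?_ ?_ n1 n2
  · rw [D.dd]; exact one_mem _
  · intro c hc
    obtain ⟨m, i, j, l, rfl⟩ := D.exists_e hc
    rw [D.d_e, D.e_inv, D.e_mul, D.mem_N]
    exact ⟨⟨0, by ring⟩, ⟨0, by ring⟩, ⟨0, by ring⟩⟩
  · intro c hc
    obtain ⟨m, i, j, l, rfl⟩ := D.exists_e hc
    rw [act_e D A h0, D.e_inv, D.e_mul, D.mem_N]
    obtain ⟨a1, ha1⟩ := hm0
    obtain ⟨a2, ha2⟩ := hβ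
    obtain ⟨a3, ha3⟩ := hγ
    obtain ⟨a4, ha4⟩ := hi0'
    obtain ⟨a5, ha5⟩ := hl0
    refine ⟨⟨a1 * m + a2 * i + a3 * l, ?_⟩, ⟨a4 * m, by rw [ha4]; ring⟩, ⟨a5 * m, by rw [ha5]; ring⟩⟩
    have : m0 = 2 * a1 + 1 := by linarith
    rw [this]
    linear_combination i * ha2 + l * ha3
  · have e1 : y * d * y⁻¹ * d⁻¹ = y * (e φ x z v (2 ^ (k - 1) * n) i j 0)⁻¹ * y⁻¹ := by
      have : (d * y * d⁻¹)⁻¹ = (y * e φ x z v (2 ^ (k - 1) * n) i j 0)⁻¹ := by rw [hyd]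
      calc y * d * y⁻¹ * d⁻¹ = y * (d * y * d⁻¹)⁻¹ := by group
        _ = _ := by rw [this]; group
    rw [e1, D.e_inv, act_e D A h0, D.mem_N]
    obtain ⟨a1, ha1⟩ := hn
    obtain ⟨a2, ha2⟩ := hi
    obtain ⟨a3, ha3⟩ := hβ
    refine ⟨⟨-(m0 * a1) - a3 * i, ?_⟩, ⟨-(i0 * a1) - a2, ?_⟩, ⟨-(l0 * a1), ?_⟩⟩
    · linear_combination (-m0) * ha1 - i * ha3
    · rw [ha2]; linear_combination (-i0) * ha1
    · linear_combination (-l0) * ha1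

end Act

end Cfsg.Agent.GH.L2QTwo.MInF
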