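import Cfsg.Agent.GH.L2QTwo.MInFRank

/-!
# GH-L2, `|Q| = 2`, configuration (M-in-f), `k = 1`, `v^g = hv`: the section `⟨C, d, g, b⟩/⟨z, h⟩` is `E₃₂`
-/

set_option autoImplicit false
set_option linter.unusedVariables false
set_option linter.unusedSimpArgs false

open Subgroup Cfsg.Agent.TwoFusion.SectionalRank Cfsg.Agent.GH.C2Five Cfsg.Agent.GH.C2Syl

namespace Cfsg.Agent.GH.L2QTwo.MInF

variable {L : Type*} [Group L]

namespace Act

variable {x h z v d ρ φ : L} {C : Subgroup L} {y : L} {α β γ : ℤ}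

/-- the action for `k = 1` -/
theorem act1 (D : Data x h z v d ρ φ C 1) (A : Act φ x h z v 1 y α β γ) (m i j l : ℤ) :
    y * e φ x z v m i j l * y⁻¹ = e φ x z v (m + β * i + γ * l) i (α * i + j) l := by
  have h1 := act_q D A m i j l
  have e1 : ((2 : ℤ) ^ (1 - 1)) = 1 := by norm_num
  rw [e1, one_mul, one_mul] at h1
  exact h1

/-- the inverse action for `k = 1` -/
theorem act1' (D : Data x h z v d ρ φ C 1) (A : Act φ x h z v 1 y α β γ) (m i j l : ℤ) :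
    y⁻¹ * e φ x z v m i j l * y = e φ x z v (m - β * i - γ * l) i (j - α * i) l := by
  have h1 := act1 D A (m - β * i - γ * l) i (j - α * i) l
  have e1 : m - β * i - γ * l + β * i + γ * l = m := by ring
  have e2 : α * i + (j - α * i) = j := by ring
  rw [e1, e2] at h1
  rw [← h1]; group

/-- the commutator with `d` for `k = 1` -/
theorem comm_d1 (D : Data x h z v d ρ φ C 1) (A : Act φ x h z v 1 y α β γ) :
    ∃ n i j : ℤ, d * y * d⁻¹ = y * e φ x z v n i j 0 := by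
  obtain ⟨n, i, j, h1⟩ := comm_d D A
  exact ⟨2 ^ (1 - 1) * n, i, j, h1⟩

/-- the square is fixed -/
theorem sq_fix (D : Data x h z v d ρ φ C 1) (A : Act φ x h z v 1 y α β γ) {m i j l : ℤ}
    (h1 : y * y = e φ x z v m i j l) : 2 ∣ β * i + γ * l ∧ 2 ∣ α * i := by
  have h2 : y * (y * y) * y⁻¹ = y * y := by group
  rw [h1, act1 D A, D.e_eq] at h2
  obtain ⟨a1, -, a3, -⟩ := h2
  constructor
  · have : m + β * i + γ * l - m = β * i + γ * l := by ring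
    rwa [this, pow_one] at a1
  · have : α * i + j - j = α * i := by ring
    rwa [this] at a3

/-- `[d, y²] ` for `k = 1` -/
theorem sq_d (D : Data x h z v d ρ φ C 1) (A : Act φ x h z v 1 y α β γ) {m i j l n i' j' : ℤ}
    (h1 : y * y = e φ x z v m i j l) (h2 : d * y * d⁻¹ = y * e φ x z v n i' j' 0) :
    2 ∣ β * i' ∧ 2 ∣ α * i' + l := by
  have h3 : d * (y * y) * d⁻¹ = (y * y) * ((y⁻¹ * e φ x z v n i' j' 0 * y) * e φ x z v n i' j' 0) := by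
    calc d * (y * y) * d⁻¹ = (d * y * d⁻¹) * (d * y * d⁻¹) := by group
      _ = _ := by rw [h2]; group
  rw [act1' D A, D.e_mul, h1, D.d_e, D.e_mul, D.e_eq] at h3
  obtain ⟨⟨a, ha⟩, -, ⟨b, hb⟩, -⟩ := h3
  constructor
  · exact ⟨a + n, by rw [pow_one] at ha; linarith⟩
  · exact ⟨b + j', by linarith⟩

theorem mem_NN (D : Data x h z v d ρ φ C 1) (A : Act φ x h z v 1 y α β γ) {u : L}
    (hu : u ∈ D.S 1 2 1 2) : y * u * y⁻¹ ∈ D.S 1 2 1 2 ∧ y⁻¹ * u * y ∈ D.S 1 2 1 2 := by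
  obtain ⟨m, i, j, l, rfl⟩ := hu
  rw [act1 D A, act1' D A, D.mem_N', D.mem_N']
  exact ⟨⟨Dvd.intro _ rfl, Dvd.intro _ rfl⟩, ⟨Dvd.intro _ rfl, Dvd.intro _ rfl⟩⟩

theorem comm_C (D : Data x h z v d ρ φ C 1) (A : Act φ x h z v 1 y α β γ) {u : L} (hu : u ∈ C) :
    y * u * y⁻¹ * u⁻¹ ∈ D.S 1 2 1 2 := by
  obtain ⟨m, i, j, l, rfl⟩ := D.exists_e hu
  rw [act1 D A, D.e_inv, D.e_mul, D.mem_N']
  exact ⟨⟨0, by ring⟩, ⟨0, by ring⟩⟩

/-- **`k = 1`, `v^g = hv`** -/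
theorem k_one_eps [Finite L] (hr : R4 L) (D : Data x h z v d ρ φ C 1) {g b : L}
    (A : Act φ x h z v 1 g 1 0 1) (B : Act φ x h z v 1 b 1 1 1) : False := by
  have odd1 : ¬ (2 : ℤ) ∣ 1 := by norm_num
  obtain ⟨n1, n2⟩ := not_mem D (moves D A odd1)
  obtain ⟨n3, n4⟩ := not_mem D (moves D B odd1)
  have n56 : g⁻¹ * b * x * (g⁻¹ * b)⁻¹ ≠ x := by
    intro h1
    have h2 : b * x * b⁻¹ = g * x * g⁻¹ := by
      calc b * x * b⁻¹ = g * (g⁻¹ * b * x * (g⁻¹ * b)⁻¹) * g⁻¹ := by group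
        _ = g * x * g⁻¹ := by rw [h1]
    rw [A.yx, B.yx, D.e_eq] at h2
    obtain ⟨a, -⟩ := h2
    norm_num at a
  obtain ⟨n5, n6⟩ := not_mem D n56
  -- squares
  obtain ⟨gm, gi, gj, gl, hgg⟩ := D.exists_e (sq_mem D A)
  obtain ⟨bm, bi, bj, bl, hbb⟩ := D.exists_e (sq_mem D B)
  obtain ⟨g1, g2⟩ := sq_fix D A hgg
  obtain ⟨b1, b2⟩ := sq_fix D B hbb
  rw [zero_mul, zero_add, one_mul] at g1
  rw [one_mul] at g2 b2
  rw [one_mul, one_mul] at b1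
  have b3 : 2 ∣ bl := (Int.dvd_add_right b2).1 b1
  have gN : g * g ∈ D.S 1 2 1 2 := by rw [hgg, D.mem_N']; exact ⟨g2, g1⟩
  have bN : b * b ∈ D.S 1 2 1 2 := by rw [hbb, D.mem_N']; exact ⟨b2, b3⟩
  -- commutators with `d`
  obtain ⟨cn, ci, cj, hgd⟩ := comm_d1 D A
  obtain ⟨en, ei, ej, hbd⟩ := comm_d1 D B
  have c1 := (sq_d D A hgg hgd).2
  have e1 := (sq_d D B hbb hbd).2
  rw [one_mul] at c1 e1
  have c2 : 2 ∣ ci := (Int.dvd_add_left g1).1 c1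
  have e2 : 2 ∣ ei := (Int.dvd_add_left b3).1 e1
  have cN : e φ x z v cn ci cj 0 ∈ D.S 1 2 1 2 := by rw [D.mem_N']; exact ⟨c2, dvd_zero _⟩
  have eN : e φ x z v en ei ej 0 ∈ D.S 1 2 1 2 := by rw [D.mem_N']; exact ⟨e2, dvd_zero _⟩
  have kd : ∀ {y c : L}, d * y * d⁻¹ = y * c → y * d * y⁻¹ * d⁻¹ = y * c⁻¹ * y⁻¹ := by
    intro y c hc
    calc y * d * y⁻¹ * d⁻¹ = y * (d * y * d⁻¹)⁻¹ := by group
      _ = y * c⁻¹ * y⁻¹ := by rw [hc]; group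
  have gdN : g * d * g⁻¹ * d⁻¹ ∈ D.S 1 2 1 2 := by
    rw [kd hgd]; exact (mem_NN D A (inv_mem cN)).1
  have bdN : b * d * b⁻¹ * d⁻¹ ∈ D.S 1 2 1 2 := by
    rw [kd hbd]; exact (mem_NN D B (inv_mem eN)).1
  -- `t = g b`
  have T := mul D A B
  obtain ⟨tm, ti, tj, tl, htt⟩ := D.exists_e (sq_mem D T)
  have htd : d * (g * b) * d⁻¹ = (g * b) * (e φ x z v (cn - 1 * ci) ci (cj - 1 * ci) 0 *
      e φ x z v en ei ej 0) := by
    have h1 := act1' D B cn ci cj 0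
    have h2 : cn - 1 * ci - 1 * 0 = cn - 1 * ci := by ring
    rw [h2] at h1
    calc d * (g * b) * d⁻¹ = (d * g * d⁻¹) * (d * b * d⁻¹) := by group
      _ = g * e φ x z v cn ci cj 0 * (b * e φ x z v en ei ej 0) := by rw [hgd, hbd]
      _ = (g * b) * ((b⁻¹ * e φ x z v cn ci cj 0 * b) * e φ x z v en ei ej 0) := by group
      _ = _ := by rw [h1]
  have h0 : (0 : ℤ) + 0 = 0 := add_zero 0
  rw [D.e_mul, h0] at htd
  obtain ⟨t1, t2⟩ := sq_fix D T htt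
  obtain ⟨t3, t4⟩ := sq_d D T htt htd
  have t5 : 2 ∣ ti := by
    obtain ⟨a, ha⟩ := t1
    exact ⟨a - tl, by linarith⟩
  have t6 : 2 ∣ tl := by
    obtain ⟨a, ha⟩ := t4
    exact ⟨a - (ci + ei), by linarith⟩
  have tN : g * b * (g * b) ∈ D.S 1 2 1 2 := by rw [htt, D.mem_N']; exact ⟨t5, t6⟩
  have bgN : b * g * b⁻¹ * g⁻¹ ∈ D.S 1 2 1 2 := by
    have e1 : b * g * b⁻¹ * g⁻¹ = (g⁻¹ * ((g * b * (g * b)) * (b * b)⁻¹) * g) * (g * g)⁻¹ := by group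
    rw [e1]
    exact mul_mem (mem_NN D A (mul_mem tN (inv_mem bN))).2 (inv_mem gN)
  exact three_more hr D.sec_N' D.card_N' (d := d) (g := g) (b := b) (by rw [D.dd]; exact one_mem _)
    (fun c hc => by
      obtain ⟨m, i, j, l, rfl⟩ := D.exists_e hc
      rw [D.d_e, D.e_inv, D.e_mul, D.mem_N']
      exact ⟨⟨0, by ring⟩, ⟨0, by ring⟩⟩) D.d_not gN
    (fun c hc => comm_C D A hc) gdN n1 n2 bN (fun c hc => comm_C D B hc) bdN bgN n3 n4 n5 n6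

end Act

end Cfsg.Agent.GH.L2QTwo.MInF
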