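import Cfsg.Agent.GH.L2QTwo.MInFOne
import Cfsg.Agent.GH.L2QTwo.MInFTwo
import Cfsg.Agent.GH.L2QTwo.MInFExist
import Cfsg.Agent.GH.L2QTwo.MInFQuot

/-!
# GH-L2, `|Q| = 2`, configuration (M-in-f): the analysis in `L = N_G(E)/O`
-/

set_option autoImplicit false
set_option linter.unusedVariables false
set_option linter.unusedSimpArgs false

open Subgroup Cfsg.Agent.TwoFusion.SectionalRank Cfsg.Agent.GH.C2Five Cfsg.Agent.GH.C2Syl

namespace Cfsg.Agent.GH.L2QTwo.MInF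

open MInFExist

universe u

variable {G : Type u} {A : Type*} [Group G] [Group A] {x : G} {K T D : Subgroup G} {d : ℕ} {r c : G}
  {o1 : G → ℤˣ} {o2 : G → A} {F : Frame x K T D d r c o1 o2} {f s : G}

/-- the analysis in `L = N_G(E)/O` -/
theorem step [Finite G] (hr : R4 G) (hd : 3 ≤ d) (hA : ∀ a ∈ T, ∀ b ∈ T, o2 a * o2 b = o2 b * o2 a)
    {j : ℤ} {ρ h g w : G} (Tr : Trans F f j ρ h g w) :
    w = 1 ∧ ∃ (g' : G) (n : ℤ), g' * x * g'⁻¹ = x * r ^ 2 ^ (d - 2) ∧ g' * h * g'⁻¹ = h ∧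
      g' * r ^ 2 ^ (d - 2) * g'⁻¹ = r ^ 2 ^ (d - 2) ∧
      g' * (r ^ (j + 2 ^ (d - 3)) * c) * g'⁻¹ =
        (r ^ (j + 2 ^ (d - 3)) * c) * (h * (r ^ 2 ^ (d - 2)) ^ n) := by
  have hf := Tr.fld
  obtain ⟨O, φ, k, Q⟩ := Frame.exists_QData hf hd hA Tr.rx Tr.rf Tr.rz Tr.rv
  obtain ⟨L, hL, π, hsurj, hker⟩ := Frame.exists_quot Q
  have P := Q.pre hf hd hA π hsurj hker
  have hLfin : Finite L := Finite.of_surjective π hsurj
  have hrL : R4 L := by
    have h1 := r4_subgroup hr (normalizer (F.EE j : Set G))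
    exact r4_iff.2 (GH.Rank.of_surjective (r4_iff.1 h1) π hsurj)
  set z := r ^ 2 ^ (d - 2) with hz
  set v := r ^ j * c with hv
  set q := r ^ (j + 2 ^ (d - 3)) * c with hq
  have xE : x ∈ F.EE j := Frame.MQ.x_EE hf j
  have fE : f ∈ F.EE j := Frame.MQ.f_EE hf j
  have zE : z ∈ F.EE j := F.z_EE j
  have vE : v ∈ F.EE j := F.v_EE j
  have hE : h ∈ F.EE j := by
    rcases Tr.hh with h1 | h1 <;> rw [h1]
    · exact fE
    · exact (F.EE j).mul_mem xE fE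
  have wE : w ∈ F.EE j := by
    rcases Tr.hw with h1 | h1 <;> rw [h1]
    · exact one_mem _
    · exact hE
  have hh2 : h * h = 1 := by
    rcases Tr.hh with h1 | h1 <;> rw [h1]
    · exact hf.sq
    · calc x * f * (x * f) = x * (f * x) * f := by group
        _ = (x * x) * (f * f) := by rw [hf.fx]; group
        _ = 1 := by rw [F.xx, hf.sq, one_mul]
  -- the image of `f` under `g`
  have gf : g * f * g⁻¹ ∈ F.EE j := by
    rcases Tr.hh with h1 | h1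
    · rw [← h1, Tr.gh]; exact hE
    · have e1 : f = x * h := by rw [h1, ← mul_assoc, F.xx, one_mul]
      rw [e1]
      have : g * (x * h) * g⁻¹ = (g * x * g⁻¹) * (g * h * g⁻¹) := by group
      rw [this, Tr.gx, Tr.gh]
      exact (F.EE j).mul_mem ((F.EE j).mul_mem xE zE) hE
  have hgE : ∀ m ∈ F.EE j, g * m * g⁻¹ ∈ F.EE j := by
    apply Frame.QData.norm_EE_of hf
    · rw [Tr.gx]; exact (F.EE j).mul_mem xE zE
    · exact gf
    · rw [Tr.gz]; exact zE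
    · rw [Tr.gv]; exact (F.EE j).mul_mem wE vE
  have gN : g ∈ normalizer (F.EE j : Set G) := mem_norm_of hgE
  have hNh : h ∈ normalizer (F.EE j : Set G) := Frame.QData.CT_N hd hA (Frame.MQ.EE_le_CT F j hE)
  have wN : w ∈ normalizer (F.EE j : Set G) := Frame.QData.CT_N hd hA (Frame.MQ.EE_le_CT F j wE)
  -- images
  set X : L := π ⟨x, Frame.QData.x_N hf hd hA j⟩ with hX
  set Y : L := π ⟨f, Frame.QData.f_N hf hd hA j⟩ with hY
  set Z : L := π ⟨z, Frame.QData.z_N F hd hA j⟩ with hZ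
  set V : L := π ⟨v, Frame.QData.v_N F hd hA j⟩ with hV
  set E : L := π ⟨q, Frame.QData.q_N hf hd j⟩ with hE'
  set R : L := π ⟨ρ ^ k, Q.ρ_N hf⟩ with hR
  set H : L := π ⟨h, hNh⟩ with hH
  set W : L := π ⟨w, wN⟩ with hW
  set Γ : L := π ⟨g, gN⟩ with hΓ
  have eqG : ∀ {a b : ↥(normalizer (F.EE j : Set G))}, (a : G) = b → π a = π b := by
    intro a b hab
    rw [Subtype.ext hab]
  have hHH : H = Y ∨ H = X * Y := by
    rcases Tr.hh with h1 | h1
    · left; exact eqG h1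
    · right
      rw [hX, hY, ← map_mul]
      exact eqG h1
  have hWW : W = 1 ∨ W = H := by
    rcases Tr.hw with h1 | h1
    · left
      rw [hW, ← map_one π]
      exact eqG h1
    · right; exact eqG h1
  have ΓX : Γ * X * Γ⁻¹ = X * Z := by
    rw [hΓ, hX, hZ, ← map_mul, ← map_inv, ← map_mul, ← map_mul]
    exact eqG Tr.gx
  have ΓH : Γ * H * Γ⁻¹ = H := by
    rw [hΓ, hH, ← map_mul, ← map_inv, ← map_mul]
    exact eqG Tr.gh
  have ΓZ : Γ * Z * Γ⁻¹ = Z := by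
    rw [hΓ, hZ, ← map_mul, ← map_inv, ← map_mul]
    exact eqG Tr.gz
  have ΓV : Γ * V * Γ⁻¹ = W * V := by
    rw [hΓ, hV, hW, ← map_mul, ← map_inv, ← map_mul, ← map_mul]
    exact eqG Tr.gv
  obtain ⟨φ', k', Dt⟩ := P.exists_data hHH hWW ΓX ΓH ΓZ ΓV
  have hAct : ∀ γ : ℤ, (γ = 0 ∧ w = 1 ∨ γ = 1 ∧ w = h) → Act φ' X H Z V k' Γ 1 0 γ := by
    intro γ hγ
    refine ⟨?_, ΓH, ΓZ, ?_⟩
    · rw [ΓX]; simp [e]
    · rw [ΓV]
      rcases hγ with ⟨h1, h2⟩ | ⟨h1, h2⟩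
      · have : W = 1 := by
          rw [hW, ← map_one π]
          exact eqG h2
        rw [this, h1]; simp [e]
      · have : W = H := eqG h2
        rw [this, h1]
        have h3 := Act.hz_pow Dt 1
        rw [zpow_one] at h3
        simp only [e, h3]
        simp
  rcases Tr.hw with hw | hw
  swap
  · exfalso
    have A1 := hAct 1 (Or.inr ⟨rfl, hw⟩)
    by_cases hk : 2 ≤ k'
    · exact Act.false_two hrL Dt hk A1 (Or.inr rfl)
    · have hk1 : k' = 1 := by have := Dt.hk; omega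
      subst hk1
      exact Act.k_one_eps hrL Dt A1 (Act.act_b Dt A1)
  refine ⟨hw, ?_⟩
  have A1 := hAct 0 (Or.inl ⟨rfl, hw⟩)
  by_cases hk : 2 ≤ k'
  · exact (Act.false_two hrL Dt hk A1 (Or.inl rfl)).elim
  have hk1 : k' = 1 := by have := Dt.hk; omega
  subst hk1
  obtain ⟨n, hn⟩ := Act.exists_of_one hrL Dt A1
  -- Frattini
  have gq : ∀ m ∈ F.EE j, g * q * g⁻¹ * q⁻¹ * m = m * (g * q * g⁻¹ * q⁻¹) := by
    have qi : q⁻¹ = q := inv_eq_of_mul_eq_one_right (F.refl_sq _)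
    have qx : q * x * q⁻¹ = x := Frame.MF.q_x F j
    have qz : q * z * q⁻¹ = z := Frame.MF.q_z F j
    have qf : q * f * q⁻¹ = f := Frame.QData.q_f hf j
    have qv : q * v * q⁻¹ = z * v := Frame.MF.d_conj F hd j
    have qh : q * h * q⁻¹ = h := by
      rcases Tr.hh with h1 | h1 <;> rw [h1]
      · exact qf
      · rw [conj_mul3, qx, qf]
    have key : ∀ a b : G, q * a * q⁻¹ = b → ∀ a' : G, g * a' * g⁻¹ = a → ∀ b' : G, g * b' * g⁻¹ = b →
        q * a' * q⁻¹ = b' → g * q * g⁻¹ * q⁻¹ * b = b * (g * q * g⁻¹ * q⁻¹) := by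
      intro a b h1 a' h2 b' h3 h4
      apply comm_of_conj_eq
      have e1 : g * q * g⁻¹ * q⁻¹ * b * (g * q * g⁻¹ * q⁻¹)⁻¹ =
          g * (q * (g⁻¹ * (q⁻¹ * b * q) * g) * q⁻¹) * g⁻¹ := by group
      have e2 : q⁻¹ * b * q = a := by rw [← h1]; group
      have e3 : g⁻¹ * a * g = a' := by rw [← h2]; group
      rw [e1, e2, e3, h4, h3]
    have gvv : g * v * g⁻¹ = v := by rw [Tr.gv, hw, one_mul]
    have c1 : g * q * g⁻¹ * q⁻¹ * x = x * (g * q * g⁻¹ * q⁻¹) := by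
      -- `x = g (xz) g⁻¹`
      have gxz : g * (x * z) * g⁻¹ = x := by
        rw [conj_mul3, Tr.gx, Tr.gz, mul_assoc, F.z_sq, mul_one]
      exact key x x qx (x * z) gxz (x * z) gxz (by rw [conj_mul3, qx, qz])
    have c2 : g * q * g⁻¹ * q⁻¹ * h = h * (g * q * g⁻¹ * q⁻¹) :=
      key h h qh h Tr.gh h Tr.gh qh
    have c3 : g * q * g⁻¹ * q⁻¹ * z = z * (g * q * g⁻¹ * q⁻¹) :=
      key z z qz z Tr.gz z Tr.gz qz
    have c4 : g * q * g⁻¹ * q⁻¹ * v = v * (g * q * g⁻¹ * q⁻¹) := by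
      have gzv : g * (z * v) * g⁻¹ = z * v := by rw [conj_mul3, Tr.gz, gvv]
      have qzv : q * (z * v) * q⁻¹ = v := by
        rw [conj_mul3, qz, qv, ← mul_assoc, F.z_sq, one_mul]
      exact key (z * v) v qzv (z * v) gzv v gvv qzv
    have c5 : g * q * g⁻¹ * q⁻¹ * f = f * (g * q * g⁻¹ * q⁻¹) := by
      rcases Tr.hh with h1 | h1
      · rw [← h1]; exact c2
      · have e1 : f = x * h := by rw [h1, ← mul_assoc, F.xx, one_mul]
        rw [e1]
        have k1 : Commute (g * q * g⁻¹ * q⁻¹) x := c1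
        have k2 : Commute (g * q * g⁻¹ * q⁻¹) h := c2
        exact k1.mul_right k2
    exact Frame.QData.comm_EE_of hf c1 c5 c3 c4
  obtain ⟨o, ho, -, p, hp, hop⟩ := Q.frattini hf hd hA hgE gq
  have oc := Q.le o ho
  have act : ∀ m ∈ F.EE j, (o * g) * m * (o * g)⁻¹ = g * m * g⁻¹ := by
    intro m hm
    have e : (o * g) * m * (o * g)⁻¹ = o * (g * m * g⁻¹) * o⁻¹ := by group
    rw [e, conj_eq_of_comm (oc _ (hgE m hm))]
  refine ⟨o * g, n, by rw [act x xE, Tr.gx], by rw [act h hE, Tr.gh], by rw [act z zE, Tr.gz], ?_⟩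
  rw [hop]
  congr 1
  -- `p = h zⁿ`
  have pN : p ∈ normalizer (F.EE j : Set G) := Frame.QData.CT_N hd hA hp
  have oN : o ∈ normalizer (F.EE j : Set G) := by
    apply mem_norm_of
    intro m hm
    rw [conj_eq_of_comm (oc m hm)]; exact hm
  have hzN : h * z ^ n ∈ normalizer (F.EE j : Set G) :=
    Subgroup.mul_mem _ hNh (Subgroup.zpow_mem _ (Frame.QData.z_N F hd hA j) n)
  have hpL : π ⟨p, pN⟩ = π ⟨h * z ^ n, hzN⟩ := by
    have e1 : Γ * E * Γ⁻¹ = E * π ⟨p, pN⟩ := by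
      have h1 : π ⟨o, oN⟩ = 1 := (hker _).2 ho
      have h2 : π (⟨o, oN⟩ * ⟨g, gN⟩) = Γ := by rw [map_mul, h1, one_mul]
      rw [← h2, hE', ← map_mul, ← map_inv, ← map_mul, ← map_mul]
      exact eqG hop
    have e2 : π ⟨h * z ^ n, hzN⟩ = H * Z ^ n := by
      rw [hH, hZ, ← map_zpow, ← map_mul]
      exact eqG rfl
    rw [e2]
    -- `E Γ E⁻¹ = Γ (H Z^n)`
    have cEH : Commute E H := by
      have := Dt.dφ
      have h3 : Commute E φ' := this
      have h4 := h3.pow_right (2 ^ (1 - 1))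
      rwa [Dt.hφ] at h4
    have cEZ : Commute E Z := Dt.dz
    have cΓH : Commute Γ H := comm_of_conj_eq ΓH
    have cΓZ : Commute Γ Z := comm_of_conj_eq ΓZ
    have cE : Commute E (H * Z ^ n) := cEH.mul_right (cEZ.zpow_right n)
    have cΓ : Commute Γ (H * Z ^ n) := cΓH.mul_right (cΓZ.zpow_right n)
    have hsq : (H * Z ^ n) * (H * Z ^ n) = 1 := by
      have h1 : Commute H Z := Dt.comm _ Dt.hC _ Dt.zC
      have hH2 : H * H = 1 := by
        rw [hH, ← map_mul, ← map_one π]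
        exact eqG hh2
      rw [(h1.zpow_right n).symm.mul_mul_mul_comm, hH2, one_mul, ← (Commute.refl Z).mul_zpow, Dt.zz,
        one_zpow]
    have e3 : Γ * E * Γ⁻¹ = E * (H * Z ^ n) := by
      have h1 : E * Γ = Γ * (H * Z ^ n) * E := by rw [← hn]; group
      have h2 : Γ * E = E * Γ * (H * Z ^ n) := by
        rw [h1, mul_assoc (Γ * (H * Z ^ n)), cE.eq, ← mul_assoc, mul_assoc Γ, hsq, mul_one]
      rw [h2, mul_assoc, mul_assoc, (cΓ.symm.inv_right).eq]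
      group
    rw [e1] at e3
    exact mul_left_cancel e3
  have h3 : π (⟨p, pN⟩⁻¹ * ⟨h * z ^ n, hzN⟩) = 1 := by
    rw [map_mul, map_inv, hpL, inv_mul_cancel]
  rw [hker] at h3
  have hpT : p ∈ T := (F.mem_CT.1 hp).1
  have hhT : h ∈ T := by
    rcases Tr.hh with h1 | h1 <;> rw [h1]
    · exact hf.mem
    · exact T.mul_mem F.x_mem hf.mem
  have h4 : p⁻¹ * (h * z ^ n) ∈ T :=
    T.mul_mem (T.inv_mem hpT) (T.mul_mem hhT (T.zpow_mem (F.D_le F.z_mem) n))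
  have h5 := Q.eq_one_of h4 h3
  exact (inv_mul_eq_one.1 h5)

end Cfsg.Agent.GH.L2QTwo.MInF
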