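import Cfsg.Agent.GH.L2QTwo.Zero

/-!
# Burnside: a normal 2-complement of `L` (abelian Sylow 2-subgroup `P`, `L` centralises the involutions of `P`)
-/

set_option autoImplicit false
set_option linter.unusedVariables false

open Subgroup

namespace Cfsg.Agent.GH.L2QTwo

variable {G : Type*} [Group G]

/-- an element of odd order normalising the abelian 2-group `P` and centralising its involutions
centralises `P` -/
theorem comm_of_odd {P : Subgroup G} (hp : IsPGroup 2 P)
    (hcomm : ∀ a ∈ P, ∀ b ∈ P, a * b = b * a) {y : G} (hy : ∀ u ∈ P, y * u * y⁻¹ ∈ P)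
    (hinv : ∀ u ∈ P, u * u = 1 → y * u = u * y) {n : ℕ} (hn : Odd n) (hyn : y ^ n = 1) :
    ∀ u ∈ P, y * u = u * y := by
  have key : ∀ k : ℕ, ∀ u ∈ P, u ^ 2 ^ k = 1 → y * u = u * y := by
    intro k
    induction k with
    | zero =>
      intro u _ h1
      rw [pow_zero, pow_one] at h1
      rw [h1, one_mul, mul_one]
    | succ k ih =>
      intro u hu h1
      have h2 : y * (u * u) = u * u * y := ih (u * u) (P.mul_mem hu hu) (by
        rw [← pow_two, ← pow_mul, ← pow_succ']; exact h1)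
      -- `e = y u y⁻¹ u⁻¹`
      have heP : y * u * y⁻¹ * u⁻¹ ∈ P := P.mul_mem (hy u hu) (P.inv_mem hu)
      have hee : y * u * y⁻¹ * u⁻¹ * (y * u * y⁻¹ * u⁻¹) = 1 := by
        have c1 := hcomm _ (P.inv_mem hu) _ (hy u hu)
        calc y * u * y⁻¹ * u⁻¹ * (y * u * y⁻¹ * u⁻¹) = y * u * y⁻¹ * (u⁻¹ * (y * u * y⁻¹)) * u⁻¹ := by group
          _ = y * u * y⁻¹ * (y * u * y⁻¹ * u⁻¹) * u⁻¹ := by rw [c1]
          _ = (y * (u * u)) * y⁻¹ * u⁻¹ * u⁻¹ := by group
          _ = 1 := by rw [h2]; group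
      have hye := hinv _ heP hee
      set e := y * u * y⁻¹ * u⁻¹ with he
      have hyu : y * u * y⁻¹ = e * u := by rw [he]; group
      have hpow : ∀ m : ℕ, y ^ m * u * (y ^ m)⁻¹ = e ^ m * u := by
        intro m
        induction m with
        | zero => simp
        | succ m ihm =>
          have hce : Commute y (e ^ m) := (show Commute y e from hye).pow_right m
          calc y ^ (m + 1) * u * (y ^ (m + 1))⁻¹ = y * (y ^ m * u * (y ^ m)⁻¹) * y⁻¹ := by
                rw [pow_succ']; group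
            _ = (y * e ^ m) * u * y⁻¹ := by rw [ihm]; group
            _ = (e ^ m * y) * u * y⁻¹ := by rw [hce.eq]
            _ = e ^ m * (y * u * y⁻¹) := by group
            _ = e ^ (m + 1) * u := by rw [hyu, pow_succ]; group
      have h3 := hpow n
      rw [hyn] at h3
      have h4 : e ^ n = 1 := by
        have h5 : (1 : G) * u * 1⁻¹ = e ^ n * u := h3
        rw [one_mul, inv_one, mul_one] at h5
        have h6 : (1 : G) * u = e ^ n * u := by rw [one_mul]; exact h5
        exact (mul_right_cancel h6).symm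
      obtain ⟨m, rfl⟩ := hn
      have h5 : e = 1 := by
        rw [pow_add, pow_mul, pow_two, hee, one_pow, one_mul, pow_one] at h4
        exact h4
      rw [h5, one_mul] at hyu
      exact comm_of_conj_eq hyu
  intro u hu
  obtain ⟨k, hk⟩ := hp ⟨u, hu⟩
  exact key k u hu (congrArg Subtype.val hk)

/-- an element is a product of powers of odd order and 2-power order -/
theorem exists_bezout [Finite G] (y : G) : ∃ (a b : ℕ) (s t : ℤ), Odd b ∧ y ^ (2 ^ a * b) = 1 ∧
    y = (y ^ 2 ^ a) ^ s * (y ^ b) ^ t := by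
  obtain ⟨a, b, hb, hab⟩ := Nat.exists_eq_two_pow_mul_odd (n := orderOf y) (orderOf_pos y).ne'
  have hcop : IsCoprime ((2 ^ a : ℕ) : ℤ) (b : ℤ) := by
    rw [Nat.isCoprime_iff_coprime]
    exact Nat.Coprime.pow_left _ (Nat.coprime_two_left.2 hb)
  obtain ⟨s, t, hst⟩ := hcop
  refine ⟨a, b, s, t, hb, by rw [← hab, pow_orderOf_eq_one], ?_⟩
  rw [← zpow_natCast y (2 ^ a), ← zpow_natCast y b, ← zpow_mul, ← zpow_mul, ← zpow_add]
  have : ((2 ^ a : ℕ) : ℤ) * s + (b : ℤ) * t = 1 := by rw [← hst]; ring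
  rw [this, zpow_one]

/-- **a normal 2-complement** -/
theorem exists_complement [Finite G] {P L : Subgroup G} (hP : P ≤ L) (hp : IsPGroup 2 P)
    (hmax : ∀ Q ≤ L, IsPGroup 2 Q → Nat.card Q ≤ Nat.card P)
    (hcomm : ∀ a ∈ P, ∀ b ∈ P, a * b = b * a)
    (hinv : ∀ u ∈ P, u * u = 1 → ∀ y ∈ L, y * u = u * y) :
    ∃ O : Subgroup G, Odd (Nat.card O) ∧ (∀ y, y ∈ O ↔ y ∈ L ∧ Odd (orderOf y)) ∧
      ∀ y ∈ L, ∃ o ∈ O, ∃ p ∈ P, y = o * p := by
  have hfact : Fact (Nat.Prime 2) := ⟨Nat.prime_two⟩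
  have hp' : IsPGroup 2 (P.subgroupOf L) := hp.of_equiv (subgroupOfEquivOfLe hP).symm
  obtain ⟨S, hS⟩ := hp'.exists_le_sylow
  have h0 : Nat.card (P.subgroupOf L) = Nat.card P := Nat.card_congr (subgroupOfEquivOfLe hP).toEquiv
  have h1 : P.subgroupOf L = S.toSubgroup := by
    apply Subgroup.eq_of_le_of_card_ge hS
    have hle : S.toSubgroup.map L.subtype ≤ L := by
      rintro _ ⟨p, -, rfl⟩
      exact p.2
    have h2 := hmax _ hle (S.2.map _)
    have h3 : Nat.card (S.toSubgroup.map L.subtype) = Nat.card S.toSubgroup :=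
      (Nat.card_congr (S.toSubgroup.equivMapOfInjective _ L.subtype_injective).toEquiv).symm
    rw [h3] at h2
    rw [h0]
    exact h2
  have hmem : ∀ y : L, y ∈ S.toSubgroup ↔ (y : G) ∈ P := by
    intro y
    rw [← h1, mem_subgroupOf]
  have hN : normalizer (S.toSubgroup : Set L) ≤ centralizer (S.toSubgroup : Set L) := by
    intro y hy
    have hyn : ∀ z ∈ zpowers y, ∀ u ∈ S.toSubgroup, z * u * z⁻¹ ∈ S.toSubgroup := by
      intro z hz u hu
      have hz' : z ∈ normalizer (S.toSubgroup : Set L) := (zpowers_le.2 hy) hz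
      exact (mem_normalizer_iff.1 hz' u).1 hu
    obtain ⟨a, b, s, t, hb, hab, hst⟩ := exists_bezout y
    rw [mem_centralizer_iff]
    -- the odd part
    have c1 : y ^ 2 ^ a ∈ centralizer (S.toSubgroup : Set L) := by
      rw [mem_centralizer_iff]
      intro u hu
      refine (comm_of_odd S.2 (fun a ha b hb => ?_) (hyn _ (Subgroup.pow_mem _ (mem_zpowers y) _))
        (fun u hu huu => ?_) hb (by rw [← pow_mul]; exact hab) u hu).symm
      · exact Subtype.ext (hcomm _ ((hmem a).1 ha) _ ((hmem b).1 hb))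
      · refine Subtype.ext (hinv _ ((hmem u).1 hu) ?_ _ (y ^ 2 ^ a).2)
        exact congrArg Subtype.val huu
    -- the 2-part
    have c2 : y ^ b ∈ centralizer (S.toSubgroup : Set L) := by
      have h3 : IsPGroup 2 (zpowers (y ^ b)) := by
        rintro ⟨w, hw⟩
        obtain ⟨i, rfl⟩ := mem_zpowers_iff.1 hw
        refine ⟨a, Subtype.ext ?_⟩
        change ((y ^ b) ^ i) ^ 2 ^ a = 1
        rw [← zpow_natCast, ← zpow_mul, mul_comm i, zpow_mul, zpow_natCast, ← pow_mul, mul_comm b, hab,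
          one_zpow]
      have h4 : y ^ b ∈ S.toSubgroup :=
        mem_sylow_of_norm S (Subgroup.pow_mem _ hy b) h3
      rw [mem_centralizer_iff]
      intro u hu
      exact Subtype.ext (hcomm _ ((hmem u).1 hu) _ ((hmem _).1 h4))
    rw [← mem_centralizer_iff, hst]
    exact mul_mem (zpow_mem c1 s) (zpow_mem c2 t)
  have hC := MonoidHom.ker_transferSylow_isComplement' S hN
  have hodd := MonoidHom.not_dvd_card_ker_transferSylow S hN
  set N := (MonoidHom.transferSylow S hN).ker with hNdef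
  have hNodd : Odd (Nat.card N) := Nat.not_even_iff_odd.1 fun h => hodd (even_iff_two_dvd.1 h)
  have hker : ∀ y : L, y ∈ N ↔ Odd (orderOf y) := by
    intro y
    constructor
    · intro hy
      have : orderOf y ∣ Nat.card N := by
        have h2 := orderOf_dvd_natCard (⟨y, hy⟩ : N)
        rwa [Subgroup.orderOf_mk] at h2
      exact Odd.of_dvd_nat hNodd this
    · intro hy
      rw [hNdef, MonoidHom.mem_ker]
      have h3 : orderOf (MonoidHom.transferSylow S hN y) ∣ orderOf y := orderOf_map_dvd _ y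
      obtain ⟨k, hk⟩ := S.2 (MonoidHom.transferSylow S hN y)
      have h4 : orderOf (MonoidHom.transferSylow S hN y) ∣ 2 ^ k := orderOf_dvd_of_pow_eq_one hk
      have h5 : Nat.Coprime (orderOf (MonoidHom.transferSylow S hN y))
          (orderOf (MonoidHom.transferSylow S hN y)) :=
        Nat.Coprime.of_dvd h4 h3 (Nat.Coprime.pow_left _ (Nat.coprime_two_left.2 hy))
      rw [Nat.coprime_self, orderOf_eq_one_iff] at h5
      exact h5
  refine ⟨N.map L.subtype, ?_, ?_, ?_⟩
  · rw [(Nat.card_congr (N.equivMapOfInjective _ L.subtype_injective).toEquiv).symm]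
    exact hNodd
  · intro y
    constructor
    · rintro ⟨z, hz, rfl⟩
      refine ⟨z.2, ?_⟩
      rw [Subgroup.coe_subtype, Subgroup.orderOf_coe]
      exact (hker z).1 hz
    · rintro ⟨hy, hyo⟩
      refine ⟨⟨y, hy⟩, (hker _).2 ?_, rfl⟩
      rwa [Subgroup.orderOf_mk]
  · intro y hy
    obtain ⟨⟨o, p⟩, hop, -⟩ := hC.existsUnique ⟨y, hy⟩
    refine ⟨o, ⟨o, o.2, rfl⟩, p, (hmem _).1 p.2, ?_⟩
    have := congrArg Subtype.val hop
    exact this.symm

end Cfsg.Agent.GH.L2QTwo
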