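import Cfsg.Agent.GH.L2QTwo.MFRank

/-!
# GH-L2, `|Q| = 2`, a field involution in `T`: the structure of `C_T(v)`, `v` a reflection of `D`

`C_T(v) = ⟨x⟩ × ⟨z, v⟩ × ⟨φ⟩` is abelian.
-/

set_option autoImplicit false
set_option linter.unusedVariables false
set_option linter.unusedSimpArgs false

open Subgroup

namespace Cfsg.Agent.GH.L2QTwo

/-- commuting elements of 2-power order in a group with at most one involution -/
theorem mem_zpowers_of_inv {A : Type*} [Group A]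
    (hinv : ∀ a b : A, a * a = 1 → a ≠ 1 → b * b = 1 → b ≠ 1 → a = b) :
    ∀ k l : ℕ, k ≤ l → ∀ a b : A, a * b = b * a → orderOf a = 2 ^ k → orderOf b = 2 ^ l →
      a ∈ zpowers b := by
  intro k
  induction k with
  | zero =>
    intro l _ a b _ ha _
    rw [pow_zero, orderOf_eq_one_iff] at ha
    rw [ha]; exact one_mem _
  | succ k ih =>
    intro l hl a b hab ha hb
    have hc : Commute a b := hab
    obtain ⟨l, rfl⟩ : ∃ l', l = l' + 1 := ⟨l - 1, by omega⟩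
    have ha2 : orderOf (a ^ 2) = 2 ^ k := by
      rw [orderOf_pow_of_dvd (by norm_num) (by rw [ha]; exact dvd_pow_self 2 (by omega)), ha, pow_succ]
      exact Nat.mul_div_cancel _ (by norm_num)
    have hb2 : orderOf (b ^ 2) = 2 ^ l := by
      rw [orderOf_pow_of_dvd (by norm_num) (by rw [hb]; exact dvd_pow_self 2 (by omega)), hb, pow_succ]
      exact Nat.mul_div_cancel _ (by norm_num)
    obtain ⟨m, hm⟩ := mem_zpowers_iff.1 (ih l (by omega) (a ^ 2) (b ^ 2) (hc.pow_pow 2 2) ha2 hb2)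
    have hcm : Commute a (b ^ (-m)) := hc.zpow_right _
    have h1 : a * b ^ (-m) * (a * b ^ (-m)) = 1 := by
      calc a * b ^ (-m) * (a * b ^ (-m)) = a * (b ^ (-m) * a) * b ^ (-m) := by group
        _ = a * (a * b ^ (-m)) * b ^ (-m) := by rw [hcm.eq]
        _ = a ^ 2 * (b ^ 2) ^ (-m) := by
          rw [pow_two, ← zpow_natCast b 2, ← zpow_mul]
          have : ((2 : ℕ) : ℤ) * -m = -m + -m := by push_cast; ring
          rw [this, zpow_add]; group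
        _ = 1 := by rw [← hm, ← zpow_add, add_neg_cancel, zpow_zero]
    by_cases h2 : a * b ^ (-m) = 1
    · have : a = b ^ m := by
        calc a = a * b ^ (-m) * b ^ m := by group
          _ = b ^ m := by rw [h2, one_mul]
      rw [this]; exact zpow_mem (mem_zpowers b) m
    · have h3 : b ^ 2 ^ l * b ^ 2 ^ l = 1 := by
        rw [← pow_add, ← two_mul, ← pow_succ', ← hb, pow_orderOf_eq_one]
      have h4 : b ^ 2 ^ l ≠ 1 := by
        intro h4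
        have h5 := orderOf_dvd_of_pow_eq_one h4
        rw [hb] at h5
        have h6 := Nat.le_of_dvd (by positivity) h5
        rw [pow_succ] at h6
        have : 0 < 2 ^ l := by positivity
        omega
      have h5 := hinv _ _ h1 h2 h3 h4
      have : a = b ^ 2 ^ l * b ^ m := by
        calc a = a * b ^ (-m) * b ^ m := by group
          _ = b ^ 2 ^ l * b ^ m := by rw [h5]
      rw [this]
      exact mul_mem (Subgroup.pow_mem _ (mem_zpowers b) _) (zpow_mem (mem_zpowers b) m)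

variable {G A : Type*} [Group G] [Group A]

namespace Frame

variable {x : G} {K T D : Subgroup G} {d : ℕ} {r c : G} {o1 : G → ℤˣ} {o2 : G → A} {f s : G}

/-- `o2` as a homomorphism on `T` -/
def o2T (F : Frame x K T D d r c o1 o2) : T →* A := MonoidHom.mk' (fun t => o2 t) fun a b =>
  F.o2_mul' a.2 b.2

theorem o2_pow (F : Frame x K T D d r c o1 o2) {t : G} (ht : t ∈ T) (n : ℕ) :
    o2 (t ^ n) = o2 t ^ n := by
  have := map_pow F.o2T ⟨t, ht⟩ n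
  exact this

theorem o2_order (F : Frame x K T D d r c o1 o2) {t : G} (ht : t ∈ T) :
    ∃ k : ℕ, orderOf (o2 t) = 2 ^ k := by
  obtain ⟨n, hn⟩ := F.T_two ⟨t, ht⟩
  have hn' : t ^ 2 ^ n = 1 := congrArg Subtype.val hn
  have h1 : o2 t ^ 2 ^ n = 1 := by rw [← F.o2_pow ht, hn', F.o2_one]
  obtain ⟨k, -, hk⟩ := (Nat.dvd_prime_pow Nat.prime_two).1 (orderOf_dvd_of_pow_eq_one h1)
  exact ⟨k, hk⟩

namespace MQ

variable {F : Frame x K T D d r c o1 o2}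

/-- a generator of `C_T(v)` modulo `⟨x⟩ × ⟨z, v⟩` -/
theorem exists_gen [Finite G] (F : Frame x K T D d r c o1 o2)
    (hA : ∀ a ∈ T, ∀ b ∈ T, o2 a * o2 b = o2 b * o2 a) (j : ℤ) :
    ∃ φ ∈ F.CT j, ∀ u ∈ F.CT j, ∃ m : ℕ, o2 u = o2 φ ^ m := by
  obtain ⟨φ, hφ⟩ := Finite.exists_max (fun u : F.CT j => orderOf (o2 (u : G)))
  refine ⟨φ, φ.2, fun u hu => ?_⟩
  have hφT := (F.mem_CT.1 φ.2).1
  have huT := (F.mem_CT.1 hu).1
  obtain ⟨l, hl⟩ := F.o2_order hφT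
  obtain ⟨k, hk⟩ := F.o2_order huT
  have h1 := hφ ⟨u, hu⟩
  change orderOf (o2 u) ≤ orderOf (o2 (φ : G)) at h1
  rw [hl, hk] at h1
  have h2 : k ≤ l := (Nat.pow_le_pow_iff_right (by norm_num)).1 h1
  have h3 := mem_zpowers_of_inv F.A_inv k l h2 _ _ (hA u huT φ hφT) hk hl
  have h4 : IsOfFinOrder (o2 (φ : G)) := by
    rw [← orderOf_pos_iff, hl]; positivity
  obtain ⟨m, hm⟩ := (h4.mem_powers_iff_mem_zpowers.2 h3)
  exact ⟨m, hm.symm⟩

/-- `C_{⟨x⟩ × D}(v)` -/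
theorem ct_ker (F : Frame x K T D d r c o1 o2) (hd : 3 ≤ d) {j : ℤ} {u : G} (hu : u ∈ F.CT j)
    (h2 : o2 u = 1) : ∃ i l m : ℕ, u = x ^ i * ((r ^ 2 ^ (d - 2)) ^ l * (r ^ j * c) ^ m) := by
  obtain ⟨uT, uv⟩ := F.mem_CT.1 hu
  have h1 := F.o1_of_comm_refl (F.good_of_ge hd) uT uv
  have key : ∀ e ∈ D, e * (r ^ j * c) = r ^ j * c * e →
      ∃ l m : ℕ, e = (r ^ 2 ^ (d - 2)) ^ l * (r ^ j * c) ^ m := by
    intro e he hev
    rcases F.D_comm he hev with h3 | h3 | h3 | h3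
    · exact ⟨0, 0, by rw [h3, pow_zero, pow_zero, one_mul]⟩
    · exact ⟨1, 0, by rw [h3, pow_zero, pow_one, mul_one]⟩
    · exact ⟨0, 1, by rw [h3, pow_zero, pow_one, one_mul]⟩
    · exact ⟨1, 1, by rw [h3, pow_one, pow_one]⟩
  obtain ⟨e, he, h3 | h3⟩ := F.ker u uT h1 h2
  · subst h3
    obtain ⟨l, m, h4⟩ := key u he uv
    exact ⟨0, l, m, by rw [pow_zero, one_mul]; exact h4⟩
  · have hev : e * (r ^ j * c) = r ^ j * c * e := by
      rw [h3] at uv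
      have : x * (e * (r ^ j * c)) = x * (r ^ j * c * e) := by
        calc x * (e * (r ^ j * c)) = x * e * (r ^ j * c) := by group
          _ = r ^ j * c * (x * e) := uv
          _ = (r ^ j * c * x) * e := by group
          _ = x * (r ^ j * c * e) := by rw [← F.x_comm_D (F.refl_mem j)]; group
      exact mul_left_cancel this
    obtain ⟨l, m, h4⟩ := key e he hev
    exact ⟨1, l, m, by rw [pow_one, ← h4]; exact h3⟩

theorem ct_gen (F : Frame x K T D d r c o1 o2) (hd : 3 ≤ d) {j : ℤ} {φ : G} (hφ : φ ∈ F.CT j)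
    (hg : ∀ u ∈ F.CT j, ∃ m : ℕ, o2 u = o2 φ ^ m) {u : G} (hu : u ∈ F.CT j) :
    ∃ m i l n : ℕ, u = φ ^ m * (x ^ i * ((r ^ 2 ^ (d - 2)) ^ l * (r ^ j * c) ^ n)) := by
  obtain ⟨m, hm⟩ := hg u hu
  have h1 : (φ ^ m)⁻¹ * u ∈ F.CT j := (F.CT j).mul_mem ((F.CT j).inv_mem ((F.CT j).pow_mem hφ m)) hu
  have hφT := (F.mem_CT.1 hφ).1
  have h2 : o2 ((φ ^ m)⁻¹ * u) = 1 := by
    rw [F.o2_mul' (T.inv_mem (T.pow_mem hφT m)) (F.mem_CT.1 hu).1, F.o2_inv (T.pow_mem hφT m),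
      F.o2_pow hφT, hm, inv_mul_cancel]
  obtain ⟨i, l, n, h3⟩ := ct_ker F hd h1 h2
  exact ⟨m, i, l, n, by rw [← h3]; group⟩

/-- `C_T(v)` is abelian -/
theorem ct_comm [Finite G] (F : Frame x K T D d r c o1 o2) (hd : 3 ≤ d)
    (hA : ∀ a ∈ T, ∀ b ∈ T, o2 a * o2 b = o2 b * o2 a) {j : ℤ} {u w : G} (hu : u ∈ F.CT j)
    (hw : w ∈ F.CT j) : u * w = w * u := by
  obtain ⟨φ, hφ, hg⟩ := exists_gen F hA j
  obtain ⟨m, i, l, n, h1⟩ := ct_gen F hd hφ hg hu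
  obtain ⟨m', i', l', n', h2⟩ := ct_gen F hd hφ hg hw
  have cent : ∀ y ∈ F.CT j, ∀ i l n : ℕ,
      Commute y (x ^ i * ((r ^ 2 ^ (d - 2)) ^ l * (r ^ j * c) ^ n)) := by
    intro y hy i l n
    obtain ⟨yT, yv⟩ := F.mem_CT.1 hy
    have c1 : Commute y x := (F.T_comm y yT).symm
    have c2 : Commute y (r ^ 2 ^ (d - 2)) := F.z_comm_T hd yT
    have c3 : Commute y (r ^ j * c) := yv
    exact (c1.pow_right i).mul_right ((c2.pow_right l).mul_right (c3.pow_right n))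
  have hφ' : Commute (φ ^ m) w := by
    rw [h2]
    exact (((Commute.refl φ).pow_pow m m')).mul_right (cent _ ((F.CT j).pow_mem hφ m) i' l' n')
  have h3 : Commute u w := by
    rw [h1]
    exact hφ'.mul_left (cent w hw i l n).symm
  exact h3

/-- an involution of `C_T(v)` is in `M₀` -/
theorem ct_inv (F : Frame x K T D d r c o1 o2) (hd : 3 ≤ d) {j : ℤ} {u : G} (hu : u ∈ F.CT j)
    (huu : u * u = 1) : u ∈ F.EE j := by
  obtain ⟨uT, uv⟩ := F.mem_CT.1 hu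
  exact F.mem_EE.2 ⟨⟨uT, F.o1_of_comm_refl (F.good_of_ge hd) uT uv, F.o2_invol uT huu⟩, uv⟩

theorem f_CT (h : F.Fld f) (j : ℤ) : f ∈ F.CT j := F.mem_CT.2 ⟨h.mem, h.cent _ (F.refl_mem j)⟩

theorem EE_le_CT (F : Frame x K T D d r c o1 o2) (j : ℤ) : F.EE j ≤ F.CT j := MF.EE_le_CT F j

/-- `C_T(v)` centralises `E` -/
theorem ct_EE [Finite G] (F : Frame x K T D d r c o1 o2) (hd : 3 ≤ d)
    (hA : ∀ a ∈ T, ∀ b ∈ T, o2 a * o2 b = o2 b * o2 a) {j : ℤ} {u m : G} (hu : u ∈ F.CT j)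
    (hm : m ∈ F.EE j) : u * m = m * u := ct_comm F hd hA hu (EE_le_CT F j hm)

/-- `[q, u] ∈ {1, z}` for `u ∈ C_T(v)` -/
theorem q_comm (F : Frame x K T D d r c o1 o2) (hd : 3 ≤ d) {j : ℤ} {u : G} (hu : u ∈ F.CT j) :
    (r ^ (j + 2 ^ (d - 3)) * c) * u * (r ^ (j + 2 ^ (d - 3)) * c)⁻¹ * u⁻¹ = 1 ∨
    (r ^ (j + 2 ^ (d - 3)) * c) * u * (r ^ (j + 2 ^ (d - 3)) * c)⁻¹ * u⁻¹ = r ^ 2 ^ (d - 2) := by
  obtain ⟨uT, uv⟩ := F.mem_CT.1 hu
  obtain ⟨l, ⟨m, hm⟩, hl⟩ := F.conj_r hd uT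
  have e1 : r ^ (j + 2 ^ (d - 3)) * c = r ^ ((2 : ℤ) ^ (d - 3)) * (r ^ j * c) := by
    rw [← mul_assoc, ← zpow_add, add_comm]
  have e2 : u * (r ^ (j + 2 ^ (d - 3)) * c) * u⁻¹ = r ^ (l * (2 : ℤ) ^ (d - 3)) * (r ^ j * c) := by
    rw [e1, conj_mul3, F.conj_rk hl, conj_eq_of_comm uv]
  have e3 : (r ^ (j + 2 ^ (d - 3)) * c) * u * (r ^ (j + 2 ^ (d - 3)) * c)⁻¹ * u⁻¹ =
      r ^ (-(m * (2 : ℤ) ^ (d - 2))) := by
    have e4 : (r ^ (j + 2 ^ (d - 3)) * c) * u * (r ^ (j + 2 ^ (d - 3)) * c)⁻¹ * u⁻¹ =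
        (r ^ (j + 2 ^ (d - 3)) * c) * (u * (r ^ (j + 2 ^ (d - 3)) * c) * u⁻¹)⁻¹ := by group
    rw [e4, e2, e1]
    have e5 : r ^ ((2 : ℤ) ^ (d - 3)) * (r ^ j * c) * (r ^ (l * (2 : ℤ) ^ (d - 3)) * (r ^ j * c))⁻¹ =
        r ^ ((2 : ℤ) ^ (d - 3)) * (r ^ (l * (2 : ℤ) ^ (d - 3)))⁻¹ := by group
    rw [e5, ← zpow_neg, ← zpow_add]
    congr 1
    have : d - 2 = (d - 3) + 1 := by omega
    rw [hm, this, pow_succ]; ring
  rw [e3]
  have e6 : r ^ (-(m * (2 : ℤ) ^ (d - 2))) * r ^ (-(m * (2 : ℤ) ^ (d - 2))) = 1 := by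
    rw [← zpow_add, F.rk_one]
    have : d - 1 = (d - 2) + 1 := by omega
    refine ⟨-m, ?_⟩
    rw [this, pow_succ]; ring
  exact F.rot_sq e6

end MQ

end Frame

end Cfsg.Agent.GH.L2QTwo
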