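import Cfsg.Agent.GH.L2QTwo.MQGen
import Cfsg.Agent.GH.L2QTwo.MQCore

/-!
# GH-L2, `|Q| = 2`, a field involution in `T`: `C_G(E) = O × C_T(v)` with `|O|` odd, `E = ⟨x, f⟩ × ⟨z, v⟩`
-/

set_option autoImplicit false
set_option linter.unusedVariables false
set_option linter.unusedSimpArgs false

open Subgroup

namespace Cfsg.Agent.GH.L2QTwo

variable {G A : Type*} [Group G] [Group A]

namespace Frame

variable {x : G} {K T D : Subgroup G} {d : ℕ} {r c : G} {o1 : G → ℤˣ} {o2 : G → A} {f s : G}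

namespace MQ

variable {F : Frame x K T D d r c o1 o2}

/-- `⟨x, f⟩` is central in `M₀` -/
theorem zeta_M0 (h : F.Fld f) {ζ : G} (hζ : ζ = 1 ∨ ζ = x ∨ ζ = f ∨ ζ = x * f) {m : G}
    (hm : m ∈ F.M0) : m * ζ = ζ * m := by
  obtain ⟨e, he, ζ', hζ', rfl⟩ := h.form hm
  obtain ⟨z0, z1, zx, zf, z2⟩ := h.zeta hζ
  have h1 : ζ * ζ' = ζ' * ζ := by
    rcases hζ' with h1 | h1 | h1 | h1
    · rw [h1, mul_one, one_mul]
    · rw [h1, zx]
    · rw [h1, zf]
    · rw [h1, ← mul_assoc, zx, mul_assoc, zf, mul_assoc]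
  calc ζ' * e * ζ = ζ' * (e * ζ) := by group
    _ = ζ' * (ζ * e) := by rw [z1 e he]
    _ = (ζ' * ζ) * e := by group
    _ = (ζ * ζ') * e := by rw [h1]
    _ = ζ * (ζ' * e) := by group

/-- the elementary abelian subgroups of order 16 of `T` -/
theorem E16 [Finite G] (h : F.Fld f) (hd : 3 ≤ d) {E : Subgroup G} (hE : E ≤ T)
    (h2 : ∀ y ∈ E, y * y = 1) (hc : Nat.card E = 16) : ∃ j : ℤ, E = F.EE j := by
  have hM : E ≤ F.M0 := F.le_M0' (F.good_of_ge hd) hE h2 (by omega)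
  have hcomm : ∀ a ∈ E, ∀ b ∈ E, a * b = b * a := by
    intro a ha b hb
    have h3 : a⁻¹ = a := inv_eq_of_mul_eq_one_right (h2 a ha)
    have h4 : b⁻¹ = b := inv_eq_of_mul_eq_one_right (h2 b hb)
    have h5 : (a * b)⁻¹ = a * b := inv_eq_of_mul_eq_one_right (h2 _ (E.mul_mem ha hb))
    calc a * b = (a * b)⁻¹ := h5.symm
      _ = b⁻¹ * a⁻¹ := mul_inv_rev a b
      _ = b * a := by rw [h3, h4]
  obtain ⟨ζ, hζ, j, hj⟩ : ∃ ζ, (ζ = 1 ∨ ζ = x ∨ ζ = f ∨ ζ = x * f) ∧ ∃ j : ℤ, ζ * (r ^ j * c) ∈ E := by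
    by_contra hcon
    push Not at hcon
    classical
    let L : Finset G := Finset.univ.image (fun p : Bool × Bool × Bool =>
      (if p.1 then x else 1) * (if p.2.1 then f else 1) * (if p.2.2 then r ^ 2 ^ (d - 2) else 1))
    have hmem : ∀ y : E, (y : G) ∈ L := by
      intro y
      obtain ⟨e, he, ζ, hζ, h3⟩ := h.form (hM y.2)
      obtain ⟨-, z1, -, -, z2⟩ := h.zeta hζ
      have hee : e * e = 1 := by
        have h4 := h2 y y.2
        rw [h3] at h4
        calc e * e = (ζ * ζ) * (e * e) := by rw [z2, one_mul]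
          _ = ζ * (ζ * e) * e := by group
          _ = ζ * (e * ζ) * e := by rw [z1 e he]
          _ = ζ * e * (ζ * e) := by group
          _ = 1 := h4
      have h5 : e = 1 ∨ e = r ^ 2 ^ (d - 2) := by
        rcases F.inv_form he hee with h4 | h4 | ⟨j, h4⟩
        · exact Or.inl h4
        · exact Or.inr h4
        · exact absurd (by rw [← h4, ← h3]; exact y.2) (hcon ζ hζ j)
      simp only [L, Finset.mem_image, Finset.mem_univ, true_and]
      rcases hζ with h6 | h6 | h6 | h6 <;> rcases h5 with h7 | h7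
      · exact ⟨(false, false, false), by simp [h3, h6, h7]⟩
      · exact ⟨(false, false, true), by simp [h3, h6, h7]⟩
      · exact ⟨(true, false, false), by simp [h3, h6, h7]⟩
      · exact ⟨(true, false, true), by simp [h3, h6, h7]⟩
      · exact ⟨(false, true, false), by simp [h3, h6, h7]⟩
      · exact ⟨(false, true, true), by simp [h3, h6, h7]⟩
      · exact ⟨(true, true, false), by simp [h3, h6, h7]⟩
      · exact ⟨(true, true, true), by simp [h3, h6, h7]⟩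
    have h6 : Nat.card E ≤ Nat.card L := by
      apply Nat.card_le_card_of_injective (fun y : E => (⟨(y : G), hmem y⟩ : L))
      intro a b hab
      have h8 := congrArg Subtype.val hab
      exact Subtype.ext h8
    have h7 : L.card ≤ 8 := by
      refine Finset.card_image_le.trans ?_
      simp
    rw [Nat.card_eq_fintype_card (α := L), Fintype.card_coe] at h6
    omega
  refine ⟨j, Subgroup.eq_of_le_of_card_ge (fun y hy => F.mem_EE.2 ⟨hM hy, ?_⟩) ?_⟩
  · have h3 := hcomm y hy _ hj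
    have h4 := zeta_M0 h hζ (hM hy)
    have : ζ * (y * (r ^ j * c)) = ζ * (r ^ j * c * y) := by
      calc ζ * (y * (r ^ j * c)) = (ζ * y) * (r ^ j * c) := by group
        _ = y * (ζ * (r ^ j * c)) := by rw [← h4]; group
        _ = ζ * (r ^ j * c) * y := h3
        _ = ζ * (r ^ j * c * y) := by group
    exact mul_left_cancel this
  · rw [h.card_EE, hc]

theorem EE_sq (h : F.Fld f) {j : ℤ} {m : G} (hm : m ∈ F.EE j) : m * m = 1 := by
  obtain ⟨ζ, hζ, h3⟩ := h.EE_form hm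
  obtain ⟨-, z1, -, -, z2⟩ := h.zeta hζ
  have key : ∀ e ∈ D, e * e = 1 → ζ * e * (ζ * e) = 1 := by
    intro e he hee
    calc ζ * e * (ζ * e) = ζ * (e * ζ) * e := by group
      _ = ζ * (ζ * e) * e := by rw [z1 e he]
      _ = (ζ * ζ) * (e * e) := by group
      _ = 1 := by rw [z2, hee, one_mul]
  rcases h3 with h4 | h4 | h4 | h4
  · rw [h4, z2]
  · rw [h4]; exact key _ F.z_mem F.z_sq
  · rw [h4]; exact key _ (F.refl_mem j) (F.refl_sq j)
  · rw [h4]
    refine key _ (D.mul_mem F.z_mem (F.refl_mem j)) ?_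
    calc r ^ 2 ^ (d - 2) * (r ^ j * c) * (r ^ 2 ^ (d - 2) * (r ^ j * c)) =
        r ^ 2 ^ (d - 2) * ((r ^ j * c) * r ^ 2 ^ (d - 2)) * (r ^ j * c) := by group
      _ = r ^ 2 ^ (d - 2) * (r ^ 2 ^ (d - 2) * (r ^ j * c)) * (r ^ j * c) := by
          rw [F.z_comm (F.refl_mem j)]
      _ = (r ^ 2 ^ (d - 2) * r ^ 2 ^ (d - 2)) * ((r ^ j * c) * (r ^ j * c)) := by group
      _ = 1 := by rw [F.z_sq, F.refl_sq, one_mul]

theorem EE_comm (h : F.Fld f) {j : ℤ} {a b : G} (ha : a ∈ F.EE j) (hb : b ∈ F.EE j) :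
    a * b = b * a := by
  have h3 : a⁻¹ = a := inv_eq_of_mul_eq_one_right (EE_sq h ha)
  have h4 : b⁻¹ = b := inv_eq_of_mul_eq_one_right (EE_sq h hb)
  have h5 : (a * b)⁻¹ = a * b := inv_eq_of_mul_eq_one_right (EE_sq h ((F.EE j).mul_mem ha hb))
  calc a * b = (a * b)⁻¹ := h5.symm
    _ = b⁻¹ * a⁻¹ := mul_inv_rev a b
    _ = b * a := by rw [h3, h4]

theorem x_EE (h : F.Fld f) (j : ℤ) : x ∈ F.EE j := h.zeta_EE j (Or.inr (Or.inl rfl))

theorem f_EE (h : F.Fld f) (j : ℤ) : f ∈ F.EE j := h.zeta_EE j (Or.inr (Or.inr (Or.inl rfl)))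

/-- the order of `C_T(v)` does not depend on `v` -/
theorem card_CT_le [Finite G] (F : Frame x K T D d r c o1 o2) (hd : 3 ≤ d) (i j : ℤ) :
    Nat.card (F.CT i) ≤ Nat.card (F.CT j) := by
  classical
  have key : ∀ u : F.CT i, ∃ b : ℤ, (u : G) * (r ^ j * c) * (u : G)⁻¹ = r ^ (j + 2 * b) * c := by
    intro u
    obtain ⟨uT, uv⟩ := F.mem_CT.1 u.2
    obtain ⟨k, hk, hk'⟩ := MF.conj_refl (F.good_of_ge hd) F uT j
    obtain ⟨b, hb⟩ := hk'.1 (F.o1_of_comm_refl (F.good_of_ge hd) uT uv)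
    refine ⟨b, ?_⟩
    rw [hk]
    congr 2
    linarith
  -- choice as a function of the conjugate
  let β : G → ℤ := fun y => if h : ∃ b : ℤ, y = r ^ (j + 2 * b) * c then h.choose else 0
  have hβ : ∀ u : F.CT i, (u : G) * (r ^ j * c) * (u : G)⁻¹ =
      r ^ (j + 2 * β ((u : G) * (r ^ j * c) * (u : G)⁻¹)) * c := by
    intro u
    have h1 := key u
    simp only [β]
    rw [dif_pos h1]
    exact h1.choose_spec
  have hmem : ∀ u : F.CT i, r ^ (-β ((u : G) * (r ^ j * c) * (u : G)⁻¹)) * (u : G) ∈ F.CT j := by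
    intro u
    obtain ⟨uT, uv⟩ := F.mem_CT.1 u.2
    refine F.mem_CT.2 ⟨T.mul_mem (F.D_le (F.r_rk _)) uT, ?_⟩
    apply comm_of_conj_eq
    set b := β ((u : G) * (r ^ j * c) * (u : G)⁻¹) with hb
    have e : r ^ (-b) * (u : G) * (r ^ j * c) * (r ^ (-b) * (u : G))⁻¹ =
        r ^ (-b) * ((u : G) * (r ^ j * c) * (u : G)⁻¹) * (r ^ (-b))⁻¹ := by group
    rw [e, hβ u, ← hb, MF.rot_conj F]
    congr 2
    ring
  apply Nat.card_le_card_of_injective (fun u : F.CT i =>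
    (⟨r ^ (-β ((u : G) * (r ^ j * c) * (u : G)⁻¹)) * (u : G), hmem u⟩ : F.CT j))
  intro u u' huu
  have h1 : r ^ (-β ((u : G) * (r ^ j * c) * (u : G)⁻¹)) * (u : G) =
      r ^ (-β ((u' : G) * (r ^ j * c) * (u' : G)⁻¹)) * (u' : G) := congrArg Subtype.val huu
  obtain ⟨uT, uv⟩ := F.mem_CT.1 u.2
  obtain ⟨uT', uv'⟩ := F.mem_CT.1 u'.2
  -- `u = r^k u'`
  set b := β ((u : G) * (r ^ j * c) * (u : G)⁻¹) with hb
  set b' := β ((u' : G) * (r ^ j * c) * (u' : G)⁻¹) with hb'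
  have h2 : (u : G) = r ^ (b - b') * u' := by
    calc (u : G) = r ^ b * (r ^ (-b) * u) := by group
      _ = r ^ b * (r ^ (-b') * u') := by rw [h1]
      _ = r ^ (b - b') * u' := by rw [← mul_assoc, ← zpow_add, sub_eq_add_neg]
  have h3 : r ^ (b - b') * (r ^ i * c) = r ^ i * c * r ^ (b - b') := by
    have e : r ^ (b - b') = u * (u' : G)⁻¹ := by rw [h2]; group
    rw [e]
    have c1 : Commute (u : G) (r ^ i * c) := uv
    have c2 : Commute (u' : G) (r ^ i * c) := uv'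
    exact (c1.mul_left c2.inv_left).eq
  have h4 : r ^ (b - b') = 1 ∨ r ^ (b - b') = r ^ 2 ^ (d - 2) := by
    rcases F.D_comm (F.r_rk (b - b')) h3 with h5 | h5 | h5 | h5
    · exact Or.inl h5
    · exact Or.inr h5
    · exact absurd h5.symm (F.refl_ne _ _)
    · exfalso
      rw [F.zz, ← mul_assoc, ← zpow_add] at h5
      exact F.refl_ne _ _ h5.symm
  have h5 : (u : G) * (r ^ j * c) * (u : G)⁻¹ = (u' : G) * (r ^ j * c) * (u' : G)⁻¹ := by
    have hzc : Commute (r ^ 2 ^ (d - 2)) ((u' : G) * (r ^ j * c) * (u' : G)⁻¹) := by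
      have a1 : Commute (r ^ 2 ^ (d - 2)) (u' : G) := (F.z_comm_T hd uT').symm
      have a2 : Commute (r ^ 2 ^ (d - 2)) (r ^ j * c) := F.z_comm (F.refl_mem j)
      exact (a1.mul_right a2).mul_right a1.inv_right
    rw [h2]
    have e : r ^ (b - b') * (u' : G) * (r ^ j * c) * (r ^ (b - b') * (u' : G))⁻¹ =
        r ^ (b - b') * ((u' : G) * (r ^ j * c) * (u' : G)⁻¹) * (r ^ (b - b'))⁻¹ := by group
    rw [e]
    rcases h4 with h6 | h6 <;> rw [h6]
    · group
    · exact conj_eq_of_comm hzc.eq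
  have h6 : b = b' := by rw [hb, hb', h5]
  apply Subtype.ext
  rw [h2, h6, sub_self, zpow_zero, one_mul]

/-- 2-subgroups of `C(E)` -/
theorem card_le_CT [Finite G] (h : F.Fld f) (hd : 3 ≤ d) {j : ℤ} {P : Subgroup G}
    (hP : IsPGroup 2 P) (hPE : ∀ p ∈ P, ∀ m ∈ F.EE j, p * m = m * p) :
    Nat.card P ≤ Nat.card (F.CT j) := by
  have hx := x_EE h j
  have hE2 : IsPGroup 2 (F.EE j) := F.T_two.to_le fun m hm => (F.mem_EE.1 hm).1.1
  have hn : P ≤ normalizer (F.EE j : Set G) := by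
    intro p hp
    exact mem_norm_of fun m hm => by rw [conj_eq_of_comm (hPE p hp m hm)]; exact hm
  have hPE2 : IsPGroup 2 ↥(P ⊔ F.EE j) := IsPGroup.to_sup_of_normal_right' hP hE2 hn
  have hPx : ∀ p ∈ P ⊔ F.EE j, x * p = p * x := by
    have h1 : P ⊔ F.EE j ≤ centralizer ({x} : Set G) := by
      rw [sup_le_iff]
      exact ⟨fun p hp => mem_centralizer_singleton_iff.2 (hPE p hp x hx),
        fun m hm => mem_centralizer_singleton_iff.2 (EE_comm h hm hx)⟩
    intro p hp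
    exact (mem_centralizer_singleton_iff.1 (h1 hp)).symm
  obtain ⟨l, hl, hlP⟩ := F.T_syl _ hPE2 hPx
  obtain ⟨i, hi⟩ := E16 h hd (E := (F.EE j).map (MulAut.conj l).toMonoidHom)
    (by rintro _ ⟨m, hm, rfl⟩; exact hlP m (mem_sup_right hm))
    (by
      rintro _ ⟨m, hm, rfl⟩
      change l * m * l⁻¹ * (l * m * l⁻¹) = 1
      rw [conj_mul_conj, EE_sq h hm]; group)
    (by rw [map_conj_card, h.card_EE])
  refine le_trans ?_ (card_CT_le F hd i j)
  rw [← map_conj_card P l]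
  apply Nat.card_le_card_of_injective _ (inclusion_injective _)
  rintro _ ⟨p, hp, rfl⟩
  refine F.mem_CT.2 ⟨hlP p (mem_sup_left hp), ?_⟩
  have h1 : r ^ i * c ∈ (F.EE j).map (MulAut.conj l).toMonoidHom := by rw [hi]; exact F.v_EE i
  obtain ⟨m, hm, h2⟩ := h1
  change l * p * l⁻¹ * (r ^ i * c) = r ^ i * c * (l * p * l⁻¹)
  have h3 : l * m * l⁻¹ = r ^ i * c := h2
  rw [← h3, conj_mul_conj, conj_mul_conj, hPE p hp m hm]

/-- **`C_G(E) = O C_T(v)`** -/
theorem exists_core [Finite G] (h : F.Fld f) (hd : 3 ≤ d)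
    (hA : ∀ a ∈ T, ∀ b ∈ T, o2 a * o2 b = o2 b * o2 a) (j : ℤ) :
    ∃ O : Subgroup G, Odd (Nat.card O) ∧
      (∀ y, y ∈ O ↔ (∀ m ∈ F.EE j, y * m = m * y) ∧ Odd (orderOf y)) ∧
      ∀ y, (∀ m ∈ F.EE j, y * m = m * y) → ∃ o ∈ O, ∃ p ∈ F.CT j, y = o * p := by
  let L : Subgroup G := centralizer (F.EE j : Set G)
  have hL : ∀ l, l ∈ L ↔ ∀ m ∈ F.EE j, l * m = m * l := by
    intro l
    constructor
    · intro hl m hm
      exact (mem_centralizer_iff.1 hl m hm).symm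
    · intro hl
      exact mem_centralizer_iff.2 fun m hm => (hl m hm).symm
  have hCT : F.CT j ≤ L := fun u hu => (hL u).2 fun m hm => ct_EE F hd hA hu hm
  obtain ⟨O, h1, h2, h3⟩ := exists_complement (P := F.CT j) (L := L) hCT (F.T_two.to_le inf_le_left)
    (fun Q hQ hQ2 => card_le_CT h hd hQ2 fun p hp m hm => (hL p).1 (hQ hp) m hm)
    (fun a ha b hb => ct_comm F hd hA ha hb)
    (fun u hu huu y hy => (hL y).1 hy u (ct_inv F hd hu huu))
  refine ⟨O, h1, fun y => ?_, fun y hy => h3 y ((hL y).2 hy)⟩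
  rw [h2, hL]

end MQ

end Frame

end Cfsg.Agent.GH.L2QTwo
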