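import Cfsg.Agent.GH.L2QTwo.Outer
import Cfsg.Agent.TwoFusion.IndexTwo
import Cfsg.Agent.SylowSp4.ExtTransfer

/-!
# GH-L2, `|Q| = 2`, `T = S`: conjugates of `x` of `PGL`-type give a subgroup of index two
-/

set_option autoImplicit false

open Subgroup

namespace Cfsg.Agent.GH.L2QTwo.Transfer

variable {G A : Type*} [Group G] [Group A]
variable {x : G} {K T D : Subgroup G} {d : ℕ} {r c : G} {o1 : G → ℤˣ} {o2 : G → A}

theorem moved (F : Frame x K T D d r c o1 o2) {t e : G} (ht : t ∈ T) (he : e ∈ D) :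
    ∃ e' ∈ D, t * e = e' * t :=
  ⟨t * e * t⁻¹, F.D_norm ht he, by rw [inv_mul_cancel_right]⟩

theorem pow_form (F : Frame x K T D d r c o1 o2) {u e : G} (hu : u ∈ T) (he : e ∈ D) (m : ℕ) :
    ∃ e' ∈ D, (e * u) ^ m = e' * u ^ m := by
  induction m with
  | zero => exact ⟨1, D.one_mem, by simp⟩
  | succ m ih =>
    obtain ⟨e', he', h1⟩ := ih
    obtain ⟨e2, he2, h2⟩ := moved F (T.pow_mem hu m) he
    refine ⟨e' * e2, D.mul_mem he' he2, ?_⟩
    calc (e * u) ^ (m + 1) = e' * (u ^ m * e) * u := by rw [pow_succ, h1]; group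
      _ = e' * e2 * u ^ (m + 1) := by rw [h2, pow_succ]; group

/-- `D ⟨t⟩ ⟨j⟩` with exponents of `t` in `E` -/
def MM (F : Frame x K T D d r c o1 o2) {t j : G} (ht : t ∈ T) (hj : j ∈ T) (hjj : j * j = 1)
    (hjt : ∀ n : ℤ, ∃ e ∈ D, j * t ^ n = e * t ^ n * j) (E : AddSubgroup ℤ) : Subgroup G where
  carrier := {s | ∃ e ∈ D, ∃ n ∈ E, s = e * t ^ n ∨ s = e * t ^ n * j}
  one_mem' := ⟨1, D.one_mem, 0, E.zero_mem, Or.inl (by simp)⟩
  mul_mem' := by
    rintro a b ⟨e, he, n, hn, h | h⟩ ⟨e', he', n', hn', h' | h'⟩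
    · obtain ⟨e2, he2, h2⟩ := moved F (T.zpow_mem ht n) he'
      refine ⟨e * e2, D.mul_mem he he2, n + n', E.add_mem hn hn', Or.inl ?_⟩
      calc a * b = e * (t ^ n * e') * t ^ n' := by rw [h, h']; group
        _ = e * e2 * t ^ (n + n') := by rw [h2, zpow_add]; group
    · obtain ⟨e2, he2, h2⟩ := moved F (T.zpow_mem ht n) he'
      refine ⟨e * e2, D.mul_mem he he2, n + n', E.add_mem hn hn', Or.inr ?_⟩
      calc a * b = e * (t ^ n * e') * t ^ n' * j := by rw [h, h']; group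
        _ = e * e2 * t ^ (n + n') * j := by rw [h2, zpow_add]; group
    · obtain ⟨e2, he2, h2⟩ := moved F hj he'
      obtain ⟨e3, he3, h3⟩ := hjt n'
      obtain ⟨e4, he4, h4⟩ := moved F (T.zpow_mem ht n) (D.mul_mem he2 he3)
      refine ⟨e * e4, D.mul_mem he he4, n + n', E.add_mem hn hn', Or.inr ?_⟩
      calc a * b = e * t ^ n * (j * e') * t ^ n' := by rw [h, h']; group
        _ = e * t ^ n * e2 * (j * t ^ n') := by rw [h2]; group
        _ = e * (t ^ n * (e2 * e3)) * t ^ n' * j := by rw [h3]; group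
        _ = e * e4 * t ^ (n + n') * j := by rw [h4, zpow_add]; group
    · obtain ⟨e2, he2, h2⟩ := moved F hj he'
      obtain ⟨e3, he3, h3⟩ := hjt n'
      obtain ⟨e4, he4, h4⟩ := moved F (T.zpow_mem ht n) (D.mul_mem he2 he3)
      refine ⟨e * e4, D.mul_mem he he4, n + n', E.add_mem hn hn', Or.inl ?_⟩
      calc a * b = e * t ^ n * (j * e') * t ^ n' * j := by rw [h, h']; group
        _ = e * t ^ n * e2 * (j * t ^ n') * j := by rw [h2]; group
        _ = e * (t ^ n * (e2 * e3)) * t ^ n' * (j * j) := by rw [h3]; group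
        _ = e * e4 * t ^ (n + n') := by rw [h4, hjj, zpow_add]; group
  inv_mem' := by
    have hji : j⁻¹ = j := inv_eq_of_mul_eq_one_right hjj
    rintro a ⟨e, he, n, hn, h | h⟩
    · obtain ⟨e2, he2, h2⟩ := moved F (T.zpow_mem ht (-n)) (D.inv_mem he)
      refine ⟨e2, he2, -n, E.neg_mem hn, Or.inl ?_⟩
      rw [← h2, h, mul_inv_rev, zpow_neg]
    · obtain ⟨e2, he2, h2⟩ := moved F hj (D.inv_mem he)
      obtain ⟨e3, he3, h3⟩ := hjt (-n)
      obtain ⟨e4, he4, h4⟩ := moved F (T.zpow_mem ht (-n)) he2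
      refine ⟨e3 * e4, D.mul_mem he3 he4, -n, E.neg_mem hn, Or.inr ?_⟩
      calc a⁻¹ = j * t ^ (-n) * e⁻¹ := by rw [h, mul_inv_rev, mul_inv_rev, hji, zpow_neg]; group
        _ = e3 * t ^ (-n) * (j * e⁻¹) := by rw [h3]; group
        _ = e3 * (t ^ (-n) * e2) * j := by rw [h2]; group
        _ = e3 * e4 * t ^ (-n) * j := by rw [h4]; group

theorem mem_MM (F : Frame x K T D d r c o1 o2) {t j : G} (ht : t ∈ T) (hj : j ∈ T)
    (hjj : j * j = 1) (hjt : ∀ n : ℤ, ∃ e ∈ D, j * t ^ n = e * t ^ n * j) (E : AddSubgroup ℤ)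
    (s : G) : s ∈ MM F ht hj hjj hjt E ↔ ∃ e ∈ D, ∃ n ∈ E, s = e * t ^ n ∨ s = e * t ^ n * j :=
  Iff.rfl

theorem MM_le (F : Frame x K T D d r c o1 o2) {t j : G} (ht : t ∈ T) (hj : j ∈ T)
    (hjj : j * j = 1) (hjt : ∀ n : ℤ, ∃ e ∈ D, j * t ^ n = e * t ^ n * j) (E : AddSubgroup ℤ) :
    MM F ht hj hjj hjt E ≤ T := by
  rintro s ⟨e, he, n, -, rfl | rfl⟩
  · exact T.mul_mem (F.D_le he) (T.zpow_mem ht n)
  · exact T.mul_mem (T.mul_mem (F.D_le he) (T.zpow_mem ht n)) hj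

/-- `[j, T] ≤ ⟨r⟩` -/
theorem comm_j (F : Frame x K T D d r c o1 o2) (hg : Good T d r c o1)
    (h0 : ∀ y ∈ T, IsConj x y → o1 y = 1 → y = x) {j : G} (hj : j ∈ T) (hxj : IsConj x j)
    (hj1 : o1 j ≠ 1) {s : G} (hs : s ∈ T) : ∃ e ∈ D, j * s = e * s * j := by
  obtain ⟨k, hk⟩ := Outer.conj_j F hg h0 hj hxj hj1 hs
  have h1 : s * j = r ^ k * j * s := by rw [← hk, inv_mul_cancel_right]
  refine ⟨r ^ (-k), F.r_rk _, ?_⟩
  rw [mul_assoc, h1, mul_assoc, ← mul_assoc, ← zpow_add, neg_add_cancel, zpow_zero, one_mul]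

/-- every element of `T` is `e tⁿ`, `x e tⁿ`, `e tⁿ j` or `x e tⁿ j` -/
theorem form (F : Frame x K T D d r c o1 o2) {t j : G} (ht : t ∈ T) (hj : j ∈ T)
    (hjj : j * j = 1) (hj1 : o1 j ≠ 1) (ht1 : o1 t = 1)
    (hgen : ∀ u ∈ T, ∃ n : ℤ, o2 u = o2 (t ^ n)) {s : G} (hs : s ∈ T) :
    ∃ e ∈ D, ∃ n : ℤ, (s = e * t ^ n ∨ s = e * t ^ n * j) ∨
      (s = x * (e * t ^ n) ∨ s = x * (e * t ^ n * j)) := by
  have key : ∀ u ∈ T, o1 u = 1 → ∃ e ∈ D, ∃ n : ℤ, u = e * t ^ n ∨ u = x * (e * t ^ n) := by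
    intro u hu h1
    obtain ⟨n, hn⟩ := hgen u hu
    have htn : t ^ n ∈ T := T.zpow_mem ht n
    have h2 : o1 (t ^ n) = 1 := by
      let f : T →* ℤˣ := ⟨⟨fun a => o1 a, F.o1_one⟩, fun a b => F.o1_mul' a.2 b.2⟩
      have h3 : f (⟨t, ht⟩ ^ n) = f ⟨t, ht⟩ ^ n := map_zpow f _ n
      have h4 : f ⟨t, ht⟩ = 1 := ht1
      rw [h4, one_zpow] at h3
      exact h3
    obtain ⟨e, he, h3⟩ := F.ker (u * (t ^ n)⁻¹) (T.mul_mem hu (T.inv_mem htn))
      (by rw [F.o1_mul' hu (T.inv_mem htn), F.o1_inv htn, h2, h1]; simp)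
      (by rw [F.o2_mul' hu (T.inv_mem htn), F.o2_inv htn, hn, mul_inv_cancel])
    refine ⟨e, he, n, ?_⟩
    rcases h3 with h3 | h3
    · left
      rw [← h3, inv_mul_cancel_right]
    · right
      rw [← mul_assoc, ← h3, inv_mul_cancel_right]
  by_cases h1 : o1 s = 1
  · obtain ⟨e, he, n, h | h⟩ := key s hs h1
    · exact ⟨e, he, n, Or.inl (Or.inl h)⟩
    · exact ⟨e, he, n, Or.inr (Or.inl h)⟩
  · obtain ⟨e, he, n, h⟩ := key (s * j) (T.mul_mem hs hj)
      (by rw [F.o1_mul' hs hj, Outer.units_cases h1 hj1])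
    have h2 : s = s * j * j := by rw [mul_assoc, hjj, mul_one]
    rcases h with h | h
    · refine ⟨e, he, n, Or.inl (Or.inr ?_)⟩
      rw [h2, h]
    · refine ⟨e, he, n, Or.inr (Or.inr ?_)⟩
      rw [h2, h, mul_assoc]

theorem o2_pow (F : Frame x K T D d r c o1 o2) {t : G} (ht : t ∈ T) (n : ℤ) :
    o2 (t ^ n) = o2 t ^ n := by
  let f : T →* A := ⟨⟨fun a => o2 a, F.o2_one⟩, fun a b => F.o2_mul' a.2 b.2⟩
  exact map_zpow f ⟨t, ht⟩ n

theorem o1_pow (F : Frame x K T D d r c o1 o2) {t : G} (ht : t ∈ T) (n : ℤ) :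
    o1 (t ^ n) = o1 t ^ n := by
  let f : T →* ℤˣ := ⟨⟨fun a => o1 a, F.o1_one⟩, fun a b => F.o1_mul' a.2 b.2⟩
  exact map_zpow f ⟨t, ht⟩ n

theorem o1_form (F : Frame x K T D d r c o1 o2) {t j e : G} (ht : t ∈ T) (hj : j ∈ T)
    (he : e ∈ D) (ht1 : o1 t = 1) (n : ℤ) : o1 (e * t ^ n * j) = o1 j := by
  rw [F.o1_mul' (T.mul_mem (F.D_le he) (T.zpow_mem ht n)) hj,
    F.o1_mul' (F.D_le he) (T.zpow_mem ht n), F.o1_D he, o1_pow F ht, ht1, one_zpow, one_mul, one_mul]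

/-- the case `T / D⟨j⟩ = ⟨x⟩ × ⟨t⟩` -/
theorem split_case [Finite G] (F : Frame x K T D d r c o1 o2) (hg : Good T d r c o1)
    (P : Sylow 2 G) (hP : (P : Subgroup G) = T)
    (h0 : ∀ y ∈ T, IsConj x y → o1 y = 1 → y = x)
    {j : G} (hj : j ∈ T) (hxj : IsConj x j) (hj1 : o1 j ≠ 1)
    {t : G} (ht : t ∈ T) (ht1 : o1 t = 1) (hgen : ∀ u ∈ T, ∃ n : ℤ, o2 u = o2 (t ^ n))
    (hsp : ∀ n : ℤ, o2 (t ^ n) = 1 → t ^ n = 1) (hno : ∀ H : Subgroup G, H.index ≠ 2) :
    False := by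
  have hjj := Outer.sq_of_conj F hxj
  have hjt : ∀ n : ℤ, ∃ e ∈ D, j * t ^ n = e * t ^ n * j := fun n =>
    comm_j F hg h0 hj hxj hj1 (T.zpow_mem ht n)
  set M := MM F ht hj hjj hjt ⊤ with hM
  have hxM : x ∉ M := by
    rintro ⟨e, he, n, -, h | h⟩
    · have h1 : o2 (t ^ n) = 1 := by
        have h2 : t ^ n = e⁻¹ * x := by rw [h, inv_mul_cancel_left]
        rw [h2, F.o2_mul' (T.inv_mem (F.D_le he)) F.x_mem, F.o2_x, F.o2_inv (F.D_le he), F.o2_D he]
        simp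
      rw [hsp n h1, mul_one] at h
      exact F.x_not (h ▸ he)
    · apply hj1
      rw [← o1_form F ht hj he ht1 n, ← h, F.o1_x]
  have hidx : M.relIndex (P : Subgroup G) = 2 := by
    rw [relIndex_eq_two_iff_exists_notMem_and, hP]
    refine ⟨x, F.x_mem, hxM, ?_⟩
    intro b hb
    obtain ⟨e, he, n, h | h⟩ := form F ht hj hjj hj1 ht1 hgen hb
    · right
      exact ⟨e, he, n, AddSubgroup.mem_top n, h⟩
    · left
      have h1 := F.T_comm b hb
      refine ⟨e, he, n, AddSubgroup.mem_top n, ?_⟩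
      rcases h with h | h
      · left
        rw [← h1, h, ← mul_assoc, F.xx, one_mul]
      · right
        rw [← h1, h, ← mul_assoc, F.xx, one_mul]
  obtain ⟨g, hgM, hgP⟩ := SylowSp4.ExtTransfer.exists_extremal P M
    (by rw [hP]; exact MM_le F ht hj hjj hjt ⊤) hidx x F.xx
    (by
      intro f
      rcases Int.units_eq_one_or (f x) with h | h
      · exact h
      · obtain ⟨H, hH⟩ := TwoFusion.IndexTwo.exists_index_two_of_hom f x h
        exact absurd hH (hno H))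
    (P : Subgroup G) P.2 (by
      intro s hs
      rw [hP] at hs
      exact (F.T_comm s hs).symm)
  -- `g x g⁻¹` is central in `T`
  have hgN : ∀ s ∈ T, g⁻¹ * s * g ∈ T := by
    have h1 : (P : Subgroup G).map (MulAut.conj g).toMonoidHom = (P : Subgroup G) := by
      apply eq_of_le_of_card_ge
      · rintro _ ⟨a, ha, rfl⟩
        exact hgP a ha
      · rw [card_map_of_injective (MulAut.conj g).injective]
    intro s hs
    rw [← hP, ← h1] at hs
    obtain ⟨a, ha, ha'⟩ := hs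
    have h2 : g * a * g⁻¹ = s := ha'
    have h3 : g⁻¹ * s * g = a := by rw [← h2]; group
    rw [h3, ← hP]
    exact ha
  have hyT : g * x * g⁻¹ ∈ T := MM_le F ht hj hjj hjt ⊤ hgM
  have hxy : IsConj x (g * x * g⁻¹) := isConj_iff.2 ⟨g, rfl⟩
  have hyc : ∀ s ∈ T, g * x * g⁻¹ * s = s * (g * x * g⁻¹) := by
    intro s hs
    have h1 := F.T_comm _ (hgN s hs)
    calc g * x * g⁻¹ * s = g * (x * (g⁻¹ * s * g)) * g⁻¹ := by group
      _ = g * (g⁻¹ * s * g * x) * g⁻¹ := by rw [h1]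
      _ = s * (g * x * g⁻¹) := by group
  by_cases h1 : o1 (g * x * g⁻¹) = 1
  · have h2 := h0 _ hyT hxy h1
    rw [h2] at hgM
    exact hxM hgM
  · obtain ⟨m, hm, hmc, -⟩ := Outer.form F hg hyT (Outer.sq_of_conj F hxy) h1
    rw [hyc c F.c_T] at hmc
    have h2 : r ^ m = 1 := by
      have h3 : c * (g * x * g⁻¹) = r ^ m * (c * (g * x * g⁻¹)) := hmc.trans (mul_assoc _ _ _)
      exact mul_eq_right.1 h3.symm
    exact (Int.not_even_iff_odd.2 hm) (Outer.even_of_one F h2)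

/-- the case `T / D⟨j⟩ = ⟨t⟩`, `x` a power of `t` -/
theorem cyclic_case [Finite G] (F : Frame x K T D d r c o1 o2) (hg : Good T d r c o1)
    (P : Sylow 2 G) (hP : (P : Subgroup G) = T)
    (h0 : ∀ y ∈ T, IsConj x y → o1 y = 1 → y = x)
    {j : G} (hj : j ∈ T) (hxj : IsConj x j) (hj1 : o1 j ≠ 1)
    {t : G} (ht : t ∈ T) (ht1 : o1 t = 1) (hgen : ∀ u ∈ T, ∃ n : ℤ, o2 u = o2 (t ^ n))
    (N : ℕ) (hN : Even N) (htN : t ^ N = x) (hodd : ∀ n : ℤ, o2 (t ^ n) = 1 → Even n) :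
    ∃ H : Subgroup G, H.index = 2 := by
  have hjj := Outer.sq_of_conj F hxj
  have hjt : ∀ n : ℤ, ∃ e ∈ D, j * t ^ n = e * t ^ n * j := fun n =>
    comm_j F hg h0 hj hxj hj1 (T.zpow_mem ht n)
  set M := MM F ht hj hjj hjt (AddSubgroup.zmultiples 2) with hM
  have hE : ∀ n : ℤ, n ∈ AddSubgroup.zmultiples (2 : ℤ) ↔ Even n := by
    intro n
    rw [Int.mem_zmultiples_iff, even_iff_two_dvd]
  have hMT : M ≤ T := MM_le F ht hj hjj hjt _
  -- the form of the elements of `T`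
  have hform : ∀ s ∈ T, ∃ e ∈ D, ∃ n : ℤ, s = e * t ^ n ∨ s = e * t ^ n * j := by
    intro s hs
    obtain ⟨e, he, n, h | h⟩ := form F ht hj hjj hj1 ht1 hgen hs
    · exact ⟨e, he, n, h⟩
    · have h1 : x * (e * t ^ n) = e * t ^ ((N : ℤ) + n) := by
        rw [← mul_assoc, F.x_comm_D he, zpow_add, zpow_natCast, htN, mul_assoc]
      refine ⟨e, he, N + n, ?_⟩
      rcases h with h | h
      · left; rw [h, h1]
      · right; rw [h, ← mul_assoc, h1]
  -- powers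
  have hpow : ∀ e ∈ D, ∀ n : ℤ, ∀ s : G, (s = e * t ^ n ∨ s = e * t ^ n * j) →
      ∃ e' ∈ D, s ^ N = e' * x ^ n := by
    intro e he n s hs
    rcases hs with hs | hs
    · obtain ⟨e', he', h1⟩ := pow_form F (T.zpow_mem ht n) he N
      refine ⟨e', he', ?_⟩
      rw [hs, h1, ← zpow_natCast, ← zpow_mul, mul_comm, zpow_mul, zpow_natCast, htN]
    · obtain ⟨N', hN'⟩ := hN
      obtain ⟨e3, he3, h3⟩ := hjt n
      obtain ⟨e2, he2, h2⟩ := moved F hj he
      obtain ⟨e4, he4, h4⟩ := moved F (T.zpow_mem ht n) (D.mul_mem he2 he3)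
      have h5 : s * s = e * e4 * t ^ (n + n) := by
        calc s * s = e * t ^ n * (j * e) * t ^ n * j := by rw [hs]; group
          _ = e * t ^ n * e2 * (j * t ^ n) * j := by rw [h2]; group
          _ = e * (t ^ n * (e2 * e3)) * t ^ n * (j * j) := by rw [h3]; group
          _ = e * e4 * t ^ (n + n) := by rw [h4, hjj, zpow_add]; group
      obtain ⟨e', he', h1⟩ := pow_form F (T.zpow_mem ht (n + n)) (D.mul_mem he he4) N'
      refine ⟨e', he', ?_⟩
      have h6 : s ^ N = (s * s) ^ N' := by rw [hN', ← two_mul, pow_mul, pow_two]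
      rw [h6, h5, h1, ← htN, hN', ← zpow_natCast, ← zpow_mul, ← zpow_natCast, ← zpow_mul]
      congr 2
      push_cast
      ring
  have hx_even : ∀ n : ℤ, Even n → x ^ n = 1 := by
    rintro n ⟨m, rfl⟩
    rw [← two_mul, zpow_mul, zpow_two, F.xx, one_zpow]
  have hx_odd : ∀ n : ℤ, Odd n → x ^ n = x := by
    rintro n ⟨m, rfl⟩
    rw [zpow_add, hx_even _ ⟨m, by ring⟩, zpow_one, one_mul]
  -- `t ^ k ∈ M` iff `k` is even
  have htk : ∀ k : ℤ, t ^ k ∈ M ↔ Even k := by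
    intro k
    constructor
    · rintro ⟨e, he, n, hn, h | h⟩
      · rw [hE] at hn
        have h1 : o2 (t ^ (k - n)) = 1 := by
          have h2 : t ^ (k - n) = e := by rw [zpow_sub, h, mul_inv_cancel_right]
          rw [h2, F.o2_D he]
        have h3 := hodd _ h1
        have h4 : k = k - n + n := by ring
        rw [h4]
        exact h3.add hn
      · exfalso
        apply hj1
        rw [← o1_form F ht hj he ht1 n, ← h, o1_pow F ht, ht1, one_zpow]
    · intro hk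
      exact ⟨1, D.one_mem, k, (hE k).2 hk, Or.inl (by rw [one_mul])⟩
  have hidx : M.relIndex T = 2 := by
    rw [relIndex_eq_two_iff_exists_notMem_and]
    refine ⟨t, ht, ?_, ?_⟩
    · intro h
      have h1 := (htk 1).1 (by rwa [zpow_one])
      exact absurd h1 (by decide)
    · intro b hb
      obtain ⟨e, he, n, h⟩ := hform b hb
      rcases Int.even_or_odd n with hn | hn
      · right
        exact ⟨e, he, n, (hE n).2 hn, h⟩
      · left
        have hn1 : Even (n + 1) := hn.add_one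
        rcases h with h | h
        · refine ⟨e, he, n + 1, (hE _).2 hn1, Or.inl ?_⟩
          rw [h, zpow_add, zpow_one, mul_assoc]
        · obtain ⟨e3, he3, h3⟩ := hjt 1
          obtain ⟨e4, he4, h4⟩ := moved F (T.zpow_mem ht n) he3
          refine ⟨e * e4, D.mul_mem he he4, n + 1, (hE _).2 hn1, Or.inr ?_⟩
          rw [zpow_one] at h3
          calc b * t = e * t ^ n * (j * t) := by rw [h]; group
            _ = e * (t ^ n * e3) * t * j := by rw [h3]; group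
            _ = e * e4 * t ^ (n + 1) * j := by rw [h4, zpow_add, zpow_one]; group
  have hTodd : Odd T.index := by
    rw [← hP]
    exact TwoFusion.IndexTwo.odd_index_sylow P
  refine TwoFusion.IndexTwo.exists_index_two T hTodd (M.subgroupOf T) hidx ⟨t, ht⟩ ?_ ?_
  · intro h
    have h2 : t ∈ M := h
    have h1 := (htk 1).1 (by rwa [zpow_one])
    exact absurd h1 (by decide)
  · intro k g₀ h
    have h1 : ((⟨g₀⁻¹ * ((⟨t, ht⟩ : T) : G) ^ k * g₀, h⟩ : T) ∈ M.subgroupOf T) ↔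
        g₀⁻¹ * t ^ k * g₀ ∈ M := Iff.rfl
    have h2 : ((⟨t, ht⟩ : T) ^ k ∈ M.subgroupOf T) ↔ t ^ k ∈ M := Iff.rfl
    rw [h1, h2, ← zpow_natCast, htk]
    rw [zpow_natCast]
    have hsT : g₀⁻¹ * t ^ k * g₀ ∈ T := h
    have hsN : (g₀⁻¹ * t ^ k * g₀) ^ N = g₀⁻¹ * x ^ (k : ℤ) * g₀ := by
      have h3 := conj_pow (i := N) (a := g₀⁻¹) (b := t ^ k)
      rw [inv_inv] at h3
      rw [h3, ← pow_mul, mul_comm, pow_mul, htN, zpow_natCast]
    obtain ⟨e, he, n, hs⟩ := hform _ hsT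
    obtain ⟨e', he', h4⟩ := hpow e he n _ hs
    rw [hsN] at h4
    constructor
    · rintro ⟨e5, he5, n5, hn5, hs5⟩
      obtain ⟨e6, he6, h6⟩ := hpow e5 he5 n5 _ hs5
      rw [hsN, hx_even n5 ((hE _).1 hn5), mul_one] at h6
      by_contra hk
      rw [Int.not_even_iff_odd] at hk
      rw [hx_odd _ hk] at h6
      have h7 : IsConj x e6 := isConj_iff.2 ⟨g₀⁻¹, by rw [inv_inv]; exact h6⟩
      have h8 := h0 e6 (F.D_le he6) h7 (F.o1_D he6)
      exact F.x_not (h8 ▸ he6)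
    · intro hk
      rcases Int.even_or_odd n with hn | hn
      · exact ⟨e, he, n, (hE n).2 hn, hs⟩
      · exfalso
        rw [hx_even _ hk, hx_odd _ hn, mul_one, inv_mul_cancel] at h4
        apply F.x_not
        have h5 : x = e'⁻¹ := (inv_eq_of_mul_eq_one_right h4.symm).symm
        rw [h5]
        exact D.inv_mem he'

/-- a conjugate of `x` of `PGL`-type, none of inner or field type: a subgroup of index two exists -/
theorem exists_index_two [Finite G] (F : Frame x K T D d r c o1 o2) (hg : Good T d r c o1)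
    (P : Sylow 2 G) (hP : (P : Subgroup G) = T)
    (h0 : ∀ y ∈ T, IsConj x y → o1 y = 1 → y = x)
    {j : G} (hj : j ∈ T) (hxj : IsConj x j) (hj1 : o1 j ≠ 1) :
    ∃ H : Subgroup G, H.index = 2 := by
  by_contra hno
  push Not at hno
  have hjj := Outer.sq_of_conj F hxj
  obtain ⟨t, ht, ht1, hgen, htx⟩ := F.field_lift j hj hjj hj1
  by_cases h1 : o2 t = 1
  · -- no field part
    refine split_case F hg P hP h0 hj hxj hj1 (t := 1) T.one_mem F.o1_one ?_ ?_ hno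
    · intro u hu
      obtain ⟨n, hn⟩ := hgen u hu
      exact ⟨1, by rw [hn, h1, one_pow, one_zpow, F.o2_one]⟩
    · intro n _
      exact one_zpow n
  have hgen' : ∀ u ∈ T, ∃ n : ℤ, o2 u = o2 (t ^ n) := by
    intro u hu
    obtain ⟨n, hn⟩ := hgen u hu
    exact ⟨n, by rw [o2_pow F ht, hn, zpow_natCast]⟩
  set N := orderOf (o2 t) with hN
  have hNdvd : ∀ n : ℤ, o2 (t ^ n) = 1 → (N : ℤ) ∣ n := by
    intro n hn
    rw [o2_pow F ht] at hn
    exact orderOf_dvd_iff_zpow_eq_one.2 hn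
  rcases htx N (pow_orderOf_eq_one _) with h2 | h2
  · refine split_case F hg P hP h0 hj hxj hj1 ht ht1 hgen' ?_ hno
    intro n hn
    obtain ⟨m, rfl⟩ := hNdvd n hn
    rw [zpow_mul, zpow_natCast, h2, one_zpow]
  · have hNe : Even N := by
      obtain ⟨a, ha⟩ := F.T_two ⟨t, ht⟩
      have h3 : t ^ 2 ^ a = 1 := congrArg Subtype.val ha
      have h4 : N ∣ 2 ^ a := by
        rw [hN, orderOf_dvd_iff_pow_eq_one]
        have h5 := o2_pow F ht ((2 ^ a : ℕ) : ℤ)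
        rw [zpow_natCast, zpow_natCast, h3, F.o2_one] at h5
        exact h5.symm
      obtain ⟨b, -, hb⟩ := (Nat.dvd_prime_pow Nat.prime_two).1 h4
      rw [hb]
      have hb0 : b ≠ 0 := by
        rintro rfl
        rw [pow_zero] at hb
        exact h1 (orderOf_eq_one_iff.1 hb)
      exact (Nat.even_pow.2 ⟨even_two, hb0⟩)
    obtain ⟨H, hH⟩ := cyclic_case F hg P hP h0 hj hxj hj1 ht ht1 hgen' N hNe h2 (by
      intro n hn
      obtain ⟨m, rfl⟩ := hNdvd n hn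
      have h3 : Even (N : ℤ) := by exact_mod_cast hNe
      exact h3.mul_right m)
    exact hno H hH

/-- **Steps (2), (3) of Theorem A.** -/
theorem no_outer [Finite G] (F : Frame x K T D d r c o1 o2) (hg : Good T d r c o1)
    (P : Sylow 2 G) (hP : (P : Subgroup G) = T)
    (h0 : ∀ y ∈ T, IsConj x y → o1 y = 1 → y = x)
    (hconj : ∃ g, g * x * g⁻¹ ∈ T ∧ g * x * g⁻¹ ≠ x)
    (htr : ∀ H : Subgroup G, H.index ≠ 2) : False := by
  obtain ⟨g, hgT, hgx⟩ := hconj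
  have h1 : IsConj x (g * x * g⁻¹) := isConj_iff.2 ⟨g, rfl⟩
  obtain ⟨H, hH⟩ := exists_index_two F hg P hP h0 hgT h1 (fun h2 => hgx (h0 _ hgT h1 h2))
  exact htr H hH

end Cfsg.Agent.GH.L2QTwo.Transfer
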