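import Cfsg.Agent.GH.L2QTwo.Small
import Cfsg.Agent.GH.L2QTwo.Transfer

/-!
# GH-L2, `|Q| = 2`: THEOREM A.  `T = S` implies `S = ⟨x⟩ × D` elementary abelian of order 8
-/

set_option autoImplicit false
set_option linter.unusedVariables false

open Subgroup

namespace Cfsg.Agent.GH.L2QTwo

variable {G A : Type*} [Group G] [Group A]

namespace Frame

variable {x : G} {K T D : Subgroup G} {d : ℕ} {r c : G} {o1 : G → ℤˣ} {o2 : G → A}

/-- **THEOREM A** -/
theorem main [Finite G] (F : Frame x K T D d r c o1 o2) (S : Sylow 2 G)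
    (hS : (S : Subgroup G) = T) (hconj : ∃ g : G, g * x * g⁻¹ ∈ T ∧ g * x * g⁻¹ ≠ x)
    (htr : ∀ H : Subgroup G, H.index ≠ 2) :
    d = 2 ∧ ∀ t ∈ T, ∃ e ∈ D, t = e ∨ t = x * e := by
  by_cases h : 3 ≤ d ∨ ∃ a ∈ T, o1 a ≠ 1
  · exfalso
    obtain ⟨r', c', F', hg⟩ := F.exists_good h
    exact Transfer.no_outer F' hg S hS (F'.eq_of_conj hg S hS) hconj htr
  · push Not at h
    have hd : d = 2 := by have := F.d_ge; omega
    exact ⟨hd, fun t ht => F.ker t ht (h.2 t ht) (F.small hd t ht).1⟩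

/-- **THEOREM A**: the Sylow 2-subgroup is elementary abelian. -/
theorem comm_of_main [Finite G] (F : Frame x K T D d r c o1 o2) (S : Sylow 2 G)
    (hS : (S : Subgroup G) = T) (hconj : ∃ g : G, g * x * g⁻¹ ∈ T ∧ g * x * g⁻¹ ≠ x)
    (htr : ∀ H : Subgroup G, H.index ≠ 2) : IsMulCommutative (S : Subgroup G) := by
  obtain ⟨hd, h⟩ := F.main S hS hconj htr
  have hsq : ∀ e ∈ D, e * e = 1 := by
    intro e he
    rcases F.small_form hd he with h1 | h1 | h1 | h1
    · rw [h1, one_mul]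
    · have := F.z_sq
      rw [h1]
      subst hd
      simpa using this
    · rw [h1, F.cc]
    · have := F.refl_sq 1
      rwa [zpow_one, ← h1] at this
  have hall : ∀ t ∈ T, t * t = 1 := by
    intro t ht
    obtain ⟨e, he, h1 | h1⟩ := h t ht
    · rw [h1, hsq e he]
    · rw [h1]
      calc x * e * (x * e) = x * (e * x) * e := by group
        _ = x * (x * e) * e := by rw [F.x_comm_D he]
        _ = (x * x) * (e * e) := by group
        _ = 1 := by rw [F.xx, hsq e he, one_mul]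
  refine ⟨⟨fun a b => Subtype.ext ?_⟩⟩
  have ha : (a : G) ∈ T := hS ▸ a.2
  have hb : (b : G) ∈ T := hS ▸ b.2
  change (a : G) * b = b * a
  have h1 : (a : G)⁻¹ = a := inv_eq_of_mul_eq_one_right (hall a ha)
  have h2 : (b : G)⁻¹ = b := inv_eq_of_mul_eq_one_right (hall b hb)
  have h3 : ((a : G) * b)⁻¹ = a * b := inv_eq_of_mul_eq_one_right (hall _ (T.mul_mem ha hb))
  calc (a : G) * b = ((a : G) * b)⁻¹ := h3.symm
    _ = (b : G)⁻¹ * (a : G)⁻¹ := mul_inv_rev _ _
    _ = b * a := by rw [h1, h2]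

end Frame

end Cfsg.Agent.GH.L2QTwo
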