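import Cfsg.Agent.GH.L2QTwo.Zero

/-!
# GH-L2, `|Q| = 2`: the conjugates of `x` of `PGL`-type

Assume every conjugate `y ≠ x` of `x` in `T` satisfies `o1 y ≠ 1`.  Then for such a conjugate `j` the element `x j`
is not conjugate to `x`, and `s j s⁻¹ ∈ ⟨r⟩ j` for all `s ∈ T`.
-/

set_option autoImplicit false

open Subgroup

namespace Cfsg.Agent.GH.L2QTwo.Outer

variable {G A : Type*} [Group G] [Group A]
variable {x : G} {K T D : Subgroup G} {d : ℕ} {r c : G} {o1 : G → ℤˣ} {o2 : G → A}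

theorem units_cases {u v : ℤˣ} (hu : u ≠ 1) (hv : v ≠ 1) : u * v = 1 := by
  rcases Int.units_eq_one_or u with h | h
  · exact absurd h hu
  · rcases Int.units_eq_one_or v with h' | h'
    · exact absurd h' hv
    · rw [h, h']; rfl

theorem even_of_one (F : Frame x K T D d r c o1 o2) {k : ℤ} (h : r ^ k = 1) : Even k := by
  rw [F.rk_one] at h
  have h1 : (2 : ℤ) ∣ 2 ^ (d - 1) := dvd_pow_self 2 (by have := F.d_ge; omega)
  exact even_iff_two_dvd.2 (h1.trans h)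

/-- an involution of `PGL`-type inverts `r` and moves `c` by an odd power of `r` -/
theorem form (F : Frame x K T D d r c o1 o2) (hg : Good T d r c o1) {y : G} (hy : y ∈ T)
    (hyy : y * y = 1) (h1 : o1 y ≠ 1) :
    ∃ m : ℤ, Odd m ∧ y * c = r ^ m * c * y ∧ ∀ k : ℤ, y * r ^ k = r ^ (-k) * y := by
  obtain ⟨l, hl, hlr⟩ := hg.ro y hy
  obtain ⟨m, hm, hsw⟩ := hg.sw y hy
  have hmo : Odd m := by
    rw [← Int.not_even_iff_odd]
    intro he
    exact h1 (hsw.2 he)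
  have hyi : y⁻¹ = y := inv_eq_of_mul_eq_one_right hyy
  have h3 : r ^ (l * m + m) = 1 := by
    have e1 : y * (y * c * y⁻¹) * y⁻¹ = c := by
      calc y * (y * c * y⁻¹) * y⁻¹ = (y * y) * c * (y * y)⁻¹ := by group
        _ = c := by rw [hyy]; group
    have e2 : y * (r ^ m * c) * y⁻¹ = (y * r ^ m * y⁻¹) * (y * c * y⁻¹) := by group
    rw [hm, e2, F.conj_rk hlr, hm, ← mul_assoc, ← zpow_add] at e1
    calc r ^ (l * m + m) = r ^ (l * m + m) * c * c⁻¹ := by group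
      _ = 1 := by rw [e1, mul_inv_cancel]
  rw [F.rk_one] at h3
  have h4 : (2 : ℤ) ^ (d - 1) ∣ l + 1 := by
    have h5 : IsCoprime ((2 : ℤ) ^ (d - 1)) m := by
      apply IsCoprime.pow_left
      obtain ⟨j, hj⟩ := hmo
      exact ⟨-j, 1, by rw [hj]; ring⟩
    apply h5.dvd_of_dvd_mul_right
    have : (l + 1) * m = l * m + m := by ring
    rw [this]
    exact h3
  refine ⟨m, hmo, ?_, ?_⟩
  · rw [← hm, inv_mul_cancel_right]
  · intro k
    have h5 : y * r ^ k * y⁻¹ = r ^ (-k) := by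
      rw [F.conj_rk hlr, F.rk_eq]
      obtain ⟨a, ha⟩ := h4
      exact ⟨a * k, by linear_combination k * ha⟩
    rw [← h5, inv_mul_cancel_right]

/-- every `r ^ k * y` is `D`-conjugate to `y` -/
theorem conj (F : Frame x K T D d r c o1 o2) (hg : Good T d r c o1) {y : G} (hy : y ∈ T)
    (hyy : y * y = 1) (h1 : o1 y ≠ 1) (k : ℤ) : ∃ e ∈ D, e * y * e⁻¹ = r ^ k * y := by
  obtain ⟨m, hm, hmc, hk⟩ := form F hg hy hyy h1
  rcases Int.even_or_odd k with ⟨i, hi⟩ | hko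
  · refine ⟨r ^ i, F.r_rk i, ?_⟩
    have h2 := hk (-i)
    rw [neg_neg, zpow_neg] at h2
    rw [mul_assoc, h2, ← mul_assoc, ← zpow_add, ← hi]
  · obtain ⟨i, hi⟩ := hko.add_odd hm
    refine ⟨r ^ i * c, F.refl_mem i, ?_⟩
    have h2 := hk (-i)
    rw [neg_neg, zpow_neg] at h2
    have h3 : c * y = r ^ (-m) * y * c := by
      have e1 : r ^ (-m) * (y * c) = c * y := by
        rw [hmc, ← mul_assoc, ← mul_assoc, ← zpow_add, neg_add_cancel, zpow_zero, one_mul]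
      rw [← e1, mul_assoc]
    calc r ^ i * c * y * (r ^ i * c)⁻¹ = r ^ i * (c * y) * c⁻¹ * (r ^ i)⁻¹ := by group
      _ = r ^ i * r ^ (-m) * (y * (r ^ i)⁻¹) := by rw [h3]; group
      _ = r ^ (i + -m + i) * y := by rw [h2, zpow_add, zpow_add]; group
      _ = r ^ k * y := by rw [show i + -m + i = k by omega]

/-- the involutions of `D y` -/
theorem rot (F : Frame x K T D d r c o1 o2) (hg : Good T d r c o1) {y : G} (hy : y ∈ T)
    (hyy : y * y = 1) (h1 : o1 y ≠ 1) {e : G} (he : e ∈ D) (h : e * y * (e * y) = 1) :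
    ∃ k : ℤ, e = r ^ k := by
  obtain ⟨m, hm, hmc, hk⟩ := form F hg hy hyy h1
  obtain ⟨k, hk1 | hk1⟩ := F.D_form e he
  · exact ⟨k, hk1⟩
  · exfalso
    rw [hk1] at h
    have e1 : r ^ k * c * y * (r ^ k * c * y) = r ^ (k + (k + -m)) := by
      have e3 : ∀ i : ℤ, c * r ^ i * c = r ^ (-i) := by
        intro i
        rw [F.c_rk, mul_assoc, F.cc, mul_one]
      have e2 : c * (r ^ (-k) * r ^ m) * c = r ^ (k + -m) := by
        rw [← zpow_add, e3]
        congr 1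
        ring
      calc r ^ k * c * y * (r ^ k * c * y) = r ^ k * c * (y * r ^ k) * c * y := by group
        _ = r ^ k * c * r ^ (-k) * (y * c) * y := by rw [hk]; group
        _ = r ^ k * (c * (r ^ (-k) * r ^ m) * c) * (y * y) := by rw [hmc]; group
        _ = r ^ (k + (k + -m)) := by rw [e2, hyy, mul_one, ← zpow_add]
    rw [e1] at h
    have h2 := even_of_one F h
    rw [Int.even_add] at h2
    rcases Int.even_or_odd k with hke | hko
    · have h3 := h2.1 hke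
      rw [Int.even_add, even_neg] at h3
      exact (Int.not_even_iff_odd.2 hm) (h3.1 hke)
    · have h3 : Even (k + -m) := by
        rw [Int.even_add, even_neg]
        exact ⟨fun h4 => absurd h4 (Int.not_even_iff_odd.2 hko),
          fun h4 => absurd h4 (Int.not_even_iff_odd.2 hm)⟩
      exact (Int.not_even_iff_odd.2 hko) (h2.2 h3)

/-- all involutions of `PGL`-type -/
theorem all (F : Frame x K T D d r c o1 o2) (hg : Good T d r c o1) {j y : G} (hj : j ∈ T)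
    (hjj : j * j = 1) (hj1 : o1 j ≠ 1) (hy : y ∈ T) (hyy : y * y = 1) (hy1 : o1 y ≠ 1) :
    ∃ k : ℤ, y = r ^ k * j ∨ y = x * (r ^ k * j) := by
  have hyj : y * j ∈ T := T.mul_mem hy hj
  have h1 : o1 (y * j) = 1 := by rw [F.o1_mul' hy hj, units_cases hy1 hj1]
  have h2 : o2 (y * j) = 1 := by
    rw [F.o2_mul' hy hj, (F.no_mixed y hy hyy).resolve_left hy1,
      (F.no_mixed j hj hjj).resolve_left hj1, mul_one]
  obtain ⟨e, he, h3⟩ := F.ker _ hyj h1 h2
  have hji : j⁻¹ = j := inv_eq_of_mul_eq_one_right hjj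
  rcases h3 with h3 | h3
  · have h4 : y = e * j := by rw [← h3, mul_assoc, hjj, mul_one]
    rw [h4] at hyy
    obtain ⟨k, hk⟩ := rot F hg hj hjj hj1 he hyy
    exact ⟨k, Or.inl (by rw [h4, hk])⟩
  · have h4 : y = x * (e * j) := by rw [← mul_assoc, ← h3, mul_assoc, hjj, mul_one]
    have h5 : e * j * (e * j) = 1 := by
      have h6 := F.T_comm _ (T.mul_mem (F.D_le he) hj)
      calc e * j * (e * j) = x * x * (e * j) * (e * j) := by rw [F.xx, one_mul]
        _ = x * (x * (e * j)) * (e * j) := by group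
        _ = x * (e * j * x) * (e * j) := by rw [h6]
        _ = x * (e * j) * (x * (e * j)) := by group
        _ = 1 := by rw [← h4]; exact hyy
    obtain ⟨k, hk⟩ := rot F hg hj hjj hj1 he h5
    exact ⟨k, Or.inr (by rw [h4, hk])⟩

/-- a conjugate of `x` in `T` is moved to `x`, its centraliser into `T` -/
theorem move (F : Frame x K T D d r c o1 o2) {y : G} (hy : IsConj x y) :
    ∃ g, g * y * g⁻¹ = x ∧ ∀ t ∈ T, t * y = y * t → g * t * g⁻¹ ∈ T := by
  obtain ⟨g, hg⟩ := isConj_iff.1 hy.symm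
  set R : Subgroup G := (T ⊓ centralizer {y}).map (MulAut.conj g).toMonoidHom with hR
  have h1 : IsPGroup 2 R := (F.T_two.to_le inf_le_left).map _
  obtain ⟨h, hxh, hh⟩ := F.T_syl R h1 (by
    rintro _ ⟨t, ⟨ht, ht'⟩, rfl⟩
    have h2 : y * t = t * y := mem_centralizer_iff.1 ht' y rfl
    change x * (g * t * g⁻¹) = g * t * g⁻¹ * x
    rw [← hg]
    calc g * y * g⁻¹ * (g * t * g⁻¹) = g * (y * t) * g⁻¹ := by group
      _ = g * t * g⁻¹ * (g * y * g⁻¹) := by rw [h2]; group)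
  refine ⟨h * g, ?_, ?_⟩
  · calc h * g * y * (h * g)⁻¹ = h * (g * y * g⁻¹) * h⁻¹ := by group
      _ = x := by rw [hg, ← hxh, mul_inv_cancel_right]
  · intro t ht hty
    have h2 : g * t * g⁻¹ ∈ R :=
      ⟨t, ⟨ht, mem_centralizer_iff.2 (by rintro _ rfl; exact hty.symm)⟩, rfl⟩
    have h3 := hh _ h2
    have e1 : h * g * t * (h * g)⁻¹ = h * (g * t * g⁻¹) * h⁻¹ := by group
    rw [e1]
    exact h3

theorem sq_of_conj (F : Frame x K T D d r c o1 o2) {y : G} (hy : IsConj x y) : y * y = 1 := by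
  obtain ⟨g, rfl⟩ := isConj_iff.1 hy
  calc g * x * g⁻¹ * (g * x * g⁻¹) = g * (x * x) * g⁻¹ := by group
    _ = 1 := by rw [F.xx]; group

/-- `x j` is not conjugate to `x` -/
theorem not_conj_mul (F : Frame x K T D d r c o1 o2) (hg : Good T d r c o1)
    (h0 : ∀ y ∈ T, IsConj x y → o1 y = 1 → y = x) {j : G} (hj : j ∈ T) (hxj : IsConj x j)
    (hj1 : o1 j ≠ 1) : ¬ IsConj x (x * j) := by
  intro hcon
  have hjj := sq_of_conj F hxj
  obtain ⟨g, hgj, hgT⟩ := move F hxj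
  have hzT : r ^ 2 ^ (d - 2) ∈ T := F.D_le F.z_mem
  -- `z` is not conjugate to `x`
  have hz : ¬ IsConj x (r ^ 2 ^ (d - 2)) := by
    intro h
    apply F.x_not
    rw [← h0 _ hzT h (F.o1_D F.z_mem)]
    exact F.z_mem
  obtain ⟨m, -, -, hk⟩ := form F hg hj hjj hj1
  have hzj : j * r ^ 2 ^ (d - 2) = r ^ 2 ^ (d - 2) * j := by
    have h1 := hk ((2 : ℤ) ^ (d - 2))
    have h2 : (r ^ 2 ^ (d - 2))⁻¹ = r ^ 2 ^ (d - 2) := inv_eq_of_mul_eq_one_right F.z_sq
    rw [zpow_neg, ← F.zz, h2] at h1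
    exact h1
  obtain ⟨e, he, hej⟩ := conj F hg hj hjj hj1 ((2 : ℤ) ^ (d - 2))
  rw [← F.zz] at hej
  have hxzj : IsConj x (r ^ 2 ^ (d - 2) * j) := hxj.trans (isConj_iff.2 ⟨e, hej⟩)
  set y1 : G := g * (r ^ 2 ^ (d - 2) * j) * g⁻¹ with hy1
  have hy1T : y1 ∈ T := by
    apply hgT _ (T.mul_mem hzT hj)
    rw [mul_assoc, ← mul_assoc j, hzj, mul_assoc]
  have hy1x : IsConj x y1 := hxzj.trans (isConj_iff.2 ⟨g, rfl⟩)
  have hy1ne : y1 ≠ x := by
    intro h
    rw [← hgj] at h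
    have h1 : r ^ 2 ^ (d - 2) * j = j := mul_left_cancel (mul_right_cancel h)
    exact F.z_ne (mul_eq_right.1 h1)
  have hy1o : o1 y1 ≠ 1 := fun h => hy1ne (h0 _ hy1T hy1x h)
  have hgz : g * r ^ 2 ^ (d - 2) * g⁻¹ = x * y1 := by
    have e1 : g * r ^ 2 ^ (d - 2) * g⁻¹ = y1 * (g * j * g⁻¹)⁻¹ := by rw [hy1]; group
    rw [e1, hgj, F.x_inv, F.T_comm _ hy1T]
  obtain ⟨k, hk1⟩ := all F hg hj hjj hj1 hy1T (sq_of_conj F hy1x) hy1o
  obtain ⟨e', he', hek⟩ := conj F hg hj hjj hj1 k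
  rcases hk1 with hk1 | hk1
  · -- `z ~ x r^k j ~ x j ~ x`
    apply hz
    have h1 : IsConj (x * j) (x * y1) := by
      refine isConj_iff.2 ⟨e', ?_⟩
      have h2 := F.x_comm_D he'
      calc e' * (x * j) * e'⁻¹ = (e' * x) * j * e'⁻¹ := by group
        _ = (x * e') * j * e'⁻¹ := by rw [h2]
        _ = x * (e' * j * e'⁻¹) := by group
        _ = x * y1 := by rw [hek, hk1]
    have h3 : IsConj (r ^ 2 ^ (d - 2)) (x * y1) := isConj_iff.2 ⟨g, hgz⟩
    exact (hcon.trans h1).trans h3.symm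
  · -- `z ~ r^k j ~ j ~ x`
    apply hz
    have h1 : IsConj j (x * y1) := by
      refine isConj_iff.2 ⟨e', ?_⟩
      rw [hek, hk1, ← mul_assoc, F.xx, one_mul]
    have h3 : IsConj (r ^ 2 ^ (d - 2)) (x * y1) := isConj_iff.2 ⟨g, hgz⟩
    exact (hxj.trans h1).trans h3.symm

/-- `T` permutes the involutions `r ^ k * j` -/
theorem conj_j (F : Frame x K T D d r c o1 o2) (hg : Good T d r c o1)
    (h0 : ∀ y ∈ T, IsConj x y → o1 y = 1 → y = x) {j : G} (hj : j ∈ T) (hxj : IsConj x j)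
    (hj1 : o1 j ≠ 1) {s : G} (hs : s ∈ T) : ∃ k : ℤ, s * j * s⁻¹ = r ^ k * j := by
  have hjj := sq_of_conj F hxj
  have h1 : s * j * s⁻¹ ∈ T := T.mul_mem (T.mul_mem hs hj) (T.inv_mem hs)
  have h2 : IsConj x (s * j * s⁻¹) := hxj.trans (isConj_iff.2 ⟨s, rfl⟩)
  have h3 : o1 (s * j * s⁻¹) ≠ 1 := by rwa [F.o1_conj (F.T_comm s hs) (F.T_comm j hj)]
  obtain ⟨k, hk | hk⟩ := all F hg hj hjj hj1 h1 (sq_of_conj F h2) h3
  · exact ⟨k, hk⟩
  · exfalso
    apply not_conj_mul F hg h0 hj hxj hj1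
    obtain ⟨e', he', hek⟩ := conj F hg hj hjj hj1 k
    have h4 : IsConj (x * j) (s * j * s⁻¹) := by
      refine isConj_iff.2 ⟨e', ?_⟩
      have h2 := F.x_comm_D he'
      calc e' * (x * j) * e'⁻¹ = (e' * x) * j * e'⁻¹ := by group
        _ = (x * e') * j * e'⁻¹ := by rw [h2]
        _ = x * (e' * j * e'⁻¹) := by group
        _ = s * j * s⁻¹ := by rw [hek, hk]
    exact h2.trans h4.symm

end Cfsg.Agent.GH.L2QTwo.Outer
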