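import Cfsg.Agent.GH.L2QTwo.FieldMain

/-!
# GH-L2, `|Q| = 2`, `T = S`: good coordinates in the case `|D| = 4`
-/

set_option autoImplicit false
set_option linter.unusedVariables false

open Subgroup

namespace Cfsg.Agent.GH.L2QTwo

variable {G A : Type*} [Group G] [Group A]

namespace Frame

variable {x : G} {K T D : Subgroup G} {r c : G} {o1 : G → ℤˣ} {o2 : G → A}

theorem small_form {d : ℕ} (F : Frame x K T D d r c o1 o2) (hd : d = 2) {e : G} (he : e ∈ D) :
    e = 1 ∨ e = r ∨ e = c ∨ e = r * c := by
  have hr : r * r = 1 := by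
    have := F.z_sq
    subst hd
    simpa using this
  have hk : ∀ k : ℤ, r ^ k = 1 ∨ r ^ k = r := by
    intro k
    rcases Int.even_or_odd k with ⟨m, hm⟩ | ⟨m, hm⟩
    · left
      rw [hm, zpow_add, ← (Commute.refl r).mul_zpow, hr, one_zpow]
    · right
      rw [hm, zpow_add, zpow_one, zpow_mul, zpow_two, hr, one_zpow, one_mul]
  obtain ⟨k, h | h⟩ := F.D_form e he
  · rcases hk k with h1 | h1
    · left; rw [h, h1]
    · right; left; rw [h, h1]
  · rcases hk k with h1 | h1
    · right; right; left; rw [h, h1, one_mul]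
    · right; right; right; rw [h, h1]

/-- change of coordinates, `|D| = 4` -/
theorem change {d : ℕ} (F : Frame x K T D d r c o1 o2) (hd : d = 2) {r' c' : G} (hr' : r' ∈ D) (hc' : c' ∈ D)
    (hrr : r' * r' = 1) (hr1 : r' ≠ 1) (hcc : c' * c' = 1) (hc1 : c' ≠ 1) (hrc : r' ≠ c')
    (hcomm : c' * r' = r' * c') (hform : ∀ e ∈ D, e = 1 ∨ e = r' ∨ e = c' ∨ e = r' * c') :
    Frame x K T D d r' c' o1 o2 := by
  have hr2 : ∀ k : ℤ, r' ^ k = 1 ∨ r' ^ k = r' := by
    intro k
    rcases Int.even_or_odd k with ⟨m, hm⟩ | ⟨m, hm⟩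
    · left
      rw [hm, zpow_add, ← (Commute.refl r').mul_zpow, hrr, one_zpow]
    · right
      rw [hm, zpow_add, zpow_one, zpow_mul, zpow_two, hrr, one_zpow, one_mul]
  exact
  { xx := F.xx
    x_ne := F.x_ne
    K_comm := F.K_comm
    K_norm := F.K_norm
    T_comm := F.T_comm
    T_two := F.T_two
    T_syl := F.T_syl
    x_mem := F.x_mem
    mem_D := F.mem_D
    x_not := F.x_not
    d_ge := F.d_ge
    r_mem := hr'
    c_mem := hc'
    cc := hcc
    crc := by
      rw [hcomm, mul_inv_cancel_right]
      exact (inv_eq_of_mul_eq_one_right hrr).symm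
    or_eq := by
      rw [hd]
      exact orderOf_eq_prime (p := 2) (by rw [pow_two, hrr]) hr1
    c_not := by
      intro k h
      rcases hr2 k with h1 | h1
      · exact hc1 (h.trans h1)
      · exact hrc (h.trans h1).symm
    D_form := by
      intro e he
      rcases hform e he with h | h | h | h
      · exact ⟨0, Or.inl (by rw [h, zpow_zero])⟩
      · exact ⟨1, Or.inl (by rw [h, zpow_one])⟩
      · exact ⟨0, Or.inr (by rw [h, zpow_zero, one_mul])⟩
      · exact ⟨1, Or.inr (by rw [h, zpow_one])⟩
    inv_conj := F.inv_conj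
    o1_mul := F.o1_mul
    o2_mul := F.o2_mul
    A_inv := F.A_inv
    o1_x := F.o1_x
    o2_x := F.o2_x
    o1_K := F.o1_K
    o2_K := F.o2_K
    ker := F.ker
    swap := by
      intro h
      omega
    small := F.small
    sq_mem := F.sq_mem
    no_mixed := F.no_mixed
    field_cent := F.field_cent
    field_rho := by
      intro y hy hyy h
      exact absurd (F.small hd y hy).1 h
    field_lift := F.field_lift }

/-- the coordinates of a four-group `D` adapted to an outer element of `T` -/
theorem exists_coord {d : ℕ} (F : Frame x K T D d r c o1 o2) (hd : d = 2) {a : G} (ha : a ∈ T)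
    (ha1 : o1 a ≠ 1) : ∃ r' c', Frame x K T D d r' c' o1 o2 ∧ a * r' = r' * a ∧
      a * c' * a⁻¹ = r' * c' := by
  have hr : r * r = 1 := by
    have := F.z_sq
    subst hd
    simpa using this
  have hr1 : r ≠ 1 := by
    have := F.z_ne
    subst hd
    simpa using this
  have hcr : c * r = r * c := by
    have h := F.crc
    have h1 : r⁻¹ = r := inv_eq_of_mul_eq_one_right hr
    rw [h1] at h
    exact comm_of_conj_eq h
  have hrc : r ≠ c := fun h => F.c_not 1 (by rw [zpow_one, h])
  have hrc1 : r * c ≠ 1 := by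
    intro h
    apply hrc
    have h1 : r⁻¹ = c := inv_eq_of_mul_eq_one_right h
    rw [← h1]
    exact (inv_eq_of_mul_eq_one_right hr).symm
  have hrcc : r * c * (r * c) = 1 := by
    calc r * c * (r * c) = r * (c * r) * c := by group
      _ = r * (r * c) * c := by rw [hcr]
      _ = (r * r) * (c * c) := by group
      _ = 1 := by rw [hr, F.cc, one_mul]
  have aD : ∀ e ∈ D, a * e * a⁻¹ ∈ D := fun e he => F.D_norm ha he
  -- `a²` centralises `D`
  have haa : ∀ e ∈ D, a * (a * e * a⁻¹) * a⁻¹ = e := by
    intro e he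
    have h1 := ((F.small hd _ (T.mul_mem ha ha)).2).1 (F.o1_sq ha) e he
    calc a * (a * e * a⁻¹) * a⁻¹ = a * a * e * (a * a)⁻¹ := by group
      _ = e := conj_eq_of_comm h1
  have hna : ¬ ∀ e ∈ D, a * e = e * a := fun h => ha1 ((F.small hd a ha).2.2 h)
  have ne1 : ∀ e : G, e ≠ 1 → a * e * a⁻¹ ≠ 1 := fun e he => conj_ne_one he
  -- three cases
  by_cases h1 : a * r = r * a
  · refine ⟨r, c, F, h1, ?_⟩
    rcases F.small_form hd (aD c F.c_mem) with h2 | h2 | h2 | h2
    · exact absurd h2 (ne1 c F.c_ne)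
    · exfalso
      have h3 : a * c * a⁻¹ = a * r * a⁻¹ := by rw [h2, conj_eq_of_comm h1]
      exact hrc (mul_left_cancel (mul_right_cancel h3)).symm
    · exfalso
      apply hna
      intro e he
      have h3 := comm_of_conj_eq h2
      rcases F.small_form hd he with h4 | h4 | h4 | h4
      · rw [h4, mul_one, one_mul]
      · rw [h4, h1]
      · rw [h4, h3]
      · rw [h4, ← mul_assoc, h1, mul_assoc, h3, mul_assoc]
    · exact h2
  by_cases h2 : a * c = c * a
  · refine ⟨c, r, F.change hd F.c_mem F.r_mem F.cc F.c_ne hr hr1 hrc.symm hcr.symm ?_, h2, ?_⟩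
    · intro e he
      rcases F.small_form hd he with h4 | h4 | h4 | h4
      · exact Or.inl h4
      · exact Or.inr (Or.inr (Or.inl h4))
      · exact Or.inr (Or.inl h4)
      · exact Or.inr (Or.inr (Or.inr (by rw [h4, hcr])))
    · rcases F.small_form hd (aD r F.r_mem) with h3 | h3 | h3 | h3
      · exact absurd h3 (ne1 r hr1)
      · exact absurd (comm_of_conj_eq h3) h1
      · exfalso
        have h4 : a * r * a⁻¹ = a * c * a⁻¹ := by rw [h3, conj_eq_of_comm h2]
        exact hrc (mul_left_cancel (mul_right_cancel h4))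
      · rw [h3, hcr]
  -- `a` swaps `r` and `c`, or fixes `r c`
  have h3 : a * (r * c) = r * c * a := by
    rcases F.small_form hd (aD r F.r_mem) with h3 | h3 | h3 | h3
    · exact absurd h3 (ne1 r hr1)
    · exact absurd (comm_of_conj_eq h3) h1
    · -- `a r a⁻¹ = c`
      have h4 : a * c * a⁻¹ = r := by
        have := haa r F.r_mem
        rwa [h3] at this
      apply comm_of_conj_eq
      rw [conj_mul3, h3, h4, hcr]
    · -- `a r a⁻¹ = r c`
      have h4 : a * (r * c) * a⁻¹ = r := by
        have := haa r F.r_mem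
        rwa [h3] at this
      have h5 : a * c * a⁻¹ = c := by
        rw [conj_mul3, h3] at h4
        calc a * c * a⁻¹ = (r * c)⁻¹ * (r * c * (a * c * a⁻¹)) := by group
          _ = (r * c)⁻¹ * r := by rw [h4]
          _ = r * c * r := by rw [inv_eq_of_mul_eq_one_right hrcc]
          _ = r * (c * r) := by group
          _ = r * (r * c) := by rw [hcr]
          _ = c := by rw [← mul_assoc, hr, one_mul]
      exact absurd (comm_of_conj_eq h5) h2
  have h4 : a * r * a⁻¹ = c := by
    rcases F.small_form hd (aD r F.r_mem) with h4 | h4 | h4 | h4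
    · exact absurd h4 (ne1 r hr1)
    · exact absurd (comm_of_conj_eq h4) h1
    · exact h4
    · exfalso
      have h5 : a * r * a⁻¹ = a * (r * c) * a⁻¹ := by rw [h4, conj_eq_of_comm h3]
      have h6 : r = r * c := mul_left_cancel (mul_right_cancel h5)
      exact F.c_ne (mul_left_cancel (a := r) (by rw [← h6, mul_one])).symm.symm
  refine ⟨r * c, r, F.change hd (D.mul_mem F.r_mem F.c_mem) F.r_mem hrcc hrc1 hr hr1 ?_ ?_ ?_, h3, ?_⟩
  · intro h
    exact F.c_ne (mul_left_cancel (a := r) (by rw [h, mul_one]))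
  · rw [mul_assoc, hcr]
  · intro e he
    have e1 : r * c * r = c := by rw [mul_assoc, hcr, ← mul_assoc, hr, one_mul]
    rcases F.small_form hd he with h5 | h5 | h5 | h5
    · exact Or.inl h5
    · exact Or.inr (Or.inr (Or.inl h5))
    · exact Or.inr (Or.inr (Or.inr (by rw [h5, e1])))
    · exact Or.inr (Or.inl h5)
  · rw [h4, mul_assoc, hcr, ← mul_assoc, hr, one_mul]

/-- adapted coordinates are good -/
theorem good_of_coord {d : ℕ} (F : Frame x K T D d r c o1 o2) (hd : d = 2) {a : G} (ha : a ∈ T)
    (ha1 : o1 a ≠ 1) (har : a * r = r * a) (hac : a * c * a⁻¹ = r * c) : Good T d r c o1 := by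
  have hz : (r ^ 2 ^ (d - 2) : G) = r := by subst hd; simp
  have hrr : r * r = 1 := by
    have := F.z_sq
    rwa [hz] at this
  have hr1 : r ≠ 1 := by
    have := F.z_ne
    rwa [hz] at this
  have hcr : c * r = r * c := by
    have h := F.crc
    have h1 : r⁻¹ = r := inv_eq_of_mul_eq_one_right hrr
    rw [h1] at h
    exact comm_of_conj_eq h
  -- the action of `T`
  have h1 : ∀ t ∈ T, o1 t = 1 → t * r = r * t ∧ t * c * t⁻¹ = c := by
    intro t ht h
    have h2 := (F.small hd t ht).2.1 h
    exact ⟨h2 r F.r_mem, conj_eq_of_comm (h2 c F.c_mem)⟩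
  have h2 : ∀ t ∈ T, o1 t ≠ 1 → t * r = r * t ∧ t * c * t⁻¹ = r * c := by
    intro t ht h
    have h3 : o1 (t * a⁻¹) = 1 := by
      rw [F.o1_mul' ht (T.inv_mem ha), F.o1_inv ha]
      rcases Int.units_eq_one_or (o1 t) with h4 | h4
      · exact absurd h4 h
      · rcases Int.units_eq_one_or (o1 a) with h5 | h5
        · exact absurd h5 ha1
        · rw [h4, h5]; rfl
    have h4 := (F.small hd _ (T.mul_mem ht (T.inv_mem ha))).2.1 h3
    constructor
    · have h5 := h4 r F.r_mem
      calc t * r = t * a⁻¹ * (a * r) := by group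
        _ = (t * a⁻¹ * r) * a := by rw [har]; group
        _ = r * t := by rw [h5]; group
    · have h5 := h4 _ (D.mul_mem F.r_mem F.c_mem)
      calc t * c * t⁻¹ = t * a⁻¹ * (a * c * a⁻¹) * (t * a⁻¹)⁻¹ := by group
        _ = r * c := by rw [hac]; exact conj_eq_of_comm h5
  have zT : ∀ t ∈ T, t * r = r * t := by
    intro t ht
    by_cases h : o1 t = 1
    · exact (h1 t ht h).1
    · exact (h2 t ht h).1
  -- commutators
  have hT0 : ∀ t ∈ T, ∀ b ∈ T, o1 b = 1 → t * b = b * t ∨ t * b = r * (b * t) := by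
    have hDc : ∀ t ∈ T, ∀ e ∈ D, t * e = e * t ∨ t * e = r * (e * t) := by
      intro t ht e he
      by_cases h : o1 t = 1
      · exact Or.inl ((F.small hd t ht).2.1 h e he)
      · obtain ⟨h3, h4⟩ := h2 t ht h
        have h5 : t * c = r * (c * t) := by
          calc t * c = t * c * t⁻¹ * t := by group
            _ = r * (c * t) := by rw [h4]; group
        rcases F.small_form hd he with h6 | h6 | h6 | h6
        · left; rw [h6, mul_one, one_mul]
        · left; rw [h6, h3]
        · right; rw [h6, h5]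
        · right
          rw [h6]
          calc t * (r * c) = (t * r) * c := by group
            _ = r * (t * c) := by rw [h3]; group
            _ = r * (r * (c * t)) := by rw [h5]
            _ = r * (r * c * t) := by group
    intro t ht b hb hb1
    have hb2 := (F.small hd b hb).1
    obtain ⟨e, he, h3 | h3⟩ := F.ker b hb hb1 hb2
    · rw [h3]; exact hDc t ht e he
    · rw [h3]
      have h4 := F.T_comm t ht
      rcases hDc t ht e he with h5 | h5
      · left
        calc t * (x * e) = (t * x) * e := by group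
          _ = x * (t * e) := by rw [← h4]; group
          _ = x * e * t := by rw [h5]; group
      · right
        calc t * (x * e) = (t * x) * e := by group
          _ = x * (t * e) := by rw [← h4]; group
          _ = (x * r) * (e * t) := by rw [h5]; group
          _ = r * (x * e * t) := by rw [F.x_comm_D F.r_mem]; group
  have hTT : ∀ t ∈ T, ∀ b ∈ T, t * b = b * t ∨ t * b = r * (b * t) := by
    intro t ht b hb
    by_cases h3 : o1 b = 1
    · exact hT0 t ht b hb h3
    by_cases h4 : o1 t = 1
    · rcases hT0 b hb t ht h4 with h5 | h5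
      · exact Or.inl h5.symm
      · right
        rw [h5, ← mul_assoc, hrr, one_mul]
    · have h5 : o1 (t⁻¹ * b) = 1 := by
        rw [F.o1_mul' (T.inv_mem ht) hb, F.o1_inv ht]
        rcases Int.units_eq_one_or (o1 t) with h6 | h6
        · exact absurd h6 h4
        · rcases Int.units_eq_one_or (o1 b) with h7 | h7
          · exact absurd h7 h3
          · rw [h6, h7]; rfl
      rcases hT0 t ht _ (T.mul_mem (T.inv_mem ht) hb) h5 with h6 | h6
      · left
        calc t * b = t * (t * (t⁻¹ * b)) := by group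
          _ = t * (t⁻¹ * b * t) := by rw [h6]
          _ = b * t := by group
      · right
        calc t * b = t * (t * (t⁻¹ * b)) := by group
          _ = t * (r * (t⁻¹ * b * t)) := by rw [h6]
          _ = (t * r) * (t⁻¹ * b * t) := by group
          _ = (r * t) * (t⁻¹ * b * t) := by rw [zT t ht]
          _ = r * (b * t) := by group
  refine ⟨?_, ?_, ?_, ?_⟩
  · rw [hz]; exact zT
  · intro t ht
    by_cases h : o1 t = 1
    · exact ⟨0, by rw [(h1 t ht h).2, zpow_zero, one_mul], ⟨fun _ => Even.zero, fun _ => h⟩⟩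
    · refine ⟨1, by rw [(h2 t ht h).2, zpow_one], ⟨fun h3 => absurd h3 h, fun h3 => ?_⟩⟩
      exact absurd h3 (by decide)
  · intro t ht
    exact ⟨1, odd_one, by rw [zpow_one]; exact conj_eq_of_comm (zT t ht)⟩
  · intro s hs
    rw [hz]
    have hsT : ∀ b, b ∈ T → s * b * s⁻¹ ∈ T := fun b hb => (mem_normalizer_iff.1 hs b).1 hb
    have h3 : r = a * c * a⁻¹ * c⁻¹ := by rw [hac]; group
    have h4 : s * r * s⁻¹ = (s * a * s⁻¹) * (s * c * s⁻¹) * ((s * c * s⁻¹) * (s * a * s⁻¹))⁻¹ := by
      rw [h3]; group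
    apply comm_of_conj_eq
    rcases hTT _ (hsT a ha) _ (hsT c F.c_T) with h5 | h5
    · exfalso
      rw [h5, mul_inv_cancel] at h4
      exact conj_ne_one hr1 h4
    · rw [h4, h5]; group

/-- **Good coordinates exist as soon as `T` contains an outer element or `d ≥ 3`.** -/
theorem exists_good {d : ℕ} (F : Frame x K T D d r c o1 o2) (h : 3 ≤ d ∨ ∃ a ∈ T, o1 a ≠ 1) :
    ∃ r' c', Frame x K T D d r' c' o1 o2 ∧ Good T d r' c' o1 := by
  by_cases hd : 3 ≤ d
  · exact ⟨r, c, F, F.good_of_ge hd⟩
  · obtain ⟨a, ha, ha1⟩ := h.resolve_left hd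
    have hd2 : d = 2 := by have := F.d_ge; omega
    obtain ⟨r', c', F', h1, h2⟩ := F.exists_coord hd2 ha ha1
    exact ⟨r', c', F', F'.good_of_coord hd2 ha ha1 h1 h2⟩

end Frame

end Cfsg.Agent.GH.L2QTwo
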