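import Cfsg.Agent.GH.L2QTwo.Frame

/-!
# GH-L2, `|Q| = 2`, `T = S`: no inner conjugates of `x` (step (0))
-/

set_option autoImplicit false
set_option linter.unusedVariables false

open Subgroup

namespace Cfsg.Agent.GH.L2QTwo

variable {G A : Type*} [Group G] [Group A]

/-- Good coordinates. -/
structure Good (T : Subgroup G) (d : ℕ) (r c : G) (o1 : G → ℤˣ) : Prop where
  zT : ∀ t ∈ T, t * r ^ 2 ^ (d - 2) = r ^ 2 ^ (d - 2) * t
  sw : ∀ t ∈ T, ∃ k : ℤ, t * c * t⁻¹ = r ^ k * c ∧ (o1 t = 1 ↔ Even k)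
  ro : ∀ t ∈ T, ∃ l : ℤ, Odd l ∧ t * r * t⁻¹ = r ^ l
  zN : ∀ s ∈ normalizer (T : Set G), s * r ^ 2 ^ (d - 2) = r ^ 2 ^ (d - 2) * s

theorem conj_ne_one {s a : G} (h : a ≠ 1) : s * a * s⁻¹ ≠ 1 := by
  intro h1
  apply h
  have : a = s⁻¹ * (s * a * s⁻¹) * s := by group
  rw [this, h1]; group

theorem comm_of_conj_eq {s a : G} (h : s * a * s⁻¹ = a) : s * a = a * s := by
  calc s * a = s * a * s⁻¹ * s := by group
    _ = a * s := by rw [h]

theorem conj_eq_of_comm {s a : G} (h : s * a = a * s) : s * a * s⁻¹ = a := by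
  rw [h, mul_inv_cancel_right]

theorem conj_mul_conj (s a b : G) : s * a * s⁻¹ * (s * b * s⁻¹) = s * (a * b) * s⁻¹ := by group

/-- an element of 2-power order normalising a Sylow 2-subgroup is in it -/
theorem mem_sylow_of_norm {p : ℕ} [Fact p.Prime] (S : Sylow p G) {n : G}
    (hn : n ∈ normalizer ((S : Subgroup G) : Set G)) (hp : IsPGroup p (zpowers n)) :
    n ∈ (S : Subgroup G) := by
  have h2 : IsPGroup p ↥(zpowers n ⊔ (S : Subgroup G)) :=
    IsPGroup.to_sup_of_normal_right' hp S.2 (by rw [zpowers_le]; exact hn)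
  have h3 := S.3 h2 le_sup_right
  rw [← h3]
  exact mem_sup_left (mem_zpowers n)

namespace Frame

variable {x : G} {K T D : Subgroup G} {d : ℕ} {r c : G} {o1 : G → ℤˣ} {o2 : G → A}

/-- the elements of `T` centralising `D` commute -/
theorem cent_comm (F : Frame x K T D d r c o1 o2)
    (h1 : ∀ t ∈ T, (∀ e ∈ D, t * e = e * t) → o1 t = 1)
    {g h : G} (hg : g ∈ T) (hh : h ∈ T) (hgD : ∀ e ∈ D, g * e = e * g)
    (hhD : ∀ e ∈ D, h * e = e * h) : g * h = h * g := by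
  have key : ∀ u ∈ T, (∀ e ∈ D, u * e = e * u) → o2 u = 1 → ∀ v ∈ T,
      (∀ e ∈ D, v * e = e * v) → u * v = v * u := by
    intro u hu huD h2 v hv hvD
    obtain ⟨e, he, h3 | h3⟩ := F.ker u hu (h1 u hu huD) h2
    · rw [h3]; exact (hvD e he).symm
    · rw [h3, mul_assoc, ← hvD e he, ← mul_assoc, F.T_comm v hv, mul_assoc]
  have sq : ∀ u ∈ T, (∀ e ∈ D, u * e = e * u) → o2 u * o2 u = 1 := by
    intro u hu huD
    rw [← F.o2_mul' hu hu]
    rcases F.sq_mem u hu huD with h | h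
    · rw [h, F.o2_one]
    · rw [h, F.o2_x]
  by_cases h2 : o2 g = 1
  · exact key g hg hgD h2 h hh hhD
  by_cases h3 : o2 h = 1
  · exact (key h hh hhD h3 g hg hgD).symm
  have h4 : o2 g = o2 h := F.A_inv _ _ (sq g hg hgD) h2 (sq h hh hhD) h3
  have h5 : o2 (g * h) = 1 := by rw [F.o2_mul' hg hh, h4, sq h hh hhD]
  have hghD : ∀ e ∈ D, g * h * e = e * (g * h) := by
    intro e he
    rw [mul_assoc, hhD e he, ← mul_assoc, hgD e he, mul_assoc]
  have h6 := key (g * h) (T.mul_mem hg hh) hghD h5 h hh hhD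
  have h7 : g * h * h = h * g * h := by rw [h6]; group
  exact mul_right_cancel h7

theorem rc_ne (F : Frame x K T D d r c o1 o2) (hd : 3 ≤ d) : r * c ≠ c * r := by
  intro h
  have h1 : r = r⁻¹ := by
    rw [← F.crc, ← h]; group
  have h2 : r ^ (2 : ℤ) = 1 := by
    rw [zpow_two]
    calc r * r = r * r⁻¹ := by rw [← h1]
      _ = 1 := mul_inv_cancel r
  rw [F.rk_one] at h2
  have h3 : (2 : ℤ) ^ 2 ∣ 2 ^ (d - 1) := pow_dvd_pow 2 (by omega)
  have h4 := h3.trans h2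
  norm_num at h4

theorem o1_of_cent (F : Frame x K T D d r c o1 o2) (hd : 3 ≤ d) :
    ∀ t ∈ T, (∀ e ∈ D, t * e = e * t) → o1 t = 1 := by
  intro t ht h
  refine (F.swap hd t ht 0 ?_).2 Even.zero
  rw [zpow_zero, one_mul]
  exact conj_eq_of_comm (h c F.c_mem)

/-- a nontrivial subgroup of `D`, normalised by `r`, contains `z` (`d ≥ 3`) -/
theorem z_mem_of (F : Frame x K T D d r c o1 o2) (hd : 3 ≤ d) {N : Subgroup G} (hN : N ≤ D)
    (hr : ∀ n ∈ N, r * n * r⁻¹ ∈ N) {e : G} (he : e ∈ N) (he1 : e ≠ 1) : r ^ 2 ^ (d - 2) ∈ N := by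
  -- a rotation `≠ 1`
  have rot : ∀ k : ℤ, r ^ k ∈ N → r ^ k ≠ 1 → r ^ 2 ^ (d - 2) ∈ N := by
    intro k hk hk1
    have hk2 : IsPGroup 2 (zpowers (r ^ k)) := F.T_two.to_le (by
      rw [zpowers_le]; exact T.zpow_mem F.r_T k)
    have horder : ∃ n, orderOf (r ^ k) = 2 ^ n := by
      obtain ⟨n, hn⟩ := hk2 ⟨r ^ k, mem_zpowers _⟩
      have h1 : (r ^ k) ^ 2 ^ n = 1 := congrArg Subtype.val hn
      obtain ⟨m, -, hm⟩ := (Nat.dvd_prime_pow Nat.prime_two).1 (orderOf_dvd_of_pow_eq_one h1)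
      exact ⟨m, hm⟩
    obtain ⟨n, hn⟩ := horder
    have hn0 : n ≠ 0 := by
      rintro rfl
      rw [pow_zero, orderOf_eq_one_iff] at hn
      exact hk1 hn
    obtain ⟨m, rfl⟩ := Nat.exists_eq_succ_of_ne_zero hn0
    have h3 : r ^ (k * 2 ^ m) = (r ^ k) ^ 2 ^ m := by
      rw [zpow_mul, ← zpow_natCast]; norm_num
    have h4 : r ^ (k * 2 ^ m) * r ^ (k * 2 ^ m) = 1 := by
      rw [h3, ← pow_add, ← orderOf_dvd_iff_pow_eq_one, hn, pow_succ, mul_two]
    have h5 : r ^ (k * 2 ^ m) ≠ 1 := by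
      rw [h3]
      intro h6
      rw [← orderOf_dvd_iff_pow_eq_one, hn] at h6
      have h7 := Nat.le_of_dvd (by positivity) h6
      rw [Nat.succ_eq_add_one, pow_succ] at h7
      have h9 : 0 < 2 ^ m := by positivity
      omega
    rcases F.rot_sq h4 with h6 | h6
    · exact absurd h6 h5
    · rw [← h6, h3]
      exact N.pow_mem hk _
  obtain ⟨k, hk | hk⟩ := F.D_form e (hN he)
  · rw [hk] at he he1
    exact rot k he he1
  · -- `r e r⁻¹ e⁻¹ = r²`
    have h1 : r * e * r⁻¹ * e⁻¹ = r ^ (2 : ℤ) := by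
      have e1 : e * r⁻¹ * e⁻¹ = r := by
        rw [hk]
        have : r ^ k * c * r⁻¹ * (r ^ k * c)⁻¹ = r ^ k * (c * r⁻¹ * c⁻¹) * (r ^ k)⁻¹ := by group
        rw [this]
        have h2 : c * r⁻¹ * c⁻¹ = r := by
          have : c * r⁻¹ * c⁻¹ = (c * r * c⁻¹)⁻¹ := by group
          rw [this, F.crc, inv_inv]
        rw [h2]; group
      calc r * e * r⁻¹ * e⁻¹ = r * (e * r⁻¹ * e⁻¹) := by group
        _ = r ^ (2 : ℤ) := by rw [e1, zpow_two]
    apply rot 2
    · rw [← h1]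
      exact N.mul_mem (hr e he) (N.inv_mem he)
    · intro h2
      rw [F.rk_one] at h2
      have h3 : (2 : ℤ) ^ 2 ∣ 2 ^ (d - 1) := pow_dvd_pow 2 (by omega)
      have h4 := h3.trans h2
      norm_num at h4

theorem good_of_ge (F : Frame x K T D d r c o1 o2) (hd : 3 ≤ d) : Good T d r c o1 := by
  have zT : ∀ t ∈ T, t * r ^ 2 ^ (d - 2) = r ^ 2 ^ (d - 2) * t := by
    intro t ht
    obtain ⟨l, hl, h⟩ := F.conj_r hd ht
    apply comm_of_conj_eq
    rw [F.zz, F.conj_rk h, F.rk_eq]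
    obtain ⟨j, hj⟩ := hl
    have : d - 1 = (d - 2) + 1 := by omega
    rw [this, pow_succ]
    exact ⟨j, by rw [hj]; ring⟩
  refine ⟨zT, ?_, ?_, ?_⟩
  · intro t ht
    obtain ⟨k, hk⟩ := F.conj_c hd ht
    exact ⟨k, hk, F.swap hd t ht k hk⟩
  · intro t ht
    exact F.conj_r hd ht
  · intro s hs
    have hsT : ∀ a, a ∈ T → s * a * s⁻¹ ∈ T := fun a ha => (mem_normalizer_iff.1 hs a).1 ha
    have hsT' : ∀ a, a ∈ T → s⁻¹ * a * s ∈ T := fun a ha => by
      have h1 := (mem_normalizer_iff.1 (inv_mem hs) a).1 ha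
      simpa using h1
    -- `D ∩ sDs⁻¹ ≠ 1`
    have hex : ∃ e, e ∈ D ∧ s⁻¹ * e * s ∈ D ∧ e ≠ 1 := by
      by_contra hcon
      push Not at hcon
      have hcomm : ∀ a ∈ D, ∀ e ∈ D, s * a * s⁻¹ * e = e * (s * a * s⁻¹) := by
        intro a ha e he
        have h1 : s * a * s⁻¹ ∈ T := hsT a (F.D_le ha)
        have h2 : s * a * s⁻¹ * e * (s * a * s⁻¹)⁻¹ * e⁻¹ = 1 := by
          apply hcon
          · exact D.mul_mem (F.D_norm h1 he) (D.inv_mem he)
          · have h3 : s⁻¹ * (s * a * s⁻¹ * e * (s * a * s⁻¹)⁻¹ * e⁻¹) * s =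
                a * ((s⁻¹ * e * s) * a⁻¹ * (s⁻¹ * e * s)⁻¹) := by group
            rw [h3]
            exact D.mul_mem ha (F.D_norm (hsT' e (F.D_le he)) (D.inv_mem ha))
        rw [mul_inv_eq_one] at h2
        calc s * a * s⁻¹ * e = s * a * s⁻¹ * e * (s * a * s⁻¹)⁻¹ * (s * a * s⁻¹) := by group
          _ = e * (s * a * s⁻¹) := by rw [h2]
      have h4 := F.cent_comm (F.o1_of_cent hd) (hsT r F.r_T) (hsT c F.c_T)
        (hcomm r F.r_mem) (hcomm c F.c_mem)
      rw [conj_mul_conj, conj_mul_conj] at h4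
      exact F.rc_ne hd (mul_left_cancel (mul_right_cancel h4))
    obtain ⟨e, he, he', he1⟩ := hex
    -- `N = D ∩ sDs⁻¹`
    let N : Subgroup G := D ⊓ D.map (MulAut.conj s).toMonoidHom
    have hN : ∀ a, a ∈ N ↔ a ∈ D ∧ s⁻¹ * a * s ∈ D := by
      intro a
      constructor
      · rintro ⟨h1, b, hb, h2⟩
        refine ⟨h1, ?_⟩
        have h3 : s * b * s⁻¹ = a := h2
        rw [← h3]
        have : s⁻¹ * (s * b * s⁻¹) * s = b := by group
        rw [this]; exact hb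
      · rintro ⟨h1, h2⟩
        refine ⟨h1, _, h2, ?_⟩
        change s * (s⁻¹ * a * s) * s⁻¹ = a
        group
    have hz : r ^ 2 ^ (d - 2) ∈ N := by
      refine F.z_mem_of hd (N := N) (fun a ha => ((hN a).1 ha).1) ?_ ((hN e).2 ⟨he, he'⟩) he1
      intro n hn
      obtain ⟨h1, h2⟩ := (hN n).1 hn
      refine (hN _).2 ⟨F.D_norm F.r_T h1, ?_⟩
      have : s⁻¹ * (r * n * r⁻¹) * s = (s⁻¹ * r * s) * (s⁻¹ * n * s) * (s⁻¹ * r * s)⁻¹ := by group
      rw [this]
      exact F.D_norm (hsT' r F.r_T) h2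
    obtain ⟨-, hz2⟩ := (hN _).1 hz
    -- `s⁻¹ z s` is central in `T`
    have hcen : ∀ t ∈ T, t * (s⁻¹ * r ^ 2 ^ (d - 2) * s) = s⁻¹ * r ^ 2 ^ (d - 2) * s * t := by
      intro t ht
      have h1 := zT _ (hsT t ht)
      calc t * (s⁻¹ * r ^ 2 ^ (d - 2) * s) = s⁻¹ * (s * t * s⁻¹ * r ^ 2 ^ (d - 2)) * s := by group
        _ = s⁻¹ * (r ^ 2 ^ (d - 2) * (s * t * s⁻¹)) * s := by rw [h1]
        _ = s⁻¹ * r ^ 2 ^ (d - 2) * s * t := by group
    have hsq : s⁻¹ * r ^ 2 ^ (d - 2) * s * (s⁻¹ * r ^ 2 ^ (d - 2) * s) = 1 := by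
      calc s⁻¹ * r ^ 2 ^ (d - 2) * s * (s⁻¹ * r ^ 2 ^ (d - 2) * s) =
          s⁻¹ * (r ^ 2 ^ (d - 2) * r ^ 2 ^ (d - 2)) * s := by group
        _ = 1 := by rw [F.z_sq]; group
    rcases F.inv_form hz2 hsq with h | h | ⟨k, hk⟩
    · exfalso
      apply F.z_ne
      calc r ^ 2 ^ (d - 2) = s * (s⁻¹ * r ^ 2 ^ (d - 2) * s) * s⁻¹ := by group
        _ = 1 := by rw [h]; group
    · calc s * r ^ 2 ^ (d - 2) = s * (s⁻¹ * r ^ 2 ^ (d - 2) * s) := by rw [h]
        _ = r ^ 2 ^ (d - 2) * s := by group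
    · exfalso
      have h1 := hcen r F.r_T
      rw [hk] at h1
      apply F.rc_ne hd
      have h2 : r ^ k * (r * c) = r ^ k * (c * r) := by
        calc r ^ k * (r * c) = r * (r ^ k * c) := by group
          _ = r ^ k * c * r := h1
          _ = r ^ k * (c * r) := by group
      exact mul_left_cancel h2

/-- no conjugate of `x` is inner -/
theorem not_inner [Finite G] (F : Frame x K T D d r c o1 o2) (hg : Good T d r c o1) (S : Sylow 2 G)
    (hS : (S : Subgroup G) = T) {g e : G} (he : e ∈ D)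
    (h : g * x * g⁻¹ = e ∨ (g * x * g⁻¹ = x * e ∧ e ≠ 1)) : False := by
  have hp : Fact (Nat.Prime 2) := ⟨Nat.prime_two⟩
  have hu1 : g * x * g⁻¹ ≠ 1 := conj_ne_one F.x_ne
  have huu : g * x * g⁻¹ * (g * x * g⁻¹) = 1 := by rw [conj_mul_conj, F.xx]; group
  have hee : e * e = 1 ∧ e ≠ 1 := by
    rcases h with h | ⟨h, he1⟩
    · rw [h] at hu1 huu
      exact ⟨huu, hu1⟩
    · refine ⟨?_, he1⟩
      rw [h] at huu
      calc e * e = (x * x) * e * e := by rw [F.xx, one_mul]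
        _ = x * (x * e) * e := by group
        _ = x * (e * x) * e := by rw [F.x_comm_D he]
        _ = x * e * (x * e) := by group
        _ = 1 := huu
  obtain ⟨k, hk, hke⟩ := F.inv_conj e he _ F.z_mem hee.1 hee.2 F.z_sq F.z_ne
  -- conjugate to `z` or `x z`
  have h1 : k * g * x * (k * g)⁻¹ = r ^ 2 ^ (d - 2) ∨ k * g * x * (k * g)⁻¹ = x * r ^ 2 ^ (d - 2) := by
    have e1 : k * g * x * (k * g)⁻¹ = k * (g * x * g⁻¹) * k⁻¹ := by group
    rcases h with h | ⟨h, -⟩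
    · left; rw [e1, h, hke]
    · right
      rw [e1, h]
      calc k * (x * e) * k⁻¹ = (k * x) * e * k⁻¹ := by group
        _ = x * (k * e * k⁻¹) := by rw [← F.K_comm k hk]; group
        _ = _ := by rw [hke]
  -- Burnside
  have hxc : x ∈ centralizer ((S : Subgroup G) : Set G) := by
    rw [mem_centralizer_iff]
    intro t ht
    rw [hS] at ht
    exact (F.T_comm t ht).symm
  have hzc : ∀ t ∈ ((S : Subgroup G) : Set G), t * r ^ 2 ^ (d - 2) = r ^ 2 ^ (d - 2) * t := by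
    intro t ht
    rw [hS] at ht
    exact hg.zT t ht
  have huc : k * g * x * (k * g)⁻¹ ∈ centralizer ((S : Subgroup G) : Set G) := by
    rw [mem_centralizer_iff]
    intro t ht
    rcases h1 with h | h
    · rw [h]; exact hzc t ht
    · rw [h]
      have h2 := mem_centralizer_iff.1 hxc t ht
      rw [← mul_assoc, h2, mul_assoc, hzc t ht, ← mul_assoc]
  obtain ⟨n, hn, hnx⟩ := S.conj_eq_normalizer_conj_of_mem_centralizer x ((k * g)⁻¹) hxc
    (by simpa using huc)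
  rw [inv_inv] at hnx
  set m := n⁻¹ with hm
  have hmN : m ∈ normalizer (T : Set G) := by rw [hm, ← hS]; exact inv_mem hn
  have hmx : m * x * m⁻¹ = k * g * x * (k * g)⁻¹ := by rw [hnx, hm, inv_inv]
  have hmz := hg.zN m hmN
  rcases h1 with h | h
  · rw [h] at hmx
    have h2 : m * x * m⁻¹ = m * r ^ 2 ^ (d - 2) * m⁻¹ := by rw [hmx, hmz]; group
    have h3 : x = r ^ 2 ^ (d - 2) := mul_left_cancel (mul_right_cancel h2)
    exact F.x_not (h3 ▸ F.z_mem)
  · rw [h] at hmx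
    -- `m² ` commutes with `x`
    have h2 : ∀ q : ℕ, m ^ (2 * q) * x = x * m ^ (2 * q) := by
      intro q
      induction q with
      | zero => simp
      | succ q ih =>
        have e1 : m * m * x = x * (m * m) := by
          have e2 : m * x = x * r ^ 2 ^ (d - 2) * m := by rw [← hmx]; group
          calc m * m * x = m * (m * x) := by group
            _ = m * (x * r ^ 2 ^ (d - 2) * m) := by rw [e2]
            _ = (m * x) * (r ^ 2 ^ (d - 2) * m) := by group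
            _ = (x * r ^ 2 ^ (d - 2) * m) * (r ^ 2 ^ (d - 2) * m) := by rw [e2]
            _ = x * r ^ 2 ^ (d - 2) * (m * r ^ 2 ^ (d - 2)) * m := by group
            _ = x * r ^ 2 ^ (d - 2) * (r ^ 2 ^ (d - 2) * m) * m := by rw [hmz]
            _ = x * (r ^ 2 ^ (d - 2) * r ^ 2 ^ (d - 2)) * (m * m) := by group
            _ = x * (m * m) := by rw [F.z_sq, mul_one]
        have e3 : m ^ (2 * (q + 1)) = m ^ (2 * q) * (m * m) := by
          rw [mul_add, pow_add, mul_one, pow_two]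
        rw [e3, mul_assoc, e1, ← mul_assoc, ih, mul_assoc]
    -- an odd power of `m` is in `T`
    obtain ⟨a, q, hq2, hq⟩ := Nat.exists_eq_two_pow_mul_odd (orderOf_pos m).ne'
    have h3 : m ^ q ∈ (S : Subgroup G) := by
      apply mem_sylow_of_norm S (by rw [hS]; exact pow_mem hmN q)
      have h4 : (m ^ q) ^ 2 ^ a = 1 := by
        rw [← pow_mul, mul_comm q, ← hq, pow_orderOf_eq_one]
      rintro ⟨y, hy⟩
      obtain ⟨j, rfl⟩ := mem_zpowers_iff.1 hy
      refine ⟨a, Subtype.ext ?_⟩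
      change ((m ^ q) ^ j) ^ 2 ^ a = 1
      rw [← zpow_natCast, ← zpow_mul, mul_comm, zpow_mul, zpow_natCast, h4, one_zpow]
    rw [hS] at h3
    obtain ⟨q', rfl⟩ := hq2
    have h5 := F.T_comm _ h3
    have h6 : m ^ (2 * q' + 1) = m * m ^ (2 * q') := by rw [pow_succ']
    have h7 : m * x = x * m := by
      have h8 : m * x * m ^ (2 * q') = x * m * m ^ (2 * q') := by
        calc m * x * m ^ (2 * q') = m * (x * m ^ (2 * q')) := by group
          _ = m * m ^ (2 * q') * x := by rw [← h2 q']; group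
          _ = x * (m * m ^ (2 * q')) := by rw [← h6, ← h5]
          _ = x * m * m ^ (2 * q') := by group
      exact mul_right_cancel h8
    rw [h7, mul_inv_cancel_right] at hmx
    exact F.z_ne (mul_left_cancel (a := x) (by rw [← hmx, mul_one]))

end Frame

end Cfsg.Agent.GH.L2QTwo
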